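import Mathlib
import Cfsg.Prelude.Def_Local
import Cfsg.Agent.Lib.Cores
import Cfsg.Agent.OddCyclic.T1Defs
import Cfsg.Agent.OddCyclic.T1SzComp
import Cfsg.Agent.S0542
import Cfsg.Agent.ThreePrime.SzDataExists
import Cfsg.Prelude.Def_CaseTheorems
import Cfsg.Agent.LieExceptional.CITBasic
import Cfsg.Agent.OddCyclic.FFThree_m3
import Cfsg.Agent.OddCyclic.RedFFDefs_m3
import Cfsg.Agent.OddCyclic.T1Socle
import Cfsg.Agent.OddCyclic.FFRed
import Cfsg.Agent.OddCyclic.FFSz
import Cfsg.Agent.Lib.GenFitting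
import Cfsg.Agent.ThreePrime.OrderThree
import Cfsg.Agent.OddCyclic.L2Borel
import Cfsg.Agent.GH.L2AutSyl_m3
import Cfsg.Agent.Lib.FastPerm
import Cfsg.Agent.OddCyclic.T1Sl2
import Cfsg.Agent.OddCyclic.T1Module
import Cfsg.Agent.LieExceptional.CITFFLocal
import Cfsg.Agent.Lib.SylowNormalInf
import Cfsg.Agent.OddOrderLocal.CyclicSub
import Cfsg.Agent.LieExceptional.CITTorus
import Cfsg.Agent.MinSimple.SamePt_m3
import Cfsg.Agent.MinSimple.CaseOneEnd
import Cfsg.Agent.MinSimple.Basic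
import Cfsg.Agent.ZN.Plane
import Mathlib.GroupTheory.SpecificGroups.ZGroup
import Cfsg.Agent.OddCyclic.B2Pgl_m3
import Cfsg.Agent.Transfer.AbelianHall
import Cfsg.Agent.FastGrp
import Cfsg.Agent.Prune
set_option linter.all false

section
prune_inst 0x7ff8fef98db8addfffff7e7ffef9dffc19d4dfffffdffb4bfffce1ffafdf230a3be5fb8f1de058ff0ef6e29630b87813f9ffce7fef6bdc7ffffd5ff45ffbee1fa5efbd8d51d6b8340ffc6ffff3f17fce7f3fffffffffffffffffffffffffffbeffffffffffff

-- part: OddCyclic/T1MinParAbs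
section
set_option linter.all false
open scoped Cfsg.Agent.FastGrp

/-!
# S0342, T₀ = 1, section 4.0: the structure of `P₂/Q₂`, abstractly
-/

set_option autoImplicit false

namespace Cfsg.Agent.OddCyclic.T1MinParAbs

open Cfsg Subgroup
open Cfsg.Agent.OddCyclic.T1Defs Cfsg.Agent.OddCyclic.T1SzComp
open Cfsg.Agent.Lib.Cores

universe u

variable {H : Type u} [Group H] [Finite H]

/-- if `E` is a normal Suzuki subgroup with trivial centre and `H = E T` then `H = E` -/
theorem eq_top_of_suzuki (hO : pCore 2 H = ⊥) {T : Subgroup H} (hT : IsPGroup 2 T) {E : Subgroup H} (hE : E.Normal)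
    (hz : center E = ⊥) (hs : Cfsg.Lie.IsoSuzuki E) (htop : E ⊔ T = ⊤) : E = ⊤ := by
  let P : Sylow 2 E := default
  obtain ⟨D, hD⟩ := Cfsg.Agent.ThreePrime.SzRel.exists_szData hs P
  let C : Subgroup H := centralizer (E : Set H)
  have hC : C.Normal := inferInstance
  have hCE : ∀ x ∈ C, x ∈ E → x = 1 := by
    intro x hx hxE
    have : (⟨x, hxE⟩ : E) ∈ center E := by
      rw [mem_center_iff]
      intro g
      apply Subtype.ext
      exact mem_centralizer_iff.1 hx g g.2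
    rw [hz, mem_bot] at this
    exact congrArg Subtype.val this
  have hTle : T ≤ E ⊔ C := by
    intro t ht
    obtain ⟨n, hn⟩ := hT ⟨t, ht⟩
    have hn' : t ^ 2 ^ n = 1 := congrArg Subtype.val hn
    obtain ⟨j, hj⟩ := hD.inner (MulAut.conjNormal t) ⟨n, by rw [← map_pow, hn', map_one]⟩
    have h1 : (j : H)⁻¹ * t ∈ C := by
      rw [mem_centralizer_iff]
      intro g hg
      have h2 : ((MulAut.conjNormal t : MulAut E) ⟨g, hg⟩ : H) = ((MulAut.conj j ⟨g, hg⟩ : E) : H) := by rw [hj]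
      rw [MulAut.conjNormal_apply] at h2
      have h3 : t * g * t⁻¹ = (j : H) * g * (j : H)⁻¹ := h2
      have h4 : (j : H)⁻¹ * (t * g * t⁻¹) * t = g * ((j : H)⁻¹ * t) := by rw [h3]; group
      rw [← h4]; group
    have h5 : t = j * ((j : H)⁻¹ * t) := by group
    rw [h5]
    exact mul_mem (le_sup_left (a := E) j.2) (le_sup_right (b := C) h1)
  have hCtwo : IsPGroup 2 C := by
    rintro ⟨c, hc⟩
    have h1 : c ∈ E ⊔ T := by rw [htop]; exact mem_top _
    rw [← SetLike.mem_coe, normal_mul, Set.mem_mul] at h1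
    obtain ⟨e, he, t, ht, rfl⟩ := h1
    obtain ⟨n, hn⟩ := hT ⟨t, ht⟩
    have hn' : t ^ 2 ^ n = 1 := congrArg Subtype.val hn
    refine ⟨n, Subtype.ext ?_⟩
    show (e * t) ^ 2 ^ n = 1
    apply hCE _ (pow_mem hc _)
    rw [← QuotientGroup.eq_one_iff, QuotientGroup.mk_pow, QuotientGroup.mk_mul,
      (QuotientGroup.eq_one_iff e).2 he, one_mul, ← QuotientGroup.mk_pow, hn', QuotientGroup.mk_one]
  have hC1 : C = ⊥ := by
    rw [← le_bot_iff, ← hO]
    exact le_pCore hC hCtwo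
  rw [hC1, sup_bot_eq] at hTle
  rwa [sup_eq_left.2 hTle] at htop

/-- the conclusion (R) abstractly -/
structure RAbs (T : Subgroup H) (p : ℕ) (R : Subgroup H) : Prop where
  prime : p.Prime
  five : 5 ≤ p
  two : IsPGroup p R
  ne : R ≠ ⊥
  cyc : IsCyclic R
  normal : R.Normal
  top : R ⊔ T = ⊤
  cycT : IsCyclic T
  cent : centralizer (R : Set H) ≤ R
  inv : ∀ t ∈ T, t ≠ 1 → t * t = 1 → ∀ x ∈ R, t * x * t⁻¹ = x⁻¹

theorem isCyclic_mulAut {R : Type*} [Group R] [Finite R] (hR : IsCyclic R) {p : ℕ} (hp : p.Prime) (hp2 : p ≠ 2)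
    (h : IsPGroup p R) : IsCyclic (MulAut R) := by
  have : Fact p.Prime := ⟨hp⟩
  obtain ⟨n, hn⟩ := h.exists_card_eq
  have e := IsCyclic.mulAutMulEquiv R
  rw [hn] at e
  have := ZMod.isCyclic_units_of_prime_pow p hp hp2 n
  exact isCyclic_of_surjective e.symm e.symm.surjective

omit [Finite H] in
theorem commutator_le {F : Subgroup H} [F.Normal] (hF : IsCyclic F) (hc : centralizer (F : Set H) ≤ F) (a b : H) :
    a * b * a⁻¹ * b⁻¹ ∈ F := by
  apply hc
  have hcomm : ∀ φ ψ : MulAut F, φ * ψ = ψ * φ := by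
    intro φ ψ
    apply (IsCyclic.mulAutMulEquiv F).injective
    rw [map_mul, map_mul, mul_comm]
  rw [mem_centralizer_iff]
  intro x hx
  have h1 : (MulAut.conjNormal (a * b * a⁻¹ * b⁻¹) : MulAut F) = 1 := by
    rw [map_mul, map_mul, map_mul, hcomm (MulAut.conjNormal a), map_inv, map_inv]
    group
  have h2 : ((MulAut.conjNormal (a * b * a⁻¹ * b⁻¹) : MulAut F) ⟨x, hx⟩ : H) = x := by rw [h1]; rfl
  rw [MulAut.conjNormal_apply] at h2
  exact (mul_inv_eq_iff_eq_mul.1 h2).symm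

theorem isSylow_inf_ne_bot {T : Subgroup H} (hT : ∃ P : Sylow 2 H, (P : Subgroup H) = T) {E : Subgroup H}
    (hE : E.Normal) (h2 : 2 ∣ Nat.card E) : E ⊓ T ≠ ⊥ := by
  have : Fact (Nat.Prime 2) := ⟨Nat.prime_two⟩
  obtain ⟨P, rfl⟩ := hT
  obtain ⟨Q, hQ⟩ := Cfsg.Agent.S0542.result 2 E hE.isSubnormal P
  intro h
  have h1 : (Q : Subgroup E) = ⊥ := by
    rw [hQ, eq_bot_iff]
    intro x hx
    have : (x : H) ∈ E ⊓ (P : Subgroup H) := ⟨x.2, mem_subgroupOf.1 hx⟩
    rw [h, mem_bot] at this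
    rw [mem_bot]
    exact Subtype.ext this
  exact Q.ne_bot_of_dvd_card h2 h1

/-- the abstract structure theorem -/
theorem structure_abs (hO : pCore 2 H = ⊥) (hc : OddCyc H) (hK : KSec H) (h3 : ¬ 3 ∣ Nat.card H) {T : Subgroup H}
    (hT : ∃ P : Sylow 2 H, (P : Subgroup H) = T) (hT1 : T ≠ ⊥)
    (hdich : ∀ N : Subgroup H, N.Normal → N ⊓ T = ⊥ ∨ N ⊔ T = ⊤)
    {M : Subgroup H} (hM : M ≠ ⊤) (hmin : ∀ K : Subgroup H, T ≤ K → K ≠ ⊤ → K ≤ M) :
    (∃ p R, RAbs T p R) ∨ Cfsg.Lie.IsoSuzuki H := by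
  have hf2 : Fact (Nat.Prime 2) := ⟨Nat.prime_two⟩
  have hTp : IsPGroup 2 T := by
    obtain ⟨P, rfl⟩ := hT
    exact P.isPGroup'
  have hTtop : T ≠ ⊤ := by
    rintro rfl
    have h1 : pCore 2 H = ⊤ := (pCore_eq_top_iff 2).2 (hTp.of_equiv topEquiv)
    rw [hO] at h1
    exact hT1 h1.symm
  rcases layer_or hO hc hK h3 with hl | ⟨E, hE, hz, hs⟩
  · left
    -- no component
    set F := fittingSubgroup H with hF
    have hFn : F.Normal := fittingSubgroup_normal
    have hFc : IsCyclic F := fitting_cyclic hO hc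
    have hFcent : centralizer (F : Set H) ≤ F := centralizer_fitting_le hl
    have hFodd : Odd (Nat.card F) := Cfsg.Agent.LieExceptional.CITSylow.odd_card_fitting hO
    have hFTn : (F ⊔ T).Normal := by
      refine ⟨fun n hn g => ?_⟩
      have h1 : g * n * g⁻¹ = (g * n * g⁻¹ * n⁻¹) * n := by group
      rw [h1]
      exact mul_mem (le_sup_left (a := F) (commutator_le hFc hFcent g n)) hn
    have hFT : F ⊔ T = ⊤ := by
      rcases hdich _ hFTn with h | h
      · rw [inf_eq_right.2 le_sup_right] at h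
        exact absurd h hT1
      · rwa [sup_assoc, sup_idem] at h
    have hTM : T ≤ M := hmin T le_rfl hTtop
    obtain ⟨p, hpT⟩ : ∃ p : Nat.Primes, pCore (p : ℕ) H ⊔ T = ⊤ := by
      by_contra hcon
      push Not at hcon
      apply hM
      rw [← top_le_iff, ← hFT]
      refine sup_le ?_ hTM
      rw [hF, fittingSubgroup_eq_iSup_pCore]
      exact iSup_le fun p => le_sup_left.trans (hmin _ le_sup_right (hcon p))
    obtain ⟨p, hp⟩ := p
    have hfp : Fact p.Prime := ⟨hp⟩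
    change pCore p H ⊔ T = ⊤ at hpT
    have hRne : pCore p H ≠ ⊥ := by
      intro h
      rw [h, bot_sup_eq] at hpT
      exact hTtop hpT
    have hp2 : p ≠ 2 := by
      rintro rfl
      exact hRne hO
    have hRp : IsPGroup p (pCore p H) := pCore_isPGroup p
    have hp3 : p ≠ 3 := by
      rintro rfl
      obtain ⟨n, hn⟩ := hRp.exists_card_eq
      have hn0 : n ≠ 0 := by
        rintro rfl
        rw [pow_zero] at hn
        exact hRne (card_eq_one.1 hn)
      exact h3 ((hn ▸ dvd_pow_self 3 hn0).trans (card_subgroup_dvd_card _))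
    have hp5 : 5 ≤ p := by
      have h1 := hp.two_le
      by_contra h
      have h4 : p = 4 := by omega
      rw [h4] at hp
      exact absurd hp (by norm_num)
    have hRF : pCore p H ≤ F := pCore_le_fittingSubgroup p
    have hFR : F ≤ pCore p H := by
      intro f hf
      have h1 : f ∈ pCore p H ⊔ T := by rw [hpT]; exact mem_top _
      rw [← SetLike.mem_coe, normal_mul, Set.mem_mul] at h1
      obtain ⟨e, he, t, ht, rfl⟩ := h1
      obtain ⟨n, hn⟩ := hTp ⟨t, ht⟩
      have hn' : t ^ 2 ^ n = 1 := congrArg Subtype.val hn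
      have h4 : (e * t) ^ 2 ^ n ∈ pCore p H := by
        rw [← QuotientGroup.eq_one_iff, QuotientGroup.mk_pow, QuotientGroup.mk_mul,
          (QuotientGroup.eq_one_iff e).2 he, one_mul, ← QuotientGroup.mk_pow, hn', QuotientGroup.mk_one]
      have h5 : (e * t) ^ Nat.card F = 1 := by
        have := pow_card_eq_one' (x := (⟨e * t, hf⟩ : F))
        exact congrArg Subtype.val this
      -- in the quotient
      rw [← QuotientGroup.eq_one_iff] at h4 ⊢
      refine Cfsg.Agent.LieExceptional.CITSylow.eq_one_of_coprime_pow (m := 2 ^ n) (n := Nat.card F)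
        (Nat.Coprime.pow_left n ((Nat.coprime_two_left).2 hFodd)) ?_ ?_
      · rw [← QuotientGroup.mk_pow]; exact h4
      · rw [← QuotientGroup.mk_pow, h5, QuotientGroup.mk_one]
    have hRFe : F = pCore p H := le_antisymm hFR hRF
    set R := pCore p H with hR
    have hRc : IsCyclic R := hRFe ▸ hFc
    have hRcent : centralizer (R : Set H) ≤ R := hRFe ▸ hFcent
    have hAc : IsCyclic (MulAut R) := isCyclic_mulAut hRc hp hp2 hRp
    have hRT : ∀ x ∈ R, x ∈ T → x = 1 := by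
      intro x hxR hxT
      obtain ⟨a, ha⟩ := hRp ⟨x, hxR⟩
      obtain ⟨b, hb⟩ := hTp ⟨x, hxT⟩
      exact Cfsg.Agent.LieExceptional.CITSylow.eq_one_of_coprime_pow (m := p ^ a) (n := 2 ^ b)
        (Nat.Coprime.pow _ _ ((Nat.coprime_primes hp Nat.prime_two).2 hp2)) (congrArg Subtype.val ha)
        (congrArg Subtype.val hb)
    let φ : T →* MulAut R := (MulAut.conjNormal : H →* MulAut R).comp T.subtype
    have hφ : Function.Injective φ := by
      rw [injective_iff_map_eq_one]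
      rintro ⟨t, ht⟩ h
      apply Subtype.ext
      refine hRT t (hRcent ?_) ht
      rw [mem_centralizer_iff]
      intro x hx
      have h2 : ((MulAut.conjNormal t : MulAut R) ⟨x, hx⟩ : H) = x := by
        have : (MulAut.conjNormal t : MulAut R) = 1 := h
        rw [this]; rfl
      rw [MulAut.conjNormal_apply] at h2
      exact (mul_inv_eq_iff_eq_mul.1 h2).symm
    refine ⟨p, R, hp, hp5, hRp, hRne, hRc, Cfsg.Agent.Lib.Cores.pCore_normal p, hpT, isCyclic_of_injective φ hφ, hRcent, ?_⟩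
    -- involutions invert `R`
    intro t ht ht1 htt x hx
    have hRcomm : ∀ a b : R, a * b = b * a := fun a b => (IsCyclic.isMulCommutative (α := R)).is_comm.comm a b
    let ι : MulAut R :=
      { toFun := fun y => y⁻¹
        invFun := fun y => y⁻¹
        left_inv := fun y => inv_inv y
        right_inv := fun y => inv_inv y
        map_mul' := fun a b => by rw [_root_.mul_inv_rev, hRcomm] }
    have hι2 : ι * ι = 1 := by
      ext y
      show ((y⁻¹)⁻¹ : R).1 = y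
      rw [inv_inv]
    have hι1 : ι ≠ 1 := by
      intro h
      apply hRne
      rw [eq_bot_iff]
      intro y hy
      have h1 : (⟨y, hy⟩ : R)⁻¹ = ⟨y, hy⟩ := congrArg (fun f : MulAut R => f ⟨y, hy⟩) h
      have h2 : y⁻¹ = y := congrArg Subtype.val h1
      obtain ⟨a, ha⟩ := hRp ⟨y, hy⟩
      rw [mem_bot]
      refine Cfsg.Agent.LieExceptional.CITSylow.eq_one_of_coprime_pow (m := p ^ a) (n := 2)
        (Nat.Coprime.pow_left _ ((Nat.coprime_primes hp Nat.prime_two).2 hp2)) (congrArg Subtype.val ha) ?_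
      rw [pow_two]
      nth_rewrite 1 [← h2]
      exact inv_mul_cancel y
    have hφt : φ ⟨t, ht⟩ ≠ 1 := by
      intro h
      apply ht1
      have := hφ (h.trans (map_one φ).symm)
      exact congrArg Subtype.val this
    have hφt2 : φ ⟨t, ht⟩ * φ ⟨t, ht⟩ = 1 := by
      rw [← map_mul]
      have : (⟨t, ht⟩ : T) * ⟨t, ht⟩ = 1 := Subtype.ext htt
      rw [this, map_one]
    have ho1 : orderOf ι = 2 := orderOf_eq_prime (by rw [pow_two, hι2]) hι1
    have ho2 : orderOf (φ ⟨t, ht⟩) = 2 := orderOf_eq_prime (by rw [pow_two, hφt2]) hφt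
    have htopc : IsCyclic (⊤ : Subgroup (MulAut R)) :=
      isCyclic_of_surjective (topEquiv (G := MulAut R)).symm (topEquiv (G := MulAut R)).symm.surjective
    obtain ⟨k, hk⟩ := mem_zpowers_of_cyclic htopc (mem_top (φ ⟨t, ht⟩)) (mem_top ι) (ho2.trans ho1.symm)
    have heq : φ ⟨t, ht⟩ = ι := by
      change ι ^ k = φ ⟨t, ht⟩ at hk
      rcases Int.even_or_odd' k with ⟨l, rfl | rfl⟩
      · exfalso
        apply hφt
        rw [← hk, zpow_mul, zpow_ofNat, pow_two, hι2, one_zpow]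
      · rw [← hk, zpow_add, zpow_mul, zpow_ofNat, pow_two, hι2, one_zpow, one_mul, zpow_one]
    have h1 : ((φ ⟨t, ht⟩ ⟨x, hx⟩ : R) : H) = x⁻¹ := by rw [heq]; rfl
    have h2 : ((φ ⟨t, ht⟩ ⟨x, hx⟩ : R) : H) = t * x * t⁻¹ := MulAut.conjNormal_apply _ _
    rw [← h2, h1]
  · right
    have h2E : 2 ∣ Nat.card E := by
      obtain ⟨F, iF, iFin, m, hm, hF, ⟨e⟩⟩ := hs
      rw [Nat.card_congr e.toEquiv, (Cfsg.Agent.S1163.result hm hF).1]
      have : 2 ∣ (2 ^ (2 * m + 1)) ^ 2 := dvd_pow (dvd_pow_self 2 (by omega)) (by norm_num)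
      exact Dvd.dvd.mul_right (Dvd.dvd.mul_right this _) _
    have h1 : E ⊔ T = ⊤ := by
      rcases hdich E hE with h | h
      · exact absurd h (isSylow_inf_ne_bot hT hE h2E)
      · exact h
    have h2 := eq_top_of_suzuki hO hTp hE hz hs h1
    subst h2
    exact Cfsg.Agent.ThreePrime.ACFacts.isoSuzuki_of_equiv (topEquiv (G := H)).symm hs

end Cfsg.Agent.OddCyclic.T1MinParAbs
end

-- part: OddCyclic/T1MinPar
section
prune_inst 0x50002324050000000018001040003e42b2000002004b000011a0050205865c4120070e21f8200f0011128864203e8060020800090018000020008200411805a1042222c21040b100210000c0e801180c00000000000000000000000000041000000000000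
set_option linter.all false
open scoped Cfsg.Agent.FastGrp

/-!
# S0342, T₀ = 1, section 4.0: the minimal parabolic subgroup `P₂`
-/

set_option autoImplicit false

namespace Cfsg.Agent.OddCyclic.T1MinPar

open Cfsg Subgroup
open Cfsg.Agent.LieExceptional.CITDefs Cfsg.Agent.OddCyclic.T1Defs Cfsg.Agent.OddCyclic.T1SzComp

universe u

/-! ## transport of the hypotheses to sections -/

theorem K1.of_equiv {K L : Type*} [Group K] [Group L] (e : K ≃* L) (h : K1 L) : K1 K := by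
  rcases h with ⟨F, iF, iF', h1, h2, ⟨f⟩⟩ | ⟨F, iF, iF', f, h1, h2, ⟨g⟩⟩ | h | ⟨g, hg⟩
  · exact Or.inl ⟨F, iF, iF', h1, h2, ⟨e.trans f⟩⟩
  · exact Or.inr (Or.inl ⟨F, iF, iF', f, h1, h2, ⟨e.trans g⟩⟩)
  · exact Or.inr (Or.inr (Or.inl (Cfsg.Agent.ThreePrime.ACFacts.isoSuzuki_of_equiv e h)))
  · exact Or.inr (Or.inr (Or.inr ⟨e.symm g, by rw [MulEquiv.orderOf_eq, hg]⟩))

theorem oddCyc_subgroup {G : Type*} [Group G] [Finite G] (hc : OddCyc G) (M : Subgroup G) : OddCyc M := by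
  intro p P hp h2
  have := isCyclic_of_oddCyc hc hp h2 (P.isPGroup'.map M.subtype)
  have e := (P : Subgroup M).equivMapOfInjective M.subtype M.subtype_injective
  exact isCyclic_of_surjective e.symm e.symm.surjective

theorem oddCyc_surj {A B : Type*} [Group A] [Group B] [Finite A] (f : A →* B) (hf : Function.Surjective f)
    (hc : OddCyc A) : OddCyc B := by
  intro p P hp h2
  have : Fact p.Prime := ⟨hp⟩
  obtain ⟨Q, rfl⟩ := Sylow.mapSurjective_surjective hf p P
  have := hc p Q hp h2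
  exact isCyclic_of_surjective _ (f.subgroupMap_surjective Q)

/-- sections of proper subgroups -/
theorem kSec_of_surj {G : Type u} [Group G] [Finite G] (hG : KProper G) {M : Subgroup G} (hM : M ≠ ⊤) {B : Type u}
    [Group B] (f : M →* B) (hf : Function.Surjective f) : KSec B := by
  intro A N hN hs hab
  let A' : Subgroup G := (A.comap f).map M.subtype
  let e : A.comap f ≃* A' := (A.comap f).equivMapOfInjective M.subtype M.subtype_injective
  let g₀ : A.comap f →* A := f.subgroupComap A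
  have hg₀ : Function.Surjective g₀ := MonoidHom.subgroupComap_surjective_of_surjective f A hf
  let g : A' →* A ⧸ N := ((QuotientGroup.mk' N).comp g₀).comp e.symm.toMonoidHom
  have hg : Function.Surjective g :=
    ((QuotientGroup.mk'_surjective N).comp hg₀).comp e.symm.surjective
  have hA' : A' ≠ ⊤ := fun h => hM (top_le_iff.1 (h ▸ map_subtype_le _))
  let ε : A' ⧸ g.ker ≃* A ⧸ N := QuotientGroup.quotientKerEquivOfSurjective g hg
  have h1 : IsSimpleGroup (A' ⧸ g.ker) := (MulEquiv.isSimpleGroup_congr ε).mpr hs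
  obtain ⟨a, b, hne⟩ := hab
  have h2 := hG A' hA' g.ker h1 ⟨ε.symm a, ε.symm b, fun h => hne (by
    have := congrArg ε h
    simpa using this)⟩
  exact K1.of_equiv ε.symm h2

variable {G : Type u} [Group G] [Finite G]

/-! ## the dichotomy -/

theorem frattini {P N S : Subgroup G} (hS : IsSyl2 P S) (hN : NormalIn P N) {g : G} (hg : g ∈ P) :
    ∃ n ∈ N, ∃ k ∈ P, (∀ x, x ∈ N ⊓ S ↔ k * x * k⁻¹ ∈ N ⊓ S) ∧ g = k * n := by
  have : Fact (Nat.Prime 2) := ⟨Nat.prime_two⟩
  have hNn : (N.subgroupOf P).Normal := by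
    refine ⟨fun n hn g => ?_⟩
    rw [mem_subgroupOf] at hn ⊢
    exact hN.2 g g.2 n hn
  let S' : Sylow 2 P := Cfsg.Agent.LieExceptional.CITBasic.IsSyl2.toSylow hS
  have hS' : (S' : Subgroup P) = S.subgroupOf P := rfl
  obtain ⟨R, hR⟩ := Cfsg.Agent.S0542.result 2 (N.subgroupOf P) hNn.isSubnormal S'
  have hmap : (R : Subgroup (N.subgroupOf P)).map (N.subgroupOf P).subtype = (N ⊓ S).subgroupOf P := by
    rw [hR, hS', subgroupOf_map_subtype]
    ext x
    rw [mem_inf, mem_subgroupOf, mem_subgroupOf, mem_subgroupOf, mem_inf, and_comm]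
  have htop := Sylow.normalizer_sup_eq_top R
  rw [hmap] at htop
  have h1 : (⟨g, hg⟩ : P) ∈ normalizer (((N ⊓ S).subgroupOf P : Subgroup P) : Set P) ⊔ N.subgroupOf P := by
    rw [htop]; exact mem_top _
  rw [← SetLike.mem_coe, mul_normal, Set.mem_mul] at h1
  obtain ⟨k, hk, n, hn, hkn⟩ := h1
  refine ⟨n, mem_subgroupOf.1 hn, k, k.2, ?_, (congrArg Subtype.val hkn).symm⟩
  intro x
  rw [SetLike.mem_coe, mem_normalizer_iff] at hk
  constructor
  · intro hx
    have hxP : x ∈ P := hN.1 hx.1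
    have := (hk ⟨x, hxP⟩).1 (mem_subgroupOf.2 hx)
    exact mem_subgroupOf.1 this
  · intro hx
    have hxP : x ∈ P := by
      have h2 : k * x * (k : G)⁻¹ ∈ P := hN.1 hx.1
      have h3 := mul_mem (mul_mem (inv_mem k.2) h2) k.2
      have h4 : (k : G)⁻¹ * (k * x * (k : G)⁻¹) * k = x := by group
      rwa [h4] at h3
    exact mem_subgroupOf.1 ((hk ⟨x, hxP⟩).2 (mem_subgroupOf.2 hx))

/-- (N) -/
theorem normal_dichotomy {M P Q S P₂ Q₂ : Subgroup G} {q : ℕ} (h : CaseII M P Q S P₂ Q₂ q) {N : Subgroup G}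
    (hN : NormalIn P₂ N) : N ⊓ S ≤ Q₂ ∨ P₂ = N ⊔ S := by
  have hS : IsSyl2 P₂ S := ⟨h.le, h.sylow.two, fun Y _ h2 h3 => h.sylow.max Y le_top h2 h3⟩
  by_contra hcon
  push Not at hcon
  obtain ⟨h1, h2⟩ := hcon
  have hNS : N ⊔ S ≤ M := h.min _ le_sup_right (sup_le hN.1 h.le) (Ne.symm h2)
  let K : Subgroup G := P₂ ⊓ normalizer ((N ⊓ S : Subgroup G) : Set G)
  have hSK : S ≤ K := by
    intro s hs
    refine ⟨h.le hs, ?_⟩
    change s ∈ normalizer ((N ⊓ S : Subgroup G) : Set G)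
    rw [mem_normalizer_iff]
    intro x
    constructor
    · intro hx
      exact ⟨hN.2 s (h.le hs) x hx.1, S.mul_mem (S.mul_mem hs hx.2) (S.inv_mem hs)⟩
    · intro hx
      have h4 : s⁻¹ * (s * x * s⁻¹) * s = x := by group
      refine ⟨?_, ?_⟩
      · have h5 := hN.2 s⁻¹ (inv_mem (h.le hs)) _ hx.1
        rwa [inv_inv, h4] at h5
      · have h5 := S.mul_mem (S.mul_mem (S.inv_mem hs) hx.2) hs
        rwa [h4] at h5
  have hK : K ≠ P₂ := by
    intro hK
    apply h1
    refine h.o2.max _ (inf_le_left.trans hN.1) (h.sylow.two.to_le inf_le_right) ?_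
    intro m hm y hy
    have hm' : m ∈ K := hK ▸ hm
    exact (mem_normalizer_iff.1 hm'.2 y).1 hy
  have hKM : K ≤ M := h.min _ hSK inf_le_left hK
  apply h.not_le
  intro g hg
  obtain ⟨n, hn, k, hk, hk2, rfl⟩ := frattini hS hN hg
  have hkK : k ∈ K := ⟨hk, mem_normalizer_iff.2 hk2⟩
  exact mul_mem (hKM hkK) (hNS (le_sup_left (a := N) hn))

/-! ## the quotient `P₂/Q₂` -/

omit [Finite G] in
theorem normal_subgroupOf {P Q : Subgroup G} (h : IsO2 P Q) : (Q.subgroupOf P).Normal := by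
  refine ⟨fun n hn g => ?_⟩
  rw [mem_subgroupOf] at hn ⊢
  exact h.normal g g.2 n hn

omit [Finite G] in
theorem isO2_le_sylow {P Q S : Subgroup G} (h : IsO2 P Q) (hS : IsSyl2 P S) : Q ≤ S := by
  have hn : S ≤ normalizer (Q : Set G) := by
    intro s hs
    rw [mem_normalizer_iff]
    intro x
    constructor
    · intro hx
      exact h.normal s (hS.le hs) x hx
    · intro hx
      have h1 := h.normal s⁻¹ (inv_mem (hS.le hs)) _ hx
      have h2 : s⁻¹ * (s * x * s⁻¹) * s⁻¹⁻¹ = x := by group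
      rwa [h2] at h1
  have h1 : IsPGroup 2 (S ⊔ Q : Subgroup G) := IsPGroup.to_sup_of_normal_right' hS.two h.two hn
  rw [← hS.max _ (sup_le hS.le h.le) h1 le_sup_left]
  exact le_sup_right

omit [Finite G] in
theorem pCore_quotient {P Q : Subgroup G} (h : IsO2 P Q) [(Q.subgroupOf P).Normal] :
    pCore 2 (P ⧸ Q.subgroupOf P) = ⊥ := by
  have h2 : IsPGroup 2 (Q.subgroupOf P) := h.two.comap_of_injective P.subtype P.subtype_injective
  have h1 := Cfsg.Agent.Lib.Cores.comap_mk_pCore 2 h2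
  have h3 : pCore 2 P ≤ Q.subgroupOf P := by
    intro x hx
    have h4 : (pCore 2 P).map P.subtype ≤ Q := by
      refine h.max _ (map_subtype_le _) ((Cfsg.Agent.Lib.Cores.pCore_isPGroup 2).map _) ?_
      rintro m hm _ ⟨y, hy, rfl⟩
      exact ⟨(⟨m, hm⟩ * y * ⟨m, hm⟩⁻¹ :), (Cfsg.Agent.Lib.Cores.pCore_normal (G := P) 2).conj_mem y hy ⟨m, hm⟩, rfl⟩
    exact h4 ⟨x, hx, rfl⟩
  rw [← h1] at h3
  have h5 := Subgroup.map_mono (f := QuotientGroup.mk' (Q.subgroupOf P)) h3
  rw [map_comap_eq_self_of_surjective (QuotientGroup.mk'_surjective _)] at h5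
  rw [eq_bot_iff]
  refine h5.trans ?_
  rintro _ ⟨x, hx, rfl⟩
  rw [mem_bot]
  exact (QuotientGroup.eq_one_iff x).2 hx

/-- 4.0 -/
theorem minPar [IsSimpleGroup G] (hG : Hyp G) {M P Q S P₂ Q₂ : Subgroup G} {q : ℕ} (h : CaseII M P Q S P₂ Q₂ q) :
    (∃ p r, RType P₂ Q₂ S p r) ∨ SzType P₂ Q₂ := by
  have : Fact (Nat.Prime 2) := ⟨Nat.prime_two⟩
  have hS : IsSyl2 P₂ S := ⟨h.le, h.sylow.two, fun Y _ h2 h3 => h.sylow.max Y le_top h2 h3⟩
  have hn := normal_subgroupOf h.o2
  have hQS : Q₂ ≤ S := isO2_le_sylow h.o2 hS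
  have hSM : S ≤ M := h.t₁.syl.le
  have hSQ : ¬ S ≤ Q₂ := by
    intro hle
    have heq : S = Q₂ := le_antisymm hle hQS
    apply h.not_le
    intro g hg
    apply h.norm
    rw [mem_normalizer_iff]
    intro x
    constructor
    · intro hx
      rw [heq] at hx ⊢
      exact h.o2.normal g hg x hx
    · intro hx
      rw [heq] at hx ⊢
      have h1 := h.o2.normal g⁻¹ (inv_mem hg) _ hx
      have h2 : g⁻¹ * (g * x * g⁻¹) * g⁻¹⁻¹ = x := by group
      rwa [h2] at h1
  have hPtop : P₂ ≠ ⊤ := by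
    rintro rfl
    apply h.three
    rw [card_top]
    exact hG.three
  -- the quotient
  set H := P₂ ⧸ Q₂.subgroupOf P₂ with hH
  let π : P₂ →* H := QuotientGroup.mk' (Q₂.subgroupOf P₂)
  have hπ : Function.Surjective π := QuotientGroup.mk'_surjective _
  have hπ1 : ∀ x : P₂, π x = 1 ↔ (x : G) ∈ Q₂ := by
    intro x
    exact (QuotientGroup.eq_one_iff x).trans mem_subgroupOf
  let T : Subgroup H := (S.subgroupOf P₂).map π
  have hT : ∃ P : Sylow 2 H, (P : Subgroup H) = T := by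
    refine ⟨(Cfsg.Agent.LieExceptional.CITBasic.IsSyl2.toSylow hS).mapSurjective hπ, ?_⟩
    rw [Sylow.coe_mapSurjective]
    rfl
  have hmemT : ∀ x : P₂, π x ∈ T → (x : G) ∈ S := by
    rintro x ⟨s, hs, hsx⟩
    have h1 : π (s⁻¹ * x) = 1 := by rw [map_mul, map_inv, hsx, inv_mul_cancel]
    rw [hπ1] at h1
    have h2 : (x : G) = s * (s⁻¹ * x : P₂) := by
      rw [← Subgroup.coe_mul, mul_inv_cancel_left]
    rw [h2]
    exact mul_mem (mem_subgroupOf.1 hs) (hQS h1)
  have hT1 : T ≠ ⊥ := by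
    intro hT
    apply hSQ
    intro s hs
    have h1 : π ⟨s, h.le hs⟩ ∈ T := ⟨⟨s, h.le hs⟩, mem_subgroupOf.2 hs, rfl⟩
    rw [hT, mem_bot, hπ1] at h1
    exact h1
  let Mb : Subgroup H := (M.subgroupOf P₂).map π
  have hMb : Mb ≠ ⊤ := by
    intro hM
    apply h.not_le
    intro g hg
    have h1 : π ⟨g, hg⟩ ∈ Mb := by rw [hM]; exact mem_top _
    obtain ⟨m, hm, hmg⟩ := h1
    have h2 : π (m⁻¹ * ⟨g, hg⟩) = 1 := by rw [map_mul, map_inv, hmg, inv_mul_cancel]
    rw [hπ1] at h2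
    have h3 : g = m * (m⁻¹ * ⟨g, hg⟩ : P₂) := by
      rw [← Subgroup.coe_mul, mul_inv_cancel_left]
    rw [h3]
    exact mul_mem (mem_subgroupOf.1 hm) (hSM (hQS h2))
  have hmin : ∀ K : Subgroup H, T ≤ K → K ≠ ⊤ → K ≤ Mb := by
    intro K hTK hK
    have h1 : (K.comap π).map P₂.subtype ≤ M := by
      refine h.min _ ?_ (map_subtype_le _) ?_
      · intro s hs
        exact ⟨⟨s, h.le hs⟩, hTK ⟨⟨s, h.le hs⟩, mem_subgroupOf.2 hs, rfl⟩, rfl⟩
      · intro heq
        apply hK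
        rw [eq_top_iff]
        intro x _
        obtain ⟨y, rfl⟩ := hπ x
        have h2 : (y : G) ∈ (K.comap π).map P₂.subtype := by rw [heq]; exact y.2
        obtain ⟨z, hz, hzy⟩ := h2
        have h3 : z = y := Subtype.ext hzy
        rw [← h3]
        exact hz
    intro x hx
    obtain ⟨y, rfl⟩ := hπ x
    exact ⟨y, mem_subgroupOf.2 (h1 ⟨y, hx, rfl⟩), rfl⟩
  have hdich : ∀ N : Subgroup H, N.Normal → N ⊓ T = ⊥ ∨ N ⊔ T = ⊤ := by
    intro N hN
    have hNn : NormalIn P₂ ((N.comap π).map P₂.subtype) := by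
      refine ⟨map_subtype_le _, ?_⟩
      rintro m hm _ ⟨y, hy, rfl⟩
      exact ⟨(⟨m, hm⟩ * y * ⟨m, hm⟩⁻¹ :), (hN.comap π).conj_mem y hy ⟨m, hm⟩, rfl⟩
    rcases normal_dichotomy h hNn with h1 | h1
    · left
      rw [eq_bot_iff]
      rintro x ⟨hxN, hxT⟩
      obtain ⟨y, rfl⟩ := hπ x
      rw [mem_bot, hπ1]
      exact h1 ⟨⟨y, hxN, rfl⟩, hmemT y hxT⟩
    · right
      rw [eq_top_iff]
      intro x _
      obtain ⟨y, rfl⟩ := hπ x
      have h2 : (N.comap π).map P₂.subtype ⊔ S ≤ ((N ⊔ T).comap π).map P₂.subtype := by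
        refine sup_le ?_ ?_
        · rintro _ ⟨z, hz, rfl⟩
          exact ⟨z, le_sup_left (a := N) hz, rfl⟩
        · intro s hs
          exact ⟨⟨s, h.le hs⟩, le_sup_right (a := N) ⟨⟨s, h.le hs⟩, mem_subgroupOf.2 hs, rfl⟩, rfl⟩
      have h3 : (y : G) ∈ (N.comap π).map P₂.subtype ⊔ S := h1 ▸ y.2
      obtain ⟨z, hz, hzy⟩ := h2 h3
      have h4 : z = y := Subtype.ext hzy
      rw [← h4]
      exact hz
  have h3H : ¬ 3 ∣ Nat.card H := fun h3 => h.three (h3.trans (card_quotient_dvd_card _))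
  rcases Cfsg.Agent.OddCyclic.T1MinParAbs.structure_abs (pCore_quotient h.o2)
    (oddCyc_surj π hπ (oddCyc_subgroup hG.cyc P₂)) (kSec_of_surj hG.kproper hPtop π hπ) h3H hT hT1 hdich hMb hmin with
    ⟨p, R, hR⟩ | hs
  · left
    have hfp : Fact p.Prime := ⟨hR.prime⟩
    have hRn := hR.normal
    have hp2 : p ≠ 2 := by
      have := hR.five
      omega
    have hTp : IsPGroup 2 T := by
      obtain ⟨P, hP⟩ := hT
      rw [← hP]
      exact P.isPGroup'
    have hRT : ∀ x ∈ R, x ∈ T → x = 1 := by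
      intro x hxR hxT
      obtain ⟨a, ha⟩ := hR.two ⟨x, hxR⟩
      obtain ⟨b, hb⟩ := hTp ⟨x, hxT⟩
      exact Cfsg.Agent.LieExceptional.CITSylow.eq_one_of_coprime_pow (m := p ^ a) (n := 2 ^ b)
        (Nat.Coprime.pow _ _ ((Nat.coprime_primes hR.prime Nat.prime_two).2 hp2)) (congrArg Subtype.val ha)
        (congrArg Subtype.val hb)
    obtain ⟨⟨r₁, hr₁⟩, hgen⟩ := hR.cyc.exists_generator
    obtain ⟨r₀, hr₀⟩ := hπ r₁
    obtain ⟨a, ha⟩ := hR.two ⟨r₁, hr₁⟩
    have ha' : r₁ ^ p ^ a = 1 := congrArg Subtype.val ha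
    have h1 : ((r₀ ^ p ^ a : P₂) : G) ∈ Q₂ := by
      rw [← hπ1, map_pow, hr₀, ha']
    obtain ⟨b, hb⟩ := h.o2.two ⟨_, h1⟩
    have hb' : ((r₀ : G) ^ p ^ a) ^ 2 ^ b = 1 := by
      have := congrArg Subtype.val hb
      simpa using this
    obtain ⟨r, hr⟩ : ∃ r : P₂, r = r₀ ^ 2 ^ b := ⟨_, rfl⟩
    have hπr : π r = r₁ ^ 2 ^ b := by rw [hr, map_pow, hr₀]
    have hrR : π r ∈ R := by rw [hπr]; exact pow_mem hr₁ _
    have hpow : ∀ x ∈ R, ∃ i : ℕ, x = π r ^ i := by
      -- `r₁` is a power of `π r`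
      have h2 : ∃ j : ℕ, r₁ = π r ^ j := by
        have hcop : (2 ^ b).Coprime (p ^ a) :=
          Nat.Coprime.pow _ _ ((Nat.coprime_primes Nat.prime_two hR.prime).2 hp2.symm)
        obtain ⟨j, hj⟩ := exists_pow_eq_self_of_coprime (x := r₁) (n := 2 ^ b)
          (Nat.Coprime.coprime_dvd_right (orderOf_dvd_of_pow_eq_one ha') hcop)
        exact ⟨j, by rw [hπr, hj]⟩
      obtain ⟨j, hj⟩ := h2
      intro x hx
      obtain ⟨i, hi⟩ := (mem_powers_iff_mem_zpowers.2 (hgen ⟨x, hx⟩) : (⟨x, hx⟩ : R) ∈ Submonoid.powers _)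
      have hi' : r₁ ^ i = x := congrArg Subtype.val hi
      exact ⟨j * i, by rw [pow_mul, ← hj, hi']⟩
    refine ⟨p, r, ?_⟩
    refine ⟨hR.prime, hR.five, r.2, ⟨a, ?_⟩, ?_, ?_, ?_, ?_, ?_, ?_, fun hcon => hSQ hcon.le⟩
    · rw [hr, SubmonoidClass.coe_pow, ← pow_mul, mul_comm, pow_mul]
      exact hb'
    · intro hmem
      rw [← hπ1] at hmem
      apply hR.ne
      rw [eq_bot_iff]
      intro x hx
      obtain ⟨i, rfl⟩ := hpow x hx
      rw [hmem, one_pow]
      exact one_mem _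
    · intro g hg
      have h2 : π ⟨g, hg⟩ ∈ R ⊔ T := by rw [hR.top]; exact mem_top _
      rw [← SetLike.mem_coe, normal_mul, Set.mem_mul] at h2
      obtain ⟨x, hx, t, ht, hxt⟩ := h2
      obtain ⟨i, rfl⟩ := hpow x hx
      refine ⟨i, ((r ^ i)⁻¹ * ⟨g, hg⟩ : P₂), ?_, ?_⟩
      · apply hmemT
        rw [map_mul, map_inv, map_pow, ← hxt, inv_mul_cancel_left]
        exact ht
      · rw [Subgroup.coe_mul, Subgroup.coe_inv, SubmonoidClass.coe_pow, mul_inv_cancel_left]
    · intro g hg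
      have h2 : π (⟨g, hg⟩ * r * ⟨g, hg⟩⁻¹) ∈ R := by
        rw [map_mul, map_mul, map_inv]
        exact hRn.conj_mem _ hrR _
      obtain ⟨k, hk⟩ := hpow _ h2
      refine ⟨k, ?_⟩
      have h3 : π (⟨g, hg⟩ * r * ⟨g, hg⟩⁻¹ * (r ^ k)⁻¹) = 1 := by
        rw [map_mul, hk, map_inv, map_pow, mul_inv_cancel]
      rw [hπ1] at h3
      exact h3
    · obtain ⟨⟨t₀, ht₀⟩, hgen'⟩ := hR.cycT.exists_generator
      obtain ⟨s₀, hs₀, rfl⟩ := ht₀
      refine ⟨s₀, mem_subgroupOf.1 hs₀, ?_⟩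
      intro s hs
      have hsT : π ⟨s, h.le hs⟩ ∈ T := ⟨⟨s, h.le hs⟩, mem_subgroupOf.2 hs, rfl⟩
      obtain ⟨k, hk⟩ := (mem_powers_iff_mem_zpowers.2 (hgen' ⟨_, hsT⟩) : (⟨_, hsT⟩ : T) ∈ Submonoid.powers _)
      have hk' : π s₀ ^ k = π ⟨s, h.le hs⟩ := congrArg Subtype.val hk
      refine ⟨k, ?_⟩
      have h3 : π (⟨s, h.le hs⟩ * (s₀ ^ k)⁻¹) = 1 := by
        rw [map_mul, map_inv, map_pow, hk', mul_inv_cancel]
      rw [hπ1] at h3
      exact h3
    · intro s hs hsr
      have h2 : π (⟨s, h.le hs⟩ * r * ⟨s, h.le hs⟩⁻¹ * r⁻¹) = 1 := by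
        rw [hπ1]
        exact hsr
      rw [map_mul, map_mul, map_mul, map_inv, map_inv, mul_inv_eq_one, mul_inv_eq_iff_eq_mul] at h2
      have h3 : π ⟨s, h.le hs⟩ ∈ R := by
        apply hR.cent
        rw [mem_centralizer_iff]
        intro x hx
        obtain ⟨i, rfl⟩ := hpow x hx
        exact (Commute.pow_right (show Commute (π ⟨s, h.le hs⟩) (π r) from h2) i).eq.symm
      have h4 := hRT _ h3 ⟨⟨s, h.le hs⟩, mem_subgroupOf.2 hs, rfl⟩
      rw [hπ1] at h4
      exact h4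
    · intro t ht htQ htt
      have htT : π ⟨t, h.le ht⟩ ∈ T := ⟨⟨t, h.le ht⟩, mem_subgroupOf.2 ht, rfl⟩
      have h2 := hR.inv _ htT (fun h1 => htQ ((hπ1 _).1 h1)) (by
        rw [← map_mul, hπ1]
        exact htt) _ hrR
      have h3 : π (⟨t, h.le ht⟩ * r * ⟨t, h.le ht⟩⁻¹ * r) = 1 := by
        rw [map_mul, map_mul, map_mul, map_inv, h2, inv_mul_cancel]
      rw [hπ1] at h3
      exact h3
  · right
    exact ⟨H, inferInstance, π, hπ, QuotientGroup.ker_mk' _, hs⟩

end Cfsg.Agent.OddCyclic.T1MinPar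
end

-- part: OddCyclic/FFLoc
section
set_option linter.all false
open scoped Cfsg.Agent.FastGrp

/-!
# The local theorems of FFC, transferred to subgroups
-/

set_option autoImplicit false
set_option linter.unusedSectionVars false

namespace Cfsg.Agent.OddCyclic.FFLoc

open Cfsg.Agent.OddCyclic.T1Module Cfsg.Agent.OddCyclic.FFBasic Cfsg.Agent.OddCyclic.FFRed
  Cfsg.Agent.OddCyclic.FFSl2 Cfsg.Agent.OddCyclic.T1Defs Cfsg.Agent.OddCyclic.RedFFDefs Cfsg.Agent.OddCyclic.PumpMain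

section transfer

variable {X : Type*} [Group X] {V : Type*} [CommGroup V] {ρ : X →* MulAut V} {Y : Type*} [Group Y] (j : Y →* X)

theorem fx_comp (y : Y) : fx (ρ.comp j) y = fx ρ (j y) := rfl

theorem CS_comp (B : Subgroup Y) : CS (ρ.comp j) B = CS ρ (B.map j) := by
  ext v
  constructor
  · rintro hv _ ⟨b, hb, rfl⟩
    exact hv b hb
  · intro hv b hb
    exact hv (j b) ⟨b, hb, rfl⟩

theorem map_comap {j : Y →* X} {A : Subgroup X} (h : A ≤ j.range) : (A.comap j).map j = A := by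
  rw [Subgroup.map_comap_eq, inf_eq_right]
  exact h

theorem bo_comap {A : Subgroup X} (hA : BO ρ A) {j : Y →* X} (hj : Function.Injective j) (h : A ≤ j.range) :
    BO (ρ.comp j) (A.comap j) := by
  refine ⟨fun a ha => hj (by rw [map_mul, map_one]; exact hA.sq _ ha), fun B hB => ?_⟩
  have h1 : B.map j ≤ A := by rw [Subgroup.map_le_iff_le_comap]; exact hB
  have h2 := hA.best _ h1
  rw [CS_comp, CS_comp, map_comap h]
  rw [Subgroup.card_map_of_injective hj] at h2
  have h3 : Nat.card (A.comap j) = Nat.card A := by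
    rw [← Subgroup.card_map_of_injective hj, map_comap h]
  rw [h3]
  exact h2

theorem card_comap {A : Subgroup X} {j : Y →* X} (hj : Function.Injective j) (h : A ≤ j.range) :
    Nat.card (A.comap j) = Nat.card A := by
  rw [← Subgroup.card_map_of_injective hj, map_comap h]

theorem comap_ne_bot {A : Subgroup X} (hA : A ≠ ⊥) {j : Y →* X} (h : A ≤ j.range) : A.comap j ≠ ⊥ := by
  intro h1
  apply hA
  rw [← map_comap h, h1, Subgroup.map_bot]

end transfer

variable {H : Type*} [Group H] [Finite H] {V : Type*} [CommGroup V] [Finite V] {ρ : H →* MulAut V}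
variable {L A : Subgroup H} [L.Normal]

/-- the linear case with `A ≤ L` -/
theorem outLin {F : Type} [Field F] [Fintype F] [CharP F 2] (h4 : 4 ≤ Fintype.card F)
    (e : Matrix.SpecialLinearGroup (Fin 2) F ≃* L) (h : Fr ρ L A) (hV : ∀ v : V, v * v = 1) (hAL : A ≤ L) :
    OutLin ρ A := by
  set j : Matrix.SpecialLinearGroup (Fin 2) F →* H := L.subtype.comp e.toMonoidHom with hj
  have hinj : Function.Injective j := L.subtype_injective.comp e.injective
  have hrange : j.range = L := by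
    ext x
    constructor
    · rintro ⟨y, rfl⟩; exact (e y).2
    · intro hx
      exact ⟨e.symm ⟨x, hx⟩, by show ((e (e.symm ⟨x, hx⟩) : L) : H) = x; rw [e.apply_symm_apply]⟩
  have hAr : A ≤ j.range := by rw [hrange]; exact hAL
  have hne : ∃ g v, (ρ.comp j) g v ≠ v := by
    obtain ⟨⟨a, ha⟩, ha1'⟩ := Subgroup.ne_bot_iff_exists_ne_one.1 h.ne
    have ha1 : a ≠ 1 := fun h => ha1' (Subtype.ext h)
    obtain ⟨v, hv⟩ := h.faithL a (hAL ha) ha1
    obtain ⟨g, hg⟩ := hAr ha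
    refine ⟨g, v, ?_⟩
    show ρ (j g) v ≠ v
    rw [hg]; exact hv
  obtain ⟨hN, U, hU⟩ := FFSl2.main h4 hV hne (bo_comap h.bo hinj hAr) (comap_ne_bot h.ne hAr)
  have hcA : Nat.card A = Fintype.card F := by
    rw [← card_comap hinj hAr, hU]
    exact T1Sl2.card_sylow U
  have hCA : CS (ρ.comp j) (A.comap j) = CS ρ A := by rw [CS_comp, map_comap hAr]
  refine ⟨L, inferInstance, hAL, F, inferInstance, inferInstance, inferInstance, h4, ⟨e.symm⟩, hcA, ?_, ?_, ?_⟩
  · have h1 := hN.top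
    rw [CS_comp, ← MonoidHom.range_eq_map, hrange] at h1
    exact h1
  · rw [← hCA, hU]
    exact hN.index U
  · intro a ha ha1
    obtain ⟨g, rfl⟩ := hAr ha
    rw [← hCA, hU, ← fx_comp]
    apply hN.fix U
    · have h1 : g ∈ (U : Subgroup (Matrix.SpecialLinearGroup (Fin 2) F)) := by
        rw [← hU]; exact ha
      exact h1
    · rintro rfl
      exact ha1 (map_one j)

/-- the case `L₂(7)` -/
theorem outSeven {F : Type*} [Field F] [Finite F] (R : Cfsg.Agent.GH.L2Aut.Rep F L) (hs : IsSimpleGroup L)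
    (h : Fr ρ L A) (hV : ∀ v : V, v * v = 1) (hc : OddCyc H) (hF : (Nat.card F).Prime) (h7 : 7 ≤ Nat.card F) :
    OutSeven A := by
  have h1 := FFPsl.le_L R h hV hc hF h7
  have h2 := FFPsl.seven R h hV hc hF h7
  exact ⟨L, inferInstance, h1, hs, (FFThree.l32_of R h2).card⟩

end Cfsg.Agent.OddCyclic.FFLoc
end

-- part: OddCyclic/FFStruct
section
prune_inst 0x50006124412200000018001040003e4282000002004b000011e00502048e5c0020020e20c8200f10000208440030004003000000001000000000080041180481002200029008a10020000080a001100000000000000000000000000000041000000000000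
set_option linter.all false
open scoped Cfsg.Agent.FastGrp

-- part: OddCyclic/FFInner
section
/-!
# Best offenders inducing inner automorphisms on a normal subgroup

`centralizes_of_inner`: `K` a subgroup with trivial centre on which the best offender `A` induces inner automorphisms;
if `K` has no best offenders on elementary abelian 2-groups then `A` centralises `K`.
-/

set_option autoImplicit false
set_option linter.unusedSectionVars false

namespace Cfsg.Agent.OddCyclic.FFInner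

open Subgroup Cfsg.Agent.OddCyclic.T1Module Cfsg.Agent.OddCyclic.FFBasic Cfsg.Agent.OddCyclic.FFRed

variable {H : Type*} [Group H]

theorem comm_of {K : Subgroup H} {c g : H} (hc : c ∈ centralizer (K : Set H)) (hg : g ∈ K) : g * c = c * g :=
  (mem_centralizer_iff.mp hc) g hg

/-- the projection of `A ≤ K C_H(K)` to `K` -/
def pr (K A : Subgroup H) : Subgroup K where
  carrier := {g | ∃ c ∈ centralizer (K : Set H), (g : H) * c ∈ A}
  mul_mem' := by
    rintro g g' ⟨c, hc, h⟩ ⟨c', hc', h'⟩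
    refine ⟨c * c', mul_mem hc hc', ?_⟩
    have e : ((g * g' : K) : H) * (c * c') = ((g : H) * c) * ((g' : H) * c') := by
      rw [Subgroup.coe_mul]
      calc (g : H) * g' * (c * c') = (g : H) * (g' * c) * c' := by group
        _ = (g : H) * (c * g') * c' := by rw [comm_of hc g'.2]
        _ = _ := by group
    rw [e]
    exact mul_mem h h'
  one_mem' := ⟨1, one_mem _, by simp⟩
  inv_mem' := by
    rintro g ⟨c, hc, h⟩
    refine ⟨c⁻¹, inv_mem hc, ?_⟩
    have e : ((g⁻¹ : K) : H) * c⁻¹ = ((g : H) * c)⁻¹ := by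
      rw [comm_of hc g.2, mul_inv_rev]; rfl
    rw [e]
    exact inv_mem h

/-- the projection of `A ≤ K C_H(K)` to `C_H(K)` -/
def cp (K A : Subgroup H) : Subgroup H where
  carrier := {c | c ∈ centralizer (K : Set H) ∧ ∃ g ∈ K, g * c ∈ A}
  mul_mem' := by
    rintro c c' ⟨hc, g, hg, h⟩ ⟨hc', g', hg', h'⟩
    refine ⟨mul_mem hc hc', g * g', mul_mem hg hg', ?_⟩
    have e : g * g' * (c * c') = (g * c) * (g' * c') := by
      calc g * g' * (c * c') = g * (g' * c) * c' := by group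
        _ = g * (c * g') * c' := by rw [comm_of hc hg']
        _ = _ := by group
    rw [e]
    exact mul_mem h h'
  one_mem' := ⟨one_mem _, 1, one_mem _, by simp⟩
  inv_mem' := by
    rintro c ⟨hc, g, hg, h⟩
    refine ⟨inv_mem hc, g⁻¹, inv_mem hg, ?_⟩
    have e : g⁻¹ * c⁻¹ = (g * c)⁻¹ := by rw [comm_of hc hg, mul_inv_rev]
    rw [e]
    exact inv_mem h

theorem sq_eq {K A : Subgroup H} (hK : ∀ z ∈ K, z ∈ centralizer (K : Set H) → z = 1)
    (hA : ∀ a ∈ A, a * a = 1) {g c : H} (hg : g ∈ K) (hc : c ∈ centralizer (K : Set H)) (h : g * c ∈ A) :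
    g * g = 1 ∧ c * c = 1 := by
  have h1 := hA _ h
  have h2 : (g * g) * (c * c) = 1 := by
    rw [← h1]
    calc (g * g) * (c * c) = g * (g * c) * c := by group
      _ = g * (c * g) * c := by rw [comm_of hc hg]
      _ = _ := by group
  have h3 : g * g = (c * c)⁻¹ := eq_inv_of_mul_eq_one_left h2
  have h4 : g * g = 1 := hK _ (mul_mem hg hg) (by rw [h3]; exact inv_mem (mul_mem hc hc))
  refine ⟨h4, ?_⟩
  rw [h4, one_mul] at h2
  exact h2

variable [Finite H] {V : Type*} [CommGroup V] [Finite V] {ρ : H →* MulAut V}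

theorem unique {K : Subgroup H} (hK : ∀ z ∈ K, z ∈ centralizer (K : Set H) → z = 1) {g g' c c' : H}
    (hg : g ∈ K) (hg' : g' ∈ K) (hc : c ∈ centralizer (K : Set H)) (hc' : c' ∈ centralizer (K : Set H))
    (h : g * c = g' * c') : g = g' := by
  have h1 : g'⁻¹ * g = c' * c⁻¹ := by
    calc g'⁻¹ * g = g'⁻¹ * (g * c) * c⁻¹ := by group
      _ = g'⁻¹ * (g' * c') * c⁻¹ := by rw [h]
      _ = _ := by group
  have h2 : g'⁻¹ * g = 1 := hK _ (mul_mem (inv_mem hg') hg) (by rw [h1]; exact mul_mem hc' (inv_mem hc))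
  rw [inv_mul_eq_one] at h2
  exact h2.symm

/-- **the reduction lemma** -/
theorem centralizes_of_inner (hV : ∀ v : V, v * v = 1) {K A : Subgroup H} (hA : BO ρ A)
    (hK : ∀ z ∈ K, z ∈ centralizer (K : Set H) → z = 1)
    (hin : ∀ a ∈ A, ∃ g ∈ K, ∀ k ∈ K, a * k * a⁻¹ = g * k * g⁻¹)
    {y : H} (hyK : y ∈ K) (hy : Odd (orderOf y)) (hne : ∃ v, ρ y v ≠ v)
    (hno : ∀ (W : Subgroup V) (σ : K →* MulAut W), (∃ g v, σ g v ≠ v) → ∀ B : Subgroup K, BO σ B → B = ⊥) :
    A ≤ centralizer (K : Set H) := by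
  classical
  -- the decomposition
  have hdec : ∀ a ∈ A, ∃ g ∈ K, g⁻¹ * a ∈ centralizer (K : Set H) := by
    intro a ha
    obtain ⟨g, hg, h⟩ := hin a ha
    refine ⟨g, hg, ?_⟩
    rw [mem_centralizer_iff]
    intro k hk
    have h1 := h k hk
    have h2 : a * k = g * k * g⁻¹ * a := by rw [← h1]; group
    calc k * (g⁻¹ * a) = g⁻¹ * (g * k * g⁻¹ * a) := by group
      _ = g⁻¹ * (a * k) := by rw [h2]
      _ = _ := by group
  have hsq : ∀ g ∈ K, ∀ c ∈ centralizer (K : Set H), g * c ∈ A → g * g = 1 ∧ c * c = 1 :=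
    fun g hg c hc h => sq_eq hK hA.sq hg hc h
  set C := cp K A with hC
  have hC2 : IsPGroup 2 C := fun c => ⟨1, by
    obtain ⟨h1, g, hg, h⟩ := c.2
    rw [pow_one, pow_two]
    exact Subtype.ext (hsq g hg c h1 h).2⟩
  have hCK : ∀ c ∈ C, ∀ k ∈ K, k * c = c * k := fun c hc k hk => comm_of hc.1 hk
  set W := CS ρ C with hW
  have hst : ∀ k ∈ K, ∀ w ∈ W, ρ k w ∈ W := by
    intro k hk w hw c hc
    have h1 : ρ (c * k) w = ρ (k * c) w := by rw [hCK c hc k hk]
    rw [map_mul, MulAut.mul_apply, map_mul, MulAut.mul_apply, hw c hc] at h1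
    exact h1
  let σ : K →* MulAut W := res ρ K W hst
  have hσ : ∃ g v, σ g v ≠ v := by
    obtain ⟨v, hv, hv'⟩ := axb (ρ := ρ) hV hC2 hy (fun c hc => (hCK c hc y hyK).symm) hne
    exact ⟨⟨y, hyK⟩, ⟨v, hv⟩, fun h => hv' (congrArg Subtype.val h)⟩
  -- the homomorphism `A → K`
  let f : A → K := fun a => ⟨(hdec a a.2).choose, (hdec a a.2).choose_spec.1⟩
  have hf : ∀ a : A, (f a : H)⁻¹ * a ∈ centralizer (K : Set H) := fun a => (hdec a a.2).choose_spec.2
  have hfu : ∀ (a : A) (g : K) (c : H), c ∈ centralizer (K : Set H) → (a : H) = g * c → f a = g := by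
    intro a g c hc h
    apply Subtype.ext
    refine unique hK (f a).2 g.2 (hf a) hc ?_
    rw [← h]; group
  let π : A →* K :=
    { toFun := f
      map_one' := hfu 1 1 1 (one_mem _) (by simp)
      map_mul' := by
        intro a b
        refine hfu (a * b) (f a * f b) (((f a : H)⁻¹ * a) * ((f b : H)⁻¹ * b)) (mul_mem (hf a) (hf b)) ?_
        rw [Subgroup.coe_mul, Subgroup.coe_mul]
        have h1 := comm_of (hf a) (f b).2
        calc (a : H) * b = (f a : H) * (((f a : H)⁻¹ * a) * (f b : H)) * ((f b : H)⁻¹ * b) := by group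
          _ = (f a : H) * ((f b : H) * ((f a : H)⁻¹ * a)) * ((f b : H)⁻¹ * b) := by rw [h1]
          _ = _ := by group }
  have hπ : ∀ a, π a = f a := fun _ => rfl
  have hrange : π.range = pr K A := by
    ext g
    constructor
    · rintro ⟨a, rfl⟩
      refine ⟨(f a : H)⁻¹ * a, hf a, ?_⟩
      have : ((π a : K) : H) * ((f a : H)⁻¹ * a) = a := by rw [hπ]; group
      rw [this]
      exact a.2
    · rintro ⟨c, hc, h⟩
      exact ⟨⟨_, h⟩, hfu _ g c hc rfl⟩
  -- `pr K A` is a best offender on `W`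
  have hmemW : ∀ B : Subgroup K, B ≤ pr K A → ∀ v : V, v ∈ (CS σ B).map W.subtype ↔
      v ∈ W ∧ ∀ g ∈ B, ρ (g : H) v = v := by
    intro B _ v
    constructor
    · rintro ⟨w, hw, rfl⟩
      exact ⟨w.2, fun g hg => congrArg Subtype.val (hw g hg)⟩
    · rintro ⟨h1, h2⟩
      exact ⟨⟨v, h1⟩, fun g hg => Subtype.ext (h2 g hg), rfl⟩
  have key : ∀ B : Subgroup K, B ≤ pr K A →
      ((CS σ (pr K A)).map W.subtype).relIndex ((CS σ B).map W.subtype) ≤ B.relIndex (pr K A) := by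
    intro B hB
    set Bh := (B.comap π).map A.subtype with hBh
    have hBA : Bh ≤ A := Subgroup.map_subtype_le _
    have h1 := hA.relIndex_le hBA
    have h2 : Bh.relIndex A = B.relIndex (pr K A) := by
      rw [← hrange, ← Subgroup.index_comap]
      rw [Subgroup.relIndex]
      congr 1
      exact Subgroup.comap_map_eq_self_of_injective A.subtype_injective _
    have h3 : (CS σ B).map W.subtype ≤ CS ρ Bh := by
      intro v hv b hb
      rw [hmemW B hB] at hv
      obtain ⟨⟨a, ha⟩, hab, rfl⟩ := hb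
      have hab' : f ⟨a, ha⟩ ∈ B := hab
      show ρ a v = v
      have h4 : a = (f ⟨a, ha⟩ : H) * ((f ⟨a, ha⟩ : H)⁻¹ * a) := by group
      have h5 : (f ⟨a, ha⟩ : H)⁻¹ * a ∈ C := ⟨hf ⟨a, ha⟩, _, (f ⟨a, ha⟩).2, by rw [← h4]; exact ha⟩
      rw [h4, map_mul, MulAut.mul_apply, hv.1 _ h5]
      exact hv.2 _ hab'
    have h4 : (CS σ (pr K A)).map W.subtype = CS ρ A ⊓ (CS σ B).map W.subtype := by
      ext v
      rw [Subgroup.mem_inf, hmemW _ le_rfl, hmemW B hB]
      constructor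
      · rintro ⟨hv1, hv2⟩
        refine ⟨?_, hv1, fun g hg => hv2 g (hB hg)⟩
        intro a ha
        have h4 : a = (f ⟨a, ha⟩ : H) * ((f ⟨a, ha⟩ : H)⁻¹ * a) := by group
        have h5 : (f ⟨a, ha⟩ : H)⁻¹ * a ∈ C := ⟨hf ⟨a, ha⟩, _, (f ⟨a, ha⟩).2, by rw [← h4]; exact ha⟩
        rw [h4, map_mul, MulAut.mul_apply, hv1 _ h5]
        exact hv2 _ ⟨_, hf ⟨a, ha⟩, by rw [← h4]; exact ha⟩
      · rintro ⟨hv1, hv2, -⟩
        refine ⟨hv2, ?_⟩
        rintro g ⟨c, hc, h⟩
        have h5 : c ∈ C := ⟨hc, g, g.2, h⟩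
        have h6 : ρ ((g : H) * c) v = v := hv1 _ h
        rw [map_mul, MulAut.mul_apply, hv2 _ h5] at h6
        exact h6
    have hle : (CS σ (pr K A)).map W.subtype ≤ (CS σ B).map W.subtype := by rw [h4]; exact inf_le_right
    rw [h4, Subgroup.inf_relIndex_right, ← h2]
    refine le_trans ?_ h1
    exact Subgroup.relIndex_le_of_le_right h3 (by rw [Subgroup.relIndex]; exact Subgroup.index_ne_zero_of_finite)
  have hBO : BO σ (pr K A) := by
    constructor
    · rintro g ⟨c, hc, h⟩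
      exact Subtype.ext (hsq g g.2 c hc h).1
    · intro B hB
      have h1 := key B hB
      have e1 : Nat.card (CS σ B) = Nat.card ((CS σ B).map W.subtype) :=
        (Subgroup.card_map_of_injective W.subtype_injective).symm
      have e2 : Nat.card (CS σ (pr K A)) = Nat.card ((CS σ (pr K A)).map W.subtype) :=
        (Subgroup.card_map_of_injective W.subtype_injective).symm
      have hle : (CS σ (pr K A)).map W.subtype ≤ (CS σ B).map W.subtype := Subgroup.map_mono (CS_anti hB)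
      have h3 := card_mul_relIndex hle
      have h4 := card_mul_relIndex hB
      rw [e1, e2, ← h3, ← h4]
      calc Nat.card B * (Nat.card ((CS σ (pr K A)).map W.subtype) *
            ((CS σ (pr K A)).map W.subtype).relIndex ((CS σ B).map W.subtype))
          ≤ Nat.card B * (Nat.card ((CS σ (pr K A)).map W.subtype) * B.relIndex (pr K A)) :=
            Nat.mul_le_mul_left _ (Nat.mul_le_mul_left _ h1)
        _ = _ := by ring
  have hbot := hno W σ hσ _ hBO
  intro a ha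
  obtain ⟨g, hg, h⟩ := hdec a ha
  have h1 : (⟨g, hg⟩ : K) ∈ pr K A := ⟨g⁻¹ * a, h, by
    show g * (g⁻¹ * a) ∈ A
    rw [mul_inv_cancel_left]; exact ha⟩
  rw [hbot, Subgroup.mem_bot] at h1
  have h2 : g = 1 := congrArg Subtype.val h1
  rwa [h2, inv_one, one_mul] at h

end Cfsg.Agent.OddCyclic.FFInner
end

-- part: OddCyclic/FFStruct
section
/-!
# Best offenders in groups with cyclic odd Sylow subgroups: the generalized Fitting subgroup

`main`: `H` with cyclic odd Sylow subgroups, `O₂(H) = 1`, simple subgroups in `KZero`, faithful on the elementary abelian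
2-group `V`, `A ≠ 1` a best offender. Then either `A` has order 2 and inverts a normal subgroup of order 3 with
`|V : C_V(A)| = 2`, or there is a simple normal subgroup `L`, not a Suzuki group, with `Fr ρ L A`.
-/

set_option autoImplicit false
set_option linter.unusedSectionVars false

namespace Cfsg.Agent.OddCyclic.FFStruct

open Subgroup Cfsg Cfsg.Agent.OddCyclic.T1Defs Cfsg.Agent.OddCyclic.T1Module Cfsg.Agent.OddCyclic.FFBasic
  Cfsg.Agent.OddCyclic.FFRed Cfsg.Agent.OddCyclic.CompBasic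
open Cfsg.Agent.OddCyclic.PumpMain (KZero)
open Cfsg.Agent.SignalizersComponents.Components

variable {H : Type*} [Group H] [Finite H]

/-! ### components -/

theorem exists_odd_prime {K : Type*} [Group K] [Finite K] (h : ¬ Group.IsSolvable K) :
    ∃ p : ℕ, p.Prime ∧ p ≠ 2 ∧ p ∣ Nat.card K := by
  by_contra hcon
  push Not at hcon
  have : Fact (Nat.Prime 2) := ⟨Nat.prime_two⟩
  apply h
  have h1 : IsPGroup 2 K := by
    rw [IsPGroup.iff_card]
    refine ⟨_, Nat.eq_prime_pow_of_unique_prime_dvd Nat.card_pos.ne' ?_⟩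
    intro d hd hdvd
    by_contra hne
    exact hcon d hd hne hdvd
  have := h1.isNilpotent
  infer_instance

theorem component_normal (hc : OddCyc H) {K : Subgroup H} (hK : IsComponent K) : K.Normal := by
  refine ⟨fun n hn g => ?_⟩
  by_contra hcon
  have hne : K ≠ K.map (MulAut.conj g).toMonoidHom := by
    intro h
    apply hcon
    rw [h]
    exact ⟨n, hn, rfl⟩
  have hcomm := component_commutator_eq_bot_of_ne hK (isComponent_conj g hK) hne
  rw [Subgroup.commutator_eq_bot_iff_le_centralizer] at hcomm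
  obtain ⟨p, hp, hp2, hpK⟩ := exists_odd_prime (quasisimple_not_isSolvable hK.2)
  have : Fact p.Prime := ⟨hp⟩
  obtain ⟨x, hx⟩ := exists_prime_orderOf_dvd_card' (G := K) p hpK
  have hx' : orderOf (x : H) = p := by rw [Subgroup.orderOf_coe]; exact hx
  have hgx : orderOf (g * x * g⁻¹) = p := by
    rw [← hx']
    exact (MulAut.conj g).orderOf_eq (x : H)
  have hmem : g * x * g⁻¹ ∈ K.map (MulAut.conj g).toMonoidHom := ⟨x, x.2, rfl⟩
  have hco : Commute (x : H) (g * x * g⁻¹) := ((mem_centralizer_iff.mp (hcomm x.2)) _ hmem).symm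
  have hz := zpowers_eq_of_commute hc hp hp2 hx' hgx hco
  have hxm : (x : H) ∈ K.map (MulAut.conj g).toMonoidHom := by
    have h1 : (x : H) ∈ zpowers (g * x * g⁻¹) := by rw [← hz]; exact mem_zpowers _
    exact (zpowers_le.2 hmem) h1
  have hxc : x ∈ center K := by
    rw [mem_center_iff]
    intro k
    apply Subtype.ext
    exact ((mem_centralizer_iff.mp (hcomm k.2)) _ hxm).symm
  have h1 := eq_one_of_center (oddCyc_subgroup hc K) hK.2.1 hxc (by rw [hx]; exact hp.odd_of_ne_two hp2)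
  rw [h1, orderOf_one] at hx
  exact hp.one_lt.ne hx

theorem center_component (hc : OddCyc H) (h2 : pCore 2 H = ⊥) {K : Subgroup H} (hK : IsComponent K) :
    center K = ⊥ := by
  have : Fact (Nat.Prime 2) := ⟨Nat.prime_two⟩
  have hn := component_normal hc hK
  have h1 : ((center K).map K.subtype).Normal := inferInstance
  have h3 : IsPGroup 2 (center K) := by
    rw [IsPGroup.iff_card]
    refine ⟨_, Nat.eq_prime_pow_of_unique_prime_dvd Nat.card_pos.ne' ?_⟩
    intro p hp hpd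
    by_contra hp2
    have : Fact p.Prime := ⟨hp⟩
    obtain ⟨x, hx⟩ := exists_prime_orderOf_dvd_card' (G := center K) p hpd
    have h4 : orderOf (x : K) = p := by rw [Subgroup.orderOf_coe]; exact hx
    have h5 := eq_one_of_center (oddCyc_subgroup hc K) hK.2.1 x.2 (by rw [h4]; exact hp.odd_of_ne_two hp2)
    rw [h5, orderOf_one] at h4
    exact hp.one_lt.ne h4
  have h4 : (center K).map K.subtype ≤ pCore 2 H := le_sSup ⟨h1, h3.map _⟩
  rw [h2, le_bot_iff, Subgroup.map_eq_bot_iff_of_injective _ K.subtype_injective] at h4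
  exact h4

theorem simple_component (hc : OddCyc H) (h2 : pCore 2 H = ⊥) {K : Subgroup H} (hK : IsComponent K) :
    IsSimpleGroup K := by
  have h1 := center_component hc h2 hK
  have h3 := hK.2.2
  let e : K ⧸ center K ≃* K := (QuotientGroup.quotientMulEquivOfEq h1).trans QuotientGroup.quotientBot
  exact e.symm.isSimpleGroup

theorem inter_centralizer (hc : OddCyc H) (h2 : pCore 2 H = ⊥) {K : Subgroup H} (hK : IsComponent K) :
    ∀ z ∈ K, z ∈ centralizer (K : Set H) → z = 1 := by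
  intro z hz hzc
  have h1 : (⟨z, hz⟩ : K) ∈ center K := by
    rw [mem_center_iff]
    intro k
    exact Subtype.ext ((mem_centralizer_iff.mp hzc) k k.2)
  rw [center_component hc h2 hK, Subgroup.mem_bot] at h1
  exact congrArg Subtype.val h1

/-- two components with elements of the same odd prime order are equal -/
theorem component_eq (hc : OddCyc H) (h2 : pCore 2 H = ⊥) {K L : Subgroup H} (hK : IsComponent K)
    (hL : IsComponent L) {p : ℕ} (hp : p.Prime) (hp2 : p ≠ 2) (h : p ∣ Nat.card K) (h' : p ∣ Nat.card L) :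
    K = L := by
  by_contra hne
  have hcomm := component_commutator_eq_bot_of_ne hK hL hne
  rw [Subgroup.commutator_eq_bot_iff_le_centralizer] at hcomm
  have : Fact p.Prime := ⟨hp⟩
  obtain ⟨x, hx⟩ := exists_prime_orderOf_dvd_card' (G := K) p h
  have hx' : orderOf (x : H) = p := by rw [Subgroup.orderOf_coe]; exact hx
  have hxL := mem_of_orderOf hc hp hp2 (component_normal hc hL) h' hx'
  have h1 := inter_centralizer hc h2 hL _ hxL (hcomm x.2)
  rw [h1, orderOf_one] at hx'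
  exact hp.one_lt.ne hx'

/-! ### the Fitting subgroup -/

theorem odd_card_fitting (h2 : pCore 2 H = ⊥) : Odd (Nat.card (fittingSubgroup H)) := by
  have : Fact (Nat.Prime 2) := ⟨Nat.prime_two⟩
  rw [← Nat.not_even_iff_odd]
  intro he
  obtain ⟨x, hx⟩ := exists_prime_orderOf_dvd_card' (G := fittingSubgroup H) 2 (even_iff_two_dvd.mp he)
  have h1 : (x : H) ∈ pCore 2 H := by
    refine Cfsg.Agent.Lib.GenFitting.mem_pCore_of_mem_fitting x.2 (k := 1) ?_
    have h3 := pow_orderOf_eq_one x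
    rw [hx] at h3
    rw [pow_one]
    exact congrArg Subtype.val h3
  rw [h2, Subgroup.mem_bot] at h1
  have h3 : x = 1 := Subtype.ext h1
  rw [h3, orderOf_one] at hx
  exact absurd hx (by norm_num)

theorem isCyclic_fitting (hc : OddCyc H) (h2 : pCore 2 H = ⊥) : IsCyclic (fittingSubgroup H) := by
  have hnil : Group.IsNilpotent (fittingSubgroup H) := Cfsg.Agent.Lib.Cores.fittingSubgroup_isNilpotent
  have hZ : IsZGroup (fittingSubgroup H) := by
    rw [isZGroup_iff]
    intro p hp P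
    have hpf : Fact p.Prime := ⟨hp⟩
    by_cases hp2 : p = 2
    · subst hp2
      have h1 : (P : Subgroup (fittingSubgroup H)) = ⊥ := by
        obtain ⟨n, hn⟩ := P.isPGroup'.exists_card_eq
        rw [← Subgroup.card_eq_one, hn]
        rcases Nat.eq_zero_or_pos n with h | h
        · rw [h, pow_zero]
        · exfalso
          have h3 : 2 ∣ Nat.card (fittingSubgroup H) :=
            (dvd_pow_self 2 h.ne').trans (hn ▸ Subgroup.card_subgroup_dvd_card _)
          exact (Nat.not_even_iff_odd.mpr (odd_card_fitting h2)) (even_iff_two_dvd.mpr h3)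
      have h4 : Subsingleton (P : Subgroup (fittingSubgroup H)) := by
        rw [h1]; infer_instance
      exact isCyclic_of_subsingleton
    · exact oddCyc_subgroup hc (fittingSubgroup H) p P hp hp2
  infer_instance

/-- an involution not centralising the Fitting subgroup inverts a normal subgroup of prime order -/
theorem exists_inverted (hc : OddCyc H) (h2 : pCore 2 H = ⊥) {a : H} (ha : a * a = 1) {x : H}
    (hx : x ∈ fittingSubgroup H) (hax : a * x ≠ x * a) :
    ∃ (r : ℕ) (y : H), r.Prime ∧ r ≠ 2 ∧ y ∈ fittingSubgroup H ∧ orderOf y = r ∧ (zpowers y).Normal ∧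
      a * y * a⁻¹ = y⁻¹ ∧ a * y ≠ y * a := by
  have hcyc := isCyclic_fitting hc h2
  have hn : (fittingSubgroup H).Normal := Cfsg.Agent.Lib.Cores.fittingSubgroup_normal
  have hab : ∀ u ∈ fittingSubgroup H, ∀ v ∈ fittingSubgroup H, u * v = v * u := by
    intro u hu v hv
    have : IsMulCommutative (fittingSubgroup H) := IsCyclic.isMulCommutative
    exact congrArg Subtype.val (mul_comm' (⟨u, hu⟩ : fittingSubgroup H) ⟨v, hv⟩)
  set u := a * x * a⁻¹ * x⁻¹ with hu
  have huF : u ∈ fittingSubgroup H := mul_mem (hn.conj_mem x hx a) (inv_mem hx)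
  have hu1 : u ≠ 1 := by
    intro h
    apply hax
    rw [hu, mul_inv_eq_one] at h
    rw [← mul_inv_eq_iff_eq_mul]
    exact h
  have haa : a⁻¹ = a := inv_eq_of_mul_eq_one_left ha
  have hau : a * u * a⁻¹ = u⁻¹ := by
    have h1 : a * u * a⁻¹ = (a * a) * x * (a * a)⁻¹ * (a * x⁻¹ * a⁻¹) := by rw [hu]; group
    rw [h1, ha, hu]
    have h3 : x * (a * x⁻¹ * a⁻¹) = (a * x * a⁻¹ * x⁻¹)⁻¹ := by group
    rw [← h3]; group
  have hodd : Odd (orderOf u) := by
    have h1 : orderOf u ∣ Nat.card (fittingSubgroup H) := by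
      rw [← Subgroup.orderOf_mk _ huF]
      exact orderOf_dvd_natCard _
    exact (odd_card_fitting h2).of_dvd_nat h1
  have ho1 : orderOf u ≠ 1 := fun h => hu1 (orderOf_eq_one_iff.mp h)
  obtain ⟨r, hr, hrd⟩ := Nat.exists_prime_and_dvd ho1
  have hr2 : r ≠ 2 := by
    rintro rfl
    exact (Nat.not_even_iff_odd.mpr hodd) (even_iff_two_dvd.mpr hrd)
  set y := u ^ (orderOf u / r) with hy
  have hyF : y ∈ fittingSubgroup H := pow_mem huF _
  have hyo : orderOf y = r := by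
    rw [hy]
    exact orderOf_pow_orderOf_div (orderOf_pos u).ne' hrd
  have hyi : a * y * a⁻¹ = y⁻¹ := by
    rw [hy, ← conj_pow, hau, inv_pow]
  refine ⟨r, y, hr, hr2, hyF, hyo, ?_, hyi, ?_⟩
  · refine ⟨fun n hn' g => ?_⟩
    have h1 : g * y * g⁻¹ ∈ fittingSubgroup H := hn.conj_mem y hyF g
    have h3 : orderOf (⟨g * y * g⁻¹, h1⟩ : fittingSubgroup H) = orderOf (⟨y, hyF⟩ : fittingSubgroup H) := by
      rw [Subgroup.orderOf_mk, Subgroup.orderOf_mk]
      exact (MulAut.conj g).orderOf_eq y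
    have h4 := zpowers_eq_of_cyclic h3
    have h5 : g * y * g⁻¹ ∈ zpowers y := by
      have h6 : (⟨g * y * g⁻¹, h1⟩ : fittingSubgroup H) ∈ zpowers (⟨y, hyF⟩ : fittingSubgroup H) := by
        rw [← h4]; exact mem_zpowers _
      obtain ⟨k, hk⟩ := h6
      exact ⟨k, congrArg Subtype.val hk⟩
    obtain ⟨k, rfl⟩ := hn'
    show g * y ^ k * g⁻¹ ∈ zpowers y
    rw [← conj_zpow]
    exact zpow_mem h5 k
  · intro h
    rw [h, mul_inv_cancel_right] at hyi
    have h1 : y * y = 1 := by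
      nth_rewrite 1 [hyi]; rw [inv_mul_cancel]
    have h3 : orderOf y ∣ 2 := orderOf_dvd_of_pow_eq_one (by rw [pow_two]; exact h1)
    rw [hyo] at h3
    exact hr2 ((Nat.prime_dvd_prime_iff_eq hr Nat.prime_two).1 h3)

/-- an element with `a² = 1` centralising `F*(H)` is trivial -/
theorem eq_one_of_centralizes (h2 : pCore 2 H = ⊥) {a : H} (ha : a * a = 1)
    (h1 : ∀ x ∈ fittingSubgroup H, a * x = x * a)
    (h3 : ∀ K : Subgroup H, IsComponent K → a ∈ centralizer (K : Set H)) : a = 1 := by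
  have : Fact (Nat.Prime 2) := ⟨Nat.prime_two⟩
  set C := centralizer (generalizedFittingSubgroup H : Set H) with hC
  have hFn : (generalizedFittingSubgroup H).Normal := Cfsg.Agent.Lib.GenFitting.genFitting_normal
  have hCn : C.Normal := by rw [hC]; infer_instance
  have hle : C ≤ generalizedFittingSubgroup H := Cfsg.Agent.Lib.GenFitting.centralizer_genFitting_le
  have haC : a ∈ C := by
    rw [hC, mem_centralizer_iff]
    have h4 : generalizedFittingSubgroup H ≤ centralizer ({a} : Set H) := by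
      rw [Cfsg.Agent.Lib.GenFitting.genFitting_def, sup_le_iff]
      constructor
      · rw [layer_le_iff]
        intro K hK k hk
        rw [mem_centralizer_singleton_iff]
        exact (mem_centralizer_iff.mp (h3 K hK)) k hk
      · intro x hx
        rw [mem_centralizer_singleton_iff]
        exact (h1 x hx).symm
    intro x hx
    exact mem_centralizer_singleton_iff.mp (h4 hx)
  have hab : ∀ u ∈ C, ∀ v ∈ C, u * v = v * u := by
    intro u hu v hv
    exact ((mem_centralizer_iff.mp hv) u (hle hu))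
  have hnil : Group.IsNilpotent C := by
    let _ : CommGroup C := { (inferInstance : Group C) with mul_comm := fun u v => Subtype.ext (hab u u.2 v v.2) }
    infer_instance
  have haF : a ∈ fittingSubgroup H := Cfsg.Agent.Lib.Cores.le_fittingSubgroup hCn hnil haC
  have h4 : a ∈ pCore 2 H := Cfsg.Agent.Lib.GenFitting.mem_pCore_of_mem_fitting haF (k := 1) (by
    rw [pow_one, pow_two]; exact ha)
  rwa [h2, Subgroup.mem_bot] at h4

/-! ### the components -/

open Cfsg.Agent.SporRec.J1.Defs (Local) in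
theorem three_dvd_of_kZero {K : Type*} [Group K] [Finite K] (h : KZero K) (hn : ¬ Cfsg.Lie.IsoSuzuki K) :
    3 ∣ Nat.card K := by
  rcases h with ⟨F, _, _, _, _, ⟨e⟩⟩ | ⟨F, _, _, f, _, _, ⟨e⟩⟩ | h | ⟨h, k, hk⟩
  · rw [Nat.card_congr e.toEquiv]
    exact Cfsg.Agent.ThreePrime.OrderThree.three_dvd_card_psl _
  · rw [Nat.card_congr e.toEquiv]
    exact Cfsg.Agent.ThreePrime.OrderThree.three_dvd_card_psl _
  · exact absurd h hn
  · obtain ⟨e⟩ := h.cent k hk
    have h1 : 3 ∣ Nat.card (Subgroup.centralizer ({k} : Set K)) := by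
      rw [Nat.card_congr e.toEquiv, Nat.card_prod]
      have h3 : Nat.card (alternatingGroup (Fin 5)) = 60 := by
        rw [Nat.card_eq_fintype_card]; decide +kernel
      rw [h3]
      exact Dvd.dvd.mul_left (by norm_num) _
    exact h1.trans (Subgroup.card_subgroup_dvd_card _)

variable {V : Type*} [CommGroup V] [Finite V] {ρ : H →* MulAut V}

/-- best offenders centralise normal Suzuki subgroups -/
theorem le_centralizer_suzuki (hc : OddCyc H) (h2 : pCore 2 H = ⊥) (hV : ∀ v : V, v * v = 1)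
    (hρ : Function.Injective ρ) {A : Subgroup H} (hA : BO ρ A) {K : Subgroup H} (hK : IsComponent K)
    (hs : Cfsg.Lie.IsoSuzuki K) : A ≤ centralizer (K : Set H) := by
  have hn := component_normal hc hK
  obtain ⟨p, hp, hp2, hpK⟩ := exists_odd_prime (quasisimple_not_isSolvable hK.2)
  have : Fact p.Prime := ⟨hp⟩
  obtain ⟨x, hx⟩ := exists_prime_orderOf_dvd_card' (G := K) p hpK
  have hx' : orderOf (x : H) = p := by rw [Subgroup.orderOf_coe]; exact hx
  refine FFInner.centralizes_of_inner hV hA (inter_centralizer hc h2 hK) ?_ (y := (x : H)) x.2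
    (by rw [hx']; exact hp.odd_of_ne_two hp2) ?_ ?_
  · intro a ha
    obtain ⟨F, iF, iF', m, hm, hF, ⟨R⟩⟩ := Cfsg.Agent.ThreePrime.SzRel.exists_rel hs
    obtain ⟨j, hj⟩ := R.inner hm hF (MulAut.conjNormal a) ⟨1, by
      rw [pow_one, pow_two, ← map_mul, hA.sq a ha, map_one]⟩
    refine ⟨j, j.2, fun k hk => ?_⟩
    have h1 := congrArg (fun α : MulAut K => ((α ⟨k, hk⟩ : K) : H)) hj
    simpa [MulAut.conjNormal_apply] using h1
  · by_contra hcon
    push Not at hcon
    have h1 : ρ (x : H) = 1 := by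
      ext v
      exact hcon v
    have h3 : (x : H) = 1 := hρ (by rw [h1, map_one])
    rw [h3, orderOf_one] at hx'
    exact hp.one_lt.ne hx'
  · intro W σ hσ B hB
    exact FFSz.main hs (fun w => Subtype.ext (hV w)) σ hσ hB

/-- **the structure theorem** -/
theorem main (hc : OddCyc H) (hk : ∀ J : Subgroup H, IsSimpleGroup J → (∃ x y : J, x * y ≠ y * x) → KZero J)
    (h2 : pCore 2 H = ⊥) (hV : ∀ v : V, v * v = 1) (hρ : Function.Injective ρ) {A : Subgroup H} (hA : BO ρ A)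
    (hA1 : A ≠ ⊥) :
    (∃ y : H, orderOf y = 3 ∧ (zpowers y).Normal ∧ Nat.card A = 2 ∧ (∀ a ∈ A, a ≠ 1 → a * y * a⁻¹ = y⁻¹) ∧
      (CS ρ A).index = 2 ∧ (fx ρ y).index = 4) ∨
    (∃ L : Subgroup H, L.Normal ∧ IsSimpleGroup L ∧ KZero L ∧ ¬ Cfsg.Lie.IsoSuzuki L ∧ Fr ρ L A) := by
  classical
  have hkz : ∀ K : Subgroup H, IsComponent K → KZero K := by
    intro K hK
    refine hk K (simple_component hc h2 hK) ?_
    by_contra hcon
    push Not at hcon
    exact quasisimple_not_isMulCommutative hK.2 ⟨⟨hcon⟩⟩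
  have hne : ∀ y : H, y ≠ 1 → ∃ v, ρ y v ≠ v := by
    intro y hy
    by_contra hcon
    push Not at hcon
    apply hy
    apply hρ
    rw [map_one]
    ext v
    exact hcon v
  have hsz : ∀ K : Subgroup H, IsComponent K → Cfsg.Lie.IsoSuzuki K → A ≤ centralizer (K : Set H) :=
    fun K hK hs => le_centralizer_suzuki hc h2 hV hρ hA hK hs
  by_cases hF : ∃ a ∈ A, ∃ x ∈ fittingSubgroup H, a * x ≠ x * a
  · left
    obtain ⟨a, ha, x, hx, hax⟩ := hF
    obtain ⟨r, y, hr, hr2, hyF, hyo, hyn, hay, hay'⟩ := exists_inverted hc h2 (hA.sq a ha) hx hax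
    have hy1 : y ≠ 1 := by
      intro h
      rw [h, orderOf_one] at hyo
      exact hr.one_lt.ne hyo
    obtain ⟨h3, h4, h5, h6⟩ := hA.three hV hr hr2 hyo (fun b _ => hyn.conj_mem y (mem_zpowers y) b) (hne y hy1)
      ha hay'
    subst h3
    -- all components are Suzuki groups
    have hall : ∀ K : Subgroup H, IsComponent K → Cfsg.Lie.IsoSuzuki K := by
      intro K hK
      by_contra hn
      have h7 := three_dvd_of_kZero (hkz K hK) hn
      have h8 := mem_of_orderOf hc Nat.prime_three (by norm_num) (component_normal hc hK) h7 hyo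
      have h9 : y ∈ centralizer (K : Set H) := by
        rw [mem_centralizer_iff]
        intro k hk'
        have h10 := layer_le_centralizer_fitting (component_le_layer hK hk')
        exact ((mem_centralizer_iff.mp h10) y hyF).symm
      exact hy1 (inter_centralizer hc h2 hK y h8 h9)
    have hbot : A ⊓ centralizer {y} = ⊥ := by
      rw [eq_bot_iff]
      rintro b ⟨hb, hby⟩
      rw [Subgroup.mem_bot]
      have hby' : b * y = y * b := mem_centralizer_singleton_iff.mp hby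
      refine eq_one_of_centralizes h2 (hA.sq b hb) ?_ (fun K hK => hsz K hK (hall K hK) hb)
      intro x hx
      by_contra hbx
      obtain ⟨r, y', hr', hr2', hyF', hyo', hyn', -, hay''⟩ := exists_inverted hc h2 (hA.sq b hb) hx hbx
      have hy1' : y' ≠ 1 := by
        intro h
        rw [h, orderOf_one] at hyo'
        exact hr'.one_lt.ne hyo'
      obtain ⟨h3', -, -, -⟩ := hA.three hV hr' hr2' hyo' (fun b _ => hyn'.conj_mem y' (mem_zpowers y') b)
        (hne y' hy1') hb hay''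
      subst h3'
      have hcyc := isCyclic_fitting hc h2
      have h7 : orderOf (⟨y', hyF'⟩ : fittingSubgroup H) = orderOf (⟨y, hyF⟩ : fittingSubgroup H) := by
        rw [Subgroup.orderOf_mk, Subgroup.orderOf_mk, hyo, hyo']
      have h8 := zpowers_eq_of_cyclic h7
      have h9 : (⟨y', hyF'⟩ : fittingSubgroup H) ∈ zpowers (⟨y, hyF⟩ : fittingSubgroup H) := by
        rw [← h8]; exact mem_zpowers _
      obtain ⟨k, hk'⟩ := h9
      have h10 : y ^ k = y' := congrArg Subtype.val hk'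
      apply hay''
      rw [← h10]
      exact (Commute.zpow_right (show Commute b y from hby') k).eq
    rw [hbot] at h4 h5 h6
    rw [CS_bot, Subgroup.relIndex_top_right] at h5 h6
    rw [Subgroup.relIndex_bot_left] at h4
    refine ⟨y, hyo, hyn, h4, ?_, h5, h6⟩
    intro b hb hb1
    rcases eq_or_inv hr hyo (hA.sq b hb) (hyn.conj_mem y (mem_zpowers y) b) with h | h
    · exfalso
      have h7 : b ∈ A ⊓ centralizer {y} := ⟨hb, mem_centralizer_singleton_iff.mpr h⟩
      rw [hbot, Subgroup.mem_bot] at h7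
      exact hb1 h7
    · exact h
  · right
    push Not at hF
    -- a component which is not centralised
    obtain ⟨⟨a₀, ha₀⟩, ha₀1'⟩ := Subgroup.ne_bot_iff_exists_ne_one.1 hA1
    have ha₀1 : a₀ ≠ 1 := fun h => ha₀1' (Subtype.ext h)
    obtain ⟨L, hL, haL⟩ : ∃ L : Subgroup H, IsComponent L ∧ a₀ ∉ centralizer (L : Set H) := by
      by_contra hcon
      push Not at hcon
      exact ha₀1 (eq_one_of_centralizes h2 (hA.sq a₀ ha₀) (hF a₀ ha₀) hcon)
    have hLs : ¬ Cfsg.Lie.IsoSuzuki L := fun h => haL (hsz L hL h ha₀)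
    have h3L := three_dvd_of_kZero (hkz L hL) hLs
    -- the other components are centralised
    have hoth : ∀ K : Subgroup H, IsComponent K → K ≠ L → A ≤ centralizer (K : Set H) := by
      intro K hK hKL
      by_cases hs : Cfsg.Lie.IsoSuzuki K
      · exact hsz K hK hs
      · exact absurd (component_eq hc h2 hK hL Nat.prime_three (by norm_num) (three_dvd_of_kZero (hkz K hK) hs) h3L)
          hKL
    have hLo : ∀ K : Subgroup H, IsComponent K → K ≠ L → L ≤ centralizer (K : Set H) := by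
      intro K hK hKL
      have h := component_commutator_eq_bot_of_ne hL hK hKL.symm
      rwa [Subgroup.commutator_eq_bot_iff_le_centralizer] at h
    have hLF : ∀ g ∈ L, ∀ x ∈ fittingSubgroup H, g * x = x * g := by
      intro g hg x hx
      have h := layer_le_centralizer_fitting (component_le_layer hL hg)
      exact ((mem_centralizer_iff.mp h) x hx).symm
    refine ⟨L, component_normal hc hL, simple_component hc h2 hL, hkz L hL, hLs, hA, hA1, ?_, ?_, ?_⟩
    · intro a ha hal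
      refine eq_one_of_centralizes h2 (hA.sq a ha) (hF a ha) ?_
      intro K hK
      by_cases hKL : K = L
      · subst hKL
        rw [mem_centralizer_iff]
        intro k hk'
        exact (hal k hk').symm
      · exact hoth K hK hKL ha
    · intro a ha g hg hag
      have hcL : g⁻¹ * a ∈ centralizer (L : Set H) := by
        rw [mem_centralizer_iff]
        intro k hk'
        have h1 := hag k hk'
        have h3 : a * k = g * k * g⁻¹ * a := by rw [← h1]; group
        calc k * (g⁻¹ * a) = g⁻¹ * (g * k * g⁻¹ * a) := by group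
          _ = g⁻¹ * (a * k) := by rw [h3]
          _ = _ := by group
      have h1 : g⁻¹ * a = 1 := by
        refine eq_one_of_centralizes h2 ?_ ?_ ?_
        · refine (FFInner.sq_eq (inter_centralizer hc h2 hL) hA.sq hg hcL ?_).2
          rw [mul_inv_cancel_left]; exact ha
        · intro x hx
          rw [mul_assoc, hF a ha x hx, ← mul_assoc, hLF g⁻¹ (inv_mem hg) x hx, mul_assoc]
        · intro K hK
          by_cases hKL : K = L
          · subst hKL; exact hcL
          · exact mul_mem (hLo K hK hKL (inv_mem hg)) (hoth K hK hKL ha)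
      rw [inv_mul_eq_one] at h1
      rwa [← h1]
    · intro y _ hy1
      exact hne y hy1

end Cfsg.Agent.OddCyclic.FFStruct
end
end

-- part: OddCyclic/FFMain
section
set_option linter.all false
open scoped Cfsg.Agent.FastGrp

-- part: OddCyclic/FFOuterFive
section
/-!
# Best offenders on `SL₂(q)` extended by an outer automorphism: the form `OutFive` of the conclusion
-/

set_option autoImplicit false
set_option linter.unusedSectionVars false

namespace Cfsg.Agent.OddCyclic.FFOuter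

open Cfsg.Agent.OddCyclic.T1Module Cfsg.Agent.OddCyclic.FFBasic Cfsg.Agent.OddCyclic.FFRed

variable {H : Type*} [Group H] [Finite H] {V : Type*} [CommGroup V] [Finite V] {ρ : H →* MulAut V}
  {L A : Subgroup H} [hL : L.Normal] {F : Type*} [Field F] [Fintype F] [CharP F 2]

/-- **a best offender `A ≰ L ≅ SL₂(q)`** -/
theorem outFive (h4 : 4 ≤ Fintype.card F) (e : Matrix.SpecialLinearGroup (Fin 2) F ≃* L) (h : Fr ρ L A)
    (hV : ∀ v : V, v * v = 1) (hAL : ¬ A ≤ L) : RedFFDefs.OutFive ρ A := by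
  obtain ⟨φ, hm, -, -⟩ := exists_mod5 h4 e h hV hAL
  have hAX : A ≤ L ⊔ A := le_sup_right
  refine ⟨L ⊔ A, hAX, φ, ?_, ?_, ?_⟩
  · have h1 : ((alternatingGroup (Fin 5)).comap φ.toMonoidHom).map (L ⊔ A).subtype = L := by
      ext x
      constructor
      · rintro ⟨y, hy, rfl⟩
        exact (hm.alt y).2 hy
      · intro hx
        exact ⟨⟨x, le_sup_left (a := L) hx⟩, (hm.alt ⟨x, le_sup_left (a := L) hx⟩).1 hx, rfl⟩
    rw [h1]; exact hL
  · intro i j hij
    exact hm.swap i j hij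
  · obtain ⟨a₀, ha₀, ha₀L⟩ := SetLike.not_le_iff_exists.1 hAL
    have key : ∀ a ∈ A, a ∉ L → a ∈ Subgroup.closure {t : H | t ∈ A ∧ ∃ i j : Fin 5, i ≠ j ∧
        t = (φ.symm (Equiv.swap i j) : H)} := by
      intro a ha haL
      obtain ⟨i, j, hij, hφ⟩ := hm.tr ⟨a, hAX ha⟩ ha haL
      apply Subgroup.subset_closure
      refine ⟨ha, i, j, hij, ?_⟩
      rw [← hφ, φ.symm_apply_apply]
    intro a ha
    by_cases haL : a ∈ L
    · have h1 : a * a₀⁻¹ ∉ L := fun h1 => ha₀L (by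
        have := mul_mem (inv_mem h1) haL
        rwa [mul_inv_rev, inv_inv, inv_mul_cancel_right] at this)
      have h2 := mul_mem (key _ (mul_mem ha (inv_mem ha₀)) h1) (key _ ha₀ ha₀L)
      rwa [inv_mul_cancel_right] at h2
    · exact key a ha haL

end Cfsg.Agent.OddCyclic.FFOuter
end

-- part: OddCyclic/FFMain
section
/-!
# [FFC] The offender theorem for groups with cyclic odd Sylow subgroups

`main` : `H` finite, all odd Sylow subgroups cyclic, simple nonabelian subgroups in the list `KZero`, `O₂(H) = 1`, `V` a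
faithful elementary abelian 2-group, `A ≠ 1` a best offender: `Out ρ A`.
-/

set_option autoImplicit false
set_option linter.unusedSectionVars false

namespace Cfsg.Agent.OddCyclic.FFMain

open Cfsg.Agent.OddCyclic.T1Module Cfsg.Agent.OddCyclic.FFBasic Cfsg.Agent.OddCyclic.FFRed
  Cfsg.Agent.OddCyclic.FFSl2 Cfsg.Agent.OddCyclic.T1Defs Cfsg.Agent.OddCyclic.RedFFDefs Cfsg.Agent.OddCyclic.PumpMain

variable {H : Type*} [Group H] [Finite H] {V : Type*} [CommGroup V] [Finite V] {ρ : H →* MulAut V}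

theorem linear {L A : Subgroup H} [L.Normal] {F : Type} [Field F] [Fintype F] [CharP F 2] (h4 : 4 ≤ Fintype.card F)
    (e : Matrix.SpecialLinearGroup (Fin 2) F ≃* L) (h : Fr ρ L A) (hV : ∀ v : V, v * v = 1) : Out ρ A := by
  by_cases hAL : A ≤ L
  · exact Or.inr (Or.inl (FFLoc.outLin h4 e h hV hAL))
  · exact Or.inr (Or.inr (Or.inl (FFOuter.outFive h4 e h hV hAL)))

/-- the local theorems together -/
theorem loc (hc : OddCyc H) (hV : ∀ v : V, v * v = 1) {L A : Subgroup H} [L.Normal] (hs : IsSimpleGroup L)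
    (hK : KZero L) (hns : ¬ Cfsg.Lie.IsoSuzuki L) (h : Fr ρ L A) : Out ρ A := by
  rcases hK with ⟨F, _, _, hp, h5, ⟨e⟩⟩ | ⟨F, _, _, f, hf, hF, ⟨e⟩⟩ | hK | ⟨hJ, k, hk⟩
  · have hodd : Odd (Fintype.card F) := hp.odd_of_ne_two (by omega)
    by_cases h5' : Fintype.card F = 5
    · obtain ⟨K, _, _, _, hK4, ⟨e'⟩⟩ := T1Socle.exists_four h5'
      exact linear (F := K) (by rw [hK4]) (e.trans e').symm h hV
    · have h7 : 7 ≤ Fintype.card F := by
        have h6 : Fintype.card F ≠ 6 := by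
          intro h6
          rw [h6] at hp
          revert hp
          norm_num
        omega
      have R := Cfsg.Agent.GH.L2Aut.Rep.ofEquiv (Cfsg.Agent.GH.L2Aut.two_ne_zero_of_odd hodd) e
      right; right; right
      exact FFLoc.outSeven R hs h hV hc (by rw [Nat.card_eq_fintype_card]; exact hp)
        (by rw [Nat.card_eq_fintype_card]; exact h7)
  · have h4 : 4 ≤ Fintype.card F := by
      rw [hF]
      calc 4 = 2 ^ 2 := by norm_num
        _ ≤ 2 ^ f := Nat.pow_le_pow_right (by norm_num) hf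
    have hch : CharP F 2 := by
      have hch := ringChar.charP F
      have h1 : ringChar F ∣ 2 ^ f := by
        rw [← hF, ← CharP.cast_eq_zero_iff F (ringChar F), Nat.cast_card_eq_zero]
      have h2 : (ringChar F).Prime := CharP.char_is_prime F (ringChar F)
      have h3 : ringChar F = 2 := (Nat.prime_dvd_prime_iff_eq h2 Nat.prime_two).1 (h2.dvd_of_dvd_pow h1)
      rwa [h3] at hch
    obtain ⟨g⟩ := WeakTI.PslTwo.nonempty_equiv (F := F)
    exact linear h4 (g.trans e.symm) h hV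
  · exact absurd hK hns
  · exact (FFJ1.main h hV hJ hk).elim

/-- **FFC** -/
theorem main (hc : OddCyc H) (hk : ∀ J : Subgroup H, IsSimpleGroup J → (∃ x y : J, x * y ≠ y * x) → KZero J)
    (h2 : ∀ D : Subgroup H, D.Normal → IsPGroup 2 D → D = ⊥) (hV : ∀ v : V, v * v = 1) (hρ : Function.Injective ρ)
    {A : Subgroup H} (hA : BO ρ A) (hA1 : A ≠ ⊥) : Out ρ A := by
  have h2' : pCore 2 H = ⊥ := by
    rw [Cfsg.Agent.Lib.Cores.pCore_def, eq_bot_iff]
    exact sSup_le fun D hD => (h2 D hD.1 hD.2).le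
  rcases FFStruct.main hc hk h2' hV hρ hA hA1 with h | ⟨L, hLn, hs, hK, hns, h⟩
  · exact Or.inl h
  · exact loc hc hV hs hK hns h

theorem ffc (H : Type*) [Group H] [Finite H] (hc : OddCyc H)
    (hk : ∀ J : Subgroup H, IsSimpleGroup J → (∃ x y : J, x * y ≠ y * x) → KZero J) : FFC H :=
  fun _ _ _ hV _ hρ h2 _ hA hA1 => main hc hk h2 hV hρ hA hA1

end Cfsg.Agent.OddCyclic.FFMain
end
end

-- part: OddCyclic/EO/DThree
section
prune_inst 0x20102004102200000018001060001c4292000002004b0000008000000c800c4020040e2180600310001288c460340040030800000200000000000000011c0481000302028058a900200000800000000000000000000000000000000000000000000000000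
set_option linter.all false
open scoped Cfsg.Agent.FastGrp

-- part: OddCyclic/EO/DegBase5
section
/-!
# The local theorems [D3] and [D5]: common part

`H` finite, all odd Sylow subgroups cyclic, `O₂(H) = 1`.
* `eq_one_of_cent` : a 2-element centralising the Fitting subgroup and all components is trivial.
* `comm_fitting` : commutators centralise the (cyclic) Fitting subgroup.
* `no_sq` : facts on elements `t` with `t⁴ = 1` of the simple groups.
-/

set_option autoImplicit false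
set_option linter.unusedSectionVars false
set_option linter.dupNamespace false

namespace Cfsg.Agent.OddCyclic.EO.DegBase5

open Subgroup Cfsg Cfsg.Agent.OddCyclic.T1Defs Cfsg.Agent.OddCyclic.FFStruct Cfsg.Agent.OddCyclic.CompBasic
open Cfsg.Agent.OddCyclic.PumpMain (KZero)
open Cfsg.Agent.SignalizersComponents.Components
open Cfsg.Agent.SporRec.J1.Defs (Local)

variable {H : Type*} [Group H] [Finite H]

/-- a 2-element centralising `F*(H)` is trivial -/
theorem eq_one_of_cent (h2 : pCore 2 H = ⊥) {a : H} (ha : ∃ k : ℕ, a ^ 2 ^ k = 1)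
    (h1 : ∀ x ∈ fittingSubgroup H, a * x = x * a)
    (h3 : ∀ K : Subgroup H, IsComponent K → a ∈ centralizer (K : Set H)) : a = 1 := by
  have : Fact (Nat.Prime 2) := ⟨Nat.prime_two⟩
  obtain ⟨k, hk⟩ := ha
  set C := centralizer (generalizedFittingSubgroup H : Set H) with hC
  have hFn : (generalizedFittingSubgroup H).Normal := Cfsg.Agent.Lib.GenFitting.genFitting_normal
  have hCn : C.Normal := by rw [hC]; infer_instance
  have hle : C ≤ generalizedFittingSubgroup H := Cfsg.Agent.Lib.GenFitting.centralizer_genFitting_le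
  have haC : a ∈ C := by
    rw [hC, mem_centralizer_iff]
    have h4 : generalizedFittingSubgroup H ≤ centralizer ({a} : Set H) := by
      rw [Cfsg.Agent.Lib.GenFitting.genFitting_def, sup_le_iff]
      constructor
      · rw [layer_le_iff]
        intro K hK k hk
        rw [mem_centralizer_singleton_iff]
        exact (mem_centralizer_iff.mp (h3 K hK)) k hk
      · intro x hx
        rw [mem_centralizer_singleton_iff]
        exact (h1 x hx).symm
    intro x hx
    exact mem_centralizer_singleton_iff.mp (h4 hx)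
  have hab : ∀ u ∈ C, ∀ v ∈ C, u * v = v * u := by
    intro u hu v hv
    exact ((mem_centralizer_iff.mp hv) u (hle hu))
  have hnil : Group.IsNilpotent C := by
    let _ : CommGroup C := { (inferInstance : Group C) with mul_comm := fun u v => Subtype.ext (hab u u.2 v v.2) }
    infer_instance
  have haF : a ∈ fittingSubgroup H := Cfsg.Agent.Lib.Cores.le_fittingSubgroup hCn hnil haC
  have h4 : a ∈ pCore 2 H := Cfsg.Agent.Lib.GenFitting.mem_pCore_of_mem_fitting haF (k := k) hk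
  rwa [h2, Subgroup.mem_bot] at h4

theorem mulAut_comm {Q : Type*} [Group Q] [IsCyclic Q] (σ τ : MulAut Q) : σ * τ = τ * σ := by
  obtain ⟨g, hg⟩ := IsCyclic.exists_generator (α := Q)
  obtain ⟨m, hm⟩ := hg (σ g)
  obtain ⟨n, hn⟩ := hg (τ g)
  have hm' : σ g = g ^ m := hm.symm
  have hn' : τ g = g ^ n := hn.symm
  ext x
  obtain ⟨k, rfl⟩ := hg x
  have h1 : σ (τ (g ^ k)) = g ^ (m * n * k) := by
    rw [map_zpow, map_zpow, hn', map_zpow, hm', ← zpow_mul, ← zpow_mul, mul_assoc]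
  have h2 : τ (σ (g ^ k)) = g ^ (n * m * k) := by
    rw [map_zpow, map_zpow, hm', map_zpow, hn', ← zpow_mul, ← zpow_mul, mul_assoc]
  show σ (τ (g ^ k)) = τ (σ (g ^ k))
  rw [h1, h2, mul_comm m n]

/-- commutators centralise the Fitting subgroup -/
theorem comm_fitting (hc : OddCyc H) (h2 : pCore 2 H = ⊥) (g h : H) : ∀ x ∈ fittingSubgroup H,
    (g * h * g⁻¹ * h⁻¹) * x = x * (g * h * g⁻¹ * h⁻¹) := by
  intro x hx
  have hcyc := isCyclic_fitting hc h2
  have hn : (fittingSubgroup H).Normal := Cfsg.Agent.Lib.Cores.fittingSubgroup_normal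
  have h1 : (MulAut.conjNormal (g * h * g⁻¹ * h⁻¹) : MulAut (fittingSubgroup H)) = 1 := by
    rw [map_mul, map_mul, map_mul, mulAut_comm (MulAut.conjNormal g) (MulAut.conjNormal h), mul_assoc, mul_assoc,
      ← mul_assoc (MulAut.conjNormal g), ← map_mul, mul_inv_cancel, map_one, one_mul, ← map_mul, mul_inv_cancel,
      map_one]
  have h3 := congrArg (fun α : MulAut (fittingSubgroup H) => ((α ⟨x, hx⟩ : fittingSubgroup H) : H)) h1
  simp only [MulAut.conjNormal_apply, MulAut.one_apply] at h3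
  exact mul_inv_eq_iff_eq_mul.1 h3

/-! ### the action on a normal subgroup -/

section act

variable {K : Subgroup H} [K.Normal]

local notation "ψ" => (MulAut.conjNormal (H := K))

theorem mem_cent_iff {a : H} : a ∈ centralizer (K : Set H) ↔ ψ a = 1 := by
  constructor
  · intro h
    ext k
    rw [MulAut.conjNormal_apply, MulAut.one_apply, ← (mem_centralizer_iff.1 h) k k.2, mul_inv_cancel_right]
  · intro h
    rw [mem_centralizer_iff]
    intro k hk
    have h3 := congrArg (fun α : MulAut K => ((α ⟨k, hk⟩ : K) : H)) h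
    simp only [MulAut.conjNormal_apply, MulAut.one_apply] at h3
    exact (mul_inv_eq_iff_eq_mul.1 h3).symm

/-- the conjugation is faithful -/
theorem conj_injective (hK : ∀ z ∈ K, z ∈ centralizer (K : Set H) → z = 1) :
    Function.Injective (MulAut.conj : K →* MulAut K) := by
  rw [injective_iff_map_eq_one]
  intro k hk
  apply Subtype.ext
  apply hK k k.2
  rw [mem_centralizer_iff]
  intro x hx
  have h3 := congrArg (fun α : MulAut K => ((α ⟨x, hx⟩ : K) : H)) hk
  simp only [MulAut.conj_apply, MulAut.one_apply] at h3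
  have h4 : (k : H) * x * (k : H)⁻¹ = x := h3
  exact (mul_inv_eq_iff_eq_mul.1 h4).symm

theorem psi_mem {g : H} (hg : g ∈ K) : ψ g = MulAut.conj (⟨g, hg⟩ : K) := by
  ext k
  rw [MulAut.conjNormal_apply, MulAut.conj_apply]
  rfl

end act

/-! ### 2-elements of the simple groups -/

section elts

variable {K : Type*} [Group K] [Finite K]

/-- two involutions generating a dihedral group lie in a Sylow 2-subgroup -/
theorem exists_sylow {a b : K} (ha : a * a = 1) (hb : b * b = 1) (h : ∃ n : ℕ, (a * b) ^ 2 ^ n = 1) :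
    ∃ P : Sylow 2 K, a ∈ P ∧ b ∈ P := by
  have : Fact (Nat.Prime 2) := ⟨Nat.prime_two⟩
  obtain ⟨n, hn⟩ := h
  have h1 : IsPGroup 2 (zpowers (a * b)) := by
    rintro ⟨x, k, rfl⟩
    refine ⟨n, ?_⟩
    apply Subtype.ext
    show ((a * b) ^ k) ^ 2 ^ n = 1
    rw [← zpow_natCast, ← zpow_mul, mul_comm, zpow_mul, zpow_natCast, hn, one_zpow]
  have h3 : IsPGroup 2 (zpowers a) := by
    rintro ⟨x, k, rfl⟩
    refine ⟨1, ?_⟩
    apply Subtype.ext
    show (a ^ k) ^ 2 ^ 1 = 1
    rw [pow_one, ← zpow_natCast, ← zpow_mul, mul_comm, zpow_mul, zpow_natCast, pow_two, ha, one_zpow]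
  have ha' : a⁻¹ = a := inv_eq_of_mul_eq_one_left ha
  have hb' : b⁻¹ = b := inv_eq_of_mul_eq_one_left hb
  have h4 : zpowers a ≤ normalizer (zpowers (a * b) : Set K) := by
    rw [zpowers_le, mem_normalizer_iff]
    have h5 : ∀ x, x ∈ zpowers (a * b) → a * x * a⁻¹ ∈ zpowers (a * b) := by
      rintro _ ⟨k, rfl⟩
      show a * (a * b) ^ k * a⁻¹ ∈ _
      rw [← conj_zpow]
      apply zpow_mem
      have : a * (a * b) * a⁻¹ = (a * b)⁻¹ := by
        rw [mul_inv_rev, ← mul_assoc, ha, one_mul, hb', ha']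
      rw [this]
      exact inv_mem (mem_zpowers _)
    intro x
    refine ⟨h5 x, fun hx => ?_⟩
    have h6 := h5 _ hx
    have h7 : a * (a * x * a⁻¹) * a⁻¹ = x := by
      rw [ha']
      calc a * (a * x * a) * a = (a * a) * x * (a * a) := by group
        _ = x := by rw [ha]; group
    rwa [h7] at h6
  obtain ⟨P, hP⟩ := (h3.to_sup_of_normal_right' h1 h4).exists_le_sylow
  have haP : a ∈ P := hP (mem_sup_left (mem_zpowers a))
  refine ⟨P, haP, ?_⟩
  have h8 : a * b ∈ P := hP (mem_sup_right (mem_zpowers _))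
  have h9 : b = a⁻¹ * (a * b) := by group
  rw [h9]
  exact mul_mem (inv_mem haP) h8

/-- no dihedral subgroups of order 8 -/
def NoD8 (K : Type*) [Group K] : Prop :=
  ∀ a b d : K, a * a = 1 → b * b = 1 → d * d = 1 → d * a = a * d → d * b = b * d → b * a = d * (a * b) → d = 1

theorem NoD8.congr {K L : Type*} [Group K] [Group L] (h : NoD8 K) (e : K ≃* L) : NoD8 L := by
  intro a b d h1 h2 h3 h4 h5 h6
  have h7 := h (e.symm a) (e.symm b) (e.symm d) (by rw [← map_mul, h1, map_one]) (by rw [← map_mul, h2, map_one])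
    (by rw [← map_mul, h3, map_one]) (by rw [← map_mul, h4, map_mul]) (by rw [← map_mul, h5, map_mul])
    (by rw [← map_mul, h6, map_mul, map_mul])
  have h8 := congrArg e h7
  rwa [e.apply_symm_apply, map_one] at h8

theorem sq_of_rel {K : Type*} [Group K] {a b d : K} (ha : a * a = 1) (hb : b * b = 1) (hda : d * a = a * d)
    (h : b * a = d * (a * b)) : (a * b) * (a * b) = d := by
  calc (a * b) * (a * b) = a * (b * a) * b := by group
    _ = (a * d) * (a * b) * b := by rw [h]; group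
    _ = (d * a) * (a * b) * b := by rw [hda]
    _ = d * (a * a) * (b * b) := by group
    _ = d := by rw [ha, hb]; group

theorem noD8_sz (hs : Cfsg.Lie.IsoSuzuki K) : NoD8 K := by
  intro a b d ha hb hd hda hdb h
  have h1 := sq_of_rel ha hb hda h
  obtain ⟨P, haP, hbP⟩ := exists_sylow ha hb ⟨2, by
    show (a * b) ^ 4 = 1
    have : (a * b) ^ 4 = ((a * b) * (a * b)) * ((a * b) * (a * b)) := by
      rw [← pow_two, ← pow_two, ← pow_mul]
    rw [this, h1, hd]⟩
  have h3 := ((T1SzFacts.szMore hs P).sq_iff a haP).1 ha b hbP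
  rw [← h3] at h
  exact (mul_eq_right.1 h.symm)

theorem noD8_j (hJ : Local K) : NoD8 K := by
  intro a b d ha hb hd hda hdb h
  by_contra hd1
  have h1 := sq_of_rel ha hb hda h
  obtain ⟨e⟩ := hJ.cent d (JInner.two_of_sq hd hd1)
  set t : centralizer ({d} : Set K) := ⟨a * b, mem_centralizer_singleton_iff.2 (by
    rw [mul_assoc, ← hdb, ← mul_assoc, ← hda, mul_assoc])⟩ with ht
  set z : centralizer ({d} : Set K) := ⟨d, mem_centralizer_singleton_iff.2 rfl⟩ with hz
  have h3 : t * t = z := Subtype.ext h1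
  have h4 : ∀ x, z * x = x * z := fun x => Subtype.ext (mem_centralizer_singleton_iff.1 x.2).symm
  have h5 : (e z).2 = 1 := by
    have : ∀ τ : alternatingGroup (Fin 5), (∀ x : alternatingGroup (Fin 5), τ * x = x * τ) → τ = 1 := by (set_option synthInstance.maxSize 9000 in open scoped Cfsg.Agent.Lib.FastPerm in decide +kernel)
    apply this
    intro x
    have h6 := congrArg e (h4 (e.symm (1, x)))
    rw [map_mul, map_mul, e.apply_symm_apply] at h6
    exact congrArg Prod.snd h6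
  have h6 : (e z).1 = 1 := by
    rw [← h3, map_mul, Prod.fst_mul]
    have : ∀ x : Multiplicative (ZMod 2), x * x = 1 := by decide
    exact this _
  have h7 : e z = 1 := Prod.ext h6 h5
  have h8 : z = 1 := e.injective (by rw [h7, map_one])
  exact hd1 (congrArg Subtype.val h8)

end elts

section sl

open Cfsg.Agent.OddCyclic.T1Sl2

variable {F : Type*} [Field F] [Fintype F] [CharP F 2]

theorem comm_of_mem {P : Sylow 2 (Matrix.SpecialLinearGroup (Fin 2) F)} {a b : Matrix.SpecialLinearGroup (Fin 2) F}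
    (ha : a ∈ P) (hb : b ∈ P) : a * b = b * a := by
  have : Fact (Nat.Prime 2) := ⟨Nat.prime_two⟩
  obtain ⟨g, rfl⟩ := MulAction.exists_smul_eq (Matrix.SpecialLinearGroup (Fin 2) F) (T1Sl2.SU F) P
  rw [mem_smul] at ha hb
  have ha' := eq_up (show g⁻¹ * a * g ∈ UI F from ha)
  have hb' := eq_up (show g⁻¹ * b * g ∈ UI F from hb)
  have h1 : (g⁻¹ * a * g) * (g⁻¹ * b * g) = (g⁻¹ * b * g) * (g⁻¹ * a * g) := by
    rw [ha', hb', up_mul, up_mul, add_comm]
  have h3 : a * b = g * ((g⁻¹ * a * g) * (g⁻¹ * b * g)) * g⁻¹ := by group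
  rw [h3, h1]; group

theorem noD8_sl : NoD8 (Matrix.SpecialLinearGroup (Fin 2) F) := by
  intro a b d ha hb hd hda hdb h
  have h1 := sq_of_rel ha hb hda h
  obtain ⟨P, haP, hbP⟩ := exists_sylow ha hb ⟨2, by
    show (a * b) ^ 4 = 1
    have : (a * b) ^ 4 = ((a * b) * (a * b)) * ((a * b) * (a * b)) := by
      rw [← pow_two, ← pow_two, ← pow_mul]
    rw [this, h1, hd]⟩
  rw [comm_of_mem haP hbP] at h
  exact (mul_eq_right.1 h.symm)

end sl

end Cfsg.Agent.OddCyclic.EO.DegBase5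
end

-- part: OddCyclic/EO/DThree
section
/-!
# [D3]: the `S₄`-configuration lives in a component `L₂(p)`

`dThree : DegH.DThree H` for finite `H` with cyclic odd Sylow subgroups, `O₂(H) = 1` and simple nonabelian subgroups
in `KZero` (lemma (N°) of helper220).
-/

set_option autoImplicit false
set_option linter.unusedSectionVars false
set_option linter.dupNamespace false

namespace Cfsg.Agent.OddCyclic.EO.DThree

open Subgroup Cfsg Cfsg.Agent.OddCyclic.T1Defs Cfsg.Agent.OddCyclic.FFStruct Cfsg.Agent.OddCyclic.CompBasic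
  Cfsg.Agent.OddCyclic.EO.DegBase5
open Cfsg.Agent.OddCyclic.PumpMain (KZero)
open Cfsg.Agent.SignalizersComponents.Components
open Cfsg.Agent.SporRec.J1.Defs (Local)
open Cfsg.Agent.GH.L2Aut (Four)

/-- a four-group `{1, u, u^c, u^{c²}}` -/
structure Tri {H : Type*} [Group H] (c u : H) : Prop where
  uu : u * u = 1
  nc : u * (c * u * c⁻¹) * (c * (c * u * c⁻¹) * c⁻¹) = 1

section tri

variable {H : Type*} [Group H] {c u : H}

theorem Tri.map {M : Type*} [Group M] (h : Tri c u) (f : H →* M) : Tri (f c) (f u) := by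
  refine ⟨by rw [← map_mul, h.uu, map_one], ?_⟩
  have := congrArg f h.nc
  simpa only [map_mul, map_inv, map_one] using this

theorem Tri.inv (h : Tri c u) : u⁻¹ = u := inv_eq_of_mul_eq_one_left h.uu

theorem Tri.sq1 (h : Tri c u) : (c * u * c⁻¹) * (c * u * c⁻¹) = 1 := by
  calc (c * u * c⁻¹) * (c * u * c⁻¹) = c * (u * u) * c⁻¹ := by group
    _ = 1 := by rw [h.uu]; group

theorem Tri.sq2 (h : Tri c u) : (c * (c * u * c⁻¹) * c⁻¹) * (c * (c * u * c⁻¹) * c⁻¹) = 1 := by
  calc (c * (c * u * c⁻¹) * c⁻¹) * (c * (c * u * c⁻¹) * c⁻¹) = c * ((c * u * c⁻¹) * (c * u * c⁻¹)) * c⁻¹ := by group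
    _ = 1 := by rw [h.sq1]; group

/-- `u^{c²} = u u^c` -/
theorem Tri.third (h : Tri c u) : c * (c * u * c⁻¹) * c⁻¹ = u * (c * u * c⁻¹) := by
  have h1 : c * (c * u * c⁻¹) * c⁻¹ = (u * (c * u * c⁻¹))⁻¹ := (inv_eq_of_mul_eq_one_right h.nc).symm
  have h3 : (c * (c * u * c⁻¹) * c⁻¹)⁻¹ = c * (c * u * c⁻¹) * c⁻¹ := inv_eq_of_mul_eq_one_left h.sq2
  rw [← h3, h1, inv_inv]

theorem Tri.comm (h : Tri c u) : u * (c * u * c⁻¹) = (c * u * c⁻¹) * u := by
  have h1 : (u * (c * u * c⁻¹)) * (u * (c * u * c⁻¹)) = 1 := by rw [← h.third]; exact h.sq2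
  have h3 : (c * u * c⁻¹)⁻¹ = c * u * c⁻¹ := inv_eq_of_mul_eq_one_left h.sq1
  calc u * (c * u * c⁻¹) = (u * (c * u * c⁻¹))⁻¹ := (inv_eq_of_mul_eq_one_left h1).symm
    _ = (c * u * c⁻¹)⁻¹ * u⁻¹ := by rw [mul_inv_rev]
    _ = _ := by rw [h3, h.inv]

/-- `u` is a commutator -/
theorem Tri.eq_comm (h : Tri c u) : u = (c * u * c⁻¹) * c * (c * u * c⁻¹)⁻¹ * c⁻¹ := by
  have h3 : (c * u * c⁻¹)⁻¹ = c * u * c⁻¹ := inv_eq_of_mul_eq_one_left h.sq1
  have h4 : (c * u * c⁻¹) * c * (c * u * c⁻¹)⁻¹ * c⁻¹ = (c * u * c⁻¹) * (c * (c * u * c⁻¹) * c⁻¹) := by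
    rw [h3]; group
  rw [h4, h.third, h.comm, ← mul_assoc, h.sq1, one_mul]

/-- in a commutative group the configuration is trivial -/
theorem Tri.eq_one_of_comm (h : Tri c u) (hc : ∀ a b : H, a * b = b * a) : u = 1 := by
  have h1 := h.nc
  rw [hc c u, mul_inv_cancel_right, hc c u, mul_inv_cancel_right, h.uu, one_mul] at h1
  exact h1

end tri

variable {H : Type*} [Group H] [Finite H] {K : Subgroup H} [K.Normal]

local notation "ψ" => (MulAut.conjNormal (H := K))

theorem rel_u {a b u : H} (ha : a * a = 1) (hb : b * b = 1) (h : b * a = u * (a * b)) : u = b * a * b * a := by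
  have : b * a * b * a = u * (a * a) * (b * b) * 1 → u = b * a * b * a := by
    intro h1; rw [h1, ha, hb]; group
  calc u = u * (a * (b * b) * a) := by rw [hb, mul_one, ha, mul_one]
    _ = (u * (a * b)) * (b * a) := by group
    _ = (b * a) * (b * a) := by rw [← h]
    _ = _ := by group

/-- the case without dihedral subgroups -/
theorem triv_of_noD8 (hK : ∀ z ∈ K, z ∈ centralizer (K : Set H) → z = 1) (hn : NoD8 K) {u a b : H}
    (hu : u * u = 1) (ha : a * a = 1) (hb : b * b = 1) (hua : u * a = a * u) (hub : u * b = b * u)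
    (hab : b * a = u * (a * b)) (h1 : ∃ g : K, ψ a = MulAut.conj g) (h2 : ∃ g : K, ψ b = MulAut.conj g) :
    ψ u = 1 := by
  obtain ⟨g, hg⟩ := h1
  obtain ⟨g', hg'⟩ := h2
  have hinj := conj_injective hK
  have hd : ψ u = MulAut.conj (g' * g * g' * g) := by
    rw [rel_u ha hb hab]
    simp only [map_mul]
    rw [hg, hg']
  have h3 : g' * g * g' * g = 1 := by
    refine hn g g' _ (hinj ?_) (hinj ?_) (hinj ?_) (hinj ?_) (hinj ?_) (hinj ?_)
    · rw [map_mul, ← hg, ← map_mul, ha, map_one, map_one]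
    · rw [map_mul, ← hg', ← map_mul, hb, map_one, map_one]
    · rw [map_mul, ← hd, ← map_mul, hu, map_one, map_one]
    · rw [map_mul, map_mul _ g, ← hd, ← hg, ← map_mul, hua, map_mul]
    · rw [map_mul, map_mul _ g', ← hd, ← hg', ← map_mul, hub, map_mul]
    · rw [map_mul, map_mul _ (g' * g * g' * g), map_mul _ g g', ← hd, ← hg, ← hg', ← map_mul, hab, map_mul,
        map_mul]
  rw [hd, h3, map_one]

theorem inner_sz (hs : Cfsg.Lie.IsoSuzuki K) {a : H} (ha : a * a = 1) : ∃ g : K, ψ a = MulAut.conj g := by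
  obtain ⟨F, iF, iF', m, hm, hF, ⟨R⟩⟩ := Cfsg.Agent.ThreePrime.SzRel.exists_rel hs
  exact R.inner hm hF (MulAut.conjNormal a) ⟨1, by rw [pow_one, pow_two, ← map_mul, ha, map_one]⟩

theorem inner_j (hJ : Local K) {k : K} (hk : orderOf k = 2) (a : H) : ∃ g : K, ψ a = MulAut.conj g := by
  obtain ⟨g, hg⟩ := JInner.inner hJ k hk (MulAut.conjNormal a : MulAut K)
  exact ⟨g, MulEquiv.ext fun x => by rw [hg x, MulAut.conj_apply]⟩

section sl

variable {F : Type*} [Field F] [Fintype F] [CharP F 2]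

theorem psi_of_ac (e : Matrix.SpecialLinearGroup (Fin 2) F ≃* K) {a : H} {s : Matrix.SpecialLinearGroup (Fin 2) F}
    (h : FFOuter.ac e a = MulAut.conj s) : ψ a = MulAut.conj (e s) := by
  ext k
  obtain ⟨t, rfl⟩ := e.surjective k
  rw [MulAut.conjNormal_apply, ← FFOuter.e_ac e a t, h, MulAut.conj_apply, MulAut.conj_apply, map_mul, map_mul,
    map_inv]

open Cfsg.Agent.Classification.QDW.TypeHom in
theorem inner_sl (e : Matrix.SpecialLinearGroup (Fin 2) F ≃* K) {c u : H} (h : Tri c u) :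
    ∃ g : K, ψ (c * u * c⁻¹) = MulAut.conj g := by
  have hcomm : ∀ σ τ : F ≃+* F, σ * τ = τ * σ := Cfsg.Agent.Lib.AutSL2Out.ringEquiv_comm
  have h1 : typ (FFOuter.ac e (c * u * c⁻¹)) = 1 := by
    have h3 := (h.map (typ.comp (FFOuter.ac e))).eq_one_of_comm hcomm
    have h4 : typ (FFOuter.ac e u) = 1 := h3
    rw [map_mul, map_mul, map_mul, map_mul, h4, mul_one, map_inv, map_inv, mul_inv_cancel]
  obtain ⟨s, hs⟩ := (L2Model.inner_iff _).1 h1
  exact ⟨e s, psi_of_ac e hs⟩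

end sl

section psl

variable {F : Type*} [Field F] [Finite F] (R : Cfsg.Agent.GH.L2Aut.Rep F K)

include R in
/-- elements centralising the `A₄` are trivial on `L₂(p)` -/
theorem fix_one (hF : (Nat.card F).Prime) {c u x : H} (h : Tri c u) (hxu : x * u = u * x) (hxc : x * c = c * x)
    (hu : ψ u ≠ 1) : ψ x = 1 := by
  have hinj := R.conj_injective
  -- `u` is inner
  obtain ⟨a, ha⟩ : ∃ a : K, MulAut.conj a = ψ u := by
    obtain ⟨γ, hγ⟩ := R.mem_PGL.1 (PGLTorus.mem_PGL_of_prime R hF (ψ (c * u * c⁻¹)))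
    obtain ⟨κ, hκ⟩ := R.mem_PGL.1 (PGLTorus.mem_PGL_of_prime R hF (ψ c))
    have h1 : ψ u = R.gl (γ * κ * γ⁻¹ * κ⁻¹) := by
      rw [h.eq_comm]
      simp only [map_mul, map_inv] at hγ ⊢
      rw [← hγ, ← hκ]
    rw [h1]
    apply R.gl_mem_inn.2
    refine ⟨1, ?_⟩
    have h3 : (γ * κ * γ⁻¹ * κ⁻¹).1.det = (Matrix.GeneralLinearGroup.det (γ * κ * γ⁻¹ * κ⁻¹) : F) := rfl
    rw [h3, map_mul, map_mul, map_mul, map_inv, map_inv, mul_comm (Matrix.GeneralLinearGroup.det γ),
      mul_inv_cancel_right, mul_inv_cancel, Units.val_one, mul_one]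
  set b : K := ψ c a with hb
  have hconj : ∀ (α : MulAut K) (k : K), MulAut.conj (α k) = α * MulAut.conj k * α⁻¹ := by
    intro α k
    ext y
    simp only [MulAut.conj_apply, MulAut.mul_apply, map_mul, map_inv, MulAut.apply_inv_self]
  have hbψ : MulAut.conj b = ψ (c * u * c⁻¹) := by
    rw [hb, hconj, ha, ← map_inv, ← map_mul, ← map_mul]
  have hc2 : MulAut.conj (ψ c b) = ψ (c * (c * u * c⁻¹) * c⁻¹) := by
    rw [hconj, hbψ, ← map_inv, ← map_mul, ← map_mul]
  have haa : a * a = 1 := hinj (by rw [map_mul, ha, ← map_mul, h.uu, map_one, map_one])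
  have hbb : b * b = 1 := hinj (by rw [map_mul, hbψ, ← map_mul, h.sq1, map_one, map_one])
  have hab : a * b = b * a := hinj (by rw [map_mul, map_mul, ha, hbψ, ← map_mul, h.comm, map_mul])
  have hcb : ψ c b = a * b := hinj (by rw [hc2, h.third, map_mul, map_mul _ a, ha, hbψ])
  have ha1 : a ≠ 1 := by
    intro h1
    rw [h1, map_one] at ha
    exact hu ha.symm
  have hb1 : b ≠ 1 := by
    intro h1
    apply ha1
    apply (ψ c).injective
    rw [map_one, ← hb, h1]
  have hne : a ≠ b := by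
    intro h1
    apply hb1
    apply (ψ c).injective
    rw [map_one, hcb, ← h1, haa]
  have hFour : Four a b := ⟨haa, hbb, ha1, hb1, hne, hab⟩
  have hxa : ψ x a = a := by
    apply hinj
    rw [hconj, ha, ← map_inv, ← map_mul, ← map_mul, hxu, mul_inv_cancel_right]
  have hxψ : ψ x * ψ c = ψ c * ψ x := by rw [← map_mul, hxc, map_mul]
  have hxb : ψ x b = b := by
    rw [hb, ← MulAut.mul_apply, hxψ, MulAut.mul_apply, hxa]
  have hcc : ∀ k : K, ψ x = MulAut.conj k → ψ c k = k := by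
    intro k hk
    apply hinj
    rw [hconj, ← hk, ← hxψ, mul_inv_cancel_right]
  rcases R.fix_four hFour (PGLTorus.mem_PGL_of_prime R hF (ψ x)) hxa hxb with h1 | h1 | h1 | h1
  · exact h1
  · exact absurd (hcc a h1).symm (by rw [← hb]; exact hne)
  · exfalso
    have h3 := hcc b h1
    rw [hcb] at h3
    exact ha1 (mul_eq_right.1 h3)
  · exfalso
    have h3 := hcc _ h1
    rw [map_mul, ← hb, hcb, ← mul_assoc, ← hab, mul_assoc, hbb, mul_one] at h3
    exact hb1 (left_eq_mul.1 h3)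

end psl

/-- the common hypotheses for one component -/
theorem triv (hK : ∀ z ∈ K, z ∈ centralizer (K : Set H) → z = 1) (hk : KZero K) {c c' u x x' : H}
    (h : Tri c u) (h' : Tri c' u) (comm : (c' * u * c'⁻¹) * (c * u * c⁻¹) = u * ((c * u * c⁻¹) * (c' * u * c'⁻¹)))
    (hxu : x * u = u * x) (hxc : x * c = c * x) (hxu' : x' * u = u * x') (hxc' : x' * c' = c' * x')
    (hu : u = x * x') : ψ u = 1 := by
  have key : NoD8 K → (∃ g : K, ψ (c * u * c⁻¹) = MulAut.conj g) → (∃ g : K, ψ (c' * u * c'⁻¹) = MulAut.conj g) →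
      ψ u = 1 := fun hn h1 h2 =>
    triv_of_noD8 hK hn h.uu h.sq1 h'.sq1 h.comm h'.comm comm h1 h2
  rcases hk with ⟨F, _, _, hp, h5, ⟨e⟩⟩ | ⟨F, _, _, f, hf, hF, ⟨e⟩⟩ | hs | ⟨hJ, k, hk⟩
  · have hodd : Odd (Fintype.card F) := hp.odd_of_ne_two (by omega)
    have R := Cfsg.Agent.GH.L2Aut.Rep.ofEquiv (Cfsg.Agent.GH.L2Aut.two_ne_zero_of_odd hodd) e
    have hp' : (Nat.card F).Prime := by rw [Nat.card_eq_fintype_card]; exact hp
    by_contra hcon
    have h1 := fix_one R hp' h hxu hxc hcon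
    have h2 := fix_one R hp' h' hxu' hxc' hcon
    apply hcon
    rw [hu, map_mul, h1, h2, mul_one]
  · have hch : CharP F 2 := by
      have hch := ringChar.charP F
      have h1 : ringChar F ∣ 2 ^ f := by
        rw [← hF, ← CharP.cast_eq_zero_iff F (ringChar F), Nat.cast_card_eq_zero]
      have h2 : (ringChar F).Prime := CharP.char_is_prime F (ringChar F)
      have h3 : ringChar F = 2 := (Nat.prime_dvd_prime_iff_eq h2 Nat.prime_two).1 (h2.dvd_of_dvd_pow h1)
      rwa [h3] at hch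
    obtain ⟨g⟩ := WeakTI.PslTwo.nonempty_equiv (F := F)
    have e' : Matrix.SpecialLinearGroup (Fin 2) F ≃* K := (e.trans g.symm).symm
    exact key (noD8_sl.congr e') (inner_sl e' h) (inner_sl e' h')
  · exact key (noD8_sz hs) (inner_sz hs h.sq1) (inner_sz hs h'.sq1)
  · exact key (noD8_j hJ) (inner_j hJ hk _) (inner_j hJ hk _)

/-- **[D3]** -/
theorem dThree {H : Type*} [Group H] [Finite H] (hc : OddCyc H)
    (hk : ∀ J : Subgroup H, IsSimpleGroup J → (∃ x y : J, x * y ≠ y * x) → KZero J) (h2 : pCore 2 H = ⊥) :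
    DegH.DThree H := by
  intro c c' u x x' huu hu1 _ _ hnc hnc' _ _ hcomm hxu hxc hxu' hxc' hu
  have h : Tri c u := ⟨huu, hnc⟩
  have h' : Tri c' u := ⟨huu, hnc'⟩
  apply hu1
  refine eq_one_of_cent h2 ⟨1, by rw [pow_one, pow_two]; exact huu⟩ ?_ ?_
  · intro y hy
    have h1 := comm_fitting hc h2 (c * u * c⁻¹) c y hy
    rwa [← h.eq_comm] at h1
  · intro K hK
    have hKn := component_normal hc hK
    have hks : KZero K := by
      refine hk K (simple_component hc h2 hK) ?_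
      by_contra hcon
      push Not at hcon
      exact quasisimple_not_isMulCommutative hK.2 ⟨⟨hcon⟩⟩
    rw [mem_cent_iff]
    exact triv (inter_centralizer hc h2 hK) hks h h' hcomm hxu hxc hxu' hxc' hu

end Cfsg.Agent.OddCyclic.EO.DThree
end
end

-- part: OddCyclic/T1Torus
section
prune_inst 0x40000220002200000000001000002200000000000000000001a005020000400000020000080004001002800000000020021800000000000000000000000004010020020010400000000000800000080c00000000000000000000000000000000000000000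
set_option linter.all false
open scoped Cfsg.Agent.FastGrp

-- part: OddCyclic/T1Local
section
/-!
# S0342, case T0 = 1, piece C: `LType` in an ambient group, `V = omegaZ Q`
-/

set_option autoImplicit false
set_option linter.unusedSectionVars false

namespace Cfsg.Agent.OddCyclic.T1Local

open Cfsg.Agent.LieExceptional.CITDefs Cfsg.Agent.OddCyclic.T1Defs
open Cfsg.Agent.LieExceptional
open scoped Pointwise

universe u

variable {G : Type u} [Group G] [Finite G] {P Q T : Subgroup G} {q : ℕ}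

/-- `SL₂(F)` -/
abbrev SL (F : Type*) [Field F] := Matrix.SpecialLinearGroup (Fin 2) F

/-- unpacked `LType` -/
structure Dat (P Q T : Subgroup G) (q : ℕ) (F : Type) [Field F] [Fintype F] where
  h : LType P Q T q
  φ : P →* SL F
  surj : Function.Surjective φ
  ker : ∀ x : P, φ x = 1 ↔ (x : G) ∈ Q
  card : Fintype.card F = q
  U : Sylow 2 (SL F)
  memU : ∀ x : P, φ x ∈ (U : Subgroup (SL F)) ↔ (x : G) ∈ T

theorem Q_le_T (h : LType P Q T q) : Q ≤ T := CITCommute.o2_le_syl h.o2 h.syl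

theorem exists_dat (h : LType P Q T q) :
    ∃ (F : Type) (_ : Field F) (_ : Fintype F) (_ : CharP F 2), Nonempty (Dat P Q T q F) := by
  have _ : Fact (Nat.Prime 2) := ⟨Nat.prime_two⟩
  obtain ⟨F, hF1, hF2, hF3, φ, hφ, hker, hq⟩ := h.iso
  have hk : ∀ x : P, φ x = 1 ↔ (x : G) ∈ Q := by
    intro x
    rw [← MonoidHom.mem_ker, hker, Subgroup.mem_subgroupOf]
  refine ⟨F, hF1, hF2, hF3, ⟨h, φ, hφ, hk, hq, (CITBasic.IsSyl2.toSylow h.syl).mapSurjective hφ, ?_⟩⟩
  intro x
  have h1 : (((CITBasic.IsSyl2.toSylow h.syl).mapSurjective hφ : Sylow 2 (SL F)) : Subgroup (SL F)) =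
      (T.subgroupOf P).map φ := Sylow.coe_mapSurjective hφ _
  rw [h1, Subgroup.mem_map]
  constructor
  · rintro ⟨t, ht, htx⟩
    have h2 : φ (t⁻¹ * x) = 1 := by rw [map_mul, map_inv, htx, inv_mul_cancel]
    have h3 := Q_le_T h ((hk _).1 h2)
    have h4 : (x : G) = (t : G) * ((t⁻¹ * x : P) : G) := by
      rw [← Subgroup.coe_mul, mul_inv_cancel_left]
    rw [h4]
    exact T.mul_mem (Subgroup.mem_subgroupOf.1 ht) h3
  · intro hx
    exact ⟨x, Subgroup.mem_subgroupOf.2 hx, rfl⟩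

theorem pow (h : LType P Q T q) : ∃ n, 1 ≤ n ∧ q = 2 ^ n := by
  obtain ⟨F, _, _, _, ⟨D⟩⟩ := exists_dat h
  obtain ⟨n, -, hn⟩ := FiniteField.card F 2
  exact ⟨n, n.2, by rw [← D.card, hn]⟩

theorem two_le (h : LType P Q T q) : 2 ≤ q := by
  obtain ⟨n, hn, rfl⟩ := pow h
  calc 2 = 2 ^ 1 := rfl
    _ ≤ 2 ^ n := Nat.pow_le_pow_right (by norm_num) hn

section Dat

variable {F : Type} [Field F] [Fintype F]

namespace Dat

theorem Q_le_P (D : Dat P Q T q F) : Q ≤ P := D.h.o2.le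

theorem T_le_P (D : Dat P Q T q F) : T ≤ P := D.h.syl.le

theorem phi_eq_one (D : Dat P Q T q F) {x : G} (hx : x ∈ Q) : D.φ ⟨x, D.Q_le_P hx⟩ = 1 :=
  (D.ker _).2 hx

/-- the elements of `P` mapping to `S ≤ SL₂(F)` form a group of order `|S| |Q|` -/
theorem card_of_mem (D : Dat P Q T q F) (H : Subgroup G) (hH : H ≤ P) (S : Subgroup (SL F))
    (hS : ∀ x : P, D.φ x ∈ S ↔ (x : G) ∈ H) : Nat.card H = Nat.card S * Nat.card Q := by
  have hQH : Q ≤ H := fun x hx => (hS ⟨x, D.Q_le_P hx⟩).1 (by rw [D.phi_eq_one hx]; exact S.one_mem)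
  let ψ : H →* SL F := D.φ.comp (Subgroup.inclusion hH)
  have h1 : ψ.range = S := by
    ext s
    constructor
    · rintro ⟨x, rfl⟩
      exact (hS _).2 x.2
    · intro hs
      obtain ⟨x, rfl⟩ := D.surj s
      exact ⟨⟨x, (hS x).1 hs⟩, rfl⟩
  have h2 : ψ.ker = Q.subgroupOf H := by
    ext x
    rw [MonoidHom.mem_ker, Subgroup.mem_subgroupOf]
    exact D.ker (Subgroup.inclusion hH x)
  have h3 := Subgroup.card_mul_index ψ.ker
  rw [Subgroup.index_ker, h1, h2, CITFFLocal.card_subgroupOf hQH] at h3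
  rw [← h3, mul_comm]

end Dat

end Dat

theorem card_P (h : LType P Q T q) : Nat.card P = (q + 1) * q * (q - 1) * Nat.card Q := by
  obtain ⟨F, _, _, _, ⟨D⟩⟩ := exists_dat h
  rw [D.card_of_mem P le_rfl ⊤ (fun x => ⟨fun _ => x.2, fun _ => Subgroup.mem_top _⟩),
    Subgroup.card_top, T1Sl2.card_sl2, D.card]

theorem card_T (h : LType P Q T q) : Nat.card T = q * Nat.card Q := by
  obtain ⟨F, _, _, _, ⟨D⟩⟩ := exists_dat h
  rw [D.card_of_mem T D.T_le_P D.U D.memU]
  congr 1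
  exact (T1Sl2.card_sylow D.U).trans D.card

theorem sq_mem (h : LType P Q T q) : ∀ t ∈ T, t * t ∈ Q := by
  intro t ht
  obtain ⟨F, _, _, _, ⟨D⟩⟩ := exists_dat h
  have h1 := T1Sl2.sylow_elem D.U _ ((D.memU ⟨t, D.T_le_P ht⟩).2 ht)
  rw [← map_mul, D.ker] at h1
  exact h1

theorem comm_eq_one {K : Type*} [Group K] {a b : K} (ha : a * a = 1) (hb : b * b = 1)
    (hab : a * b * (a * b) = 1) : a * b * a⁻¹ * b⁻¹ = 1 := by
  have ha' : a⁻¹ = a := inv_eq_of_mul_eq_one_left ha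
  have hb' : b⁻¹ = b := inv_eq_of_mul_eq_one_left hb
  rw [ha', hb', mul_assoc (a * b)]
  exact hab

theorem comm_mem (h : LType P Q T q) : ∀ s ∈ T, ∀ t ∈ T, s * t * s⁻¹ * t⁻¹ ∈ Q := by
  intro s hs t ht
  obtain ⟨F, _, _, _, ⟨D⟩⟩ := exists_dat h
  have h1 := T1Sl2.sylow_elem D.U _ ((D.memU ⟨s, D.T_le_P hs⟩).2 hs)
  have h2 := T1Sl2.sylow_elem D.U _ ((D.memU ⟨t, D.T_le_P ht⟩).2 ht)
  have h3 := T1Sl2.sylow_elem D.U _ (mul_mem ((D.memU ⟨s, D.T_le_P hs⟩).2 hs) ((D.memU ⟨t, D.T_le_P ht⟩).2 ht))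
  have h4 := comm_eq_one h1 h2 h3
  rw [← map_inv, ← map_inv, ← map_mul, ← map_mul, ← map_mul, D.ker] at h4
  exact h4

theorem mem_smul_sylow {K : Type*} [Group K] (U : Sylow 2 K) (g x : K) :
    x ∈ ((g • U : Sylow 2 K) : Subgroup K) ↔ g⁻¹ * x * g ∈ (U : Subgroup K) := by
  rw [Sylow.coe_subgroup_smul, Subgroup.mem_pointwise_smul_iff_inv_smul_mem, MulAut.smul_def, ← map_inv,
    MulAut.conj_apply, inv_inv]

theorem smul_eq_iff {K : Type*} [Group K] [Finite K] (U : Sylow 2 K) (g : K) :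
    g • U = U ↔ ∀ a ∈ (U : Subgroup K), g * a * g⁻¹ ∈ (U : Subgroup K) := by
  constructor
  · intro h a ha
    rw [← h, mem_smul_sylow]
    have : g⁻¹ * (g * a * g⁻¹) * g = a := by group
    rwa [this]
  · intro h
    rw [Sylow.smul_eq_iff_mem_normalizer]
    exact Subgroup.mem_normalizer_fintype h

namespace Dat

variable {F : Type} [Field F] [Fintype F]

theorem smul_iff (D : Dat P Q T q F) (g : P) :
    D.φ g • D.U = D.U ↔ ∀ x ∈ T, (g : G) * x * (g : G)⁻¹ ∈ T := by
  rw [smul_eq_iff]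
  constructor
  · intro h x hx
    have h1 := h _ ((D.memU ⟨x, D.T_le_P hx⟩).2 hx)
    rw [← map_inv, ← map_mul, ← map_mul, D.memU] at h1
    exact h1
  · intro h a ha
    obtain ⟨x, rfl⟩ := D.surj a
    rw [← map_inv, ← map_mul, ← map_mul, D.memU]
    exact h x ((D.memU x).1 ha)

end Dat

/-- lift an element of odd order -/
theorem Dat.lift_odd {F : Type} [Field F] [Fintype F] (D : Dat P Q T q F) (s : SL F) (hs : Odd (orderOf s)) :
    ∃ x : P, D.φ x = s ∧ orderOf x = orderOf s := by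
  obtain ⟨y, rfl⟩ := D.surj s
  set n := orderOf (D.φ y) with hn
  have hn0 : n ≠ 0 := by
    intro h0
    rw [h0] at hs
    exact absurd hs (by decide)
  obtain ⟨a, ha⟩ := D.h.o2.two ⟨(y ^ n : P), (D.ker _).1 (by rw [map_pow, pow_orderOf_eq_one])⟩
  have ha' : (y ^ n) ^ 2 ^ a = 1 := by
    apply Subtype.ext
    have h2 := congrArg Subtype.val ha
    exact h2
  -- exponent `m ≡ 1 mod n`, `m ≡ 0 mod 2 ^ a`
  have hco : Nat.Coprime n (2 ^ a) := Nat.Coprime.pow_right a (Nat.coprime_two_right.2 hs)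
  obtain ⟨m, hm1, hm2⟩ := Nat.chineseRemainder hco 1 0
  have h1 : D.φ (y ^ m) = D.φ y := by
    rw [map_pow]
    conv_rhs => rw [← pow_one (D.φ y)]
    exact pow_eq_pow_iff_modEq.2 hm1
  refine ⟨y ^ m, h1, ?_⟩
  apply Nat.dvd_antisymm
  · apply orderOf_dvd_of_pow_eq_one
    obtain ⟨c, rfl⟩ := (Nat.modEq_zero_iff_dvd.1 hm2)
    rw [← pow_mul, show 2 ^ a * c * n = n * 2 ^ a * c by ring, pow_mul, pow_mul, ha', one_pow]
  · rw [hn, ← h1]
    exact orderOf_map_dvd _ _

/-- `t` inverts an element of order 3 modulo `Q` -/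
theorem inverts (h : LType P Q T q) : ∀ t ∈ T, t ∉ Q → ∃ x ∈ P, orderOf x = 3 ∧ t * x * t⁻¹ * x ∈ Q := by
  intro t ht htQ
  obtain ⟨F, _, _, _, ⟨D⟩⟩ := exists_dat h
  have h1 := T1Sl2.sylow_elem D.U _ ((D.memU ⟨t, D.T_le_P ht⟩).2 ht)
  obtain ⟨s, hs, hs2⟩ := T1Sl2.inverts_three h1 (fun h2 => htQ ((D.ker _).1 h2))
  obtain ⟨x, hx, hx2⟩ := D.lift_odd s (by rw [hs]; decide)
  refine ⟨x, x.2, ?_, ?_⟩
  · rw [Subgroup.orderOf_coe, hx2, hs]
  · have h3 : D.φ (⟨t, D.T_le_P ht⟩ * x * (⟨t, D.T_le_P ht⟩ : P)⁻¹ * x) = 1 := by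
      rw [map_mul, map_mul, map_mul, map_inv, hx, hs2, inv_mul_cancel]
    exact (D.ker _).1 h3

theorem normalizes_or (h : LType P Q T q) {K : Subgroup G} (h1 : T ≤ K) (h2 : K ≤ P) :
    (∀ k ∈ K, ∀ x ∈ T, k * x * k⁻¹ ∈ T) ∨ K = P := by
  obtain ⟨F, _, _, _, ⟨D⟩⟩ := exists_dat h
  have h3 : (D.U : Subgroup (SL F)) ≤ (K.subgroupOf P).map D.φ := by
    intro s hs
    obtain ⟨x, rfl⟩ := D.surj s
    exact ⟨x, Subgroup.mem_subgroupOf.2 (h1 ((D.memU x).1 hs)), rfl⟩
  rcases T1Sl2.le_normalizer_or D.U _ h3 with h4 | h4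
  · left
    intro k hk
    have h5 := h4 (Subgroup.mem_map_of_mem D.φ (x := ⟨k, h2 hk⟩) (Subgroup.mem_subgroupOf.2 hk))
    exact (D.smul_iff _).1 (Sylow.smul_eq_iff_mem_normalizer.2 h5)
  · right
    apply le_antisymm h2
    intro p hp
    have h5 : D.φ ⟨p, hp⟩ ∈ (K.subgroupOf P).map D.φ := by rw [h4]; trivial
    obtain ⟨k, hk, hkp⟩ := h5
    have h6 : D.φ (k⁻¹ * ⟨p, hp⟩) = 1 := by rw [map_mul, map_inv, hkp, inv_mul_cancel]
    have h7 := (D.ker _).1 h6
    have h8 : p = (k : G) * ((k⁻¹ * ⟨p, hp⟩ : P) : G) := by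
      rw [← Subgroup.coe_mul, mul_inv_cancel_left]
    rw [h8]
    exact K.mul_mem (Subgroup.mem_subgroupOf.1 hk) (h1 (Q_le_T h h7))

theorem exists_not_mem (h : LType P Q T q) : ∃ t ∈ T, t ∉ Q := by
  by_contra hne
  push Not at hne
  have h1 : T = Q := le_antisymm hne (Q_le_T h)
  have h2 := card_T h
  rw [h1] at h2
  have h3 : 0 < Nat.card Q := Nat.card_pos
  have h4 := two_le h
  nlinarith

theorem three_not_two {T : Subgroup G} (hT : IsPGroup 2 T) {x : G} (hx : x ∈ T) (h3 : orderOf x = 3) : False := by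
  obtain ⟨k, hk⟩ := hT ⟨x, hx⟩
  have h1 : x ^ 2 ^ k = 1 := congrArg Subtype.val hk
  have h2 := orderOf_dvd_of_pow_eq_one h1
  rw [h3] at h2
  have h4 := Nat.Prime.dvd_of_dvd_pow Nat.prime_three h2
  omega

/-- `T` is not normal in `P` -/
theorem not_normal (h : LType P Q T q) : ∃ g ∈ P, ∃ x ∈ T, g * x * g⁻¹ ∉ T := by
  obtain ⟨t, ht, htQ⟩ := exists_not_mem h
  obtain ⟨x, hx, hx3, hxt⟩ := inverts h t ht htQ
  by_contra hne
  push Not at hne
  have h1 := hne x⁻¹ (P.inv_mem hx) t⁻¹ (T.inv_mem ht)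
  have h2 := T.mul_mem (T.mul_mem (T.inv_mem ht) (Q_le_T h hxt)) (T.inv_mem h1)
  have h3 : t⁻¹ * (t * x * t⁻¹ * x) * (x⁻¹ * t⁻¹ * x⁻¹⁻¹)⁻¹ = x ^ 2 := by
    rw [sq]
    group
  rw [h3] at h2
  exact three_not_two h.syl.two h2 (by rw [orderOf_pow' x (by norm_num), hx3]; rfl)

theorem Dat.exists_ne {F : Type} [Field F] [Fintype F] (D : Dat P Q T q F) : ∃ U' : Sylow 2 (SL F), D.U ≠ U' := by
  obtain ⟨g, hg, x, hx, hgx⟩ := not_normal D.h
  refine ⟨D.φ ⟨g, hg⟩ • D.U, fun h => ?_⟩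
  exact hgx ((D.smul_iff _).1 h.symm x hx)

/-- the torus -/
theorem exists_torus' (h : LType P Q T q) : ∃ K : Subgroup G, K ≤ P ∧ IsCyclic K ∧ Nat.card K = q - 1 ∧
    (∀ k ∈ K, ∀ x ∈ T, k * x * k⁻¹ ∈ T) ∧ (∀ g ∈ P, (∀ x ∈ T, g * x * g⁻¹ ∈ T) → ∃ t ∈ T, ∃ k ∈ K, g = t * k) := by
  obtain ⟨F, _, _, _, ⟨D⟩⟩ := exists_dat h
  obtain ⟨U', hU'⟩ := D.exists_ne
  obtain ⟨K, hcyc, hcard, hmem, hfac, -⟩ := T1Sl2.exists_torus hU'
  obtain ⟨s, hs⟩ := hcyc.exists_generator
  have hs1 : orderOf (s : SL F) = q - 1 := by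
    rw [Subgroup.orderOf_coe, orderOf_eq_card_of_forall_mem_zpowers hs, hcard, D.card]
  obtain ⟨n, hn, hqn⟩ := pow h
  have hodd : Odd (q - 1) := by
    rw [hqn]
    obtain ⟨m, rfl⟩ := Nat.exists_eq_add_of_le' hn
    rw [pow_succ]
    have : 0 < 2 ^ m := by positivity
    exact ⟨2 ^ m - 1, by omega⟩
  obtain ⟨x, hx, hx1⟩ := D.lift_odd (s : SL F) (by rw [hs1]; exact hodd)
  have hnor : ∀ k ∈ Subgroup.zpowers x, ∀ y ∈ T, (k : G) * y * (k : G)⁻¹ ∈ T := by
    intro k hk
    rw [← D.smul_iff]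
    obtain ⟨j, rfl⟩ := hk
    apply Sylow.smul_eq_iff_mem_normalizer.2
    show D.φ (x ^ j) ∈ _
    rw [map_zpow, hx]
    exact Subgroup.zpow_mem _ ((hmem _).1 s.2).1 j
  refine ⟨(Subgroup.zpowers x).map P.subtype, Subgroup.map_subtype_le _, ?_, ?_, ?_, ?_⟩
  · exact isCyclic_of_surjective _ ((Subgroup.equivMapOfInjective (Subgroup.zpowers x) P.subtype
      P.subtype_injective).surjective)
  · rw [Subgroup.card_map_of_injective P.subtype_injective, Nat.card_zpowers, hx1, hs1]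
  · rintro _ ⟨k, hk, rfl⟩
    exact hnor k hk
  · intro g hg hgT
    have h1 : D.φ ⟨g, hg⟩ • D.U = D.U := (D.smul_iff _).2 hgT
    obtain ⟨a, ha, k, hk, hgak⟩ := hfac _ (Sylow.smul_eq_iff_mem_normalizer.1 h1)
    obtain ⟨j, hj⟩ := hs ⟨k, hk⟩
    have hj' : (s : SL F) ^ j = k := congrArg Subtype.val hj
    have h2 : D.φ (⟨g, hg⟩ * (x ^ j)⁻¹) = a := by
      rw [map_mul, map_inv, map_zpow, hx, hj', hgak, mul_inv_cancel_right]
    refine ⟨g * ((x ^ j : P) : G)⁻¹, ?_, ((x ^ j : P) : G), ⟨x ^ j, ⟨j, rfl⟩, rfl⟩, by group⟩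
    rw [← h2] at ha
    exact (D.memU _).1 ha

/-- the action of `SL₂(F)` on `V = omegaZ Q` -/
theorem Dat.exists_rho {F : Type} [Field F] [Fintype F] (D : Dat P Q T q F) :
    ∃ ρ : SL F →* MulAut (omegaZ Q), ∀ (x : P) (v : omegaZ Q), ((ρ (D.φ x) v : omegaZ Q) : G) = x * v * (x : G)⁻¹ := by
  let c := CITFFLocal.conjHom P (omegaZ Q) (CITFFAux.omegaZ_conj D.h.o2.normal)
  have h1 : D.φ.ker ≤ c.ker := by
    intro x hx
    rw [MonoidHom.mem_ker, D.ker] at hx
    rw [MonoidHom.mem_ker]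
    ext v
    show (x : G) * v * (x : G)⁻¹ = v
    rw [mul_inv_eq_iff_eq_mul]
    exact (v.2.2.2 _ hx).symm
  refine ⟨D.φ.liftOfSurjective D.surj ⟨c, h1⟩, fun x v => ?_⟩
  rw [MonoidHom.liftOfRightInverse_comp_apply]
  rfl

section Module

variable {F : Type} [Field F] [Fintype F]

theorem Dat.fix_iff (D : Dat P Q T q F) {ρ : SL F →* MulAut (omegaZ Q)}
    (hρ : ∀ (x : P) (v : omegaZ Q), ((ρ (D.φ x) v : omegaZ Q) : G) = x * v * (x : G)⁻¹) (x : P) (v : omegaZ Q) :
    ρ (D.φ x) v = v ↔ (x : G) * v = v * x := by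
  rw [Subtype.ext_iff, hρ, mul_inv_eq_iff_eq_mul]

theorem Dat.fpf3 (D : Dat P Q T q F) {ρ : SL F →* MulAut (omegaZ Q)}
    (hρ : ∀ (x : P) (v : omegaZ Q), ((ρ (D.φ x) v : omegaZ Q) : G) = x * v * (x : G)⁻¹) :
    ∀ s, orderOf s = 3 → ∀ v, ρ s v = v → v = 1 := by
  intro s hs v hv
  obtain ⟨x, rfl, hx⟩ := D.lift_odd s (by rw [hs]; decide)
  rw [D.fix_iff hρ] at hv
  exact Subtype.ext (D.h.fpf x x.2 (by rw [Subgroup.orderOf_coe, hx, hs]) v v.2.1 hv)

theorem Dat.sq_one (D : Dat P Q T q F) [CharP F 2] {t : G} (ht : t ∈ T) :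
    D.φ ⟨t, D.T_le_P ht⟩ * D.φ ⟨t, D.T_le_P ht⟩ = 1 :=
  T1Sl2.sylow_elem D.U _ ((D.memU _).2 ht)

theorem Dat.ne_one (D : Dat P Q T q F) {t : G} (ht : t ∈ T) (htQ : t ∉ Q) :
    D.φ ⟨t, D.T_le_P ht⟩ ≠ 1 := fun h => htQ ((D.ker _).1 h)

end Module

/-- `|C_V(t)|² = |V|` -/
theorem card_CV (h : LType P Q T q) {t : G} (ht : t ∈ T) (htQ : t ∉ Q) :
    Nat.card (omegaZ Q ⊓ Subgroup.centralizer {t} : Subgroup G) ^ 2 = Nat.card (omegaZ Q) := by
  obtain ⟨F, _, _, _, ⟨D⟩⟩ := exists_dat h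
  obtain ⟨ρ, hρ⟩ := D.exists_rho
  let _ : CommGroup (omegaZ Q) := CITFFLocal.omegaZComm Q
  rw [← T1Module.card_fixed (V := omegaZ Q) (fun v => Subtype.ext v.2.2.1) ρ (D.fpf3 hρ) (D.sq_one ht) (D.ne_one ht htQ)]
  congr 1
  refine Nat.card_congr
    { toFun := fun v => ⟨⟨v, v.2.1⟩, (D.fix_iff hρ _ _).2 ?_⟩
      invFun := fun v => ⟨v.1, ⟨v.1.2, ?_⟩⟩
      left_inv := fun v => rfl
      right_inv := fun v => rfl }
  · exact (Subgroup.mem_centralizer_singleton_iff.1 v.2.2).symm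
  · exact Subgroup.mem_centralizer_singleton_iff.2 ((D.fix_iff hρ _ _).1 v.2).symm

theorem omegaZ_ne_bot (h : LType P Q T q) (hQ : Q ≠ ⊥) : omegaZ Q ≠ ⊥ := CITFFAux.omegaZ_ne_bot h.o2.two hQ

theorem cent_V (h : LType P Q T q) (hQ : Q ≠ ⊥) : ∀ t ∈ T, (∀ v ∈ omegaZ Q, t * v = v * t) → t ∈ Q := by
  intro t ht hc
  by_contra htQ
  have h1 := card_CV h ht htQ
  have h2 : omegaZ Q ⊓ Subgroup.centralizer {t} = omegaZ Q := by
    apply inf_eq_left.2
    intro v hv
    exact Subgroup.mem_centralizer_singleton_iff.2 (hc v hv).symm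
  rw [h2] at h1
  have h3 : 1 < Nat.card (omegaZ Q) := (Subgroup.one_lt_card_iff_ne_bot _).2 (omegaZ_ne_bot h hQ)
  nlinarith

theorem omegaZ_le (h : LType P Q T q) (hQ : Q ≠ ⊥) : omegaZ T ≤ omegaZ Q := by
  rintro z ⟨hz, hz2, hzc⟩
  have h1 : z ∈ Q := cent_V h hQ z hz fun v hv => hzc v (Q_le_T h hv.1)
  exact ⟨h1, hz2, fun y hy => hzc y (Q_le_T h hy)⟩

theorem card_V (h : LType P Q T q) : ∃ j, Nat.card (omegaZ Q) = q ^ (2 * j) := by
  obtain ⟨F, _, _, _, ⟨D⟩⟩ := exists_dat h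
  obtain ⟨ρ, hρ⟩ := D.exists_rho
  let _ : CommGroup (omegaZ Q) := CITFFLocal.omegaZComm Q
  rw [← D.card]
  exact T1Module.card_eq_pow (V := omegaZ Q) (fun v => Subtype.ext v.2.2.1) ρ (D.fpf3 hρ)

theorem eq_commutator (h : LType P Q T q) {t v : G} (ht : t ∈ T) (htQ : t ∉ Q) (hv : v ∈ omegaZ Q)
    (hc : t * v = v * t) : ∃ w ∈ omegaZ Q, v = t * w * t⁻¹ * w⁻¹ := by
  obtain ⟨F, _, _, _, ⟨D⟩⟩ := exists_dat h
  obtain ⟨ρ, hρ⟩ := D.exists_rho
  let _ : CommGroup (omegaZ Q) := CITFFLocal.omegaZComm Q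
  obtain ⟨w, hw⟩ := T1Module.fixed_eq_commutator (V := omegaZ Q) (fun v => Subtype.ext v.2.2.1) ρ (D.fpf3 hρ)
    (D.sq_one ht) (D.ne_one ht htQ) (v := ⟨v, hv⟩) ((D.fix_iff hρ _ _).2 hc)
  refine ⟨w, w.2, ?_⟩
  have h1 : v = ((ρ (D.φ ⟨t, D.T_le_P ht⟩) w : omegaZ Q) : G) * (w : G)⁻¹ := congrArg Subtype.val hw
  rw [h1, hρ]

theorem nat_mem (h : LType P Q T q) (hV : Nat.card (omegaZ Q) = q ^ 2) {t v : G} (ht : t ∈ T) (htQ : t ∉ Q)
    (hv : v ∈ omegaZ Q) (hc : t * v = v * t) : v ∈ omegaZ T := by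
  obtain ⟨F, _, _, _, ⟨D⟩⟩ := exists_dat h
  obtain ⟨ρ, hρ⟩ := D.exists_rho
  let _ : CommGroup (omegaZ Q) := CITFFLocal.omegaZComm Q
  have h1 := T1Module.fixed_sylow (V := omegaZ Q) (fun v => Subtype.ext v.2.2.1) ρ (D.fpf3 hρ)
    (by rw [hV, D.card]) D.U ((D.memU ⟨t, D.T_le_P ht⟩).2 ht) (D.ne_one ht htQ) (v := ⟨v, hv⟩)
    ((D.fix_iff hρ _ _).2 hc)
  refine ⟨Q_le_T h hv.1, hv.2.1, fun y hy => ?_⟩
  have h2 := h1 _ ((D.memU ⟨y, D.T_le_P hy⟩).2 hy)
  exact ((D.fix_iff hρ _ _).1 h2).symm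

theorem ne_bot_of_card (h : LType P Q T q) (hV : Nat.card (omegaZ Q) = q ^ 2) : Q ≠ ⊥ := by
  rintro rfl
  have h1 : omegaZ (⊥ : Subgroup G) = ⊥ := le_bot_iff.1 fun x hx => hx.1
  rw [h1, Subgroup.card_bot] at hV
  have := two_le h
  nlinarith

theorem nat_card (h : LType P Q T q) (hV : Nat.card (omegaZ Q) = q ^ 2) : Nat.card (omegaZ T) = q := by
  obtain ⟨t, ht, htQ⟩ := exists_not_mem h
  have h1 := card_CV h ht htQ
  have h2 : omegaZ Q ⊓ Subgroup.centralizer {t} = omegaZ T := by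
    apply le_antisymm
    · intro v hv
      exact nat_mem h hV ht htQ hv.1 (Subgroup.mem_centralizer_singleton_iff.1 hv.2).symm
    · intro v hv
      exact ⟨omegaZ_le h (ne_bot_of_card h hV) hv, Subgroup.mem_centralizer_singleton_iff.2 (hv.2.2 t ht)⟩
  rw [h2, hV] at h1
  exact Nat.pow_left_injective (n := 2) (by norm_num) h1

theorem nat_comm (h : LType P Q T q) (hV : Nat.card (omegaZ Q) = q ^ 2) :
    ∀ t ∈ T, ∀ v ∈ omegaZ Q, t * v * t⁻¹ * v⁻¹ ∈ omegaZ T := by
  intro t ht v hv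
  by_cases htQ : t ∈ Q
  · have h1 := hv.2.2 t htQ
    have h2 : t * v * t⁻¹ * v⁻¹ = 1 := by rw [← h1]; group
    rw [h2]
    exact Subgroup.one_mem _
  · have htP := h.syl.le ht
    have h1 : t * v * t⁻¹ ∈ omegaZ Q := CITFFAux.omegaZ_conj h.o2.normal t htP v hv
    have h2 : t * v * t⁻¹ * v⁻¹ ∈ omegaZ Q := Subgroup.mul_mem _ h1 (Subgroup.inv_mem _ hv)
    apply nat_mem h hV ht htQ h2
    -- `t` commutes with `[t, v]`
    have h3 := hv.2.2 _ (sq_mem h t ht)
    have h4 : v⁻¹ = v := inv_eq_of_mul_eq_one_left hv.2.1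
    have h5 : t * (t * v * t⁻¹ * v⁻¹) = v * t * v := by
      calc t * (t * v * t⁻¹ * v⁻¹) = (t * t * v) * t⁻¹ * v⁻¹ := by group
        _ = (v * (t * t)) * t⁻¹ * v⁻¹ := by rw [h3]
        _ = v * t * v⁻¹ := by group
        _ = v * t * v := by rw [h4]
    have h6 : t * v * t⁻¹ * v⁻¹ * t = v * t * v := by
      have h7 := h1.2.2 v hv.1
      calc t * v * t⁻¹ * v⁻¹ * t = (t * v * t⁻¹ * v) * t := by rw [h4]
        _ = (v * (t * v * t⁻¹)) * t := by rw [h7]
        _ = v * t * v := by group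
    rw [h5, h6]

section Trans

variable {F : Type} [Field F] [Fintype F] [CharP F 2] {V : Type*} [CommGroup V] [Finite V]

/-- only `1` is fixed by two different Sylow subgroups -/
theorem fixed_two (ρ : SL F →* MulAut V) (h3 : ∀ x, orderOf x = 3 → ∀ v, ρ x v = v → v = 1)
    {U U' : Sylow 2 (SL F)} (hne : U ≠ U') {w : SL F} (hw : w * w = 1) (hw1 : w ≠ 1) {d : V}
    (h1 : ∀ b ∈ (U : Subgroup (SL F)), ρ b d = d) (h2 : ∀ b ∈ (U' : Subgroup (SL F)), ρ b d = d) : d = 1 := by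
  let _ : MulAction (SL F) V := MulAction.compHom V ρ
  have h4 : (U : Subgroup (SL F)) ⊔ (U' : Subgroup (SL F)) ≤ MulAction.stabilizer (SL F) d :=
    sup_le (fun b hb => h1 b hb) (fun b hb => h2 b hb)
  rw [T1Sl2.sylow_sup hne] at h4
  obtain ⟨x, hx, -⟩ := T1Sl2.inverts_three hw hw1
  exact h3 x hx d (h4 (Subgroup.mem_top x))

omit [CharP F 2] in
theorem three_not_sylow (U : Sylow 2 (SL F)) {x : SL F} (hx : x ∈ (U : Subgroup (SL F))) (h3 : orderOf x = 3) :
    False := three_not_two U.2 hx h3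

theorem exists_ne (U : Sylow 2 (SL F)) : ∃ w : SL F, w * w = 1 ∧ w ≠ 1 ∧ w ∈ (U : Subgroup (SL F)) ∧
    ∃ U' : Sylow 2 (SL F), U ≠ U' := by
  have hU1 : (U : Subgroup (SL F)) ≠ ⊥ := by
    intro h
    have h1 := T1Sl2.card_sylow U
    have h2 : Nat.card U = Nat.card (⊥ : Subgroup (SL F)) := by rw [← h]
    rw [h2, Subgroup.card_bot] at h1
    exact absurd h1.symm (Fintype.one_lt_card).ne'
  obtain ⟨⟨u, hu⟩, hu1⟩ := Subgroup.ne_bot_iff_exists_ne_one.1 hU1
  have hu1' : u ≠ 1 := fun h => hu1 (Subtype.ext h)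
  have hu2 := T1Sl2.sylow_elem U u hu
  obtain ⟨x, hx, hxu⟩ := T1Sl2.inverts_three hu2 hu1'
  refine ⟨u, hu2, hu1', hu, x • U, fun h => ?_⟩
  have h1 := (smul_eq_iff U x).1 h.symm u⁻¹ (inv_mem hu)
  have h2 := mul_mem (inv_mem hu) (mul_mem hu h1)
  have h4 : u⁻¹ * (u * (x * u⁻¹ * x⁻¹)) = u⁻¹ * ((u * x * u⁻¹) * x⁻¹) := by group
  have h5 := mul_mem hu h2
  rw [h4, mul_inv_cancel_left, hxu] at h5
  refine three_not_sylow U (inv_mem h5) ?_
  rw [mul_inv_rev, inv_inv, ← sq, orderOf_pow' x (by norm_num), hx]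
  rfl

theorem stab_eq (hV : ∀ v : V, v * v = 1) (ρ : SL F →* MulAut V)
    (h3 : ∀ x, orderOf x = 3 → ∀ v, ρ x v = v → v = 1) (hq : Nat.card V = Fintype.card F ^ 2)
    (U : Sylow 2 (SL F)) {v : V} (hv1 : v ≠ 1) (hv : ∀ b ∈ (U : Subgroup (SL F)), ρ b v = v) {s : SL F}
    (hs : ρ s v = v) : s ∈ (U : Subgroup (SL F)) := by
  obtain ⟨u, hu2, hu1, hu, U', hU'⟩ := exists_ne U
  let _ : MulAction (SL F) V := MulAction.compHom V ρ
  have hUK : (U : Subgroup (SL F)) ≤ MulAction.stabilizer (SL F) v := fun b hb => hv b hb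
  rcases T1Sl2.le_normalizer_or U _ hUK with h4 | h4
  swap
  · obtain ⟨x, hx, -⟩ := T1Sl2.inverts_three hu2 hu1
    have h5 : x ∈ MulAction.stabilizer (SL F) v := by rw [h4]; trivial
    exact absurd (h3 x hx v h5) hv1
  obtain ⟨K, -, -, hK, hfac, -⟩ := T1Sl2.exists_torus hU'
  obtain ⟨a, ha, k, hk, rfl⟩ := hfac s (h4 hs)
  have hk1 : k = 1 := by
    by_contra hk1
    have hkU := (hK k).1 hk
    obtain ⟨w, w', hw, hw', hw1, hw1', rfl, hwU, hwU', hw'U, hw'U', W, W', hwW, hwW', hWW⟩ :=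
      T1Sl2.torus hU' (Sylow.smul_eq_iff_mem_normalizer.2 hkU.1) (Sylow.smul_eq_iff_mem_normalizer.2 hkU.2) hk1
    have h5 : ρ (w * w') v = v := by
      have h6 : ρ a⁻¹ v = v := hv _ (inv_mem ha)
      have h7 : ρ (w * w') v = ρ a⁻¹ (ρ (a * (w * w')) v) := by
        rw [← MulAut.mul_apply, ← map_mul, inv_mul_cancel_left]
      rw [h7, hs, h6]
    have h6 : ρ w (ρ w v) = v := by rw [← MulAut.mul_apply, ← map_mul, hw, map_one]; rfl
    have h6' : ρ w' (ρ w' v) = v := by rw [← MulAut.mul_apply, ← map_mul, hw', map_one]; rfl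
    have h7 : ρ w' v = ρ w v := by
      rw [map_mul, MulAut.mul_apply] at h5
      have h8 := congrArg (ρ w) h5
      rw [← MulAut.mul_apply, ← map_mul, hw, map_one] at h8
      exact h8
    have h8 : ρ w (v * ρ w v) = v * ρ w v := by rw [map_mul, h6, mul_comm]
    have h9 : ρ w' (v * ρ w v) = v * ρ w v := by
      rw [map_mul, ← h7, h6', mul_comm]
    have h10 := T1Module.fixed_sylow hV ρ h3 hq W hwW hw1 h8
    have h11 := T1Module.fixed_sylow hV ρ h3 hq W' hwW' hw1' h9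
    have h12 := fixed_two ρ h3 hWW hw hw1 h10 h11
    have h13 : ρ w v = v := by
      rw [mul_eq_one_iff_inv_eq] at h12
      rw [← h12]
      exact inv_eq_of_mul_eq_one_left (hV v)
    refine hv1 (fixed_two ρ h3 hU' hw hw1 hv ?_)
    intro b hb
    rw [← hwU, mem_smul_sylow] at hb
    have h14 := hv _ hb
    rw [map_mul, map_mul, MulAut.mul_apply, MulAut.mul_apply, h13] at h14
    have h15 : w⁻¹ = w := inv_eq_of_mul_eq_one_left hw
    rw [h15] at h14
    have h16 := congrArg (ρ w) h14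
    rw [← MulAut.mul_apply, ← map_mul, hw, map_one, h13] at h16
    exact h16
  rw [hk1, mul_one]
  exact ha

theorem trans (hV : ∀ v : V, v * v = 1) (ρ : SL F →* MulAut V)
    (h3 : ∀ x, orderOf x = 3 → ∀ v, ρ x v = v → v = 1) (hq : Nat.card V = Fintype.card F ^ 2)
    (U : Sylow 2 (SL F)) {v : V} (hv1 : v ≠ 1) (hv : ∀ b ∈ (U : Subgroup (SL F)), ρ b v = v) {w : V} (hw : w ≠ 1) :
    ∃ s, ρ s v = w := by
  let _ : MulAction (SL F) V := MulAction.compHom V ρ
  have h1 : MulAction.stabilizer (SL F) v = (U : Subgroup (SL F)) := by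
    ext s
    exact ⟨fun hs => stab_eq hV ρ h3 hq U hv1 hv hs, fun hs => hv s hs⟩
  have h2 := MulAction.index_stabilizer (SL F) v
  have h3' := Subgroup.card_mul_index (MulAction.stabilizer (SL F) v)
  rw [h2, h1] at h3'
  have h4 : Nat.card (U : Subgroup (SL F)) = Fintype.card F := T1Sl2.card_sylow U
  rw [h4, T1Sl2.card_sl2] at h3'
  have h5 : 1 < Fintype.card F := Fintype.one_lt_card
  obtain ⟨n, hn⟩ := Nat.exists_eq_add_of_lt h5
  have h6 : (MulAction.orbit (SL F) v).ncard + 1 = Fintype.card F ^ 2 := by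
    rw [hn] at h3' ⊢
    have h7 : (1 + n + 1) * (MulAction.orbit (SL F) v).ncard = (1 + n + 1) * ((1 + n + 1 + 1) * (1 + n)) := by
      rw [h3']
      simp only [Nat.add_sub_cancel]
      ring
    have h8 := Nat.eq_of_mul_eq_mul_left (by omega) h7
    rw [h8]
    ring
  have h7 : MulAction.orbit (SL F) v ⊆ {1}ᶜ := by
    rintro _ ⟨s, rfl⟩ hs
    apply hv1
    have h8 : ρ s v = 1 := hs
    exact (map_eq_one_iff (ρ s) (ρ s).injective).1 h8
  have h8 : MulAction.orbit (SL F) v = {1}ᶜ := by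
    apply Set.eq_of_subset_of_ncard_le h7
    have h9 := Set.ncard_add_ncard_compl ({1} : Set V)
    rw [Set.ncard_singleton, hq] at h9
    omega
  have h9 : w ∈ MulAction.orbit (SL F) v := by rw [h8]; exact hw
  obtain ⟨s, hs⟩ := h9
  exact ⟨s, hs⟩

end Trans

/-- `P` is transitive on `V#` in the natural case -/
theorem nat_trans (h : LType P Q T q) (hV : Nat.card (omegaZ Q) = q ^ 2) :
    ∀ v ∈ omegaZ Q, v ≠ 1 → ∀ w ∈ omegaZ Q, w ≠ 1 → ∃ g ∈ P, g * v * g⁻¹ = w := by
  obtain ⟨F, _, _, _, ⟨D⟩⟩ := exists_dat h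
  obtain ⟨ρ, hρ⟩ := D.exists_rho
  have hT1 : omegaZ T ≠ ⊥ := by
    intro h1
    have h2 := nat_card h hV
    rw [h1, Subgroup.card_bot] at h2
    have := two_le h
    omega
  obtain ⟨⟨c, hc⟩, hc1⟩ := Subgroup.ne_bot_iff_exists_ne_one.1 hT1
  have hcQ : c ∈ omegaZ Q := omegaZ_le h (ne_bot_of_card h hV) hc
  have key : ∀ v ∈ omegaZ Q, v ≠ 1 → ∃ g ∈ P, g * c * g⁻¹ = v := by
    intro v hv hv1
    let _ : CommGroup (omegaZ Q) := CITFFLocal.omegaZComm Q
    obtain ⟨s, hs⟩ := trans (V := omegaZ Q) (fun v => Subtype.ext v.2.2.1) ρ (D.fpf3 hρ)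
      (by rw [hV, D.card]) D.U (v := ⟨c, hcQ⟩) (fun h1 => hc1 (Subtype.ext (show c = 1 from congrArg (fun x : omegaZ Q => (x : G)) h1)))
      (fun b hb => by
        obtain ⟨x, rfl⟩ := D.surj b
        rw [D.fix_iff hρ]
        exact (hc.2.2 _ ((D.memU x).1 hb)).symm) (w := ⟨v, hv⟩) (fun h1 => hv1 (congrArg Subtype.val h1))
    obtain ⟨x, rfl⟩ := D.surj s
    refine ⟨x, x.2, ?_⟩
    have h1 := congrArg Subtype.val hs
    rw [hρ] at h1
    exact h1
  intro v hv hv1 w hw hw1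
  obtain ⟨g, hg, hgv⟩ := key v hv hv1
  obtain ⟨k, hk, hkw⟩ := key w hw hw1
  refine ⟨k * g⁻¹, P.mul_mem hk (P.inv_mem hg), ?_⟩
  rw [← hgv, ← hkw]
  group

theorem pair_aux {P' Q' T' : Subgroup G} {q' : ℕ} (h : LType P Q T q) (_h' : LType P' Q' T' q')
    (h1 : omegaZ Q' ≤ T) {v w : G} (hv : v ∈ omegaZ Q) (hw : w ∈ omegaZ Q') (hvw : v * w ≠ w * v) :
    w ∉ Q ∧ q ^ 2 ≤ Nat.card (omegaZ Q) ∧ Nat.card (omegaZ Q') ≤ q * Nat.card (omegaZ Q' ⊓ Q : Subgroup G) ∧
      Nat.card (omegaZ Q ⊓ Q' : Subgroup G) ^ 2 ≤ Nat.card (omegaZ Q) := by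
  have hwQ : w ∉ Q := fun hwQ => hvw (hv.2.2 w hwQ)
  refine ⟨hwQ, ?_, ?_, ?_⟩
  · obtain ⟨j, hj⟩ := card_V h
    rw [hj]
    apply Nat.pow_le_pow_right (by have := two_le h; omega)
    rcases Nat.eq_zero_or_pos j with rfl | hj0
    · rw [mul_zero, pow_zero] at hj
      have h2 : omegaZ Q = ⊥ := Subgroup.eq_bot_of_card_eq _ hj
      rw [h2, Subgroup.mem_bot] at hv
      exact absurd (by rw [hv, one_mul, mul_one]) hvw
    · omega
  · have h2 := CITFFLocal.card_mul_card_le h1 (Q_le_T h)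
    rw [card_T h] at h2
    have h3 : 0 < Nat.card Q := Nat.card_pos
    have h4 : Nat.card Q * Nat.card (omegaZ Q') ≤ Nat.card Q * (q * Nat.card (omegaZ Q' ⊓ Q : Subgroup G)) := by
      calc _ = Nat.card (omegaZ Q') * Nat.card Q := mul_comm _ _
        _ ≤ _ := h2
        _ = _ := by ring
    exact Nat.le_of_mul_le_mul_left h4 h3
  · rw [← card_CV h (h1 hw) hwQ]
    apply Nat.pow_le_pow_left
    apply Subgroup.card_le_of_le
    intro x hx
    exact ⟨hx.1, Subgroup.mem_centralizer_singleton_iff.2 (hw.2.2 x hx.2).symm⟩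

theorem pair_arith {q q' a b c d : ℕ} (hq : 2 ≤ q) (hq' : 2 ≤ q') (h1 : q ^ 2 ≤ a) (h2 : b ≤ q * d) (h3 : c ^ 2 ≤ a)
    (h1' : q' ^ 2 ≤ b) (h2' : a ≤ q' * c) (h3' : d ^ 2 ≤ b) : q' = q ∧ a = q ^ 2 ∧ b = q ^ 2 ∧ c = q ∧ d = q := by
  have ha : a ≤ q' ^ 2 := by
    have h4 : a ^ 2 ≤ q' ^ 2 * a := by
      calc a ^ 2 ≤ (q' * c) ^ 2 := Nat.pow_le_pow_left h2' 2
        _ = q' ^ 2 * c ^ 2 := by ring
        _ ≤ q' ^ 2 * a := by gcongr
    have h5 : 0 < a := by nlinarith only [hq, h1]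
    nlinarith only [h4]
  have hb : b ≤ q ^ 2 := by
    have h4 : b ^ 2 ≤ q ^ 2 * b := by
      calc b ^ 2 ≤ (q * d) ^ 2 := Nat.pow_le_pow_left h2 2
        _ = q ^ 2 * d ^ 2 := by ring
        _ ≤ q ^ 2 * b := by gcongr
    have h5 : 0 < b := by nlinarith only [hq, h1, h1', ha]
    nlinarith only [h4]
  have h6 : q' ≤ q := by
    have : q' ^ 2 ≤ q ^ 2 := h1'.trans hb
    exact (Nat.pow_le_pow_iff_left (by norm_num)).1 this
  have h7 : q ≤ q' := by
    have : q ^ 2 ≤ q' ^ 2 := h1.trans ha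
    exact (Nat.pow_le_pow_iff_left (by norm_num)).1 this
  obtain rfl : q' = q := le_antisymm h6 h7
  have ha' : a = q' ^ 2 := le_antisymm ha h1
  have hb' : b = q' ^ 2 := le_antisymm hb h1'
  refine ⟨rfl, ha', hb', ?_, ?_⟩
  · apply le_antisymm
    · exact (Nat.pow_le_pow_iff_left (n := 2) (by norm_num)).1 (by rw [← ha']; exact h3)
    · rw [ha', sq] at h2'
      exact Nat.le_of_mul_le_mul_left h2' (by omega)
  · apply le_antisymm
    · exact (Nat.pow_le_pow_iff_left (n := 2) (by norm_num)).1 (by rw [← hb']; exact h3')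
    · rw [hb', sq] at h2
      exact Nat.le_of_mul_le_mul_left h2 (by omega)

theorem pair_half {P' Q' T' : Subgroup G} (h : LType P Q T q) (h' : LType P' Q' T' q)
    (h1 : omegaZ Q' ≤ T) (h2 : omegaZ Q ≤ T') {w : G} (hw : w ∈ omegaZ Q') (hwQ : w ∉ Q)
    (ha : Nat.card (omegaZ Q) = q ^ 2) (hb : Nat.card (omegaZ Q') = q ^ 2)
    (hc : Nat.card (omegaZ Q ⊓ Q' : Subgroup G) = q) (hd : Nat.card (omegaZ Q' ⊓ Q : Subgroup G) = q) :
    T = omegaZ Q' ⊔ Q ∧ omegaZ Q ⊓ Q' = omegaZ T ∧ omegaZ Q ⊓ omegaZ Q' = omegaZ T := by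
  have h3 : omegaZ Q ⊓ Q' = omegaZ T := by
    apply Subgroup.eq_of_le_of_card_ge
    · intro x hx
      exact nat_mem h ha (h1 hw) hwQ hx.1 (hw.2.2 x hx.2)
    · rw [hc, nat_card h ha]
  refine ⟨?_, h3, ?_⟩
  · symm
    apply Subgroup.eq_of_le_of_card_ge (sup_le h1 (Q_le_T h))
    have h4 := CITFFLocal.card_mul_card_le (le_sup_left : omegaZ Q' ≤ omegaZ Q' ⊔ Q) (le_sup_right : Q ≤ omegaZ Q' ⊔ Q)
    rw [hb, hd] at h4
    rw [card_T h]
    have h5 := two_le h
    have h6 : q * (q * Nat.card Q) ≤ q * Nat.card (omegaZ Q' ⊔ Q : Subgroup G) := by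
      calc q * (q * Nat.card Q) = q ^ 2 * Nat.card Q := by ring
        _ ≤ _ := h4
        _ = _ := mul_comm _ _
    exact Nat.le_of_mul_le_mul_left h6 (by omega)
  · apply le_antisymm
    · rw [← h3]
      exact inf_le_inf_left _ (fun x hx => hx.1)
    · intro c hc'
      refine ⟨omegaZ_le h (ne_bot_of_card h ha) hc', ?_⟩
      obtain ⟨u, hu, rfl⟩ := eq_commutator h (h1 hw) hwQ (omegaZ_le h (ne_bot_of_card h ha) hc')
        (hc'.2.2 w (h1 hw)).symm
      have h4 : u * w⁻¹ * u⁻¹ ∈ omegaZ Q' := CITFFAux.omegaZ_conj h'.o2.normal u (h'.syl.le (h2 hu)) _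
        (Subgroup.inv_mem _ hw)
      have h5 := Subgroup.mul_mem _ hw h4
      have h6 : w * u * w⁻¹ * u⁻¹ = w * (u * w⁻¹ * u⁻¹) := by group
      rwa [h6]

/-- the inequality chain of 3.2 and 4.3 -/
theorem pair_natural {P' Q' T' : Subgroup G} {q' : ℕ} (h : LType P Q T q) (h' : LType P' Q' T' q')
    (h1 : omegaZ Q' ≤ T) (h2 : omegaZ Q ≤ T') (hne : ¬ ∀ v ∈ omegaZ Q, ∀ w ∈ omegaZ Q', v * w = w * v) :
    q' = q ∧ Nat.card (omegaZ Q) = q ^ 2 ∧ Nat.card (omegaZ Q') = q ^ 2 ∧ T = omegaZ Q' ⊔ Q ∧ T' = omegaZ Q ⊔ Q' ∧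
      omegaZ T = omegaZ T' ∧ omegaZ Q ⊓ omegaZ Q' = omegaZ T ∧ omegaZ Q ⊓ Q' = omegaZ T ∧
      omegaZ Q' ⊓ Q = omegaZ T := by
  push Not at hne
  obtain ⟨v, hv, w, hw, hvw⟩ := hne
  obtain ⟨hwQ, h3, h4, h5⟩ := pair_aux h h' h1 hv hw hvw
  obtain ⟨hvQ, h3', h4', h5'⟩ := pair_aux h' h h2 hw hv hvw.symm
  obtain ⟨rfl, ha, hb, hc, hd⟩ := pair_arith (two_le h) (two_le h') h3 h4 h5 h3' h4' h5'
  obtain ⟨e1, e2, e3⟩ := pair_half h h' h1 h2 hw hwQ ha hb hc hd
  obtain ⟨f1, f2, f3⟩ := pair_half h' h h2 h1 hv hvQ hb ha hd hc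
  have e4 : omegaZ T = omegaZ T' := by rw [← e3, ← f3, inf_comm]
  exact ⟨rfl, ha, hb, e1, f1, e4, e3, e2, f2.trans e4.symm⟩

end Cfsg.Agent.OddCyclic.T1Local
end

-- part: OddCyclic/T1Torus
section
/-!
# S0342, no elements of order 6, Case I: the torus argument

3.3 of `blueprints/S0342-T0eq1.md`: in the pair case `q ∈ {2, 4}` and `Mᵢ = Pᵢ`.
-/

set_option autoImplicit false
universe u

namespace Cfsg.Agent.OddCyclic.T1Torus

open Cfsg.Agent.LieExceptional Cfsg.Agent.LieExceptional.CITDefs Cfsg.Agent.OddCyclic.T1Defs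
open Cfsg.Agent.LieExceptional.CITPlaneCount Cfsg.Agent.LieExceptional.CITTorus

variable {G : Type u} [Group G]

theorem Pair.symm {M₁ M₂ P₁ P₂ V₁ V₂ T : Subgroup G} {q : ℕ} (h : Pair M₁ M₂ P₁ P₂ V₁ V₂ T q) :
    Pair M₂ M₁ P₂ P₁ V₂ V₁ T q where
  t₁ := h.t₂
  t₂ := h.t₁
  max₁ := h.max₂
  max₂ := h.max₁
  ne := h.ne.symm
  elem₁ := h.elem₂
  elem₂ := h.elem₁
  card_V₁ := h.card_V₂
  card_V₂ := h.card_V₁
  card_C := h.card_C
  sup := by rw [h.sup, sup_comm]
  inf := by rw [inf_comm]; exact h.inf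
  card := h.card
  elem := fun A hA hAe => (h.elem A hA hAe).symm
  cent₁ := h.cent₂
  cent₂ := h.cent₁

/-- `O₂(M) ≠ 1` for a maximal local subgroup -/
theorem o2_ne_bot {M Q : Subgroup G} (hM : IsMaxLocal M) (hQ : IsO2 M Q) : Q ≠ ⊥ := by
  obtain ⟨X, hX1, hX⟩ := hM.1
  rintro rfl
  exact hX1 (le_bot_iff.1 (hQ.max X hX.le hX.two hX.normal))

theorem exists_mul {A Q M T : Subgroup G} (hQ : IsO2 M Q) (hA : A ≤ M) (hT : T = A ⊔ Q) :
    ∀ t ∈ T, ∃ v ∈ A, ∃ x ∈ Q, t = v * x := by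
  intro t ht
  have ht' : t ∈ ((A ⊔ Q : Subgroup G) : Set G) := by rw [← hT]; exact ht
  rw [Subgroup.coe_mul_of_left_le_normalizer_right A Q
    (hA.trans (CITNonCommute.le_normalizer_of_forall hQ.normal))] at ht'
  obtain ⟨v, hv, x, hx, rfl⟩ := Set.mem_mul.1 ht'
  exact ⟨v, hv, x, hx, rfl⟩

/-- one-sided invariance of a finite subgroup gives equality of the conjugate -/
theorem cj_eq_of_forall [Finite G] {T : Subgroup G} {m : G} (h : ∀ t ∈ T, m * t * m⁻¹ ∈ T) : cj m T = T := by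
  have h1 : cj m T ≤ T := by
    intro x hx
    rw [mem_cj] at hx
    have := h _ hx
    have e : m * (m⁻¹ * x * m) * m⁻¹ = x := by group
    rwa [e] at this
  exact Subgroup.eq_of_le_of_card_ge h1 (by rw [card_cj])

theorem conj_ne_one {m v : G} (hv : v ≠ 1) : m * v * m⁻¹ ≠ 1 := by
  intro h
  apply hv
  calc v = m⁻¹ * (m * v * m⁻¹) * m := by group
    _ = 1 := by rw [h]; group

theorem conj_omegaZ [Finite G] {T : Subgroup G} {m : G} (h : ∀ t ∈ T, m * t * m⁻¹ ∈ T) :
    ∀ v ∈ omegaZ T, m * v * m⁻¹ ∈ omegaZ T := by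
  intro v hv
  obtain ⟨hvQ, hv2, hvc⟩ := mem_omegaZ.1 hv
  refine mem_omegaZ.2 ⟨h v hvQ, ?_, fun y hy => ?_⟩
  · calc m * v * m⁻¹ * (m * v * m⁻¹) = m * (v * v) * m⁻¹ := by group
      _ = 1 := by rw [hv2]; group
  · have h1 : m⁻¹ * y * m ∈ T := by
      rw [← mem_cj, cj_eq_of_forall h]; exact hy
    have h2 := hvc _ h1
    calc m * v * m⁻¹ * y = m * (v * (m⁻¹ * y * m)) * m⁻¹ := by group
      _ = m * ((m⁻¹ * y * m) * v) * m⁻¹ := by rw [h2]
      _ = y * (m * v * m⁻¹) := by group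

/-- orbit counting: a transitive action on `V#` bounds the centraliser of `z` -/
theorem centralizer_le [Finite G] {P V T : Subgroup G} {q : ℕ} (hq2 : 2 ≤ q) (hTP : T ≤ P)
    (hcV : Nat.card V = q ^ 2) (hcP : Nat.card P = (q + 1) * q * (q - 1) * Nat.card V)
    (hcT : Nat.card T = q ^ 3) (htr : ∀ v ∈ V, v ≠ 1 → ∀ w ∈ V, w ≠ 1 → ∃ g ∈ P, g * v * g⁻¹ = w)
    {z : G} (hz : z ∈ V) (hz1 : z ≠ 1) (hzT : ∀ t ∈ T, z * t = t * z) :
    ∀ m ∈ P, m * z = z * m → m ∈ T := by
  classical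
  let D : Subgroup G := P ⊓ Subgroup.centralizer ({z} : Set G)
  have hDP : D ≤ P := inf_le_left
  have hTD : T ≤ D := fun t ht => ⟨hTP ht, Subgroup.mem_centralizer_singleton_iff.2 (hzT t ht).symm⟩
  choose g hgP hg using fun (v : V) (hv : v ≠ 1) => htr z hz hz1 v v.2 (fun h0 => hv (Subtype.ext h0))
  let F : V → Option (P ⧸ D.subgroupOf P) := fun v =>
    if hv : v = 1 then none else some (QuotientGroup.mk ⟨g v hv, hgP v hv⟩)
  have hF : Function.Injective F := by
    intro v w hvw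
    by_cases hv : v = 1
    · by_cases hw : w = 1
      · exact hv.trans hw.symm
      · simp [F, hv, hw] at hvw
    · by_cases hw : w = 1
      · simp [F, hv, hw] at hvw
      · simp only [F, hv, hw, dif_neg, not_false_eq_true, Option.some.injEq, QuotientGroup.eq] at hvw
        rw [Subgroup.mem_subgroupOf] at hvw
        have h1 : (g v hv)⁻¹ * g w hw * z = z * ((g v hv)⁻¹ * g w hw) :=
          Subgroup.mem_centralizer_singleton_iff.1 hvw.2
        apply Subtype.ext
        rw [← hg v hv, ← hg w hw]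
        calc g v hv * z * (g v hv)⁻¹ = g v hv * (z * ((g v hv)⁻¹ * g w hw)) * (g w hw)⁻¹ := by group
          _ = g v hv * ((g v hv)⁻¹ * g w hw * z) * (g w hw)⁻¹ := by rw [h1]
          _ = g w hw * z * (g w hw)⁻¹ := by group
  have h1 : Nat.card V ≤ Nat.card (Option (P ⧸ D.subgroupOf P)) := Nat.card_le_card_of_injective F hF
  rw [Finite.card_option] at h1
  have h2 : Nat.card (D.subgroupOf P) * Nat.card (P ⧸ D.subgroupOf P) = Nat.card P :=
    (D.subgroupOf P).card_mul_index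
  have h3 : Nat.card (D.subgroupOf P) = Nat.card D :=
    Nat.card_congr (Subgroup.subgroupOfEquivOfLe hDP).toEquiv
  have h4 : Nat.card D ≤ Nat.card T := by
    rw [h3, hcP, hcV] at h2
    rw [hcV] at h1
    rw [hcT]
    obtain ⟨k, rfl⟩ : ∃ k, q = k + 2 := ⟨q - 2, by omega⟩
    have e1 : k + 2 - 1 = k + 1 := by omega
    rw [e1] at h2
    set x := Nat.card D
    set y := Nat.card (P ⧸ D.subgroupOf P)
    by_contra hcon
    push Not at hcon
    have h5 : (k + 2) ^ 2 - 1 ≤ y := by omega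
    have h6 : (k + 2) ^ 2 - 1 = (k + 1) * (k + 3) := by
      have : (k + 2) ^ 2 = (k + 1) * (k + 3) + 1 := by ring
      omega
    rw [h6] at h5
    have h7 : ((k + 2) ^ 3 + 1) * ((k + 1) * (k + 3)) ≤ x * y := Nat.mul_le_mul hcon h5
    rw [h2] at h7
    have h8 : ((k + 2) ^ 3 + 1) * ((k + 1) * (k + 3)) =
        (k + 2 + 1) * (k + 2) * (k + 1) * (k + 2) ^ 2 + (k + 1) * (k + 3) := by ring
    rw [h8] at h7
    have h9 : 0 < (k + 1) * (k + 3) := by (clear * -; positivity)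
    omega
  have h5 : T = D := Subgroup.eq_of_le_of_card_ge hTD h4
  intro m hm hmz
  rw [h5]
  exact ⟨hm, Subgroup.mem_centralizer_singleton_iff.2 hmz⟩

/-! ### General lemmas -/

theorem pow_unique {r a b x y : ℕ} (hr : r.Prime) (hx : ¬ r ∣ x) (hy : ¬ r ∣ y) (h : r ^ a * x = r ^ b * y) :
    a = b := by
  rcases lt_trichotomy a b with hab | hab | hab
  · exfalso
    obtain ⟨k, rfl⟩ := Nat.exists_eq_add_of_lt hab
    apply hx
    have h1 : x = r ^ (k + 1) * y := by
      apply Nat.eq_of_mul_eq_mul_left (pow_pos hr.pos a)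
      rw [h]; ring
    rw [h1]
    exact Dvd.dvd.mul_right (dvd_pow_self r (Nat.succ_ne_zero k)) y
  · exact hab
  · exfalso
    obtain ⟨k, rfl⟩ := Nat.exists_eq_add_of_lt hab
    apply hy
    have h1 : y = r ^ (k + 1) * x := by
      apply Nat.eq_of_mul_eq_mul_left (pow_pos hr.pos b)
      rw [← h]; ring
    rw [h1]
    exact Dvd.dvd.mul_right (dvd_pow_self r (Nat.succ_ne_zero k)) x

open Cfsg.Agent.Lib.SylowNormalInf in
/-- two normal subgroups of the same order in a group with cyclic odd Sylow subgroups -/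
theorem le_of_card_eq {B : Type*} [Group B] [Finite B] (N₁ N₂ : Subgroup B) [N₁.Normal] [N₂.Normal]
    (hcyc : OddCyc B) (h2 : ∀ S : Sylow 2 B, (S : Subgroup B) ⊓ N₁ ≤ N₂) (hcard : Nat.card N₁ = Nat.card N₂) :
    N₁ ≤ N₂ := by
  rw [← Subgroup.relIndex_eq_one]
  by_contra hne
  obtain ⟨r, hr, hrd⟩ := Nat.exists_prime_and_dvd hne
  haveI := Fact.mk hr
  obtain ⟨S⟩ : Nonempty (Sylow r B) := inferInstance
  have hS : (S : Subgroup B) ⊓ N₁ ≤ N₂ := by
    by_cases h : r = 2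
    · subst h; exact h2 S
    · have hc := hcyc r S hr h
      have e1 := card_inf_mul_relIndex (S : Subgroup B) N₁
      have e2 := card_inf_mul_relIndex (S : Subgroup B) N₂
      have hp1 : IsPGroup r ((S : Subgroup B) ⊓ N₁ : Subgroup B) := S.isPGroup'.to_le inf_le_left
      have hp2 : IsPGroup r ((S : Subgroup B) ⊓ N₂ : Subgroup B) := S.isPGroup'.to_le inf_le_left
      obtain ⟨a, ha⟩ := IsPGroup.iff_card.1 hp1
      obtain ⟨b, hb⟩ := IsPGroup.iff_card.1 hp2
      rw [ha] at e1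
      rw [hb] at e2
      have hab : a = b := pow_unique hr (not_dvd_relIndex S N₁) (not_dvd_relIndex S N₂) (by rw [e1, e2, hcard])
      have h3 : (S : Subgroup B) ⊓ N₁ = (S : Subgroup B) ⊓ N₂ :=
        Cfsg.Agent.OddOrderLocal.CyclicSub.eq_of_card_eq_of_le_cyclic hc inf_le_left inf_le_left
          (by rw [ha, hb, hab])
      rw [h3]
      exact inf_le_right
  have h3 : N₂.relIndex N₁ ∣ (S : Subgroup B).relIndex N₁ := by
    rw [← Subgroup.inf_relIndex_right (S : Subgroup B) N₁]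
    exact Subgroup.relIndex_dvd_of_le_left N₁ hS
  exact not_dvd_relIndex S N₁ (hrd.trans h3)

/-- subgroups inherit cyclic odd Sylow subgroups -/
theorem oddCyc_subgroup [Finite G] (h : OddCyc G) (B : Subgroup G) : OddCyc B := by
  intro p P hp h2
  have hP : IsPGroup p ((P : Subgroup B).map B.subtype) := P.isPGroup'.map _
  obtain ⟨R, hR⟩ := hP.exists_le_sylow
  haveI := h p R hp h2
  have h3 : IsCyclic ((P : Subgroup B).map B.subtype) :=
    isCyclic_of_injective (Subgroup.inclusion hR) (Subgroup.inclusion_injective hR)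
  exact isCyclic_of_surjective _
    ((P : Subgroup B).equivMapOfInjective B.subtype B.subtype_injective).symm.surjective

/-- an element of prime order at least 5 normalising a subgroup of order at most 4 centralises it -/
theorem comm_of_card_le_four [Finite G] {A : Subgroup G} {d : G} {r : ℕ} (hr : r.Prime) (h5 : 5 ≤ r)
    (hd : orderOf d = r) (hn : ∀ x ∈ A, d * x * d⁻¹ ∈ A) (hA : Nat.card A ≤ 4) : ∀ x ∈ A, d * x = x * d := by
  intro x hx
  have hn' : ∀ i : ℕ, d ^ i * x * (d ^ i)⁻¹ ∈ A := by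
    intro i
    induction i with
    | zero => simpa using hx
    | succ n ih =>
      have := hn _ ih
      have e : d ^ (n + 1) * x * (d ^ (n + 1))⁻¹ = d * (d ^ n * x * (d ^ n)⁻¹) * d⁻¹ := by
        rw [pow_succ']; group
      rw [e]; exact this
  let F : Fin 5 → A := fun i => ⟨_, hn' i⟩
  have hF : ¬ Function.Injective F := by
    intro hinj
    have := Nat.card_le_card_of_injective F hinj
    rw [Nat.card_eq_fintype_card, Fintype.card_fin] at this
    omega
  have key : ∀ i j : ℕ, i < j → j < 5 → d ^ i * x * (d ^ i)⁻¹ = d ^ j * x * (d ^ j)⁻¹ → d * x = x * d := by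
    intro i j hij hj he
    obtain ⟨k, rfl⟩ := Nat.exists_eq_add_of_lt hij
    have h1 : Commute (d ^ (k + 1)) x := by
      have h2 : d ^ (i + k + 1) = d ^ i * d ^ (k + 1) := by rw [← pow_add, add_assoc]
      rw [h2] at he
      have h3 : d ^ i * x * (d ^ i)⁻¹ = d ^ i * (d ^ (k + 1) * x * (d ^ (k + 1))⁻¹) * (d ^ i)⁻¹ := by
        rw [he]; group
      have h4 := mul_left_cancel (mul_right_cancel h3)
      change d ^ (k + 1) * x = x * d ^ (k + 1)
      conv_rhs => rw [h4]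
      group
    have h2 : Nat.Coprime (k + 1) (orderOf d) := by
      rw [hd]
      refine Nat.Coprime.symm ((Nat.Prime.coprime_iff_not_dvd hr).2 fun h0 => ?_)
      have := Nat.le_of_dvd (Nat.succ_pos k) h0
      omega
    obtain ⟨m, hm⟩ := exists_pow_eq_self_of_coprime h2
    have h3 := h1.pow_left m
    rw [hm] at h3
    exact h3
  rw [Function.Injective] at hF
  push Not at hF
  obtain ⟨i, j, he, hne⟩ := hF
  have he' : d ^ (i : ℕ) * x * (d ^ (i : ℕ))⁻¹ = d ^ (j : ℕ) * x * (d ^ (j : ℕ))⁻¹ := congrArg Subtype.val he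
  rcases lt_trichotomy (i : ℕ) (j : ℕ) with hij | hij | hij
  · exact key i j hij j.2 he'
  · exact absurd (Fin.ext hij) hne
  · exact key j i hij i.2 he'.symm

/-- `d` of prime order `r ≥ 5`, normalising an elementary abelian `V` and centralising `C ≤ V` with `|V| ≤ 4|C|`,
centralises `V` -/
theorem comm_of_index_le_four [Finite G] {V C : Subgroup G} {d : G} {r : ℕ} (hr : r.Prime) (h5 : 5 ≤ r)
    (hd : orderOf d = r) (hV : Elem V) (hn : ∀ x ∈ V, d * x * d⁻¹ ∈ V) (hCV : C ≤ V)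
    (hC : ∀ x ∈ C, d * x = x * d) (hcard : Nat.card V ≤ Nat.card C * 4) : ∀ x ∈ V, d * x = x * d := by
  let f : V →* V :=
    { toFun := fun x => ⟨d * x * d⁻¹ * (x : G)⁻¹, V.mul_mem (hn x x.2) (V.inv_mem x.2)⟩
      map_one' := by apply Subtype.ext; simp
      map_mul' := by
        intro x y
        apply Subtype.ext
        change d * ((x : G) * y) * d⁻¹ * ((x : G) * y)⁻¹ = d * x * d⁻¹ * (x : G)⁻¹ * (d * y * d⁻¹ * (y : G)⁻¹)
        have h1 : (x : G)⁻¹ * (d * y * d⁻¹ * (y : G)⁻¹) = (d * y * d⁻¹ * (y : G)⁻¹) * (x : G)⁻¹ :=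
          hV.comm (V.inv_mem x.2) (V.mul_mem (hn y y.2) (V.inv_mem y.2))
        calc d * ((x : G) * y) * d⁻¹ * ((x : G) * y)⁻¹
            = d * x * d⁻¹ * ((d * y * d⁻¹ * (y : G)⁻¹) * (x : G)⁻¹) := by group
          _ = d * x * d⁻¹ * (x : G)⁻¹ * (d * y * d⁻¹ * (y : G)⁻¹) := by rw [← h1]; group }
  let R : Subgroup G := f.range.map V.subtype
  have hR : ∀ y ∈ R, ∃ x ∈ V, y = d * x * d⁻¹ * x⁻¹ := by
    rintro _ ⟨_, ⟨x, rfl⟩, rfl⟩
    exact ⟨x, x.2, rfl⟩
  have hR' : ∀ x ∈ V, d * x * d⁻¹ * x⁻¹ ∈ R := fun x hx => ⟨f ⟨x, hx⟩, ⟨⟨x, hx⟩, rfl⟩, rfl⟩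
  have hcR : Nat.card R ≤ 4 := by
    have h1 : Nat.card R = Nat.card f.range :=
      (Nat.card_congr (f.range.equivMapOfInjective V.subtype V.subtype_injective).toEquiv).symm
    have h2 : Nat.card f.ker * Nat.card f.range = Nat.card V := by
      have := f.ker.card_mul_index
      rwa [Subgroup.index_ker] at this
    have h3 : Nat.card C ≤ Nat.card f.ker := by
      refine Nat.card_le_card_of_injective
        (fun x : C => (⟨⟨x, hCV x.2⟩, ?_⟩ : f.ker)) ?_
      · rw [MonoidHom.mem_ker]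
        apply Subtype.ext
        change d * (x : G) * d⁻¹ * (x : G)⁻¹ = 1
        rw [hC x x.2]; group
      · intro x y hxy
        have := congrArg (fun z : f.ker => ((z : V) : G)) hxy
        exact Subtype.ext this
    rw [h1]
    by_contra hcon
    push Not at hcon
    have h4 : Nat.card f.ker * 5 ≤ Nat.card f.ker * Nat.card f.range := Nat.mul_le_mul_left _ hcon
    have h5 : 0 < Nat.card f.ker := Nat.card_pos
    omega
  have hRn : ∀ y ∈ R, d * y * d⁻¹ ∈ R := by
    intro y hy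
    obtain ⟨x, hx, rfl⟩ := hR y hy
    have e : d * (d * x * d⁻¹ * x⁻¹) * d⁻¹ = d * (d * x * d⁻¹) * d⁻¹ * (d * x * d⁻¹)⁻¹ := by group
    rw [e]
    exact hR' _ (hn x hx)
  have hRc := comm_of_card_le_four hr h5 hd hRn hcR
  intro x hx
  have hy := hRc _ (hR' x hx)
  have hyy := hV _ (V.mul_mem (hn x hx) (V.inv_mem hx))
  set y := d * x * d⁻¹ * x⁻¹ with hydef
  have h1 : d * x = y * x * d := by rw [hydef]; group
  have h2 : Commute (d ^ 2) x := by
    change d ^ 2 * x = x * d ^ 2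
    calc d ^ 2 * x = d * (d * x) := by rw [pow_two]; group
      _ = (d * y) * (x * d) := by rw [h1]; group
      _ = y * (d * x) * d := by rw [hy]; group
      _ = (y * y) * x * d ^ 2 := by rw [h1, pow_two]; group
      _ = x * d ^ 2 := by rw [hyy]; group
  have h3 : Nat.Coprime 2 (orderOf d) := by
    rw [hd, Nat.coprime_primes Nat.prime_two hr]
    omega
  obtain ⟨m, hm⟩ := exists_pow_eq_self_of_coprime h3
  have h4 := h2.pow_left m
  rw [hm] at h4
  exact h4

section pair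

variable {M₁ M₂ P₁ P₂ V₁ V₂ T : Subgroup G} {q : ℕ}

theorem two_le [Finite G] (h : Pair M₁ M₂ P₁ P₂ V₁ V₂ T q) : 2 ≤ q := by
  obtain ⟨n, hn, hq⟩ := T1Local.pow h.t₁.ltype
  rw [hq]
  calc 2 = 2 ^ 1 := rfl
    _ ≤ 2 ^ n := Nat.pow_le_pow_right (by norm_num) hn

theorem V_le_T (h : Pair M₁ M₂ P₁ P₂ V₁ V₂ T q) : V₁ ≤ T := by rw [h.sup]; exact le_sup_left

theorem C_le_V (h : Pair M₁ M₂ P₁ P₂ V₁ V₂ T q) : omegaZ T ≤ V₁ := by rw [← h.inf]; exact inf_le_left

theorem card_omega (h : Pair M₁ M₂ P₁ P₂ V₁ V₂ T q) : Nat.card (omegaZ V₁) = q ^ 2 := by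
  rw [omegaZ_eq_of_elem h.elem₁]; exact h.card_V₁

theorem trans [Finite G] (h : Pair M₁ M₂ P₁ P₂ V₁ V₂ T q) : ∀ v ∈ V₁, v ≠ 1 → ∀ w ∈ V₁, w ≠ 1 → ∃ g ∈ P₁, g * v * g⁻¹ = w := by
  have := T1Local.nat_trans h.t₁.ltype (card_omega h)
  rwa [omegaZ_eq_of_elem h.elem₁] at this

theorem cent [Finite G] (h : Pair M₁ M₂ P₁ P₂ V₁ V₂ T q) {z : G} (hz : z ∈ omegaZ T) (hz1 : z ≠ 1) :
    ∀ m ∈ P₁, m * z = z * m → m ∈ T :=
  centralizer_le (two_le h) h.t₁.ltype.syl.le h.card_V₁ (T1Local.card_P h.t₁.ltype) h.card (trans h) (C_le_V h hz) hz1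
    (mem_omegaZ.1 hz).2.2

/-- an element of `P₁` moving an element of `C#` into `C` normalises `T` -/
theorem normalizes [Finite G] (h : Pair M₁ M₂ P₁ P₂ V₁ V₂ T q) {m : G} (hm : m ∈ P₁) {v : G} (hv : v ∈ omegaZ T) (hv1 : v ≠ 1)
    (hmv : m * v * m⁻¹ ∈ omegaZ T) : ∀ t ∈ T, m * t * m⁻¹ ∈ T := by
  intro t ht
  apply cent h hmv (T1Torus.conj_ne_one hv1)
  · exact P₁.mul_mem (P₁.mul_mem hm (h.t₁.ltype.syl.le ht)) (P₁.inv_mem hm)
  · have h1 := (mem_omegaZ.1 hv).2.2 t ht
    calc m * t * m⁻¹ * (m * v * m⁻¹) = m * (t * v) * m⁻¹ := by group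
      _ = m * (v * t) * m⁻¹ := by rw [h1]
      _ = m * v * m⁻¹ * (m * t * m⁻¹) := by group

/-- the local data at `P₁` -/
theorem loc_of_pair [Finite G] (h : Pair M₁ M₂ P₁ P₂ V₁ V₂ T q) : Loc P₁ V₁ T (omegaZ T) := by
  have hq2 := two_le h
  have hV := h.elem₁
  have hVT := V_le_T h
  have hCV := C_le_V h
  have hTP : T ≤ P₁ := h.t₁.ltype.syl.le
  have hT₂ : ∀ t ∈ T, ∀ v ∈ V₂, t * v * t⁻¹ ∈ V₂ := fun t ht v hv => h.t₂.o2.normal t (h.t₂.syl.le ht) v hv
  have hV₂T : V₂ ≤ T := V_le_T (Pair.symm h)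
  have hmul := T1Torus.exists_mul h.t₂.o2 (hVT.trans h.t₂.syl.le) h.sup
  have hcV : Nat.card V₁ = q * q := by rw [h.card_V₁, pow_two]
  have hcT : Nat.card T = q * Nat.card V₁ := by rw [h.card, h.card_V₁]; ring
  have hcomm : ∀ t ∈ T, ∀ v ∈ V₁, t * v * t⁻¹ * v⁻¹ ∈ omegaZ T := by
    intro t ht v hv
    obtain ⟨a, ha, b, hb, rfl⟩ := hmul t ht
    have h1 : b * v * b⁻¹ ∈ V₁ := h.t₁.o2.normal b (h.t₁.syl.le (hV₂T hb)) v hv
    have h2 : a * (b * v * b⁻¹) * a⁻¹ = b * v * b⁻¹ := by rw [hV.comm ha h1]; group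
    have h3 : a * b * v * (a * b)⁻¹ * v⁻¹ = b * v * b⁻¹ * v⁻¹ := by
      calc a * b * v * (a * b)⁻¹ * v⁻¹ = a * (b * v * b⁻¹) * a⁻¹ * v⁻¹ := by group
        _ = b * v * b⁻¹ * v⁻¹ := by rw [h2]
    rw [h3, ← h.inf]
    refine ⟨V₁.mul_mem h1 (V₁.inv_mem hv), ?_⟩
    have h4 : b * v * b⁻¹ * v⁻¹ = b * (v * b⁻¹ * v⁻¹) := by group
    rw [h4]
    exact V₂.mul_mem hb (hT₂ v (hVT hv) _ (V₂.inv_mem hb))
  have hspread : ∀ m ∈ P₁, (∃ v ∈ omegaZ T, v ≠ 1 ∧ m * v * m⁻¹ ∈ omegaZ T) →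
      ∀ v ∈ omegaZ T, m * v * m⁻¹ ∈ omegaZ T := by
    rintro m hm ⟨v, hv, hv1, hmv⟩
    exact conj_omegaZ (normalizes h hm hv hv1 hmv)
  refine ⟨hV, hTP, hVT, hCV, ?_, hcomm, h.cent₁, h.t₁.ltype.o2.normal, ?_, hspread, trans h, ?_, ?_, ?_, ?_, ?_⟩
  · intro z hz t ht
    exact (mem_omegaZ.1 hz).2.2 t ht
  · intro t ht
    obtain ⟨a, ha, b, hb, rfl⟩ := hmul t ht
    have h1 : b * a * b⁻¹ ∈ V₁ := h.t₁.o2.normal b (h.t₁.syl.le (hV₂T hb)) a ha
    have h2 : a * b * (a * b) = a * (b * a * b⁻¹) * (b * b) := by group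
    rw [h2, h.elem₂ b hb, mul_one]
    exact V₁.mul_mem ha h1
  · intro z hz hz1 m hm hmz
    exact cent h hz hz1 m hm hmz.symm.symm
  · intro v hv hvC c hc
    have hcardT : Nat.card (T ⧸ V₁.subgroupOf T) = q := by
      have e1 := (V₁.subgroupOf T).card_mul_index
      have e2 : Nat.card (V₁.subgroupOf T) = Nat.card V₁ :=
        Nat.card_congr (Subgroup.subgroupOfEquivOfLe hVT).toEquiv
      rw [e2, hcT, mul_comm q] at e1
      exact Nat.eq_of_mul_eq_mul_left (by rw [hcV]; positivity) e1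
    let F : (T ⧸ V₁.subgroupOf T) → omegaZ T := fun x =>
      Quotient.liftOn' x (fun t : T => (⟨t * v * (t : G)⁻¹ * v⁻¹, hcomm t t.2 v hv⟩ : omegaZ T)) (by
        intro a b hab
        rw [QuotientGroup.leftRel_apply, Subgroup.mem_subgroupOf] at hab
        apply Subtype.ext
        have h1 : ((a⁻¹ * b : T) : G) * v = v * ((a⁻¹ * b : T) : G) := hV.comm hab hv
        have h2 : (b : G) * v * (b : G)⁻¹ = (a : G) * v * (a : G)⁻¹ := by
          have e : (b : G) = (a : G) * ((a⁻¹ * b : T) : G) := by simp only [_root_.Subgroup.coe_mul, _root_.InvMemClass.coe_inv, _root_.mul_inv_cancel_left]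
          calc (b : G) * v * (b : G)⁻¹
              = (a : G) * (((a⁻¹ * b : T) : G) * v) * ((a⁻¹ * b : T) : G)⁻¹ * (a : G)⁻¹ := by
                rw [e]; group
            _ = (a : G) * v * (a : G)⁻¹ := by rw [h1]; group
        simp only [h2])
    have hFinj : Function.Injective F := by
      intro x y
      induction x using QuotientGroup.induction_on with | _ a => ?_
      induction y using QuotientGroup.induction_on with | _ b => ?_
      intro hxy
      have hxy' : (a : G) * v * (a : G)⁻¹ * v⁻¹ = (b : G) * v * (b : G)⁻¹ * v⁻¹ := congrArg Subtype.val hxy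
      rw [QuotientGroup.eq, Subgroup.mem_subgroupOf]
      by_contra hnot
      apply hvC
      refine h.cent₁ _ (T.mul_mem (T.inv_mem a.2) b.2) hnot v hv ?_
      have h1 := mul_right_cancel hxy'
      calc (a : G)⁻¹ * b * v = (a : G)⁻¹ * ((b : G) * v * (b : G)⁻¹) * b := by group
        _ = (a : G)⁻¹ * ((a : G) * v * (a : G)⁻¹) * b := by rw [h1]
        _ = v * ((a : G)⁻¹ * b) := by group
    have hFbij := (Nat.bijective_iff_injective_and_card F).2 ⟨hFinj, by rw [hcardT, h.card_C]⟩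
    obtain ⟨x, hx⟩ := hFbij.2 ⟨c, hc⟩
    induction x using QuotientGroup.induction_on with | _ a => ?_
    have hx' : (a : G) * v * (a : G)⁻¹ * v⁻¹ = c := congrArg Subtype.val hx
    refine ⟨a, a.2, ?_⟩
    rw [hV.comm hv (hCV hc), ← hx']
    group
  · by_contra hcon
    push Not at hcon
    have : omegaZ T = ⊥ := by rw [eq_bot_iff]; intro x hx; exact Subgroup.mem_bot.2 (hcon x hx)
    have h1 := h.card_C
    rw [this] at h1
    simp at h1
    omega
  · by_contra hcon
    push Not at hcon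
    have h1 : V₁ = omegaZ T := le_antisymm hcon hCV
    have h2 := h.card_C
    rw [← h1, hcV] at h2
    nlinarith only [hq2, h2]
  · intro m hm hne v hv
    let F : omegaZ T × omegaZ T → V₁ := fun x =>
      ⟨(x.1 : G) * (m * (x.2 : G) * m⁻¹),
        V₁.mul_mem (hCV x.1.2) (h.t₁.ltype.o2.normal m hm _ (hCV x.2.2))⟩
    have hFinj : Function.Injective F := by
      rintro ⟨a, b⟩ ⟨a', b'⟩ hab
      have hab' : (a : G) * (m * (b : G) * m⁻¹) = (a' : G) * (m * (b' : G) * m⁻¹) := congrArg Subtype.val hab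
      have h1 : (a' : G)⁻¹ * a = m * ((b' : G) * (b : G)⁻¹) * m⁻¹ := by
        calc (a' : G)⁻¹ * a = (a' : G)⁻¹ * ((a : G) * (m * (b : G) * m⁻¹)) * (m * (b : G)⁻¹ * m⁻¹) := by group
          _ = (a' : G)⁻¹ * ((a' : G) * (m * (b' : G) * m⁻¹)) * (m * (b : G)⁻¹ * m⁻¹) := by rw [hab']
          _ = m * ((b' : G) * (b : G)⁻¹) * m⁻¹ := by group
      have h2 : (a' : G)⁻¹ * a = 1 := by
        by_contra h0
        apply hne
        apply spread_cj hspread hm h0 ((omegaZ T).mul_mem ((omegaZ T).inv_mem a'.2) a.2)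
        rw [h1]
        exact conj_mem_cj ((omegaZ T).mul_mem b'.2 ((omegaZ T).inv_mem b.2))
      have h3 : a = a' := Subtype.ext (inv_mul_eq_one.1 h2).symm
      subst h3
      have h4 := mul_left_cancel hab'
      have h5 := mul_left_cancel (mul_right_cancel h4)
      rw [Subtype.ext h5]
    have hFbij := (Nat.bijective_iff_injective_and_card F).2
      ⟨hFinj, by rw [Nat.card_prod, h.card_C, hcV]⟩
    obtain ⟨⟨c, d⟩, hx⟩ := hFbij.2 ⟨v, hv⟩
    exact ⟨c, c.2, d, d.2, (congrArg Subtype.val hx).symm⟩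

/-- elements of `M₁` normalising `T` lie in `M₂` -/
theorem mem_of_normalizes [Finite G] (h : Pair M₁ M₂ P₁ P₂ V₁ V₂ T q) {k : G} (hk : k ∈ M₁)
    (hkT : ∀ t ∈ T, k * t * k⁻¹ ∈ T) : k ∈ M₂ := by
  have hq2 := two_le h
  have hV₁T : Nat.card V₁ ≠ Nat.card T := by
    rw [h.card_V₁, h.card]
    intro h0
    have h1 : q ^ 2 * 1 = q ^ 2 * q := by rw [mul_one, ← pow_succ]; exact h0
    have := Nat.eq_of_mul_eq_mul_left (by positivity) h1
    omega
  have hne : V₁ ≠ V₂ := by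
    intro h0
    apply hV₁T
    rw [h.sup, ← h0, sup_idem]
  have hkV : cj k V₂ ≤ T := by
    intro x hx
    rw [mem_cj] at hx
    have := hkT _ (V_le_T (Pair.symm h) hx)
    have e : k * (k⁻¹ * x * k) * k⁻¹ = x := by group
    rwa [e] at this
  have hN₂ : Subgroup.normalizer (V₂ : Set G) = M₂ := by
    have hVb : V₂ ≠ ⊥ := T1Torus.o2_ne_bot h.max₂ h.t₂.o2
    obtain ⟨X, hX, hPX⟩ := CITNonCommute.exists_isO2_ge (Subgroup.normalizer (V₂ : Set G)) V₂
      Subgroup.le_normalizer h.t₂.o2.two (fun m hm x hx => (Subgroup.mem_normalizer_iff.1 hm x).1 hx)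
    have hX1 : X ≠ ⊥ := fun h0 => hVb (le_bot_iff.1 (h0 ▸ hPX))
    exact h.max₂.2 _ (CITNonCommute.le_normalizer_of_forall h.t₂.o2.normal) ⟨X, hX1, hX⟩
  rw [← hN₂]
  apply mem_normalizer_of_cj_eq
  rcases h.elem _ hkV (elem_cj h.elem₂) with h1 | h1
  · exfalso
    have h2 : cj k V₂ = V₁ := Subgroup.eq_of_le_of_card_ge h1 (by rw [card_cj, h.card_V₁, h.card_V₂])
    have h3 : cj k V₁ = V₁ :=
      cj_eq_self_of_mem_normalizer (CITNonCommute.le_normalizer_of_forall h.t₁.o2.normal hk)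
    exact hne (cj_injective k (h3.trans h2.symm))
  · exact Subgroup.eq_of_le_of_card_ge h1 (by rw [card_cj])

/-- `|N_{P₁}(T)| = |T| · |C#|` -/
theorem card_normalizer [Finite G] (h : Pair M₁ M₂ P₁ P₂ V₁ V₂ T q) :
    Nat.card (P₁ ⊓ Subgroup.normalizer (T : Set G) : Subgroup G) =
      Nat.card T * Nat.card {c : omegaZ T // c ≠ 1} := by
  obtain ⟨c₀, hc₀, hc₀1⟩ := (loc_of_pair h).nebot
  set N : Subgroup G := P₁ ⊓ Subgroup.normalizer (T : Set G) with hN
  have hTN : T ≤ N := le_inf h.t₁.ltype.syl.le Subgroup.le_normalizer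
  have hNC : ∀ n ∈ N, ∀ x ∈ omegaZ T, n * x * n⁻¹ ∈ omegaZ T := by
    intro n hn
    exact conj_omegaZ fun t ht => (Subgroup.mem_normalizer_iff.1 hn.2 t).1 ht
  have hne : ∀ n ∈ N, n * c₀ * n⁻¹ ≠ 1 := fun n _ => T1Torus.conj_ne_one hc₀1
  let F : (N ⧸ T.subgroupOf N) → {c : omegaZ T // c ≠ 1} := fun x =>
    Quotient.liftOn' x (fun n : N => (⟨⟨n * c₀ * (n : G)⁻¹, hNC n n.2 c₀ hc₀⟩,
      fun h0 => hne n n.2 (congrArg Subtype.val h0)⟩ : {c : omegaZ T // c ≠ 1})) (by
      intro a b hab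
      rw [QuotientGroup.leftRel_apply, Subgroup.mem_subgroupOf] at hab
      apply Subtype.ext
      apply Subtype.ext
      have h1 := (mem_omegaZ.1 hc₀).2.2 _ hab
      have e : (b : G) = (a : G) * ((a⁻¹ * b : N) : G) := by simp only [_root_.Subgroup.coe_mul, _root_.InvMemClass.coe_inv, _root_.mul_inv_cancel_left]
      change (a : G) * c₀ * (a : G)⁻¹ = (b : G) * c₀ * (b : G)⁻¹
      calc (a : G) * c₀ * (a : G)⁻¹
          = (a : G) * (c₀ * ((a⁻¹ * b : N) : G)) * ((a⁻¹ * b : N) : G)⁻¹ * (a : G)⁻¹ := by group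
        _ = (a : G) * (((a⁻¹ * b : N) : G) * c₀) * ((a⁻¹ * b : N) : G)⁻¹ * (a : G)⁻¹ := by rw [h1]
        _ = (b : G) * c₀ * (b : G)⁻¹ := by rw [e]; group)
  have hFinj : Function.Injective F := by
    intro x y
    induction x using QuotientGroup.induction_on with | _ a => ?_
    induction y using QuotientGroup.induction_on with | _ b => ?_
    intro hxy
    have hxy' : (a : G) * c₀ * (a : G)⁻¹ = (b : G) * c₀ * (b : G)⁻¹ :=
      congrArg (fun z : {c : omegaZ T // c ≠ 1} => ((z : omegaZ T) : G)) hxy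
    rw [QuotientGroup.eq, Subgroup.mem_subgroupOf]
    apply cent h hc₀ hc₀1
    · exact (N.mul_mem (N.inv_mem a.2) b.2).1
    · change (a : G)⁻¹ * b * c₀ = c₀ * ((a : G)⁻¹ * b)
      calc (a : G)⁻¹ * b * c₀ = (a : G)⁻¹ * ((b : G) * c₀ * (b : G)⁻¹) * b := by group
        _ = (a : G)⁻¹ * ((a : G) * c₀ * (a : G)⁻¹) * b := by rw [hxy']
        _ = c₀ * ((a : G)⁻¹ * b) := by group
  have hFsurj : Function.Surjective F := by
    rintro ⟨⟨c, hc⟩, hc1⟩
    have hc1' : c ≠ 1 := fun h0 => hc1 (Subtype.ext h0)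
    obtain ⟨m, hm, hmc⟩ := trans h c₀ (C_le_V h hc₀) hc₀1 c (C_le_V h hc) hc1'
    have hmT := normalizes h hm hc₀ hc₀1 (by rw [hmc]; exact hc)
    have hmN : m ∈ N := ⟨hm, mem_normalizer_of_cj_eq (cj_eq_of_forall hmT)⟩
    refine ⟨QuotientGroup.mk ⟨m, hmN⟩, ?_⟩
    apply Subtype.ext
    apply Subtype.ext
    exact hmc
  have h1 : Nat.card (N ⧸ T.subgroupOf N) = Nat.card {c : omegaZ T // c ≠ 1} :=
    Nat.card_eq_of_bijective F ⟨hFinj, hFsurj⟩
  have h2 : Nat.card (T.subgroupOf N) * Nat.card (N ⧸ T.subgroupOf N) = Nat.card N :=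
    (T.subgroupOf N).card_mul_index
  rw [← h2, h1, Nat.card_congr (Subgroup.subgroupOfEquivOfLe hTN).toEquiv]

/-- 2-elements of `M₁` normalising `T` lie in `T` -/
theorem mem_T_of_two [Finite G] (h : Pair M₁ M₂ P₁ P₂ V₁ V₂ T q) {D : Subgroup G} (hD : D ≤ M₁)
    (hDT : D ≤ Subgroup.normalizer (T : Set G)) (hD2 : IsPGroup 2 D) : D ≤ T := by
  have h1 := h.t₁.syl.max (D ⊔ T) (sup_le hD h.t₁.syl.le) (hD2.to_sup_of_normal_right' h.t₁.syl.two hDT) le_sup_right
  rw [← h1]
  exact le_sup_left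

/-- for `q ≠ 2`: `N_{P₁}(T) ≤ P₂` -/
theorem normalizer_le [Finite G] (hG : _root_.Cfsg.Agent.OddCyclic.T1Defs.Hyp G) (h : Pair M₁ M₂ P₁ P₂ V₁ V₂ T q) (hq : q ≠ 2) {k : G} (hk : k ∈ P₁)
    (hkT : ∀ t ∈ T, k * t * k⁻¹ ∈ T) : k ∈ P₂ := by
  set N : Subgroup G := Subgroup.normalizer (T : Set G) with hN
  set B : Subgroup G := M₁ ⊓ N with hB
  have hBM₂ : B ≤ M₂ := fun b hb => mem_of_normalizes h hb.1 fun t ht => (Subgroup.mem_normalizer_iff.1 hb.2 t).1 ht
  have hP₁M : P₁ ≤ M₁ := h.t₁.le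
  have hP₂M : P₂ ≤ M₂ := h.t₂.le
  have hP₂N : P₂ ⊓ N ≤ B := by
    rintro x ⟨hx, hxN⟩
    exact ⟨mem_of_normalizes (Pair.symm h) (hP₂M hx) fun t ht => (Subgroup.mem_normalizer_iff.1 hxN t).1 ht, hxN⟩
  have hP₁N : P₁ ⊓ N ≤ B := inf_le_inf_right _ hP₁M
  have n1 : ((P₁ ⊓ N).subgroupOf B).Normal := by
    refine ⟨fun x hx g => ?_⟩
    rw [Subgroup.mem_subgroupOf] at hx ⊢
    exact ⟨h.t₁.normal hq g g.2.1 x hx.1, N.mul_mem (N.mul_mem g.2.2 hx.2) (N.inv_mem g.2.2)⟩
  have n2 : ((P₂ ⊓ N).subgroupOf B).Normal := by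
    refine ⟨fun x hx g => ?_⟩
    rw [Subgroup.mem_subgroupOf] at hx ⊢
    exact ⟨h.t₂.normal hq g (hBM₂ g.2) x hx.1, N.mul_mem (N.mul_mem g.2.2 hx.2) (N.inv_mem g.2.2)⟩
  have hle : (P₁ ⊓ N).subgroupOf B ≤ (P₂ ⊓ N).subgroupOf B := by
    refine le_of_card_eq _ _ (oddCyc_subgroup hG.cyc B) ?_ ?_
    · intro S x hx
      have h1 : (S : Subgroup B).map B.subtype ≤ T := by
        apply mem_T_of_two h
        · exact (Subgroup.map_subtype_le _).trans inf_le_left
        · exact (Subgroup.map_subtype_le _).trans inf_le_right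
        · exact S.isPGroup'.map _
      have h2 : (x : G) ∈ T := h1 ⟨x, hx.1, rfl⟩
      rw [Subgroup.mem_subgroupOf]
      exact ⟨h.t₂.ltype.syl.le h2, Subgroup.le_normalizer h2⟩
    · rw [Nat.card_congr (Subgroup.subgroupOfEquivOfLe hP₁N).toEquiv,
        Nat.card_congr (Subgroup.subgroupOfEquivOfLe hP₂N).toEquiv, card_normalizer h, card_normalizer (Pair.symm h)]
  have hkN : k ∈ N := mem_normalizer_of_cj_eq (cj_eq_of_forall hkT)
  have hkB : k ∈ B := ⟨hP₁M hk, hkN⟩
  have := hle (show (⟨k, hkB⟩ : B) ∈ (P₁ ⊓ N).subgroupOf B from Subgroup.mem_subgroupOf.2 ⟨hk, hkN⟩)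
  exact (Subgroup.mem_subgroupOf.1 this).1

/-- `N_G(V₁) = M₁` -/
theorem normalizer_V [Finite G] (h : Pair M₁ M₂ P₁ P₂ V₁ V₂ T q) : Subgroup.normalizer (V₁ : Set G) = M₁ := by
  have hVb : V₁ ≠ ⊥ := T1Torus.o2_ne_bot h.max₁ h.t₁.o2
  obtain ⟨X, hX, hPX⟩ := CITNonCommute.exists_isO2_ge (Subgroup.normalizer (V₁ : Set G)) V₁
    Subgroup.le_normalizer h.t₁.o2.two (fun m hm x hx => (Subgroup.mem_normalizer_iff.1 hm x).1 hx)
  have hX1 : X ≠ ⊥ := fun h0 => hVb (le_bot_iff.1 (h0 ▸ hPX))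
  exact h.max₁.2 _ (CITNonCommute.le_normalizer_of_forall h.t₁.o2.normal) ⟨X, hX1, hX⟩

/-- `C_G(V₁) ≤ V₁` -/
theorem centralizer_V [Finite G] (hG : _root_.Cfsg.Agent.OddCyclic.T1Defs.Hyp G) (h : Pair M₁ M₂ P₁ P₂ V₁ V₂ T q) :
    Subgroup.centralizer (V₁ : Set G) ≤ V₁ := by
  have hVb : V₁ ≠ ⊥ := T1Torus.o2_ne_bot h.max₁ h.t₁.o2
  refine hG.char2 V₁ V₁ h.t₁.o2.two hVb ?_
  rw [normalizer_V h]
  exact h.t₁.o2

/-- subgroups of `M₁` centralising an element of `C#` and normalising `C` are 2-groups if `q ≤ 4` -/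
theorem isPGroup_of [Finite G] (hG : _root_.Cfsg.Agent.OddCyclic.T1Defs.Hyp G) (h : Pair M₁ M₂ P₁ P₂ V₁ V₂ T q) (hq : q ≤ 4) {D : Subgroup G}
    (hD : D ≤ M₁) {c : G} (hc : c ∈ omegaZ T) (hc1 : c ≠ 1) (hDc : ∀ d ∈ D, d * c = c * d)
    (hDC : ∀ d ∈ D, ∀ x ∈ omegaZ T, d * x * d⁻¹ ∈ omegaZ T) : IsPGroup 2 D := by
  have key : ∀ {r : ℕ}, r.Prime → r ∣ Nat.card D → r = 2 := by
    intro r hr hrd
    haveI := Fact.mk hr
    obtain ⟨d, hd⟩ := exists_prime_orderOf_dvd_card' r hrd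
    have hd' : orderOf (d : G) = r := by rw [Subgroup.orderOf_coe]; exact hd
    by_contra h2
    by_cases h3 : r = 3
    · subst h3
      exact hc1 (h.t₁.fpf d (hD d.2) hd' c (C_le_V h hc) (hDc d d.2))
    · have h5 : 5 ≤ r := by
        by_contra hcon
        push Not at hcon
        have := hr.two_le
        interval_cases r
        · exact h2 rfl
        · exact h3 rfl
        · exact absurd hr (by norm_num)
      have e1 := comm_of_card_le_four hr h5 hd' (hDC d d.2) (by rw [h.card_C]; exact hq)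
      have e2 := comm_of_index_le_four hr h5 hd' h.elem₁ (h.t₁.o2.normal d (hD d.2)) (C_le_V h) e1 (by
        rw [h.card_V₁, h.card_C, pow_two]
        exact Nat.mul_le_mul_left _ hq)
      have e3 : (d : G) ∈ V₁ := centralizer_V hG h (Subgroup.mem_centralizer_iff.2 fun x hx => (e2 x hx).symm)
      have e4 := h.elem₁ _ e3
      rw [← pow_two] at e4
      have e5 := orderOf_dvd_of_pow_eq_one e4
      rw [hd'] at e5
      have := Nat.le_of_dvd (by norm_num) e5
      omega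
  exact IsPGroup.of_card (Nat.eq_prime_pow_of_unique_prime_dvd Nat.card_pos.ne' key)

/-- `M₁ = P₁` for `q ∈ {2, 4}` -/
theorem M_eq_P [Finite G] (hG : _root_.Cfsg.Agent.OddCyclic.T1Defs.Hyp G) (h : Pair M₁ M₂ P₁ P₂ V₁ V₂ T q) (hq : q = 2 ∨ q = 4) : M₁ = P₁ := by
  obtain ⟨c, hc, hc1⟩ := (loc_of_pair h).nebot
  apply le_antisymm _ h.t₁.le
  intro m hm
  obtain ⟨p, hp, hpm⟩ := trans h _ (h.t₁.o2.normal m hm c (C_le_V h hc)) (T1Torus.conj_ne_one hc1) c (C_le_V h hc) hc1
  have hn : p * m ∈ M₁ := M₁.mul_mem (h.t₁.le hp) hm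
  have hnc : p * m * c * (p * m)⁻¹ = c := by
    calc p * m * c * (p * m)⁻¹ = p * (m * c * m⁻¹) * p⁻¹ := by group
      _ = c := hpm
  have hnc' : p * m * c = c * (p * m) := by
    conv_rhs => rw [← hnc]
    group
  suffices hT : p * m ∈ T by
    have h1 : m = p⁻¹ * (p * m) := by group
    rw [h1]
    exact P₁.mul_mem (P₁.inv_mem hp) (h.t₁.ltype.syl.le hT)
  rcases hq with hq | hq
  · have h2 := h.card_C
    rw [hq] at h2
    have hC : ∀ x ∈ omegaZ T, x = 1 ∨ x = c := by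
      intro x hx
      obtain ⟨y, hy⟩ := (Nat.card_eq_two_iff' (1 : omegaZ T)).1 h2
      have e1 := hy.2 ⟨c, hc⟩ (fun h0 => hc1 (congrArg Subtype.val h0))
      by_cases hx1 : x = 1
      · exact Or.inl hx1
      · right
        have e2 := hy.2 ⟨x, hx⟩ (fun h0 => hx1 (congrArg Subtype.val h0))
        exact congrArg Subtype.val (e2.trans e1.symm)
    have h3 : IsPGroup 2 (M₁ ⊓ Subgroup.centralizer ({c} : Set G) : Subgroup G) := by
      refine isPGroup_of hG h (by omega) inf_le_left hc hc1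
        (fun d hd => Subgroup.mem_centralizer_singleton_iff.1 hd.2) ?_
      intro d hd x hx
      rcases hC x hx with rfl | rfl
      · simp
      · have := Subgroup.mem_centralizer_singleton_iff.1 hd.2
        rw [this]
        simpa using hx
    have h4 := h.t₁.syl.max _ inf_le_left h3 (le_inf h.t₁.syl.le fun t ht =>
      Subgroup.mem_centralizer_singleton_iff.2 ((mem_omegaZ.1 hc).2.2 t ht).symm)
    rw [← h4]
    exact ⟨hn, Subgroup.mem_centralizer_singleton_iff.2 hnc'⟩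
  · have h5 : ∀ t ∈ T, p * m * t * (p * m)⁻¹ ∈ T := by
      intro t ht
      apply cent h hc hc1
      · exact h.t₁.normal (by omega) _ hn t (h.t₁.ltype.syl.le ht)
      · have h1 := (mem_omegaZ.1 hc).2.2 t ht
        calc p * m * t * (p * m)⁻¹ * c = p * m * t * (p * m)⁻¹ * (p * m * c * (p * m)⁻¹) := by rw [hnc]
          _ = p * m * (t * c) * (p * m)⁻¹ := by group
          _ = p * m * (c * t) * (p * m)⁻¹ := by rw [h1]
          _ = (p * m * c * (p * m)⁻¹) * (p * m * t * (p * m)⁻¹) := by group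
          _ = c * (p * m * t * (p * m)⁻¹) := by rw [hnc]
    have hN : p * m ∈ Subgroup.normalizer (T : Set G) := mem_normalizer_of_cj_eq (cj_eq_of_forall h5)
    have h3 : IsPGroup 2 (M₁ ⊓ Subgroup.centralizer ({c} : Set G) ⊓ Subgroup.normalizer (T : Set G) : Subgroup G) := by
      refine isPGroup_of hG h (by omega) (inf_le_left.trans inf_le_left) hc hc1
        (fun d hd => Subgroup.mem_centralizer_singleton_iff.1 hd.1.2) ?_
      intro d hd
      exact conj_omegaZ fun t ht => (Subgroup.mem_normalizer_iff.1 hd.2 t).1 ht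
    have h4 := mem_T_of_two h (inf_le_left.trans inf_le_left) inf_le_right h3
    exact h4 ⟨⟨hn, Subgroup.mem_centralizer_singleton_iff.2 hnc'⟩, hN⟩

end pair

/-- 3.3 -/
theorem q_le_four [Finite G] [IsSimpleGroup G] (hG : _root_.Cfsg.Agent.OddCyclic.T1Defs.Hyp G) {M₁ M₂ P₁ P₂ V₁ V₂ T : Subgroup G} {q : ℕ}
    (h : Pair M₁ M₂ P₁ P₂ V₁ V₂ T q) : (q = 2 ∨ q = 4) ∧ M₁ = P₁ ∧ M₂ = P₂ := by
  have hq : q = 2 ∨ q = 4 := by
    by_cases hq2 : q = 2
    · exact Or.inl hq2
    have L₁ := loc_of_pair h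
    have L₂ := loc_of_pair (Pair.symm h)
    have hT : ∀ t ∈ T, ∃ v ∈ V₁, ∃ w ∈ V₂, t = v * w :=
      T1Torus.exists_mul h.t₂.o2 ((V_le_T h).trans h.t₂.syl.le) h.sup
    obtain ⟨c₀, hc₀, hc₀1⟩ := L₁.nebot
    have hle : Nat.card (omegaZ T) ≤ 4 := by
      refine card_C_le_four L₁ L₂ hT ?_
      intro k hk hkC
      apply normalizer_le hG h hq2 hk
      apply normalizes h hk hc₀ hc₀1
      have := conj_mem_cj (a := k) hc₀
      rwa [hkC] at this
    rw [h.card_C] at hle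
    obtain ⟨n, hn, hq⟩ := T1Local.pow h.t₁.ltype
    have hn2 : n ≤ 2 := by
      by_contra hcon
      have : 2 ^ 3 ≤ 2 ^ n := Nat.pow_le_pow_right (by norm_num) (by omega)
      rw [← hq] at this
      omega
    interval_cases n
    · left; rw [hq]; norm_num
    · right; rw [hq]; norm_num
  exact ⟨hq, M_eq_P hG h hq, M_eq_P hG (Pair.symm h) hq⟩

end Cfsg.Agent.OddCyclic.T1Torus
end
end

-- part: OddCyclic/COneOdd
section
set_option linter.all false
open scoped Cfsg.Agent.FastGrp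

/-!
# S0342 (D): a normal subgroup of odd order in a minimal parabolic with perfect residual is trivial

`X` a finite group with cyclic odd Sylow subgroups, `T` a Sylow 2-subgroup contained in a unique maximal subgroup
`M`, `C ≤ M` normal of odd order, `X = N T`, `N = [N, N] C` normal: then `C = 1`.
-/

set_option autoImplicit false

namespace Cfsg.Agent.OddCyclic.COneOdd

open Subgroup Cfsg.Agent.OddCyclic.T1Defs
open scoped Pointwise commutatorElement

variable {X : Type*} [Group X]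

/-- automorphisms of a cyclic group commute -/
theorem commutator_le_centralizer {R : Subgroup X} [R.Normal] (hR : IsCyclic R) :
    ⁅(⊤ : Subgroup X), ⊤⁆ ≤ centralizer (R : Set X) := by
  obtain ⟨g, hg⟩ := hR
  have hpow : ∀ x : X, ∃ n : ℤ, x * g * x⁻¹ = (g : X) ^ n := by
    intro x
    have h1 : x * g * x⁻¹ ∈ R := (inferInstance : R.Normal).conj_mem g g.2 x
    obtain ⟨n, hn⟩ := mem_zpowers_iff.1 (hg ⟨_, h1⟩)
    refine ⟨n, ?_⟩
    have := congrArg Subtype.val hn
    simpa using this.symm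
  have hcen : ∀ z : X, z * g = g * z → z ∈ centralizer (R : Set X) := by
    intro z hz
    rw [mem_centralizer_iff]
    intro r hr
    obtain ⟨n, hn⟩ := mem_zpowers_iff.1 (hg ⟨r, hr⟩)
    have h1 : (g : X) ^ n = r := by
      have := congrArg Subtype.val hn
      simpa using this
    rw [← h1]
    exact (((show Commute z g from hz).zpow_right n).eq).symm
  rw [commutator_le]
  intro x _ y _
  apply hcen
  obtain ⟨m, hm⟩ := hpow x
  obtain ⟨n, hn⟩ := hpow y
  have h1 : x * y * g * (x * y)⁻¹ = (g : X) ^ (m * n) := by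
    calc x * y * g * (x * y)⁻¹ = x * (y * g * y⁻¹) * x⁻¹ := by group
      _ = x * (g : X) ^ n * x⁻¹ := by rw [hn]
      _ = (x * g * x⁻¹) ^ n := (conj_zpow ..).symm
      _ = (g : X) ^ (m * n) := by rw [hm, ← zpow_mul]
  have h2 : y * x * g * (y * x)⁻¹ = (g : X) ^ (m * n) := by
    calc y * x * g * (y * x)⁻¹ = y * (x * g * x⁻¹) * y⁻¹ := by group
      _ = y * (g : X) ^ m * y⁻¹ := by rw [hm]
      _ = (y * g * y⁻¹) ^ m := (conj_zpow ..).symm
      _ = (g : X) ^ (m * n) := by rw [hn, ← zpow_mul, mul_comm]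
  have h3 : (y * x)⁻¹ * (x * y) * g * ((y * x)⁻¹ * (x * y))⁻¹ = g := by
    calc (y * x)⁻¹ * (x * y) * g * ((y * x)⁻¹ * (x * y))⁻¹
        = (y * x)⁻¹ * (x * y * g * (x * y)⁻¹) * (y * x) := by group
      _ = (y * x)⁻¹ * (y * x * g * (y * x)⁻¹) * (y * x) := by rw [h1, h2]
      _ = g := by group
  -- `(yx)⁻¹(xy)` centralises, hence its conjugate `⁅x, y⁆`
  have h4 : ∀ z : X, z * g * z⁻¹ = g → ∀ w : X, (w * z * w⁻¹) * g * (w * z * w⁻¹)⁻¹ = g := by
    intro z hz w
    have h5 : z * g = g * z := by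
      calc z * g = (z * g * z⁻¹) * z := by group
        _ = g * z := by rw [hz]
    have h6 := mem_centralizer_iff.1 (hcen z h5)
    have h7 : w⁻¹ * g * w ∈ R := by
      have := (inferInstance : R.Normal).conj_mem g g.2 w⁻¹
      rwa [inv_inv] at this
    have h8 := h6 _ h7
    calc (w * z * w⁻¹) * g * (w * z * w⁻¹)⁻¹ = w * (z * (w⁻¹ * g * w)) * z⁻¹ * w⁻¹ := by group
      _ = w * ((w⁻¹ * g * w) * z) * z⁻¹ * w⁻¹ := by rw [h8]
      _ = g := by group
  have h9 := h4 _ h3 (y * x)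
  have e : y * x * ((y * x)⁻¹ * (x * y)) * (y * x)⁻¹ = ⁅x, y⁆ := by
    rw [commutatorElement_def]; group
  rw [e] at h9
  calc ⁅x, y⁆ * g = (⁅x, y⁆ * g * ⁅x, y⁆⁻¹) * ⁅x, y⁆ := by group
    _ = g * ⁅x, y⁆ := by rw [h9]

/-- A central element of prime order `r` in the commutator subgroup of a group with an abelian Sylow
`r`-subgroup does not exist. -/
theorem not_mem_commutator {Y : Type*} [Group Y] [Finite Y] {r : ℕ} [Fact r.Prime] (P : Sylow r Y)
    (hP : IsCyclic P) {z : Y} (hz : ∀ y, y * z = z * y) (hzr : orderOf z = r) :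
    z ∉ (⁅(⊤ : Subgroup Y), (⊤ : Subgroup Y)⁆ : Subgroup Y) := by
  intro hzc
  have hzP : z ∈ (P : Subgroup Y) := by
    have h1 : (zpowers z).Normal := by
      refine ⟨fun n hn g => ?_⟩
      obtain ⟨k, rfl⟩ := mem_zpowers_iff.1 hn
      have : g * z ^ k = z ^ k * g := ((show Commute g z from hz g).zpow_right k).eq
      rw [this, mul_inv_cancel_right]
      exact hn
    have h2 : IsPGroup r (zpowers z) := by
      apply IsPGroup.of_card (n := 1)
      rw [Nat.card_zpowers, hzr, pow_one]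
    have h3 : zpowers z ≤ (P : Subgroup Y) := h2.le_sylow_of_normal P
    exact h3 (mem_zpowers z)
  letI : CommGroup P := IsCyclic.commGroup
  have h1 : MonoidHom.transfer (MonoidHom.id (P : Subgroup Y)) z = 1 := by
    have h2 : ⁅(⊤ : Subgroup Y), ⊤⁆ ≤ (MonoidHom.transfer (MonoidHom.id (P : Subgroup Y))).ker := by
      rw [commutator_le]
      intro a _ b _
      rw [MonoidHom.mem_ker, map_commutatorElement, commutatorElement_eq_one_iff_mul_comm, mul_comm]
    exact h2 hzc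
  have h3 : ∀ (k : ℕ) (g₀ : Y), g₀⁻¹ * z ^ k * g₀ ∈ (P : Subgroup Y) → g₀⁻¹ * z ^ k * g₀ = z ^ k := by
    intro k g₀ _
    have : z ^ k * g₀ = g₀ * z ^ k := ((show Commute g₀ z from hz g₀).pow_right k).eq.symm
    rw [mul_assoc, this, inv_mul_cancel_left]
  rw [MonoidHom.transfer_eq_pow (MonoidHom.id (P : Subgroup Y)) z h3] at h1
  have h4 : z ^ (P : Subgroup Y).index = 1 := by
    have := congrArg Subtype.val h1
    simpa using this
  have h5 := orderOf_dvd_of_pow_eq_one h4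
  rw [hzr] at h5
  exact P.not_dvd_index h5

/-- a subgroup of index prime to `r` contains a conjugate of a Sylow `r`-subgroup -/
theorem exists_sylow_conj_le [Finite X] {r : ℕ} [Fact r.Prime] (T : Sylow r X) {K : Subgroup X}
    (hK : ¬ r ∣ K.index) : ∃ g : X, ∀ t ∈ T, g * t * g⁻¹ ∈ K := by
  obtain ⟨P⟩ : Nonempty (Sylow r K) := inferInstance
  have h1 : IsPGroup r ((P : Subgroup K).map K.subtype) := P.isPGroup'.map _
  have h2 : ¬ r ∣ ((P : Subgroup K).map K.subtype).index := by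
    have h3 : ((P : Subgroup K).map K.subtype).index = (P : Subgroup K).index * K.index := by
      rw [Subgroup.index_map, Subgroup.ker_subtype, sup_bot_eq, Subgroup.range_subtype]
    rw [h3]
    intro h4
    rcases (Fact.out : r.Prime).dvd_mul.1 h4 with h5 | h5
    · exact P.not_dvd_index h5
    · exact hK h5
  obtain ⟨g, hg⟩ := MulAction.exists_smul_eq X T (h1.toSylow h2)
  refine ⟨g, fun t ht => ?_⟩
  have h5 : g * t * g⁻¹ ∈ ((g • T : Sylow r X) : Subgroup X) := by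
    rw [Sylow.coe_subgroup_smul]
    exact ⟨t, ht, rfl⟩
  rw [hg] at h5
  obtain ⟨x, -, hx⟩ : g * t * g⁻¹ ∈ (P : Subgroup K).map K.subtype := h5
  rw [← hx]
  exact x.2

theorem index_mul_card_inf [Finite X] {H C : Subgroup X} [C.Normal] (h : H ⊔ C = ⊤) :
    H.index * Nat.card (C ⊓ H : Subgroup X) = Nat.card C := by
  have h1 : C.index = C.relIndex H := by
    rw [← Subgroup.relIndex_sup_right H C, h, Subgroup.relIndex_top_right]
  have h2 := C.card_mul_index
  have h3 := H.card_mul_index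
  have h4 : Nat.card (C ⊓ H : Subgroup X) * C.relIndex H = Nat.card H := by
    have := Subgroup.relIndex_mul_relIndex (⊥ : Subgroup X) (C ⊓ H) H bot_le inf_le_right
    rwa [Subgroup.relIndex_bot_left, Subgroup.relIndex_bot_left, Subgroup.inf_relIndex_right] at this
  have h5 : 0 < C.relIndex H := by
    rw [← h1]; exact Nat.pos_of_ne_zero (Subgroup.index_ne_zero_of_finite)
  apply Nat.eq_of_mul_eq_mul_right h5
  calc H.index * Nat.card (C ⊓ H : Subgroup X) * C.relIndex H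
      = (Nat.card (C ⊓ H : Subgroup X) * C.relIndex H) * H.index := by ring
    _ = Nat.card X := by rw [h4, h3]
    _ = Nat.card C * C.relIndex H := by rw [← h1, h2]

/-- two subgroups of order `r` of a cyclic group are equal -/
theorem zpowers_eq_of_orderOf {P : Subgroup X} [Finite X] (hP : IsCyclic P) {a b : X} (ha : a ∈ P) (hb : b ∈ P)
    (h : orderOf a = orderOf b) : zpowers a = zpowers b := by
  refine Cfsg.Agent.OddOrderLocal.CyclicSub.eq_of_card_eq_of_le_cyclic hP (zpowers_le.2 ha) (zpowers_le.2 hb) ?_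
  rw [Nat.card_zpowers, Nat.card_zpowers, h]

/-- **No normal subgroup of odd order.** -/
theorem eq_bot [Finite X] (hcyc : OddCyc X) (T : Sylow 2 X) {M C N : Subgroup X} [C.Normal] [N.Normal]
    (hCM : C ≤ M) (hM : M ≠ ⊤) (hmin : ∀ Y : Subgroup X, (T : Subgroup X) ≤ Y → Y ≤ M ∨ Y = ⊤)
    (hTM : (T : Subgroup X) ≤ M) (hodd : Odd (Nat.card C)) (hN : N ⊔ T = ⊤) (hperf : N ≤ ⁅N, N⁆ ⊔ C) : C = ⊥ := by
  have h2p : Fact (Nat.Prime 2) := ⟨Nat.prime_two⟩
  by_contra hC
  obtain ⟨r, hr, hrC⟩ := Nat.exists_prime_and_dvd (fun h => hC (Subgroup.card_eq_one.1 h))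
  have hrf : Fact r.Prime := ⟨hr⟩
  have hr2 : r ≠ 2 := by
    rintro rfl
    rw [← Nat.not_even_iff_odd, even_iff_two_dvd] at hodd
    exact hodd hrC
  -- a normal Sylow subgroup of `C`
  obtain ⟨R₀⟩ : Nonempty (Sylow r C) := inferInstance
  set R₁ : Subgroup X := (R₀ : Subgroup C).map C.subtype with hR₁
  have hfr : normalizer (R₁ : Set X) ⊔ C = ⊤ := Sylow.normalizer_sup_eq_top R₀
  have hidx : ¬ 2 ∣ (normalizer (R₁ : Set X)).index := by
    intro h
    have h1 : (normalizer (R₁ : Set X)).index ∣ Nat.card C := Dvd.intro _ (index_mul_card_inf hfr)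
    rw [← Nat.not_even_iff_odd, even_iff_two_dvd] at hodd
    exact hodd (h.trans h1)
  obtain ⟨g, hg⟩ := exists_sylow_conj_le T hidx
  have hnt : normalizer (R₁ : Set X) = ⊤ := by
    -- the conjugate `N(R₁) ^ (g⁻¹)`
    set K : Subgroup X := (normalizer (R₁ : Set X)).comap (MulAut.conj g).toMonoidHom with hK
    have hTK : (T : Subgroup X) ≤ K := fun t ht => hg t ht
    have hKC : K ⊔ C = ⊤ := by
      have h1 : (K ⊔ C) = (normalizer (R₁ : Set X) ⊔ C).comap (MulAut.conj g).toMonoidHom := by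
        have h2 : C = C.comap (MulAut.conj g).toMonoidHom := by
          ext x
          rw [mem_comap]
          change x ∈ C ↔ g * x * g⁻¹ ∈ C
          refine ⟨fun h => (inferInstance : C.Normal).conj_mem x h g, fun h => ?_⟩
          have := (inferInstance : C.Normal).conj_mem _ h g⁻¹
          have e : g⁻¹ * (g * x * g⁻¹) * g⁻¹⁻¹ = x := by group
          rwa [e] at this
        conv_lhs => rw [h2, hK]
        exact (Subgroup.comap_sup_eq _ _ _ (MulAut.conj g).surjective)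
      rw [h1, hfr, comap_top]
    have hKtop : K = ⊤ := (hmin K hTK).resolve_left fun h => hM (by
      rw [eq_top_iff, ← hKC]
      exact sup_le h hCM)
    rw [eq_top_iff]
    intro x _
    have h1 : g⁻¹ * x * g ∈ K := by rw [hKtop]; exact mem_top _
    have h2 : g * (g⁻¹ * x * g) * g⁻¹ ∈ normalizer (R₁ : Set X) := h1
    have e : g * (g⁻¹ * x * g) * g⁻¹ = x := by group
    rwa [e] at h2
  have hRn : R₁.Normal := normalizer_eq_top_iff.1 hnt
  have hRp : IsPGroup r R₁ := R₀.isPGroup'.map _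
  have hRle : ∀ P : Sylow r X, R₁ ≤ P := fun P => hRp.le_sylow_of_normal P
  have hRcyc : IsCyclic R₁ := by
    obtain ⟨P⟩ : Nonempty (Sylow r X) := inferInstance
    have := hcyc r P hr hr2
    exact isCyclic_of_injective (Subgroup.inclusion (hRle P)) (Subgroup.inclusion_injective _)
  have hRne : ∃ x ∈ R₁, orderOf x = r := by
    have h1 : r ∣ Nat.card R₁ := by
      rw [hR₁, Subgroup.card_map_of_injective C.subtype_injective]
      exact R₀.dvd_card_of_dvd_card hrC
    obtain ⟨x, hx⟩ := exists_prime_orderOf_dvd_card' r h1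
    exact ⟨x, x.2, by rw [Subgroup.orderOf_coe]; exact hx⟩
  obtain ⟨x₀, hx₀, hx₀r⟩ := hRne
  -- `Y = [N, N]` centralises `R₁`
  set Y : Subgroup X := ⁅N, N⁆ with hY
  have hYR : Y ≤ centralizer (R₁ : Set X) :=
    (commutator_mono le_top le_top).trans (commutator_le_centralizer hRcyc)
  have hYn : Y.Normal := by rw [hY]; infer_instance
  have hY'n : (⁅Y, Y⁆ : Subgroup X).Normal := inferInstance
  have hrY : ¬ r ∣ Nat.card (⁅Y, Y⁆ : Subgroup X) := by
    intro hd
    obtain ⟨z, hz⟩ := exists_prime_orderOf_dvd_card' r hd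
    have hzr : orderOf (z : X) = r := by rw [Subgroup.orderOf_coe]; exact hz
    have hzY' : (z : X) ∈ (⁅Y, Y⁆ : Subgroup X) := z.2
    have hzY : (z : X) ∈ Y := (commutator_le_left Y Y) hzY'
    -- `z` lies in `R₁`
    have hzp : IsPGroup r (zpowers (z : X)) := by
      apply IsPGroup.of_card (n := 1)
      rw [Nat.card_zpowers, hzr, pow_one]
    obtain ⟨P, hP⟩ := hzp.exists_le_sylow
    have hPc := hcyc r P hr hr2
    have h1 : zpowers (z : X) = zpowers x₀ :=
      zpowers_eq_of_orderOf hPc (hP (mem_zpowers _)) (hRle P hx₀) (by rw [hzr, hx₀r])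
    have hzR : (z : X) ∈ R₁ := by
      have h2 : zpowers x₀ ≤ R₁ := zpowers_le.2 hx₀
      exact h2 (h1 ▸ mem_zpowers (z : X))
    -- transfer in `Y`
    obtain ⟨Q⟩ : Nonempty (Sylow r Y) := inferInstance
    have hQc : IsCyclic Q := T1Torus.oddCyc_subgroup hcyc Y r Q hr hr2
    have hcen : ∀ y : Y, y * (⟨z, hzY⟩ : Y) = (⟨z, hzY⟩ : Y) * y := by
      intro y
      apply Subtype.ext
      exact ((mem_centralizer_iff.1 (hYR y.2) _ hzR).symm)
    refine not_mem_commutator Q hQc (z := (⟨z, hzY⟩ : Y)) hcen ?_ ?_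
    · rw [Subgroup.orderOf_mk]; exact hzr
    · have h3 : (⁅(⊤ : Subgroup Y), (⊤ : Subgroup Y)⁆).map Y.subtype = ⁅Y, Y⁆ := by
        rw [map_commutator, ← MonoidHom.range_eq_map, Y.range_subtype]
      obtain ⟨w, hw, hwz⟩ : (z : X) ∈ (⁅(⊤ : Subgroup Y), (⊤ : Subgroup Y)⁆).map Y.subtype := by
        rw [h3]; exact hzY'
      have : w = (⟨z, hzY⟩ : Y) := Subtype.ext hwz
      rwa [this] at hw
  -- `N = N'' C`
  have hN2 : N ≤ ⁅Y, Y⁆ ⊔ C := by
    have h1 : Y ≤ ⁅Y, Y⁆ ⊔ C := by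
      have h2 : (⁅Y ⊔ C, Y ⊔ C⁆ : Subgroup X) ≤ ⁅Y, Y⁆ ⊔ C := by
        rw [commutator_le]
        intro a ha b hb
        obtain ⟨y, hy, c, hc, rfl⟩ := mem_sup_of_normal_right.1 ha
        obtain ⟨y', hy', c', hc', rfl⟩ := mem_sup_of_normal_right.1 hb
        have hD : (⁅Y, Y⁆ ⊔ C).Normal := inferInstance
        rw [← QuotientGroup.eq_one_iff (N := ⁅Y, Y⁆ ⊔ C)]
        have q1 : ∀ c ∈ C, ((c : X) : X ⧸ (⁅Y, Y⁆ ⊔ C)) = 1 := fun c hc =>
          (QuotientGroup.eq_one_iff c).2 (mem_sup_right hc)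
        have q2 : ((⁅y, y'⁆ : X) : X ⧸ (⁅Y, Y⁆ ⊔ C)) = 1 :=
          (QuotientGroup.eq_one_iff _).2 (mem_sup_left (commutator_mem_commutator hy hy'))
        have q3 : ((⁅y * c, y' * c'⁆ : X) : X ⧸ (⁅Y, Y⁆ ⊔ C)) = ((⁅y, y'⁆ : X) : X ⧸ (⁅Y, Y⁆ ⊔ C)) := by
          rw [commutatorElement_def, commutatorElement_def]
          simp only [QuotientGroup.mk_mul, QuotientGroup.mk_inv, q1 c hc, q1 c' hc', mul_one]
        rw [q3, q2]
      exact (commutator_mono hperf hperf).trans h2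
    exact hperf.trans (sup_le h1 le_sup_right)
  have h4 : ⁅Y, Y⁆ ⊔ (T : Subgroup X) = ⊤ := by
    refine (hmin _ le_sup_right).resolve_left fun h => hM ?_
    rw [eq_top_iff, ← hN]
    refine sup_le (hN2.trans (sup_le (le_sup_left.trans h) hCM)) hTM
  have h5 : r ∣ Nat.card X := hrC.trans (Subgroup.card_subgroup_dvd_card C)
  have h6 : Nat.card X ∣ Nat.card (⁅Y, Y⁆ : Subgroup X) * Nat.card (T : Subgroup X) := by
    have h7 := index_mul_card_inf (H := (T : Subgroup X)) (C := ⁅Y, Y⁆) (by rw [sup_comm]; exact h4)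
    rw [← h7, mul_comm (T : Subgroup X).index, mul_assoc, mul_comm (T : Subgroup X).index,
      (T : Subgroup X).card_mul_index]
    exact Dvd.intro_left _ rfl
  rcases hr.dvd_mul.1 (h5.trans h6) with h7 | h7
  · exact hrY h7
  · obtain ⟨n, hn⟩ := IsPGroup.iff_card.1 T.isPGroup'
    rw [hn] at h7
    exact hr2 ((Nat.prime_dvd_prime_iff_eq hr Nat.prime_two).1 (hr.dvd_of_dvd_pow h7))

end Cfsg.Agent.OddCyclic.COneOdd
end

-- part: OddCyclic/Eq/PrimR
section
prune_inst 0x60002224110000000018001060003e4282000000000b000011a005020c865c4120060e21f8200f00111288e4603c0060031800090000000000008a00411805a1042102020050a900200000c0e000000000000000000000000000000000041000000000000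
set_option linter.all false
open scoped Cfsg.Agent.FastGrp

/-!
# S0342, (E_q): groups of rank one

`R1 X`: the Sylow 2-subgroups of `X` intersect trivially and `P` is transitive on the others. Instances: `SL₂(2^n)`
(`sl`), `Sz(q)` (`sz`). `gen`: two Sylow 2-subgroups generate the simple group `X`.
`norm_eq`: `X` simple, normal in `H`, `H₀` a maximal core free subgroup of odd index: `H₀` is the normaliser of a Sylow
2-subgroup of `X`. `fix_one`: then an involution of `X` fixes exactly one coset of `H₀`.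
-/

set_option autoImplicit false
set_option linter.unusedSectionVars false

namespace Cfsg.Agent.OddCyclic.Eq.PrimR

open Subgroup
open scoped Pointwise

/-- the Sylow 2-subgroups form a rank one geometry -/
def R1 (X : Type*) [Group X] : Prop :=
  ∃ (P : Sylow 2 X) (w : X), (∀ Q : Sylow 2 X, Q = P ∨ ∃ u ∈ P, Q = u • w • P) ∧
    ∀ (Q R : Sylow 2 X) (x : X), x ∈ Q → x ∈ R → x ≠ 1 → Q = R

section gen

variable {X : Type*} [Group X] [Finite X]

theorem smul_le {P : Sylow 2 X} {D : Subgroup X} {g : X} (hg : g ∈ D) : ((g • P : Sylow 2 X) : Subgroup X) ≤ D ↔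
    (P : Subgroup X) ≤ D := by
  constructor
  · intro h x hx
    have h1 : g * x * g⁻¹ ∈ ((g • P : Sylow 2 X) : Subgroup X) := by
      show g * x * g⁻¹ ∈ g • P
      rw [FFSz.mem_smul]
      have : g⁻¹ * (g * x * g⁻¹) * g = x := by group
      rw [this]; exact hx
    have h2 := mul_mem (mul_mem (inv_mem hg) (h h1)) hg
    have : g⁻¹ * (g * x * g⁻¹) * g = x := by group
    rwa [this] at h2
  · intro h x hx
    have h1 : g⁻¹ * x * g ∈ P := FFSz.mem_smul.1 hx
    have h2 := mul_mem (mul_mem hg (h h1)) (inv_mem hg)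
    have : g * (g⁻¹ * x * g) * g⁻¹ = x := by group
    rwa [this] at h2

/-- two Sylow 2-subgroups generate -/
theorem gen [IsSimpleGroup X] (h : R1 X) {D : Subgroup X} {Q R : Sylow 2 X} (hQ : (Q : Subgroup X) ≤ D)
    (hR : (R : Subgroup X) ≤ D) (hne : Q ≠ R) : D = ⊤ := by
  classical
  have : Fact (Nat.Prime 2) := ⟨Nat.prime_two⟩
  obtain ⟨P, w, hcov, -⟩ := h
  -- reduce to `Q = P`
  obtain ⟨g, hg⟩ := MulAction.exists_smul_eq X Q P
  have key : ∀ E : Subgroup X, (P : Subgroup X) ≤ E → ∀ R' : Sylow 2 X, (R' : Subgroup X) ≤ E → R' ≠ P → E = ⊤ := by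
    intro E hP R' hR' hne'
    rcases hcov R' with h1 | ⟨u, hu, h1⟩
    · exact absurd h1 hne'
    have h2 : ((w • P : Sylow 2 X) : Subgroup X) ≤ E := by
      rw [← smul_le (hP hu), ← h1]; exact hR'
    have h3 : ∀ T : Sylow 2 X, (T : Subgroup X) ≤ E := by
      intro T
      rcases hcov T with h4 | ⟨v, hv, h4⟩
      · rw [h4]; exact hP
      · rw [h4, smul_le (hP hv)]; exact h2
    have h4 : Subgroup.normalClosure ((P : Subgroup X) : Set X) ≤ E := by
      rw [Subgroup.normalClosure, closure_le]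
      intro x hx
      obtain ⟨y, hy, hc⟩ := Group.mem_conjugatesOfSet_iff.1 hx
      obtain ⟨c, rfl⟩ := isConj_iff.1 hc
      apply h3 (c • P)
      show c * y * c⁻¹ ∈ c • P
      rw [FFSz.mem_smul]
      have : c⁻¹ * (c * y * c⁻¹) * c = y := by group
      rw [this]; exact hy
    rcases (Subgroup.normalClosure_normal (s := ((P : Subgroup X) : Set X))).eq_bot_or_eq_top with h5 | h5
    · exfalso
      apply hne'
      have h6 : (P : Subgroup X) = ⊥ := by
        rw [eq_bot_iff, ← h5]; exact Subgroup.subset_normalClosure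
      obtain ⟨c, hc⟩ := MulAction.exists_smul_eq X P R'
      rw [← hc]
      apply Sylow.ext
      rw [h6, eq_bot_iff]
      intro x hx
      have h7 : c⁻¹ * x * c ∈ (P : Subgroup X) := FFSz.mem_smul.1 hx
      rw [h6, Subgroup.mem_bot] at h7
      rw [Subgroup.mem_bot]
      have : x = c * (c⁻¹ * x * c) * c⁻¹ := by group
      rw [this, h7]; group
    · rw [eq_top_iff, ← h5]; exact h4
  -- conjugate `D`
  have h1 := key (D.map (MulAut.conj g).toMonoidHom) (by
    rw [← hg]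
    intro x hx
    have h2 : g⁻¹ * x * g ∈ Q := FFSz.mem_smul.1 hx
    refine ⟨g⁻¹ * x * g, hQ h2, ?_⟩
    show g * (g⁻¹ * x * g) * g⁻¹ = x
    group) (g • R) (by
    intro x hx
    have h2 : g⁻¹ * x * g ∈ R := FFSz.mem_smul.1 hx
    refine ⟨g⁻¹ * x * g, hR h2, ?_⟩
    show g * (g⁻¹ * x * g) * g⁻¹ = x
    group) (by
    rw [← hg]
    intro h2
    exact hne (smul_left_cancel g h2).symm)
  rw [eq_top_iff]
  intro x _
  have h2 : g * x * g⁻¹ ∈ D.map (MulAut.conj g).toMonoidHom := by rw [h1]; trivial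
  obtain ⟨y, hy, h3⟩ := h2
  have h4 : g * y * g⁻¹ = g * x * g⁻¹ := h3
  have h5 : y = x := mul_left_cancel (mul_right_cancel h4)
  rw [← h5]; exact hy

end gen

/-! ### the instances -/

theorem mem_map {X Y : Type*} [Group X] [Group Y] [Finite X] [Fact (Nat.Prime 2)] (e : X ≃* Y) (P : Sylow 2 X) (y : Y) :
    y ∈ P.mapSurjective (f := e.toMonoidHom) e.surjective ↔ e.symm y ∈ P := by
  constructor
  · rintro ⟨x, hx, rfl⟩
    have : e.symm (e.toMonoidHom x) = x := e.symm_apply_apply x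
    rw [this]; exact hx
  · intro h
    exact ⟨e.symm y, h, e.apply_symm_apply y⟩

theorem equiv {X Y : Type*} [Group X] [Group Y] [Finite X] (e : X ≃* Y) (h : R1 X) : R1 Y := by
  have : Fact (Nat.Prime 2) := ⟨Nat.prime_two⟩
  obtain ⟨P, w, hcov, hti⟩ := h
  have : Finite Y := Finite.of_equiv X e.toEquiv
  refine ⟨P.mapSurjective (f := e.toMonoidHom) e.surjective, e w, ?_, ?_⟩
  · intro Q
    have hQ : ∀ x : X, x ∈ Q.mapSurjective (f := e.symm.toMonoidHom) e.symm.surjective ↔ e x ∈ Q := fun x =>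
      mem_map e.symm Q x
    rcases hcov (Q.mapSurjective (f := e.symm.toMonoidHom) e.symm.surjective) with h1 | ⟨u, hu, h1⟩
    · left
      apply Sylow.ext
      ext y
      change y ∈ Q ↔ y ∈ P.mapSurjective (f := e.toMonoidHom) e.surjective
      rw [mem_map e P y, ← h1, hQ, e.apply_symm_apply]
    · right
      refine ⟨e u, (mem_map e P _).2 (by rw [e.symm_apply_apply]; exact hu), ?_⟩
      apply Sylow.ext
      ext y
      change y ∈ Q ↔ y ∈ e u • e w • P.mapSurjective (f := e.toMonoidHom) e.surjective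
      rw [FFSz.mem_smul, FFSz.mem_smul, mem_map, ← e.apply_symm_apply y, ← hQ, h1, FFSz.mem_smul, FFSz.mem_smul,
        ← map_inv, ← map_inv, ← map_mul, ← map_mul, ← map_mul, ← map_mul, e.symm_apply_apply]
  · intro Q R y hQ hR hy
    have h1 := hti (Q.mapSurjective (f := e.symm.toMonoidHom) e.symm.surjective)
      (R.mapSurjective (f := e.symm.toMonoidHom) e.symm.surjective) (e.symm y)
      ((mem_map e.symm Q _).2 (by rw [MulEquiv.symm_symm, e.apply_symm_apply]; exact hQ))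
      ((mem_map e.symm R _).2 (by rw [MulEquiv.symm_symm, e.apply_symm_apply]; exact hR))
      (by rw [Ne, map_eq_one_iff e.symm e.symm.injective]; exact hy)
    apply Sylow.ext
    ext z
    change z ∈ Q ↔ z ∈ R
    have h2 := mem_map e.symm Q (e.symm z)
    have h3 := mem_map e.symm R (e.symm z)
    rw [MulEquiv.symm_symm, e.apply_symm_apply] at h2 h3
    rw [← h2, ← h3, h1]

theorem sz {X : Type*} [Group X] [Finite X] (h : Cfsg.Lie.IsoSuzuki X) : R1 X := by
  have : Fact (Nat.Prime 2) := ⟨Nat.prime_two⟩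
  obtain ⟨F, _, _, m, hm, hF, ⟨R⟩⟩ := Cfsg.Agent.ThreePrime.SzRel.exists_rel h
  obtain ⟨P, hP⟩ := R.exists_sylow_eq hm hF
  refine ⟨P, R.w, fun Q => ?_, fun Q R x => FFSz.sylow_ti h⟩
  have hn : ∀ a b k, (R.u a b * R.d k) • P = P := by
    intro a b k
    rw [Sylow.smul_eq_iff_mem_normalizer]
    show _ ∈ Subgroup.normalizer ((P : Subgroup X) : Set X)
    rw [hP]
    exact R.ud_mem_normalizer a b k
  obtain ⟨g, rfl⟩ := MulAction.exists_smul_eq X P Q
  rcases R.bruhat g with ⟨a, b, k, h1⟩ | ⟨a, b, c, e, k, h1⟩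
  · left
    rw [h1, hn]
  · right
    refine ⟨R.u a b, ?_, ?_⟩
    · show _ ∈ (P : Subgroup X)
      rw [hP]; exact R.u_mem a b
    · rw [h1, mul_smul, hn, mul_smul]

section sl

open Matrix Cfsg.Agent.OddCyclic.T1Sl2 Cfsg.Agent.OddCyclic.FFSl2

variable {F : Type*} [Field F] [Fintype F] [CharP F 2]

theorem sl : R1 (SpecialLinearGroup (Fin 2) F) := by
  refine ⟨T1Sl2.SU F, ww F, fun Q => ?_, fun Q R x hQ hR hx => ?_⟩
  · obtain ⟨t, rfl⟩ := FFOuter.syl_surjective Q
    cases t with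
    | none => exact Or.inl rfl
    | some t => exact Or.inr ⟨up t, up_mem t, rfl⟩
  · by_contra hne
    obtain ⟨g, h1, h2⟩ := two_trans hne
    have h3 : g * x * g⁻¹ ∈ T1Sl2.SU F := by
      rw [← h1, FFSz.mem_smul]
      have : g⁻¹ * (g * x * g⁻¹) * g = x := by group
      rw [this]; exact hQ
    have h4 : g * x * g⁻¹ ∈ ww F • T1Sl2.SU F := by
      rw [← h2, FFSz.mem_smul]
      have : g⁻¹ * (g * x * g⁻¹) * g = x := by group
      rw [this]; exact hR
    apply hx
    have h5 : g * x * g⁻¹ = 1 := by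
      obtain ⟨a1, a2⟩ := mem_SU.1 h3
      obtain ⟨a3, a4⟩ := mem_smul_SU.1 h4
      rw [ww00, ww10, mul_zero, mul_one, zero_add] at a3
      rw [ww00, ww10, mul_zero, mul_one, zero_add] at a4
      apply ext2
      · rw [a1]; rfl
      · rw [a3]; rfl
      · rw [a2]; rfl
      · rw [a4]; rfl
    have : x = g⁻¹ * (g * x * g⁻¹) * g := by group
    rw [this, h5]; group

end sl

/-! ### normal subgroups of rank one -/

section normal

variable {H : Type*} [Group H] [Finite H] {X H₀ : Subgroup H}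

theorem mem_aut_smul {Y : Type*} [Group Y] {α : MulAut Y} {Q : Sylow 2 Y} {x : Y} : x ∈ α • Q ↔ α⁻¹ x ∈ Q := by
  have : x ∈ α • Q ↔ x ∈ α • (Q : Subgroup Y) := by
    rw [← Sylow.pointwise_smul_def]; rfl
  rw [this, Subgroup.mem_pointwise_smul_iff_inv_smul_mem, MulAut.smul_def]
  rfl

theorem not_two_dvd [X.Normal] (hs : H₀ ⊔ X = ⊤) (hodd : Odd H₀.index) : ¬ 2 ∣ (H₀.subgroupOf X).index := by
  have h1 := COneOdd.index_mul_card_inf hs
  have h2 := (H₀.subgroupOf X).card_mul_index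
  have h3 : Nat.card (H₀.subgroupOf X) = Nat.card (X ⊓ H₀ : Subgroup H) := by
    rw [← Subgroup.inf_subgroupOf_left, Nat.card_congr (Subgroup.subgroupOfEquivOfLe (inf_le_left : X ⊓ H₀ ≤ X)).toEquiv]
  rw [h3, ← h1, mul_comm] at h2
  have h4 : (H₀.subgroupOf X).index = H₀.index := Nat.eq_of_mul_eq_mul_right Nat.card_pos h2
  rw [h4]
  intro h
  rw [Nat.odd_iff] at hodd
  omega

/-- an involution of `X ⊓ H₀` is in a Sylow 2-subgroup of `X` contained in `H₀` -/
theorem exists_syl_mem [X.Normal] (hs : H₀ ⊔ X = ⊤) (hodd : Odd H₀.index) {x : X} (hx : (x : H) ∈ H₀)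
    (hx2 : x * x = 1) : ∃ Q : Sylow 2 X, x ∈ Q ∧ ∀ y ∈ Q, (y : H) ∈ H₀ := by
  have : Fact (Nat.Prime 2) := ⟨Nat.prime_two⟩
  have hz : IsPGroup 2 (zpowers (⟨x, mem_subgroupOf.2 hx⟩ : H₀.subgroupOf X)) := by
    rintro ⟨y, k, rfl⟩
    refine ⟨1, Subtype.ext ?_⟩
    show ((⟨x, mem_subgroupOf.2 hx⟩ : H₀.subgroupOf X) ^ k) ^ 2 ^ 1 = 1
    rw [pow_one, ← zpow_natCast, ← zpow_mul, mul_comm, zpow_mul]
    have : (⟨x, mem_subgroupOf.2 hx⟩ : H₀.subgroupOf X) ^ ((2 : ℕ) : ℤ) = 1 := by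
      rw [zpow_natCast, pow_two]
      exact Subtype.ext hx2
    rw [this, one_zpow]
  obtain ⟨P, hP⟩ := hz.exists_le_sylow
  have h1 : IsPGroup 2 ((P : Subgroup (H₀.subgroupOf X)).map (H₀.subgroupOf X).subtype) := P.2.map _
  have h2 : ¬ 2 ∣ ((P : Subgroup (H₀.subgroupOf X)).map (H₀.subgroupOf X).subtype).index := by
    rw [Subgroup.index_map_subtype]
    intro h
    rcases (Nat.Prime.dvd_mul Nat.prime_two).mp h with h | h
    · exact P.not_dvd_index h
    · exact not_two_dvd hs hodd h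
  refine ⟨h1.toSylow h2, ?_, ?_⟩
  · exact ⟨⟨x, mem_subgroupOf.2 hx⟩, hP (mem_zpowers _), rfl⟩
  · rintro y ⟨z, -, rfl⟩
    exact mem_subgroupOf.1 z.2

/-- `H₀` is the normaliser of a Sylow 2-subgroup of `X` -/
theorem norm_eq [X.Normal] [IsSimpleGroup X] (hr : R1 X) (h2 : 2 ∣ Nat.card X) (hmax : IsCoatom H₀)
    (hcore : ∀ N : Subgroup H, N.Normal → N ≤ H₀ → N = ⊥) (hodd : Odd H₀.index) :
    ∃ Q : Sylow 2 X, (∀ h : H, h ∈ H₀ ↔ (MulAut.conjNormal h : MulAut X) • Q = Q) ∧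
      ∀ R : Sylow 2 X, (∀ y ∈ R, (y : H) ∈ H₀) → R = Q := by
  have : Fact (Nat.Prime 2) := ⟨Nat.prime_two⟩
  have hXH : ¬ X ≤ H₀ := by
    intro h
    have h1 := hcore X inferInstance h
    rw [h1, Nat.card_congr (Equiv.refl _)] at h2
    rw [Subgroup.card_bot] at h2
    omega
  have hs : H₀ ⊔ X = ⊤ := by
    rcases hmax.le_iff.1 (le_sup_left : H₀ ≤ H₀ ⊔ X) with h | h
    · exact h
    · exact absurd (h ▸ le_sup_right) hXH
  have hDne : H₀.subgroupOf X ≠ ⊤ := fun h => hXH (Subgroup.subgroupOf_eq_top.1 h)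
  obtain ⟨Q, -, hQ⟩ := exists_syl_mem hs hodd (x := (1 : X)) H₀.one_mem (one_mul 1)
  have huniq : ∀ R : Sylow 2 X, (∀ y ∈ R, (y : H) ∈ H₀) → R = Q := by
    intro R hR
    by_contra hne
    exact hDne (gen hr (D := H₀.subgroupOf X) (fun y hy => mem_subgroupOf.2 (hR y hy))
      (fun y hy => mem_subgroupOf.2 (hQ y hy)) hne)
  have hle : ∀ h ∈ H₀, (MulAut.conjNormal h : MulAut X) • Q = Q := by
    intro h hh
    apply huniq
    intro y hy
    rw [mem_aut_smul] at hy
    have h3 := hQ _ hy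
    have h4 : (((MulAut.conjNormal h)⁻¹ : MulAut X) y : H) = h⁻¹ * y * h := by
      rw [← map_inv, MulAut.conjNormal_apply, inv_inv]
    rw [h4] at h3
    have h5 := mul_mem (mul_mem hh h3) (inv_mem hh)
    have : h * (h⁻¹ * (y : H) * h) * h⁻¹ = y := by group
    rwa [this] at h5
  refine ⟨Q, ?_, huniq⟩
  let N : Subgroup H := (MulAction.stabilizer (MulAut X) Q).comap MulAut.conjNormal
  have hN : H₀ ≤ N := fun h hh => hle h hh
  have hN' : N = H₀ := by
    rcases hmax.le_iff.1 hN with h | h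
    · exfalso
      have h3 : ((Q : Subgroup X).map X.subtype).Normal := by
        constructor
        rintro _ ⟨x, hx, rfl⟩ g
        have h4 : (MulAut.conjNormal g : MulAut X) • Q = Q := by
          have : g ∈ N := by rw [h]; trivial
          exact this
        refine ⟨MulAut.conjNormal g x, ?_, MulAut.conjNormal_apply _ _⟩
        show MulAut.conjNormal g x ∈ Q
        rw [← h4, mem_aut_smul, ← MulAut.mul_apply, inv_mul_cancel]
        exact hx
      have h4 := hcore _ h3 (by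
        rintro _ ⟨x, hx, rfl⟩
        exact hQ x hx)
      rw [Subgroup.map_eq_bot_iff_of_injective _ X.subtype_injective] at h4
      have h5 := Q.not_dvd_index
      rw [h4, Subgroup.index_bot] at h5
      exact h5 h2
    · exact h
  intro h
  rw [← hN']
  exact Iff.rfl

/-- an involution of `X` fixes exactly one coset of `H₀` -/
theorem fix_one [X.Normal] [IsSimpleGroup X] (hr : R1 X) (h2 : 2 ∣ Nat.card X) (hmax : IsCoatom H₀)
    (hcore : ∀ N : Subgroup H, N.Normal → N ≤ H₀ → N = ⊥) (hodd : Odd H₀.index)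
    {a : H} (haX : a ∈ X) (haH : a ∈ H₀) (ha : a * a = 1) (ha1 : a ≠ 1) {h : H} (hh : h * a * h⁻¹ ∈ H₀) : h ∈ H₀ := by
  obtain ⟨Q, hQ, huniq⟩ := norm_eq hr h2 hmax hcore hodd
  have hXH : ¬ X ≤ H₀ := by
    intro h
    have h1 := hcore X inferInstance h
    rw [h1, Nat.card_congr (Equiv.refl _)] at h2
    rw [Subgroup.card_bot] at h2
    omega
  have hs : H₀ ⊔ X = ⊤ := by
    rcases hmax.le_iff.1 (le_sup_left : H₀ ≤ H₀ ⊔ X) with h | h
    · exact h
    · exact absurd (h ▸ le_sup_right) hXH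
  obtain ⟨-, -, -, hti⟩ := hr
  have hmem : ∀ x : X, (x : H) ∈ H₀ → x * x = 1 → x ∈ Q := by
    intro x hx hx2
    obtain ⟨R, hxR, hR⟩ := exists_syl_mem hs hodd hx hx2
    rw [← huniq R hR]; exact hxR
  have h3 : (⟨a, haX⟩ : X) ∈ Q := hmem _ haH (Subtype.ext ha)
  have hn : X.Normal := inferInstance
  have h4 : (⟨h * a * h⁻¹, hn.conj_mem a haX h⟩ : X) ∈ Q := hmem _ hh (Subtype.ext (by
    show h * a * h⁻¹ * (h * a * h⁻¹) = 1
    have : h * a * h⁻¹ * (h * a * h⁻¹) = h * (a * a) * h⁻¹ := by group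
    rw [this, ha]; group))
  have h5 : (⟨a, haX⟩ : X) ∈ (MulAut.conjNormal h⁻¹ : MulAut X) • Q := by
    rw [mem_aut_smul]
    have : ((MulAut.conjNormal h⁻¹)⁻¹ : MulAut X) ⟨a, haX⟩ = ⟨h * a * h⁻¹, hn.conj_mem a haX h⟩ := by
      rw [← map_inv, inv_inv]
      exact Subtype.ext (MulAut.conjNormal_apply _ _)
    rw [this]; exact h4
  have h6 := hti _ _ _ h5 h3 (fun h => ha1 (congrArg Subtype.val h))
  have h7 := (hQ h⁻¹).2 h6
  exact inv_mem_iff.1 h7

end normal

end Cfsg.Agent.OddCyclic.Eq.PrimR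
end

-- part: OddCyclic/RedDefs
section
set_option linter.all false

/-!
# S0342, case (C2), 2-local subgroups possibly nonsolvable: the interface to Lemma X

`LX S`: what is used of Lemma X (blueprints/S0342-C2-reduction-helper213.md, 2.1-2.4) for the dihedral blocks over
`B = bau S`, `S` a Sylow 2-subgroup of `G`, which lie in a common 2-local subgroup. No solvability.
-/

set_option autoImplicit false

namespace Cfsg.Agent.OddCyclic.Red

open Subgroup Cfsg Cfsg.Agent.ZN Cfsg.Agent.MinSimple Cfsg.Agent.MinSimple.DBlkApi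

universe u

variable {G : Type u} [Group G]

/-- `L` and `L'` normalise a common nontrivial 2-subgroup. -/
def Loc2 (L L' : Subgroup G) : Prop :=
  ∃ U : Subgroup G, IsPGroup 2 U ∧ U ≠ ⊥ ∧ L ≤ normalizer (U : Set G) ∧ L' ≤ normalizer (U : Set G)

theorem Loc2.symm {L L' : Subgroup G} (h : Loc2 L L') : Loc2 L' L := by
  obtain ⟨U, h1, h2, h3, h4⟩ := h
  exact ⟨U, h1, h2, h4, h3⟩

/-- Lemma X for the blocks over `bau S`. -/
structure LX (S : Subgroup G) : Prop where
  char2 : IsCharacteristicTwoType G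
  /-- the planes of two blocks in a 2-local commute -/
  comm : ∀ (L L' : Subgroup G) (k k' : ℕ), IsDBlk (bau S) L k → IsDBlk (bau S) L' k' → Loc2 L L' →
    ∀ v ∈ vl (bau S) L, ∀ w ∈ vl (bau S) L', v * w = w * v
  /-- if they are different the point of the second is centralised by the first -/
  indep : ∀ (L L' : Subgroup G) (k k' : ℕ), IsDBlk (bau S) L k → IsDBlk (bau S) L' k' → Loc2 L L' →
    vl (bau S) L ≠ vl (bau S) L' → ∀ z : G, IsPt (bau S) L' z → z ∈ rl (bau S) L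

variable {S : Subgroup G}

/-- Same point, common 2-local: same plane. -/
theorem LX.pt (hX : LX S) {L L' : Subgroup G} {k k' : ℕ} (h : IsDBlk (bau S) L k)
    (h' : IsDBlk (bau S) L' k') (hl : Loc2 L L') {z : G} (hz : IsPt (bau S) L z) (hz' : IsPt (bau S) L' z) :
    vl (bau S) L = vl (bau S) L' := by
  by_contra hne
  exact pt_notMem_rl h hz (hX.indep L L' k k' h h' hl hne z hz')

/-- Blocks whose planes do not commute lie in no common 2-local. -/
theorem LX.nl (hX : LX S) {L L' : Subgroup G} {k k' : ℕ} (h : IsDBlk (bau S) L k)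
    (h' : IsDBlk (bau S) L' k') (hn : ∃ v ∈ vl (bau S) L, ∃ w ∈ vl (bau S) L', v * w ≠ w * v)
    {R : Subgroup G} (hR : IsPGroup 2 R) (h1 : L ≤ normalizer (R : Set G))
    (h2 : L' ≤ normalizer (R : Set G)) : R = ⊥ := by
  by_contra hR1
  obtain ⟨v, hv, w, hw, hvw⟩ := hn
  exact hvw (hX.comm L L' k k' h h' ⟨R, hR, hR1, h1, h2⟩ v hv w hw)

end Cfsg.Agent.OddCyclic.Red
end

-- part: OddCyclic/RedBlock
section
set_option linter.all false
open scoped Cfsg.Agent.FastGrp

/-!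
# S0342, (C2), 1.1: the block lemma

A four-group `V` normalised and moved by `B = bau T`, `T` a Sylow 2-subgroup of `X ≤ N_G(V)`, `X` of characteristic 2
and moving the point of `V`: there is a dihedral block `L ≤ X` over `B` with `vl B L = V`.
-/

set_option autoImplicit false

namespace Cfsg.Agent.OddCyclic.Red

open Subgroup Cfsg Cfsg.Agent.ZN Cfsg.Agent.MinSimple Cfsg.Agent.MinSimple.DBlkApi
open Cfsg.Agent.OddCyclic.T1Defs (OddCyc)
open scoped commutatorElement

universe u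

/-- groups of odd order with cyclic Sylow subgroups are solvable -/
theorem solvable_of_odd {X : Type*} [Group X] [Finite X] (h : OddCyc X) (ho : ¬ 2 ∣ Nat.card X) :
    Group.IsSolvable X := by
  have h1 : IsZGroup X := ⟨fun p hp P => by
    by_cases h2 : p = 2
    · subst h2
      have hf : Fact (Nat.Prime 2) := ⟨Nat.prime_two⟩
      have h3 : Nat.card P = 1 := by
        rcases P.2.card_eq_or_dvd with h3 | h3
        · exact h3
        · exact absurd (h3.trans (P : Subgroup X).card_subgroup_dvd_card) ho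
      have : Subsingleton P := (Nat.card_eq_one_iff_unique.1 h3).1
      exact isCyclic_of_subsingleton
    · exact h p P hp h2⟩
  infer_instance

/-- a group with a normal Sylow 2-subgroup and cyclic odd Sylow subgroups is solvable -/
theorem solvable_of_normal_syl {X : Type*} [Group X] [Finite X] (h : OddCyc X) {D : Subgroup X} [D.Normal]
    (hD : IsPGroup 2 D) (hi : ¬ 2 ∣ D.index) : Group.IsSolvable X := by
  have hf : Fact (Nat.Prime 2) := ⟨Nat.prime_two⟩
  rw [Group.isSolvable_iff_subgroup_quotient D]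
  refine ⟨?_, solvable_of_odd ?_ hi⟩
  · have : Group.IsNilpotent D := hD.isNilpotent
    infer_instance
  · exact T1MinPar.oddCyc_surj (QuotientGroup.mk' D) (QuotientGroup.mk'_surjective D) h

variable {G : Type u} [Group G]

theorem not_dvd_inf [Finite G] {T X N : Subgroup G} (hT : IsPGroup 2 T) (hTs : ¬ 2 ∣ T.relIndex X)
    (hNX : N ≤ X) (hXN : X ≤ normalizer (N : Set G)) : ¬ 2 ∣ (T ⊓ N).relIndex N := by
  have hf : Fact (Nat.Prime 2) := ⟨Nat.prime_two⟩
  have h1 : IsPGroup 2 (T.subgroupOf X) := hT.comap_of_injective _ X.subtype_injective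
  have hn : (N.subgroupOf X).Normal := (Subgroup.normal_subgroupOf_iff_le_normalizer hNX).2 hXN
  have h2 := Lib.SylowNormalInf.not_dvd_relIndex (h1.toSylow hTs : Sylow 2 X) (N.subgroupOf X)
  have h3 : ((h1.toSylow hTs : Sylow 2 X) : Subgroup X) = T.subgroupOf X := rfl
  rw [h3, relIndex_subgroupOf hNX] at h2
  rwa [inf_relIndex_right]

/-- `X` normalises a four-group `V`, the Sylow 2-subgroup `D` of `C_X(V)` is normal in `X`: `X` is solvable. -/
theorem solvable_stab [Finite G] (h : OddCyc G) {X V D : Subgroup G} (h4 : Nat.card V = 4)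
    (hXV : X ≤ normalizer (V : Set G)) (hDX : D ≤ X) (hD : IsPGroup 2 D) (hXD : X ≤ normalizer (D : Set G))
    (hDV : D ≤ centralizer (V : Set G)) (hi : ¬ 2 ∣ D.relIndex (X ⊓ centralizer (V : Set G))) :
    Group.IsSolvable X := by
  set C := (X ⊓ centralizer (V : Set G)).subgroupOf X with hC
  have hCn : C.Normal := by
    rw [hC, Subgroup.normal_subgroupOf_iff_le_normalizer inf_le_left]
    intro x hx
    rw [mem_normalizer_iff]
    intro y
    have h1 := DBlkReduce.nc V (hXV hx)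
    rw [mem_inf, mem_inf]
    constructor
    · rintro ⟨h2, h3⟩
      exact ⟨X.mul_mem (X.mul_mem hx h2) (X.inv_mem hx), (mem_normalizer_iff.1 h1 y).1 h3⟩
    · rintro ⟨h2, h3⟩
      refine ⟨?_, (mem_normalizer_iff.1 h1 y).2 h3⟩
      have := X.mul_mem (X.mul_mem (X.inv_mem hx) h2) hx
      have e : x⁻¹ * (x * y * x⁻¹) * x = y := by group
      rwa [e] at this
  rw [Group.isSolvable_iff_subgroup_quotient C]
  constructor
  · -- `C` is solvable
    have e : C ≃* (X ⊓ centralizer (V : Set G) : Subgroup G) := subgroupOfEquivOfLe inf_le_left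
    have h1 : OddCyc (X ⊓ centralizer (V : Set G) : Subgroup G) := T1MinPar.oddCyc_subgroup h _
    set Y := (X ⊓ centralizer (V : Set G) : Subgroup G) with hY
    have hDY : D ≤ Y := le_inf hDX hDV
    have hn : (D.subgroupOf Y).Normal :=
      (Subgroup.normal_subgroupOf_iff_le_normalizer hDY).2 (inf_le_left.trans hXD)
    have h2 : Group.IsSolvable Y := solvable_of_normal_syl h1 (D := D.subgroupOf Y)
      (hD.comap_of_injective _ Y.subtype_injective) hi
    exact Group.isSolvable_of_isSolvable_injective (f := e.toMonoidHom) e.injective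
  · -- `X / C` has order dividing 6
    have h1 : Nat.card (X ⧸ C) ∣ 6 := by
      have h2 := Plane.relIndex_dvd_six h4 hXV
      have h3 : C.index = (centralizer (V : Set G)).relIndex X := by
        rw [hC]
        change (X ⊓ centralizer (V : Set G)).relIndex X = _
        rw [inf_relIndex_left]
      rw [← Subgroup.index_eq_card, h3]
      exact h2
    have h5 : Squarefree (Nat.card (X ⧸ C)) := Squarefree.squarefree_of_dvd h1 (by
      have : Squarefree (2 * 3) := (Nat.squarefree_mul (by norm_num)).2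
        ⟨Nat.prime_two.squarefree, Nat.prime_three.squarefree⟩
      simpa using this)
    have h6 : IsZGroup (X ⧸ C) := IsZGroup.of_squarefree h5
    infer_instance

/-- 1.1, the block lemma -/
theorem exists_blk [Finite G] (hG : OddCyc G) {X T V : Subgroup G} {z : G}
    (hc : X ⊓ centralizer (o2 X : Set G) ≤ o2 X) (hT : IsPGroup 2 T) (hTX : T ≤ X) (hTs : ¬ 2 ∣ T.relIndex X)
    (hVX : V ≤ X) (hXV : X ≤ normalizer (V : Set G)) (h4 : Nat.card V = 4) (h2 : ∀ v ∈ V, v ^ 2 = 1)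
    (hzV : z ∈ V) (hz1 : z ≠ 1) (hzT : ∀ t ∈ T, t * z = z * t) (hB : ∃ b ∈ bau T, ∃ v ∈ V, b * v ≠ v * b)
    (hy : ∃ y ∈ X, y * z * y⁻¹ ≠ z) :
    ∃ (L : Subgroup G) (k : ℕ), L ≤ X ∧ IsDBlk (bau T) L k ∧ vl (bau T) L = V := by
  have hV2 : IsPGroup 2 V := fun v => ⟨1, by
    rw [pow_one]; exact Subtype.ext (h2 v v.2)⟩
  have hVo : V ≤ o2 X := le_o2 hVX hV2 hXV
  have hoT : o2 X ≤ T := VModule.o2_le_of_sylow hT hTs
  have hVT : V ≤ T := hVo.trans hoT
  have hVc : ∀ x ∈ V, ∀ y ∈ V, x * y = y * x := fun x hx y hy => Four.comm_of_sq h2 hx hy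
  set D := T ⊓ centralizer (V : Set G) with hD
  set K := X ⊓ normalizer (D : Set G) with hK
  -- `T ≤ K`
  have hTD : T ≤ normalizer (D : Set G) := by
    intro t ht
    rw [mem_normalizer_iff]
    intro x
    have h1 := DBlkReduce.nc V (hXV (hTX ht))
    rw [hD, mem_inf, mem_inf]
    constructor
    · rintro ⟨h2, h3⟩
      exact ⟨T.mul_mem (T.mul_mem ht h2) (T.inv_mem ht), (mem_normalizer_iff.1 h1 x).1 h3⟩
    · rintro ⟨h2, h3⟩
      refine ⟨?_, (mem_normalizer_iff.1 h1 x).2 h3⟩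
      have := T.mul_mem (T.mul_mem (T.inv_mem ht) h2) ht
      have e : t⁻¹ * (t * x * t⁻¹) * t = x := by group
      rwa [e] at this
  have hTK : T ≤ K := le_inf hTX hTD
  have hKX : K ≤ X := inf_le_left
  have hTs' : ¬ 2 ∣ T.relIndex K := DBlkReduce.not_dvd_of_le hTs hTK hKX
  have hcK : K ⊓ centralizer (o2 K : Set G) ≤ o2 K := Basic.char2_of_le hc (hoT.trans hTK) hKX
  -- `D` is a Sylow 2-subgroup of `C_X(V)`
  have hCX : X ≤ normalizer ((X ⊓ centralizer (V : Set G) : Subgroup G) : Set G) :=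
    (le_inf le_normalizer (hXV.trans (DBlkReduce.nc V))).trans
      inf_normalizer_le_normalizer_inf
  have hDs : ¬ 2 ∣ D.relIndex (X ⊓ centralizer (V : Set G)) := by
    have h1 := not_dvd_inf hT hTs (inf_le_left : X ⊓ centralizer (V : Set G) ≤ X) hCX
    have h3 : T ⊓ (X ⊓ centralizer (V : Set G)) = D := by
      rw [hD, ← inf_assoc, inf_eq_left.2 hTX]
    rwa [h3] at h1
  have hDs' : ¬ 2 ∣ D.relIndex (K ⊓ centralizer (V : Set G)) :=
    DBlkReduce.not_dvd_of_le hDs (le_inf (inf_le_left.trans hTK) inf_le_right) (inf_le_inf_right _ hKX)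
  have hsol : Group.IsSolvable K := solvable_stab hG h4 (hKX.trans hXV) (inf_le_left.trans hTK)
    (hT.to_le inf_le_left) inf_le_right inf_le_right hDs'
  -- `z ∈ zc T ≤ zc (bau T)`
  have hzTm : z ∈ zc T := mem_zc.2 ⟨hVT hzV, hzT, h2 z hzV⟩
  have hzB : z ∈ zc (bau T) := by
    rw [zc_bau]
    exact zc_le_zj T hzTm
  obtain ⟨b, hb, v, hv, hbv⟩ := hB
  have hbT : b ∈ T := ChoiceBase.bau_le T hb
  have hfix : ∀ w ∈ V, (∀ c ∈ bau T, c * w = w * c) → w = 1 ∨ w = z := by
    intro w hw hcw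
    by_contra hcon
    push Not at hcon
    have h1 := Four.cent_of_two h4 h2 hzV hw hz1 hcon.1 (fun h => hcon.2 h.symm)
      (Four.conj_eq_iff_comm.2 (hzT b hbT)) (Four.conj_eq_iff_comm.2 (hcw b hb))
    exact hbv (Four.conj_eq_iff_comm.1 (Four.mem_cent_iff.1 h1 v hv))
  -- the block
  obtain ⟨L, k, hL, hLr, hLK, hLz⟩ := DBlkExist.exists_dblk (M := centralizer ({z} : Set G)) hsol hcK hT hTK hTs'
    (by
      rintro x ⟨-, hx⟩
      rw [mem_centralizer_singleton_iff]
      exact (mem_centralizer_iff.1 hx z hzTm).symm)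
    (by
      rintro x ⟨hxK, hx⟩
      rw [mem_centralizer_singleton_iff]
      have h1 : x * z * x⁻¹ ∈ V := Four.conj_mem (hXV (hKX hxK)) hzV
      have h3 : ∀ c ∈ bau T, c * (x * z * x⁻¹) = (x * z * x⁻¹) * c := by
        intro c hc
        have h5 : x⁻¹ * c * x ∈ bau T := Four.conj_mem' hx hc
        have h6 := hzT _ (ChoiceBase.bau_le T h5)
        calc c * (x * z * x⁻¹) = x * ((x⁻¹ * c * x) * z) * x⁻¹ := by group
          _ = x * (z * (x⁻¹ * c * x)) * x⁻¹ := by rw [h6]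
          _ = (x * z * x⁻¹) * c := by group
      rcases hfix _ h1 h3 with h5 | h5
      · exact absurd (conj_eq_one_iff.1 h5) hz1
      · exact Four.conj_eq_iff_comm.1 h5)
    (by
      intro hcon
      obtain ⟨y, hyX, hyz⟩ := hy
      have h1 := Basic.frattini hTX hT hTs hCX hyX
      have h3 : T ⊓ (X ⊓ centralizer (V : Set G)) = D := by
        rw [hD, ← inf_assoc, inf_eq_left.2 hTX]
      rw [h3] at h1
      have h5 : (X ⊓ centralizer (V : Set G)) ⊔ (X ⊓ normalizer (D : Set G)) ≤ centralizer ({z} : Set G) := by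
        refine sup_le ?_ hcon
        rintro x ⟨-, hx⟩
        rw [mem_centralizer_singleton_iff]
        exact (mem_centralizer_iff.1 hx z hzV).symm
      have h6 := mem_centralizer_singleton_iff.1 (h5 h1)
      exact hyz (Four.conj_eq_iff_comm.2 h6))
  refine ⟨L, k, hLK.trans hKX, hL, ?_⟩
  -- `L` moves `z`
  obtain ⟨l, hl, hlz⟩ : ∃ l ∈ L, l * z * l⁻¹ ≠ z := by
    by_contra hcon
    push Not at hcon
    exact hLz fun l hl => mem_centralizer_singleton_iff.2 (Four.conj_eq_iff_comm.1 (hcon l hl))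
  have hzz : z * z = 1 := by rw [← pow_two]; exact h2 z hzV
  have hzi : z⁻¹ = z := inv_eq_of_mul_eq_one_left hzz
  have hlV : l * z * l⁻¹ ∈ V := Four.conj_mem (hXV (hKX (hLK hl))) hzV
  set w := (l * z * l⁻¹) * z with hw
  have hwV : w ∈ V := V.mul_mem hlV hzV
  have hzl : z ∈ zl (bau T) L := zc_le_zl hzB
  have hwv : w ∈ vl (bau T) L := by
    have h1 : ⁅l, z⁆ ∈ vl (bau T) L := by
      rw [vl, Subgroup.commutator_comm]
      exact Subgroup.commutator_mem_commutator hl hzl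
    rw [commutatorElement_def, hzi] at h1
    exact h1
  have hw1 : w ≠ 1 := by
    intro h
    apply hlz
    calc l * z * l⁻¹ = w * z⁻¹ := by rw [hw]; group
      _ = z := by rw [h, one_mul, hzi]
  have hwz : w ≠ z := by
    intro h
    have h1 : l * z * l⁻¹ = 1 := by
      calc l * z * l⁻¹ = w * z⁻¹ := by rw [hw]; group
        _ = 1 := by rw [h, mul_inv_cancel]
    exact hz1 (conj_eq_one_iff.1 h1)
  have hbn : b * z * b⁻¹ = z := Four.conj_eq_iff_comm.2 (hzT b hbT)
  have hbw : b * w * b⁻¹ = z * w := by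
    rcases Four.fix_dichotomy h4 h2 hzV hwV hz1 hw1 (Ne.symm hwz) (hXV (hTX hbT)) hbn with h | h
    · exfalso
      have h1 := Four.cent_of_two h4 h2 hzV hwV hz1 hw1 (Ne.symm hwz) hbn h
      exact hbv (Four.conj_eq_iff_comm.1 (Four.mem_cent_iff.1 h1 v hv))
    · exact h
  have hzv : z ∈ vl (bau T) L := by
    have h1 : b * w * b⁻¹ ∈ vl (bau T) L :=
      Four.conj_mem (le_normalizer_vl _ L (hL.le hb)) hwv
    rw [hbw] at h1
    have h3 := (vl (bau T) L).mul_mem h1 ((vl (bau T) L).inv_mem hwv)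
    rwa [mul_inv_cancel_right] at h3
  symm
  apply Subgroup.eq_of_le_of_card_ge
  · intro x hx
    rcases Four.four h4 h2 hzV hwV hz1 hw1 (Ne.symm hwz) x hx with rfl | rfl | rfl | rfl
    · exact one_mem _
    · exact hzv
    · exact hwv
    · exact mul_mem hzv hwv
  · rw [h4, hL.card_vl]

/-- a `B`-plane -/
structure Plane (B V : Subgroup G) : Prop where
  card : Nat.card V = 4
  sq : ∀ v ∈ V, v ^ 2 = 1
  norm : B ≤ normalizer (V : Set G)
  moved : ∃ b ∈ B, ∃ v ∈ V, b * v ≠ v * b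
  act : ∃ y ∈ normalizer (V : Set G), ∀ v ∈ V, v ≠ 1 → y * v * y⁻¹ ≠ v

/-- the plane of a dihedral block -/
theorem plane_vl {B L : Subgroup G} {k : ℕ} (h : IsDBlk B L k) : Plane B (vl B L) where
  card := h.card_vl
  sq := vl_sq h
  norm := h.le.trans (le_normalizer_vl B L)
  moved := by
    by_contra hcon
    push Not at hcon
    obtain ⟨b, hb, hbQ⟩ := exists_b h
    exact hbQ (mem_o2_of_cent h hb (mem_centralizer_iff.2 fun v hv => (hcon b hb v hv).symm))
  act := by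
    obtain ⟨y, hy, h0, h1, h2, h3, h4⟩ := h.dih
    exact ⟨y, le_normalizer_vl B L hy, fun v hv hv1 h => hv1 (h3 v hv h)⟩

end Cfsg.Agent.OddCyclic.Red
end

-- part: OddCyclic/Eq/Prim
section
prune_inst 0x70002324050000000000000040003e02b2000000000b000011e0050004865c4100020e20f8200b0011028024003c0060030800090018000000000200411801a0002202029048a10020000000a000000000000000000000000000000000041000000000000
set_option linter.all false
open scoped Cfsg.Agent.FastGrp

/-!
# S0342, (E_q): the list for the P-trick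

`cases`: `H` finite, odd Sylow subgroups cyclic, simple nonabelian subgroups in the list `KZero`; `H₀` a maximal, core
free 3'-subgroup of odd index containing the normalisers of its Sylow 2-subgroups. Then `H` has 2-rank at most one, or
every involution of `H₀` fixes exactly one coset of `H₀`, or 3 divides `|H|` and `H` has 2-rank at most 2.
-/

set_option autoImplicit false
set_option linter.unusedSectionVars false

namespace Cfsg.Agent.OddCyclic.Eq.Prim

open Subgroup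
open Cfsg.Agent.OddCyclic.T1Defs (OddCyc)
open Cfsg.Agent.OddCyclic.PumpMain (KZero)
open Cfsg.Agent.LieExceptional.CITDefs (IsSyl2)
open Cfsg.Agent.OddCyclic.Eq.PrimR

universe u

section basic

variable {H : Type*} [Group H] [Finite H] {H₀ : Subgroup H}

/-- elementary abelian 2-subgroups can be conjugated into a subgroup of odd index -/
theorem exists_conj_le (hodd : Odd H₀.index) (A : Subgroup H) (hA : ∀ a ∈ A, a * a = 1) :
    ∃ g : H, ∀ a ∈ A, g * a * g⁻¹ ∈ H₀ := by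
  have : Fact (Nat.Prime 2) := ⟨Nat.prime_two⟩
  obtain ⟨P, hP⟩ := Cfsg.Agent.Transfer.AbelianHall.exists_sylow_le 2 H₀ (by
    intro h
    rw [Nat.odd_iff] at hodd
    omega)
  have h2 : IsPGroup 2 A := fun a => ⟨1, Subtype.ext (by
    show (a : H) ^ 2 ^ 1 = 1
    rw [pow_one, pow_two]; exact hA a a.2)⟩
  obtain ⟨Q, hQ⟩ := h2.exists_le_sylow
  obtain ⟨g, hg⟩ := MulAction.exists_smul_eq H Q P
  refine ⟨g, fun a ha => hP ?_⟩
  show g * a * g⁻¹ ∈ P
  rw [← hg, FFSz.mem_smul]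
  have : g⁻¹ * (g * a * g⁻¹) * g = a := by group
  rw [this]; exact hQ ha

theorem pCore_eq_bot (hcore : ∀ N : Subgroup H, N.Normal → N ≤ H₀ → N = ⊥) (hodd : Odd H₀.index) :
    pCore 2 H = ⊥ := by
  have : Fact (Nat.Prime 2) := ⟨Nat.prime_two⟩
  apply hcore _ inferInstance
  have hP' : ∃ P : Sylow 2 H, (P : Subgroup H) ≤ H₀ := Cfsg.Agent.Transfer.AbelianHall.exists_sylow_le 2 H₀ (by
    intro h
    rw [Nat.odd_iff] at hodd
    omega)
  obtain ⟨P, hP⟩ := hP'
  exact (Cfsg.Agent.Lib.Cores.pCore_le_sylow P).trans hP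

/-- a subgroup normalised by `H₀` and by a normal subgroup `C` with `H₀ C = H` -/
theorem normal_of {C D : Subgroup H} (hC : H₀ ⊔ C = ⊤) (h0 : H₀ ≤ normalizer (D : Set H))
    (h1 : C ≤ normalizer (D : Set H)) : D.Normal := by
  rw [← normalizer_eq_top_iff, eq_top_iff, ← hC]
  exact sup_le h0 h1

theorem sup_eq_top (hmax : IsCoatom H₀) (hcore : ∀ N : Subgroup H, N.Normal → N ≤ H₀ → N = ⊥) {N : Subgroup H}
    (hN : N.Normal) (hN1 : N ≠ ⊥) : H₀ ⊔ N = ⊤ := by
  rcases hmax.le_iff.1 (le_sup_left : H₀ ≤ H₀ ⊔ N) with h | h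
  · exact h
  · exact absurd (hcore N hN (h ▸ le_sup_right)) hN1

/-- the case of a normal subgroup of prime order -/
theorem rank_one (hmax : IsCoatom H₀) (hcore : ∀ N : Subgroup H, N.Normal → N ≤ H₀ → N = ⊥) (hodd : Odd H₀.index)
    {r : ℕ} (hr : r.Prime) {y : H} (hy : orderOf y = r) (hn : (zpowers y).Normal) (A : Subgroup H)
    (hA : ∀ a ∈ A, a * a = 1) : Nat.card A ≤ 2 := by
  have hy1 : zpowers y ≠ ⊥ := by
    rw [Ne, zpowers_eq_bot]
    rintro rfl
    rw [orderOf_one] at hy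
    exact hr.one_lt.ne hy
  have hs := sup_eq_top hmax hcore hn hy1
  have hC : (H₀ ⊓ centralizer (zpowers y : Set H) : Subgroup H) = ⊥ := by
    refine hcore _ (normal_of hs ?_ ?_) inf_le_left
    · intro h hh
      rw [mem_normalizer_iff]
      intro x
      have hcn : (centralizer (zpowers y : Set H)).Normal := inferInstance
      constructor
      · intro hx
        obtain ⟨h1, h2⟩ := mem_inf.1 hx
        exact mem_inf.2 ⟨mul_mem (mul_mem hh h1) (inv_mem hh), hcn.conj_mem x h2 h⟩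
      · intro hx
        obtain ⟨h1, h2⟩ := mem_inf.1 hx
        have h3 := mul_mem (mul_mem (inv_mem hh) h1) hh
        have h4 := hcn.conj_mem _ h2 h⁻¹
        have e1 : h⁻¹ * (h * x * h⁻¹) * h = x := by group
        have e2 : h⁻¹ * (h * x * h⁻¹) * h⁻¹⁻¹ = x := by group
        rw [e1] at h3
        rw [e2] at h4
        exact mem_inf.2 ⟨h3, h4⟩
    · have h3 : zpowers y ≤ centralizer ((H₀ ⊓ centralizer (zpowers y : Set H) : Subgroup H) : Set H) := by
        rw [le_centralizer_iff]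
        exact inf_le_right
      exact h3.trans (centralizer_le_normalizer _)
  have hinv : ∀ a ∈ H₀, a * a = 1 → a ≠ 1 → a * y * a⁻¹ = y⁻¹ := by
    intro a ha ha2 ha1
    rcases FFRed.eq_or_inv hr hy ha2 (hn.conj_mem y (mem_zpowers y) a) with h | h
    · exfalso
      have h4 : a ∈ (H₀ ⊓ centralizer (zpowers y : Set H) : Subgroup H) := by
        refine mem_inf.2 ⟨ha, ?_⟩
        rw [mem_centralizer_iff]
        rintro _ ⟨k, rfl⟩
        exact (Commute.zpow_right (show Commute a y from h) k).eq.symm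
      rw [hC, mem_bot] at h4
      exact ha1 h4
    · exact h
  obtain ⟨g, hg⟩ := exists_conj_le hodd A hA
  by_cases hA1 : A = ⊥
  · rw [hA1, Subgroup.card_bot]; norm_num
  obtain ⟨⟨a, ha⟩, ha1'⟩ := Subgroup.ne_bot_iff_exists_ne_one.1 hA1
  have ha1 : a ≠ 1 := fun h => ha1' (Subtype.ext h)
  refine FFPsl.card_le_two_of (a := a) fun b hb => ?_
  by_contra hcon
  push Not at hcon
  obtain ⟨hb1, hba⟩ := hcon
  have hne : ∀ x : H, x ≠ 1 → g * x * g⁻¹ ≠ 1 := by
    intro x hx h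
    apply hx
    have : x = g⁻¹ * (g * x * g⁻¹) * g := by group
    rw [this, h]; group
  have hsq : ∀ x ∈ A, (g * x * g⁻¹) * (g * x * g⁻¹) = 1 := by
    intro x hx
    have : (g * x * g⁻¹) * (g * x * g⁻¹) = g * (x * x) * g⁻¹ := by group
    rw [this, hA x hx]; group
  have h1 := hinv _ (hg a ha) (hsq a ha) (hne a ha1)
  have h2 := hinv _ (hg b hb) (hsq b hb) (hne b hb1)
  have h3 := hinv _ (hg _ (mul_mem ha hb)) (hsq _ (mul_mem ha hb)) (hne _ (fun h => hba (by
    have h4 : b = a⁻¹ := (inv_eq_of_mul_eq_one_right h).symm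
    have h5 : a⁻¹ = a := inv_eq_of_mul_eq_one_right (hA a ha)
    rw [h4, h5])))
  have h4 : g * (a * b) * g⁻¹ * y * (g * (a * b) * g⁻¹)⁻¹ = y := by
    have e1 : g * (a * b) * g⁻¹ * y * (g * (a * b) * g⁻¹)⁻¹ =
        g * a * g⁻¹ * (g * b * g⁻¹ * y * (g * b * g⁻¹)⁻¹) * (g * a * g⁻¹)⁻¹ := by group
    have e2 : g * a * g⁻¹ * y⁻¹ * (g * a * g⁻¹)⁻¹ = (g * a * g⁻¹ * y * (g * a * g⁻¹)⁻¹)⁻¹ := by group
    rw [e1, h2, e2, h1, inv_inv]
  rw [h4] at h3
  -- `y = y⁻¹`: then `y` is an involution, centralised by `g a g⁻¹`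
  have h5 : y * y = 1 := by
    nth_rw 1 [h3]; rw [inv_mul_cancel]
  have h6 : g * a * g⁻¹ * y = y * (g * a * g⁻¹) := by
    rw [← h3] at h1
    have : g * a * g⁻¹ * y = g * a * g⁻¹ * y * (g * a * g⁻¹)⁻¹ * (g * a * g⁻¹) := by group
    rw [this, h1]
  have h7 : g * a * g⁻¹ ∈ (H₀ ⊓ centralizer (zpowers y : Set H) : Subgroup H) := by
    refine mem_inf.2 ⟨hg a ha, ?_⟩
    rw [mem_centralizer_iff]
    rintro _ ⟨k, rfl⟩
    exact (Commute.zpow_right (show Commute (g * a * g⁻¹) y from h6) k).eq.symm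
  rw [hC, mem_bot] at h7
  exact hne a ha1 h7

/-- `F(H) ≠ 1` gives a normal subgroup of prime order -/
theorem exists_normal (hc : OddCyc H) (h2 : pCore 2 H = ⊥) (hF : fittingSubgroup H ≠ ⊥) :
    ∃ (r : ℕ) (y : H), r.Prime ∧ orderOf y = r ∧ (zpowers y).Normal := by
  have hcyc := FFStruct.isCyclic_fitting hc h2
  obtain ⟨r, hr, hrd⟩ := Nat.exists_prime_and_dvd (fun h => hF (Subgroup.card_eq_one.1 h))
  have : Fact r.Prime := ⟨hr⟩
  obtain ⟨y, hy⟩ := exists_prime_orderOf_dvd_card' (G := fittingSubgroup H) r hrd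
  refine ⟨r, y, hr, by rw [Subgroup.orderOf_coe, hy], ?_⟩
  have hn : (fittingSubgroup H).Normal := inferInstance
  have key : ∀ g : H, g * (y : H) * g⁻¹ ∈ zpowers (y : H) := by
    intro g
    have h3 : orderOf (⟨g * y * g⁻¹, hn.conj_mem y y.2 g⟩ : fittingSubgroup H) = orderOf y := by
      rw [Subgroup.orderOf_mk, hy, ← hy, ← Subgroup.orderOf_coe y]
      exact orderOf_injective (MulAut.conj g).toMonoidHom (MulAut.conj g).injective (y : H)
    have h4 := CompBasic.zpowers_eq_of_cyclic h3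
    have h5 : (⟨g * y * g⁻¹, hn.conj_mem y y.2 g⟩ : fittingSubgroup H) ∈ zpowers y := by
      rw [← h4]; exact mem_zpowers _
    obtain ⟨k, hk⟩ := h5
    exact ⟨k, congrArg Subtype.val hk⟩
  constructor
  rintro _ ⟨k, rfl⟩ g
  have h3 := zpow_mem (key g) k
  rwa [conj_zpow] at h3

end basic

section comp

variable {H : Type*} [Group H] [Finite H] {H₀ X : Subgroup H}

/-- the centraliser of a component is trivial -/
theorem cent_eq_bot (hmax : IsCoatom H₀) (hcore : ∀ N : Subgroup H, N.Normal → N ≤ H₀ → N = ⊥) (hodd : Odd H₀.index)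
    [hX : X.Normal] (h2 : 2 ∣ Nat.card X) : centralizer (X : Set H) = ⊥ := by
  have : Fact (Nat.Prime 2) := ⟨Nat.prime_two⟩
  by_contra hne
  have hX1 : X ≠ ⊥ := by
    rintro rfl
    rw [Subgroup.card_bot] at h2
    omega
  have hs := sup_eq_top hmax hcore hX hX1
  have hs' := sup_eq_top hmax hcore (inferInstance : (centralizer (X : Set H)).Normal) hne
  have h3 : (X ⊓ H₀ : Subgroup H) = ⊥ := by
    refine hcore _ (normal_of hs' ?_ ?_) inf_le_right
    · intro h hh
      rw [mem_normalizer_iff]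
      intro x
      constructor
      · intro hx
        obtain ⟨h1, h2⟩ := mem_inf.1 hx
        exact mem_inf.2 ⟨hX.conj_mem x h1 h, mul_mem (mul_mem hh h2) (inv_mem hh)⟩
      · intro hx
        obtain ⟨h1, h2⟩ := mem_inf.1 hx
        have h3 := mul_mem (mul_mem (inv_mem hh) h2) hh
        have h4 := hX.conj_mem _ h1 h⁻¹
        have e1 : h⁻¹ * (h * x * h⁻¹) * h = x := by group
        have e2 : h⁻¹ * (h * x * h⁻¹) * h⁻¹⁻¹ = x := by group
        rw [e1] at h3
        rw [e2] at h4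
        exact mem_inf.2 ⟨h4, h3⟩
    · have h3 : centralizer (X : Set H) ≤ centralizer ((X ⊓ H₀ : Subgroup H) : Set H) :=
        centralizer_le inf_le_left
      exact h3.trans (centralizer_le_normalizer _)
  have h4 := not_two_dvd hs hodd
  have h5 : H₀.subgroupOf X = ⊥ := by
    rw [← Subgroup.inf_subgroupOf_left, h3]; exact Subgroup.bot_subgroupOf X
  rw [h5, Subgroup.index_bot] at h4
  exact h4 h2

theorem mem_of_inner [X.Normal] (hC : centralizer (X : Set H) = ⊥) {a : H} {g : X}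
    (h : (MulAut.conjNormal a : MulAut X) = MulAut.conj g) : a ∈ X := by
  have h1 : (g : H)⁻¹ * a ∈ centralizer (X : Set H) := by
    rw [mem_centralizer_iff]
    intro x hx
    have h2 := congrArg (fun α : MulAut X => ((α ⟨x, hx⟩ : X) : H)) h
    have h3 : a * x * a⁻¹ = g * x * (g : H)⁻¹ := by
      have e1 : ((MulAut.conjNormal a : MulAut X) ⟨x, hx⟩ : H) = a * x * a⁻¹ := MulAut.conjNormal_apply _ _
      have e2 : (((MulAut.conj g : MulAut X) ⟨x, hx⟩ : X) : H) = g * x * (g : H)⁻¹ := rfl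
      rw [← e1, ← e2]; exact h2
    have h4 : a * x = g * x * (g : H)⁻¹ * a := by rw [← h3]; group
    rw [mul_assoc, h4]; group
  rw [hC, mem_bot] at h1
  have h2 : a = g := by
    rw [inv_mul_eq_one] at h1; exact h1.symm
  rw [h2]; exact g.2

/-- `Sz(q)` -/
theorem suzuki [X.Normal] (hC : centralizer (X : Set H) = ⊥) (hs : Cfsg.Lie.IsoSuzuki X) {a : H} (ha : a * a = 1) :
    a ∈ X := by
  obtain ⟨g, hg⟩ := EO.DThree.inner_sz hs ha
  exact mem_of_inner hC hg

/-- `J₁` -/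
theorem janko [X.Normal] (hC : centralizer (X : Set H) = ⊥) (hJ : Cfsg.Agent.SporRec.J1.Defs.Local X) {k : X}
    (hk : orderOf k = 2) : X = ⊤ := by
  rw [eq_top_iff]
  intro a _
  obtain ⟨g, hg⟩ := EO.DThree.inner_j hJ hk a
  exact mem_of_inner hC hg

section jan

open Cfsg.Agent.SporRec.J1.Defs Cfsg.Agent.SporRec.J1.CentFacts Cfsg.Agent.OddCyclic.JInner

theorem u0_mem : ∀ c : A5, (c = 1 ∨ c = v1 ∨ c = v2 ∨ c = v1 * v2) →
    (u0 * c * u0⁻¹ = 1 ∨ u0 * c * u0⁻¹ = v1 ∨ u0 * c * u0⁻¹ = v2 ∨ u0 * c * u0⁻¹ = v1 * v2) := by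
  rintro c (rfl | rfl | rfl | rfl) <;> decide +kernel

theorem u0_mem' : ∀ c : A5, (c = 1 ∨ c = v1 ∨ c = v2 ∨ c = v1 * v2) →
    (u0⁻¹ * c * u0 = 1 ∨ u0⁻¹ * c * u0 = v1 ∨ u0⁻¹ * c * u0 = v2 ∨ u0⁻¹ * c * u0 = v1 * v2) := by
  rintro c (rfl | rfl | rfl | rfl) <;> decide +kernel

/-- a Sylow 2-subgroup of `J₁` is normalised by an element of order 3 -/
theorem three_dvd_normalizer {J : Type*} [Group J] [Finite J] (h : Local J) {k : J} (hk : orderOf k = 2) :
    ∃ (E : Subgroup J) (t : J), IsPGroup 2 E ∧ ¬ 2 ∣ E.index ∧ orderOf t = 3 ∧ t ∈ normalizer (E : Set J) := by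
  obtain ⟨kk, k1⟩ := sq_of_two hk
  obtain ⟨φ, D⟩ := exists_centData k hk (h.cent k hk)
  have hJ := JFacts.isJ1_of_local h hk
  refine ⟨EE k φ, φ u0, EE_pgroup kk D, ?_, ?_, ?_⟩
  · intro h2
    have h8 := EE_card kk k1 D
    have h3 := (EE k φ).card_mul_index
    rw [hJ.2] at h3
    obtain ⟨c, hc⟩ := h8
    obtain ⟨d, hd⟩ := h2
    rw [hc, hd] at h3
    have : 8 * (c * d) * 2 = 175560 := by rw [← h3]; ring
    omega
  · rw [orderOf_injective φ D.inj]
    have : Fact (Nat.Prime 3) := ⟨Nat.prime_three⟩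
    exact orderOf_eq_prime (by decide +kernel) (by decide +kernel)
  · have hk' : ∀ b : A5, φ b * k = k * φ b := fun b => (D.comm b).symm
    rw [mem_normalizer_iff]
    intro x
    constructor
    · intro hx
      obtain ⟨c, hc, hx'⟩ := (list_EE D).1 hx
      refine (list_EE D).2 ⟨u0 * c * u0⁻¹, u0_mem c hc, ?_⟩
      rcases hx' with rfl | rfl
      · left
        rw [map_mul, map_mul, map_inv]
      · right
        rw [map_mul, map_mul, map_inv]
        calc φ u0 * (k * φ c) * (φ u0)⁻¹ = (φ u0 * k) * φ c * (φ u0)⁻¹ := by group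
          _ = k * (φ u0 * φ c * (φ u0)⁻¹) := by rw [hk']; group
    · intro hx
      obtain ⟨c, hc, hx'⟩ := (list_EE D).1 hx
      refine (list_EE D).2 ⟨u0⁻¹ * c * u0, u0_mem' c hc, ?_⟩
      have e0 : x = (φ u0)⁻¹ * (φ u0 * x * (φ u0)⁻¹) * φ u0 := by group
      rcases hx' with h1 | h1
      · left
        rw [map_mul, map_mul, map_inv, e0, h1]
      · right
        rw [map_mul, map_mul, map_inv, e0, h1]
        have h2 : (φ u0)⁻¹ * k = k * (φ u0)⁻¹ := by rw [← map_inv]; exact hk' _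
        calc (φ u0)⁻¹ * (k * φ c) * φ u0 = ((φ u0)⁻¹ * k) * φ c * φ u0 := by group
          _ = k * ((φ u0)⁻¹ * φ c * φ u0) := by rw [h2]; group

/-- `J₁` does not occur -/
theorem not_janko [X.Normal] (hX : X = ⊤) (hJ : Local X) {k : X} (hk : orderOf k = 2) (hodd : Odd H₀.index)
    (h3 : ¬ 3 ∣ Nat.card H₀) (hN : ∀ T : Subgroup H, IsSyl2 ⊤ T → T ≤ H₀ → normalizer (T : Set H) ≤ H₀) : False := by
  have : Fact (Nat.Prime 2) := ⟨Nat.prime_two⟩
  obtain ⟨E, t, hE, hi, ht, htn⟩ := three_dvd_normalizer hJ hk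
  have h1 : IsPGroup 2 (E.map X.subtype) := hE.map _
  have h2 : ¬ 2 ∣ (E.map X.subtype).index := by
    rw [Subgroup.index_map_subtype]
    have : X.index = 1 := by rw [hX, Subgroup.index_top]
    rw [this, mul_one]
    exact hi
  obtain ⟨P, hP⟩ := Cfsg.Agent.Transfer.AbelianHall.exists_sylow_le 2 H₀ (by
    intro h
    rw [Nat.odd_iff] at hodd
    omega)
  obtain ⟨g, hg⟩ := MulAction.exists_smul_eq H (h1.toSylow h2) P
  have h4 : (t : H) ∈ normalizer ((E.map X.subtype : Subgroup H) : Set H) := by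
    rw [mem_normalizer_iff]
    intro x
    constructor
    · rintro ⟨y, hy, rfl⟩
      exact ⟨t * y * t⁻¹, (mem_normalizer_iff.1 htn y).1 hy, rfl⟩
    · rintro ⟨y, hy, h5⟩
      have hxX : x ∈ X := by rw [hX]; trivial
      refine ⟨⟨x, hxX⟩, (mem_normalizer_iff.1 htn _).2 ?_, rfl⟩
      have h6 : t * ⟨x, hxX⟩ * t⁻¹ = y := Subtype.ext h5.symm
      rw [h6]; exact hy
  have h5 : g * t * g⁻¹ ∈ normalizer ((P : Subgroup H) : Set H) := by
    have h6 : (t : H) • (h1.toSylow h2) = h1.toSylow h2 := by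
      rw [Sylow.smul_eq_iff_mem_normalizer]
      exact h4
    apply Sylow.smul_eq_iff_mem_normalizer.1
    rw [← hg, smul_smul]
    have : g * t * g⁻¹ * g = g * t := by group
    rw [this, mul_smul, h6]
  have h6 := hN P ⟨le_top, P.2, fun Y _ hY hPY => P.3 hY hPY⟩ hP h5
  apply h3
  have h7 : orderOf (g * t * g⁻¹ : H) = 3 := by
    rw [← ht, ← Subgroup.orderOf_coe t]
    exact orderOf_injective (MulAut.conj g).toMonoidHom (MulAut.conj g).injective (t : H)
  rw [← h7, ← Subgroup.orderOf_mk _ h6]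
  exact orderOf_dvd_natCard _

end jan

section linear

open Cfsg.Agent.OddCyclic.T1Sl2 Cfsg.Agent.OddCyclic.FFSl2 Cfsg.Agent.Classification.QDW.TypeHom

variable {F : Type*} [Field F] [Fintype F] [CharP F 2]

/-- `SL₂(2^n)`: all involutions are inner -/
theorem linear [X.Normal] [IsSimpleGroup X] (hC : centralizer (X : Set H) = ⊥)
    (e : Matrix.SpecialLinearGroup (Fin 2) F ≃* X) (h2 : 2 ∣ Nat.card X) (hmax : IsCoatom H₀)
    (hcore : ∀ N : Subgroup H, N.Normal → N ≤ H₀ → N = ⊥) (hodd : Odd H₀.index) (h3 : ¬ 3 ∣ Nat.card H₀)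
    {a : H} (ha : a * a = 1) : a ∈ X := by
  have : Fact (Nat.Prime 2) := ⟨Nat.prime_two⟩
  by_contra haX
  have h4 : typ (FFOuter.ac e a) ≠ 1 := by
    intro h5
    obtain ⟨s, hs⟩ := (L2Model.inner_iff _).1 h5
    exact haX (mem_of_inner hC (EO.DThree.psi_of_ac e hs))
  obtain ⟨q, hq, -⟩ := L2Model.card_fix (by rw [← map_mul, ha, map_one]) h4
  -- `3 ∣ |F| - 1`
  have h5 : ∃ n, Nat.card F = 2 ^ n := by
    obtain ⟨n, -, hn⟩ := FiniteField.card F 2
    exact ⟨n, by rw [Nat.card_eq_fintype_card]; exact hn⟩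
  obtain ⟨n, hn⟩ := h5
  have h6 : 3 ∣ Nat.card Fˣ := by
    have h7 : Nat.card Fˣ = Nat.card F - 1 := Nat.card_units F
    rw [h7, hq]
    have h8 : q % 3 ≠ 0 := by
      intro h9
      have h10 : 3 ∣ 2 ^ n := by
        rw [← hn, hq]
        exact Dvd.dvd.pow (Nat.dvd_of_mod_eq_zero h9) (by norm_num)
      have h11 := Nat.prime_three.dvd_of_dvd_pow h10
      omega
    have h9 : q ^ 2 % 3 = 1 := by
      have : q % 3 = 1 ∨ q % 3 = 2 := by omega
      rcases this with h | h <;> simp [Nat.pow_mod, h]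
    omega
  have : Fact (Nat.Prime 3) := ⟨Nat.prime_three⟩
  obtain ⟨s, hs⟩ := exists_prime_orderOf_dvd_card' (G := Fˣ) 3 h6
  have h7 : orderOf (T1Sl2.dgHom s) = 3 := by
    rw [← hs]
    exact orderOf_injective (T1Sl2.dgHom (F := F)) T1Sl2.dgHom_injective s
  -- the Sylow 2-subgroup
  obtain ⟨Q, hQ, -⟩ := norm_eq (PrimR.equiv e PrimR.sl) h2 hmax hcore hodd
  obtain ⟨g, hg⟩ := MulAction.exists_smul_eq X
    ((T1Sl2.SU F).mapSurjective (f := e.toMonoidHom) e.surjective : Sylow 2 X) Q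
  have h8 : (T1Sl2.dgHom s) • T1Sl2.SU F = T1Sl2.SU F := by
    rw [smul_SU_eq]; rfl
  have h9 : e (T1Sl2.dgHom s) • ((T1Sl2.SU F).mapSurjective (f := e.toMonoidHom) e.surjective : Sylow 2 X) =
      (T1Sl2.SU F).mapSurjective (f := e.toMonoidHom) e.surjective := by
    apply Sylow.ext
    ext y
    change y ∈ e (T1Sl2.dgHom s) • ((T1Sl2.SU F).mapSurjective (f := e.toMonoidHom) e.surjective : Sylow 2 X) ↔
      y ∈ ((T1Sl2.SU F).mapSurjective (f := e.toMonoidHom) e.surjective : Sylow 2 X)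
    rw [FFSz.mem_smul, PrimR.mem_map, PrimR.mem_map, map_mul, map_mul, map_inv, e.symm_apply_apply,
      ← FFSz.mem_smul, h8]
  have h10 : ((g * e (T1Sl2.dgHom s) * g⁻¹ : X) : H) ∈ H₀ := by
    rw [hQ]
    have h11 : (MulAut.conjNormal ((g * e (T1Sl2.dgHom s) * g⁻¹ : X) : H) : MulAut X) =
        MulAut.conj (g * e (T1Sl2.dgHom s) * g⁻¹) := by
      ext x
      rw [MulAut.conjNormal_apply]; rfl
    rw [h11]
    change (g * e (T1Sl2.dgHom s) * g⁻¹) • Q = Q
    rw [← hg, smul_smul]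
    have : g * e (T1Sl2.dgHom s) * g⁻¹ * g = g * e (T1Sl2.dgHom s) := by group
    rw [this, mul_smul, h9]
  apply h3
  have h11 : orderOf ((g * e (T1Sl2.dgHom s) * g⁻¹ : X) : H) = 3 := by
    rw [Subgroup.orderOf_coe, ← h7, ← MulEquiv.orderOf_eq e (T1Sl2.dgHom s)]
    exact orderOf_injective (MulAut.conj g).toMonoidHom (MulAut.conj g).injective _
  rw [← h11, ← Subgroup.orderOf_mk _ h10]
  exact orderOf_dvd_natCard _

end linear

end comp

/-- **the list** -/
theorem cases {H : Type u} [Group H] [Finite H] (hc : OddCyc H)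
    (hk : ∀ J : Subgroup H, IsSimpleGroup J → (∃ x y : J, x * y ≠ y * x) → KZero J) {H₀ : Subgroup H}
    (hmax : IsCoatom H₀) (hcore : ∀ N : Subgroup H, N.Normal → N ≤ H₀ → N = ⊥) (hodd : Odd H₀.index)
    (h3 : ¬ 3 ∣ Nat.card H₀)
    (hN : ∀ T : Subgroup H, IsSyl2 ⊤ T → T ≤ H₀ → normalizer (T : Set H) ≤ H₀) :
    (∀ A : Subgroup H, (∀ a ∈ A, a * a = 1) → Nat.card A ≤ 2) ∨
    (∀ a ∈ H₀, a * a = 1 → a ≠ 1 → ∀ h : H, h * a * h⁻¹ ∈ H₀ → h ∈ H₀) ∨
    (3 ∣ Nat.card H ∧ ∀ A : Subgroup H, (∀ a ∈ A, a * a = 1) → Nat.card A ≤ 4) := by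
  have h2 := pCore_eq_bot hcore hodd
  by_cases hF : fittingSubgroup H = ⊥
  swap
  · left
    obtain ⟨r, y, hr, hy, hn⟩ := exists_normal hc h2 hF
    exact rank_one hmax hcore hodd hr hy hn
  by_cases hinv : ∃ a : H, a * a = 1 ∧ a ≠ 1
  swap
  · left
    push Not at hinv
    intro A hA
    have : A = ⊥ := by
      rw [eq_bot_iff]
      intro a ha
      exact mem_bot.2 (hinv a (hA a ha))
    rw [this, Subgroup.card_bot]; norm_num
  right
  obtain ⟨a, ha, ha1⟩ := hinv
  obtain ⟨X, hX⟩ : ∃ X : Subgroup H, IsComponent X := by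
    by_contra hcon
    push Not at hcon
    refine ha1 (FFStruct.eq_one_of_centralizes h2 ha ?_ fun K hK => absurd hK (hcon K))
    intro x hx
    rw [hF, mem_bot] at hx
    rw [hx, mul_one, one_mul]
  have hXn := FFStruct.component_normal hc hX
  have hXs := FFStruct.simple_component hc h2 hX
  have hXk : KZero X := by
    refine hk X hXs ?_
    by_contra hcon
    push Not at hcon
    exact Cfsg.Agent.SignalizersComponents.Components.quasisimple_not_isMulCommutative hX.2 ⟨⟨hcon⟩⟩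
  have hX2 : 2 ∣ Nat.card X := by
    by_contra hcon
    exact Cfsg.Agent.SignalizersComponents.Components.quasisimple_not_isSolvable hX.2
      (Cfsg.Agent.OddCyclic.Red.solvable_of_odd (CompBasic.oddCyc_subgroup hc X) hcon)
  have hC := cent_eq_bot hmax hcore hodd hX2
  rcases hXk with ⟨F, _, _, hp, h5, ⟨e⟩⟩ | ⟨F, _, _, f, hf, hF, ⟨e⟩⟩ | hs | ⟨hJ, k, hk'⟩
  · right
    have hodd' : Odd (Fintype.card F) := hp.odd_of_ne_two (by omega)
    refine ⟨?_, fun A hA => ?_⟩
    · refine Dvd.dvd.trans ?_ (Subgroup.card_subgroup_dvd_card X)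
      rw [Nat.card_congr e.toEquiv]
      exact Cfsg.Agent.ThreePrime.OrderThree.three_dvd_card_psl _
    · have R := Cfsg.Agent.GH.L2Aut.Rep.ofEquiv (Cfsg.Agent.GH.L2Aut.two_ne_zero_of_odd hodd') e
      have h6 := B2Pgl.card_elem R (P := A.map (MulAut.conjNormal : H →* MulAut X))
        (fun α _ => Cfsg.Agent.OddCyclic.PGLTorus.mem_PGL_of_prime R (by rw [Nat.card_eq_fintype_card]; exact hp) α) (by
        rintro _ ⟨x, hx, rfl⟩
        rw [← map_mul, hA x hx, map_one])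
      refine le_trans (le_of_eq ?_) h6
      have hinj : Function.Injective (MulAut.conjNormal : H →* MulAut X) := by
        rw [← MonoidHom.ker_eq_bot_iff, eq_bot_iff, ← hC]
        intro x hx
        rw [mem_centralizer_iff]
        intro y hy
        have h7 := congrArg (fun α : MulAut X => ((α ⟨y, hy⟩ : X) : H)) (MonoidHom.mem_ker.1 hx)
        have h8 : x * y * x⁻¹ = y := by simpa [MulAut.conjNormal_apply] using h7
        calc y * x = x * y * x⁻¹ * x := by rw [h8]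
          _ = x * y := by group
      exact Nat.card_congr (A.equivMapOfInjective _ hinj).toEquiv
  · left
    have h4 : 4 ≤ Fintype.card F := by
      rw [hF]
      calc 4 = 2 ^ 2 := by norm_num
        _ ≤ 2 ^ f := Nat.pow_le_pow_right (by norm_num) hf
    have hch : CharP F 2 := Cfsg.Agent.OddCyclic.PumpMain.charP_two hF
    obtain ⟨g⟩ := WeakTI.PslTwo.nonempty_equiv (F := F)
    have e' := g.trans e.symm
    intro a haH ha2 ha1 h hh
    exact fix_one (PrimR.equiv e' PrimR.sl) hX2 hmax hcore hodd (linear hC e' hX2 hmax hcore hodd h3 ha2) haH ha2 ha1 hh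
  · left
    intro a haH ha2 ha1 h hh
    exact fix_one (PrimR.sz hs) hX2 hmax hcore hodd (suzuki hC hs ha2) haH ha2 ha1 hh
  · exact (not_janko (janko hC hJ hk') hJ hk' hodd h3 hN).elim

end Cfsg.Agent.OddCyclic.Eq.Prim
end
end
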