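import Cfsg.Agent.OddCyclic.EO.Main_mg_m3
import Cfsg.Agent.OddCyclic.COneXL_m3
import Cfsg.Agent.OddCyclic.Emp3.Seven_m3
import Mathlib
import Cfsg.Agent.OddCyclic.EN.Shape_mg_m3
import Cfsg.Agent.GH.L2AutSyl_m3
import Cfsg.Agent.OddCyclic.A4ELayer_m3
import Cfsg.Agent.OddCyclic.RedSame_m3
import Cfsg.Agent.OddCyclic.Eq.Prim
import Cfsg.Agent.GTwoFour.OuterSyl
import Cfsg.Agent.SmallSimple.PSLTwoPart
import Cfsg.Agent.ZN.Facts
import Cfsg.Agent.OddCyclic.Om5Main_m3
import Cfsg.Agent.OddCyclic.FFThree_m3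
import Cfsg.Agent.OddCyclic.AOneSit_m3
import Cfsg.Agent.Involutions.BaerSuzuki
import Cfsg.Agent.OddCyclic.NatNonab.Main_m3
import Cfsg.Agent.OddOrderLocal.CyclicSub
import Cfsg.Agent.OddCyclic.T1Socle
import Cfsg.Agent.FastGrp
import Cfsg.Agent.Prune
set_option linter.all false

section
prune_inst 0x7ffcfcfbaff88ddeffff7e7fffd9dffc38d4dfffffdffb4bfff8e9ff8fdf030e39e12bad9de058ff0ef6629430b87813f97ece7fef6bdc7ffffd5ff45ffbee0fe5f7bd8051d688340fbc0fff83f07f8e7f3fffffffffffffffffffffffffffbeffffffffffff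

-- part: OddCyclic/Eq/PtTOf_mg
section
prune_inst 0x400000001000000000000000000000000000000045000000000001000000000000000000020800000000000000000000000100000000500012000104260000800004000000000000000000000000000000000000000000000
set_option linter.all false
open scoped Cfsg.Agent.FastGrp

-- part: OddCyclic/Eq/PtTOf
section
/-!
# (E_q), Part I, `S > B`: the data `PartI.PtT`
-/

set_option autoImplicit false
set_option linter.unusedSectionVars false

namespace Cfsg.Agent.OddCyclic.Eq.PtTOf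

open Subgroup Cfsg Cfsg.Agent.ZN Cfsg.Agent.ZN.ChoiceBase
open Cfsg.Agent.MinSimple
open Cfsg.Agent.OddCyclic.RedU (EqOne)
open Cfsg.Agent.OddCyclic.Eq.Base Cfsg.Agent.OddCyclic.Eq.Ab
open Cfsg.Agent.OddCyclic.T1Sl2 (up dg ww)
open Cfsg.Agent.LieExceptional.CITDefs (IsSyl2)
open Matrix (SpecialLinearGroup)

universe u

variable {G : Type u} [Group G] [Finite G] {S : Sylow 2 G} {L V : Subgroup G} {q : ℕ}

section

variable {F : Type} [Field F] [Fintype F] [CharP F 2] {e : F → F → G} {φ : L →* _root_.Matrix.SpecialLinearGroup (Fin 2) F}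

theorem not_le (hSB : bau (S : Subgroup G) ≠ S) :
    ¬ (S : Subgroup G) ≤ centralizer (zc (bau (S : Subgroup G)) : Set G) := by
  intro h
  apply hSB
  exact le_antisymm (ChoiceBase.bau_le _) fun s hs => mem_bau_iff.2 ⟨hs, h hs⟩

theorem exists_r (h : EqOne S L V q) (hSB : bau (S : Subgroup G) ≠ S) : ∃ r, q = r * r ∧ 2 ≤ r := by
  obtain ⟨r, hr⟩ := fld h (not_le hSB)
  refine ⟨r, hr.rr, ?_⟩
  have h1 := hr.rr
  have h2 := h.blk.four
  by_contra hcon
  push Not at hcon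
  interval_cases r <;> omega

theorem three_dvd_pred (h : EqOne S L V q) {r : ℕ} (hr : q = r * r) : 3 ∣ q - 1 := by
  obtain ⟨n, -, hn⟩ := LemU.odd_q h
  have h1 : r ∣ 2 ^ n := by rw [← hn, hr]; exact dvd_mul_right _ _
  obtain ⟨m, -, hm⟩ := (Nat.dvd_prime_pow Nat.prime_two).1 h1
  have h2 : q = 4 ^ m := by
    rw [hr, hm, ← pow_add, ← two_mul, pow_mul]
    norm_num
  rw [h2]
  have h3 : 4 ^ m ≡ 1 ^ m [MOD 3] := Nat.ModEq.pow m (by decide)
  rw [one_pow] at h3
  exact (Nat.modEq_iff_dvd' (Nat.one_le_pow _ _ (by norm_num))).mp h3.symm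

/-- `|C_{Z_J}(s)| ≤ r` -/
theorem card_field (h : EqOne S L V q) {r : ℕ} (hr : q = r * r) (hr2 : 2 ≤ r) {s : G}
    (hs : s ∈ normalizer (bau (S : Subgroup G) : Set G))
    (hsc : s ∉ centralizer (zj (S : Subgroup G) : Set G)) (hss : s * s ∈ bau (S : Subgroup G)) :
    Nat.card (zj (S : Subgroup G) ⊓ centralizer ({s} : Set G) : Subgroup G) ≤ r := by
  by_cases h0 : (zj (S : Subgroup G) ⊓ centralizer ({s} : Set G) : Subgroup G) = ⊥
  · rw [h0, card_bot]; omega
  obtain ⟨⟨w, hw⟩, hw1⟩ := Subgroup.ne_bot_iff_exists_ne_one.mp h0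
  have hw1' : w ≠ 1 := fun h0 => hw1 (Subtype.ext h0)
  rw [← LemU.zj_eq_zc] at hw hsc ⊢
  obtain ⟨F, _, _, _, e, φ, hq, c⟩ := exists_co_of h
  obtain ⟨z₀, rfl⟩ := (mem_zc h c).mp hw.1
  have hz0 : z₀ ≠ 0 := by
    rintro rfl
    exact hw1' c.zero
  have c' := c.scale hz0
  have hs1 : s * (fun x y => e (z₀ * x) (z₀ * y)) 1 0 = (fun x y => e (z₀ * x) (z₀ * y)) 1 0 * s := by
    show s * e (z₀ * 1) (z₀ * 0) = e (z₀ * 1) (z₀ * 0) * s
    rw [mul_one, mul_zero]
    exact (mem_centralizer_singleton_iff.1 hw.2).symm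
  obtain ⟨σ, b, d, hd, hse⟩ := exists_sig h c' (h.nb_V hs) hs1
  have hσ : σ ≠ 1 := fun h0 => hsc ((sig_iff h c' hse).2 h0)
  have hσ2 : ∀ x, σ (σ x) = x := by
    intro x
    have h1 := sig_sq hse x 0
    have h2 : s * s ∈ centralizer (zc (bau (S : Subgroup G)) : Set G) := (mem_bau_iff.1 hss).2
    rw [(mem_cent_zc h c').1 h2 x] at h1
    have h3 := (c'.ext h1).1
    rw [map_zero, map_zero, mul_zero, add_zero] at h3
    exact h3.symm
  rw [field_J h c' hse]
  have h1 := card_fix hσ hσ2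
  rw [hq, hr] at h1
  exact (Nat.mul_self_inj.1 h1.symm).le

/-- `Z_J` meets its conjugates in order at most `r` -/
theorem ti (h : EqOne S L V q) {r : ℕ} (hr : q = r * r) (hr2 : 2 ≤ r) (g : G)
    (hg : CompStandard.cj g (ZJ S) ≠ ZJ S) : Nat.card (ZJ S ⊓ CompStandard.cj g (ZJ S) : Subgroup G) ≤ r := by
  have h1 := (LemU.inter h (Or.inr (three_dvd_pred h hr)) (r := r) (by omega)
    (fun s hs hsc hss => card_field h hr hr2 hs hsc hss) (g := g) (by
      intro h2
      apply hg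
      rw [← LemU.zj_eq_zc] at h2
      exact mem_normalizer_iff_cj.1 h2)).1
  rw [← LemU.zj_eq_zc] at h1
  exact h1

/-- `L` is transitive on `V#` -/
theorem cov (h : EqOne S L V q) : ∀ v ∈ V, ∃ m ∈ normalizer (V : Set G), v ∈ CompStandard.cj m (ZJ S) := by
  intro v hv
  obtain ⟨F, _, _, _, e, φ, hq, c⟩ := exists_co_of h
  obtain ⟨x, y, rfl⟩ := (c.mem v).1 hv
  by_cases h0 : ((x, y) : F × F) = 0
  · have h1 : x = 0 := congrArg Prod.fst h0
    have h2 : y = 0 := congrArg Prod.snd h0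
    rw [h1, h2, c.zero]
    exact ⟨1, one_mem _, one_mem _⟩
  · obtain ⟨g, hg⟩ := Semi.exists_act h0
    obtain ⟨l, rfl⟩ := c.surj g
    refine ⟨l, L_V c l.2, e 1 0, (mem_zc h c).2 ⟨1, rfl⟩, ?_⟩
    show (l : G) * e 1 0 * (l : G)⁻¹ = e x y
    rw [c.act]
    have h1 := congrArg Prod.fst hg
    have h2 := congrArg Prod.snd hg
    have h1' : φ l 0 0 * 1 + φ l 0 1 * 0 = x := h1
    have h2' : φ l 1 0 * 1 + φ l 1 1 * 0 = y := h2
    rw [h1', h2']

/-- `B` is Sylow in `C(Z_J)` -/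
theorem syl (S : Sylow 2 G) : IsSyl2 (centralizer (ZJ S : Set G)) (bau (S : Subgroup G)) where
  le := fun b hb => (mem_bau_iff.1 hb).2
  two := S.isPGroup'.to_le (ChoiceBase.bau_le _)
  max := by
    intro Y hY hY2 hB
    have h1 : bau Y = bau (S : Subgroup G) := SamePt.bau_eq S hY2 hB
    refine le_antisymm (fun y hy => ?_) hB
    rw [← h1]
    refine mem_inf.2 ⟨hy, ?_⟩
    have h2 := hY hy
    rwa [ZJ, ChoiceBase.zc_bau, ← SamePt.zj_eq S hY2 hB] at h2

/-- `N(V)` is maximal -/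
theorem mx (h : EqOne S L V q) : ∀ R : Subgroup G, V ≤ R → (∀ x ∈ R, x * x = 1) →
    normalizer (V : Set G) ≤ normalizer (R : Set G) → normalizer (R : Set G) ≤ normalizer (V : Set G) := by
  intro R hVR hR hN
  refine h.le_NV _ ⟨R, ?_, ?_, rfl⟩ L q h.blk ((LemU.L_le h).trans hN)
  · rintro ⟨x, hx⟩
    refine ⟨1, Subtype.ext ?_⟩
    rw [pow_one]
    change x ^ 2 = 1
    rw [pow_two]
    exact hR x hx
  · rintro rfl
    exact LemU.V_ne_bot h (le_bot_iff.1 hVR)

/-- the coordinates in the form of `Eq/Crd` -/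
theorem sys_of (h : EqOne S L V q) (c : Co (bau (S : Subgroup G)) L V e φ) : Crd.Sys V (ZJ S) e where
  add := c.add
  inj := c.inj
  mem := c.mem
  memJ := fun g => mem_zc h c
  semi := fun m hm => semi h c hm
  sl := by
    intro p q r s hd
    have hd' : p * s - q * r = 1 := by rw [sub_eq_add_neg, CharTwo.neg_eq]; exact hd
    obtain ⟨l, hl⟩ := c.surj (T1Sl2.mk p q r s hd')
    refine ⟨l, L_V c l.2, fun x y => ?_⟩
    rw [c.act, hl, T1Sl2.mk00, T1Sl2.mk01, T1Sl2.mk10, T1Sl2.mk11]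
    rfl

/-- elementary abelian subgroups of `N(V)/C(V)` -/
theorem qb (h : EqOne S L V q) : ∀ E : Subgroup G, E ≤ normalizer (V : Set G) → (∀ e ∈ E, e * e = 1) →
    (centralizer (V : Set G)).relIndex E ≤ q := by
  intro E hE hE2
  obtain ⟨F, _, _, _, e, φ, hq, c⟩ := exists_co_of h
  have h1 := (sys_of h c).qb hE hE2
  rwa [Nat.card_eq_fintype_card, hq] at h1

/-- **the data `PtT`** -/
theorem ptT (h : EqOne S L V q) (hn : ¬ centralizer (ZJ S : Set G) ≤ normalizer (V : Set G)) {r : ℕ} (hr : q = r * r)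
    (hr2 : 2 ≤ r) : PartI.PtT q r (ZJ S) V (bau (S : Subgroup G)) := by
  obtain ⟨F, _, _, _, e, φ, hq, c⟩ := exists_co_of h
  refine
    { q4 := h.blk.four
      tt := hr.ge
      tq := by rw [hr]; nlinarith only [hr2]
      UV := h.zc_le
      sq := h.sq
      cardU := h.card_zc
      cardV := by rw [h.card, pow_two]
      act := ?_
      free := ?_
      ti := ti h hr hr2
      cov := cov h
      ab := fun x hx => ab h hx
      qb := qb h
      BV := (ChoiceBase.bau_le _).trans h.S_V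
      syl := syl S
      NB := h.nb_V
      three := not_dvd_ZJ h Nat.prime_three (three_dvd_pred h hr)
      nle := hn
      mx := mx h }
  · intro m hm hmc v hv
    obtain ⟨t, ht⟩ := root h c hq hm hmc
    obtain ⟨x, y, rfl⟩ := (c.mem v).1 hv
    rw [ht]
    have h1 : e (x + t * y) y = e (t * y) 0 * e x y := by rw [← c.add, zero_add, add_comm]
    rw [h1, mul_inv_cancel_right]
    exact (mem_zc h c).2 ⟨_, rfl⟩
  · intro m hm hmc v hv hvU hmv
    obtain ⟨t, ht⟩ := root h c hq hm hmc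
    obtain ⟨x, y, rfl⟩ := (c.mem v).1 hv
    have hy : y ≠ 0 := by
      rintro rfl
      exact hvU ((mem_zc h c).2 ⟨_, rfl⟩)
    have h1 := ht x y
    rw [hmv, mul_inv_cancel_right] at h1
    have h2 := (c.ext h1).1
    have h3 : t * y = 0 := by
      have : x + 0 = x + t * y := by rw [add_zero]; exact h2
      exact (add_left_cancel this).symm
    have h4 : t = 0 := (mul_eq_zero.1 h3).resolve_right hy
    rw [c.mem_cent]
    intro x y
    rw [ht, h4, zero_mul, add_zero]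

end

end Cfsg.Agent.OddCyclic.Eq.PtTOf
end

-- part: OddCyclic/Eq/SecFour
section
/-!
# (E_q) of `T_cyc`, Part II, `V ≤ O₂(C_G(Z))`: (4.1), (4.2), (4.4) of blueprints/S0342-A2-helper402.md

`Sit q Z J V D`: `Z ≤ J ≤ V`, `|J| = q`, `|V| = q²`, `D = O₂(C_G(Z))`.

* `Sit.cmN` (4.1): the conjugates of `V` under `N_G(Z)` commute;
* `Sit.meet` (4.1): `V ∩ V^g ≠ 1` gives `[V, V^g] = 1`;
* `Sit.exists_line` (4.2): in a critical pair some line of one point has order `≥ q` modulo the kernel of the other;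
* `Sit.exists_off`: the offender `A = V^{gx} ≤ C(V)`, quadratic on `W = ⟨V^P⟩`;
* `Sit.relIndex_le` (4.4): `|W : C_W(A)| ≤ 8`, with equality only if `K` does not centralise `V`.
-/

set_option autoImplicit false
set_option linter.unusedSectionVars false

namespace Cfsg.Agent.OddCyclic.Eq.SecFour

open Subgroup Cfsg.Agent.OddCyclic.CompStandard Cfsg.Agent.OddCyclic.RedFiveThree Cfsg.Agent.OddCyclic.Eq.Line

variable {G : Type*} [Group G]

/-- Part II, the data. -/
structure Sit (q : ℕ) (Z J V D : Subgroup G) : Prop where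
  ZJ : Z ≤ J
  JV : J ≤ V
  sq : ∀ v ∈ V, v * v = 1
  cardJ : Nat.card J = q
  cardV : Nat.card V = q * q
  q4 : 4 ≤ q
  tr : ∀ v ∈ V, v ≠ 1 → ∃ m ∈ normalizer (V : Set G), m * v * m⁻¹ ∈ Z
  fus : ∀ z ∈ Z, z ≠ 1 → ∀ g : G, z ∈ cj g J → ∃ c ∈ centralizer ({z} : Set G), cj g J = cj c J
  nz : ∀ z ∈ Z, z ≠ 1 → centralizer ({z} : Set G) ≤ normalizer (Z : Set G)
  nJ : normalizer (J : Set G) ≤ normalizer (V : Set G)
  VD : V ≤ D
  DM : D ≤ normalizer (V : Set G)
  Dn : normalizer (Z : Set G) ≤ normalizer (D : Set G)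
  mu : ∀ g : G, V ≤ normalizer (cj g V : Set G) → cj g V ≤ normalizer (V : Set G) → Cm V (cj g V)
  u4 : ∀ a : G, a ∉ normalizer (V : Set G) → Nat.card (V ⊓ centralizer ({a} : Set G) : Subgroup G) ≤ q
  idx : ∀ a ∈ normalizer (V : Set G), a ∉ centralizer (V : Set G) → (∀ v ∈ V, (a * a) * v = v * (a * a)) →
    Nat.card (V ⊓ centralizer ({a} : Set G) : Subgroup G) ≤ q
  quad : ∀ A : Subgroup G, A ≤ normalizer (V : Set G) → (∀ a ∈ A, a * a = 1) →
    (∀ a ∈ A, ∀ b ∈ A, ∀ v ∈ V, (a * v * a⁻¹ * v⁻¹) * b = b * (a * v * a⁻¹ * v⁻¹)) →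
    (centralizer (V : Set G)).relIndex A ≤ 2 ∨ ((centralizer (V : Set G)).relIndex A ≤ q ∧
      ∃ m ∈ normalizer (V : Set G), ∃ a ∈ A, ∀ x ∈ cj m J, ∃ v ∈ V, a * v * a⁻¹ * v⁻¹ = x)

variable [Finite G]

theorem mem_norm_cj {k a : G} {V : Subgroup G} :
    a ∈ normalizer (cj k V : Set G) ↔ k⁻¹ * a * k ∈ normalizer (V : Set G) := by
  rw [← cj_normalizer, mem_cj]

omit [Finite G] in
theorem mem_cent_cj {k a : G} {V : Subgroup G} :
    a ∈ centralizer (cj k V : Set G) ↔ k⁻¹ * a * k ∈ centralizer (V : Set G) := by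
  rw [← cj_centralizer, mem_cj]

omit [Finite G] in
/-- `C_{V^k}(a) = C_V(a^{k⁻¹})^k` -/
theorem card_cj_cent (k a : G) (V : Subgroup G) :
    Nat.card (cj k V ⊓ centralizer ({a} : Set G) : Subgroup G) =
      Nat.card (V ⊓ centralizer ({k⁻¹ * a * k} : Set G) : Subgroup G) := by
  have h1 : cj k (V ⊓ centralizer ({k⁻¹ * a * k} : Set G)) = cj k V ⊓ centralizer ({a} : Set G) := by
    rw [cj_inf, cj_centralizer_singleton]
    have e : k * (k⁻¹ * a * k) * k⁻¹ = a := by group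
    rw [e]
  rw [← h1, card_cj]

omit [Finite G] in
/-- index of an intersection -/
theorem relIndex_mul_card {K A : Subgroup G} :
    K.relIndex A * Nat.card (A ⊓ K : Subgroup G) = Nat.card A := by
  have h2 := Subgroup.relIndex_mul_relIndex ⊥ (K ⊓ A) A bot_le inf_le_right
  rw [relIndex_bot_left, relIndex_bot_left, inf_relIndex_right] at h2
  rw [inf_comm, mul_comm]
  exact h2

namespace Sit

variable {q : ℕ} {Z J V D P : Subgroup G}

theorem u4' (h : Sit q Z J V D) {k a : G} (ha : a ∉ normalizer (cj k V : Set G)) :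
    Nat.card (cj k V ⊓ centralizer ({a} : Set G) : Subgroup G) ≤ q := by
  rw [card_cj_cent]
  exact h.u4 _ fun h1 => ha (mem_norm_cj.2 h1)

theorem idx' (h : Sit q Z J V D) {k a : G} (ha : a ∈ normalizer (cj k V : Set G))
    (hac : a ∉ centralizer (cj k V : Set G)) (ha2 : a * a = 1) :
    Nat.card (cj k V ⊓ centralizer ({a} : Set G) : Subgroup G) ≤ q := by
  rw [card_cj_cent]
  refine h.idx _ (mem_norm_cj.1 ha) (fun h1 => hac (mem_cent_cj.2 h1)) fun v _ => ?_
  have e : k⁻¹ * a * k * (k⁻¹ * a * k) = 1 := by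
    calc k⁻¹ * a * k * (k⁻¹ * a * k) = k⁻¹ * (a * a) * k := by group
      _ = 1 := by rw [ha2]; group
  rw [e, one_mul, mul_one]

theorem quad' (h : Sit q Z J V D) {k : G} {A : Subgroup G} (hA : A ≤ normalizer (cj k V : Set G))
    (hA2 : ∀ a ∈ A, a * a = 1)
    (hq : ∀ a ∈ A, ∀ b ∈ A, ∀ v ∈ cj k V, (a * v * a⁻¹ * v⁻¹) * b = b * (a * v * a⁻¹ * v⁻¹)) :
    (centralizer (cj k V : Set G)).relIndex A ≤ 2 ∨ ((centralizer (cj k V : Set G)).relIndex A ≤ q ∧
      ∃ m : G, cj m V = cj k V ∧ ∃ a ∈ A, ∀ x ∈ cj m J, ∃ v ∈ cj k V, a * v * a⁻¹ * v⁻¹ = x) := by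
  have h1 : (centralizer (cj k V : Set G)).relIndex A = (centralizer (V : Set G)).relIndex (cj k⁻¹ A) := by
    have h2 : cj k (centralizer (V : Set G)) = centralizer (cj k V : Set G) := cj_centralizer k V
    have h3 : A = cj k (cj k⁻¹ A) := (cj_cj_inv k A).symm
    rw [← h2]
    conv_lhs => rw [h3]
    exact relIndex_map_map_of_injective _ _ (MulAut.conj k).injective
  rw [h1]
  have h4 : ∀ a : G, a ∈ cj k⁻¹ A ↔ k * a * k⁻¹ ∈ A := by
    intro a
    rw [mem_cj, inv_inv]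
  have g1 : cj k⁻¹ A ≤ normalizer (V : Set G) := by
    intro a ha
    have h5 := mem_norm_cj.1 (hA ((h4 a).1 ha))
    have e : k⁻¹ * (k * a * k⁻¹) * k = a := by group
    rwa [e] at h5
  have g2 : ∀ a ∈ cj k⁻¹ A, a * a = 1 := by
    intro a ha
    have h5 := hA2 _ ((h4 a).1 ha)
    calc a * a = k⁻¹ * (k * a * k⁻¹ * (k * a * k⁻¹)) * k := by group
      _ = 1 := by rw [h5]; group
  have g3 : ∀ a ∈ cj k⁻¹ A, ∀ b ∈ cj k⁻¹ A, ∀ v ∈ V, (a * v * a⁻¹ * v⁻¹) * b = b * (a * v * a⁻¹ * v⁻¹) := by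
    intro a ha b hb v hv
    have h5 := hq _ ((h4 a).1 ha) _ ((h4 b).1 hb) _ (cj_mem_cj (g := k) hv)
    calc a * v * a⁻¹ * v⁻¹ * b =
        k⁻¹ * (k * a * k⁻¹ * (k * v * k⁻¹) * (k * a * k⁻¹)⁻¹ * (k * v * k⁻¹)⁻¹ * (k * b * k⁻¹)) * k := by group
      _ = b * (a * v * a⁻¹ * v⁻¹) := by rw [h5]; group
  rcases h.quad _ g1 g2 g3 with h2 | ⟨h2, m, hm, a, ha, h3⟩
  · exact Or.inl h2
  · refine Or.inr ⟨h2, k * m, ?_, k * a * k⁻¹, (h4 a).1 ha, fun x hx => ?_⟩
    · rw [cj_mul, cj_eq_iff.2 hm]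
    · rw [cj_mul] at hx
      obtain ⟨v, hv, e⟩ := h3 (k⁻¹ * x * k) (mem_cj.1 hx)
      refine ⟨k * v * k⁻¹, cj_mem_cj hv, ?_⟩
      calc k * a * k⁻¹ * (k * v * k⁻¹) * (k * a * k⁻¹)⁻¹ * (k * v * k⁻¹)⁻¹ =
          k * (a * v * a⁻¹ * v⁻¹) * k⁻¹ := by group
        _ = x := by rw [e]; group

/-- (4.1), first part -/
theorem cmN (h : Sit q Z J V D) {x y : G} (hx : x ∈ normalizer (Z : Set G)) (hy : y ∈ normalizer (Z : Set G)) :
    Cm (cj x V) (cj y V) := by
  have key : ∀ x ∈ normalizer (Z : Set G), Cm V (cj x V) := by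
    intro x hx
    have h1 : cj x D = D := cj_eq_iff.2 (h.Dn hx)
    refine h.mu x ?_ ?_
    · have h2 := cj_mono (g := x) h.DM
      rw [h1, cj_normalizer] at h2
      exact h.VD.trans h2
    · have h2 := cj_mono (g := x) h.VD
      rw [h1] at h2
      exact h2.trans h.DM
  have h1 := (key (x⁻¹ * y) (Subgroup.mul_mem _ (Subgroup.inv_mem _ hx) hy)).cj x
  rwa [← cj_mul, mul_inv_cancel_left] at h1

/-- (4.1), second part -/
theorem meet (h : Sit q Z J V D) {g v : G} (hv : v ∈ V) (hv1 : v ≠ 1) (hvg : v ∈ cj g V) : Cm V (cj g V) := by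
  obtain ⟨m, hm, hmz⟩ := h.tr v hv hv1
  set z : G := m * v * m⁻¹ with hz
  have hz1 : z ≠ 1 := by
    intro h1
    apply hv1
    calc v = m⁻¹ * z * m := by rw [hz]; group
      _ = 1 := by rw [h1]; group
  have hzg : z ∈ cj (m * g) V := by rw [cj_mul]; exact cj_mem_cj hvg
  have hu := mem_cj.1 hzg
  set u : G := (m * g)⁻¹ * z * (m * g) with hu'
  have hu1 : u ≠ 1 := by
    intro h1
    apply hz1
    calc z = (m * g) * u * (m * g)⁻¹ := by rw [hu']; group
      _ = 1 := by rw [h1]; group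
  obtain ⟨m', hm', hmu⟩ := h.tr u hu hu1
  have hzJ : z ∈ cj (m * g * m'⁻¹) J := by
    rw [mem_cj]
    have e : (m * g * m'⁻¹)⁻¹ * z * (m * g * m'⁻¹) = m' * u * m'⁻¹ := by rw [hu']; group
    rw [e]
    exact h.ZJ hmu
  obtain ⟨c, hc, hcJ⟩ := h.fus z hmz hz1 _ hzJ
  have hcN := h.nz z hmz hz1 hc
  have hn : c⁻¹ * (m * g * m'⁻¹) ∈ normalizer (V : Set G) := by
    apply h.nJ
    rw [← cj_eq_iff, cj_mul, hcJ, cj_inv_cj]
  have h1 : cj (m * g) V = cj c V := by
    have e : m * g = c * (c⁻¹ * (m * g * m'⁻¹)) * m' := by group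
    rw [e, cj_mul _ m', cj_eq_iff.2 hm', cj_mul, cj_eq_iff.2 hn]
  have h2 := h.cmN (Subgroup.one_mem _) hcN
  rw [cj_one, ← h1] at h2
  have h3 := h2.cj m⁻¹
  rw [← cj_mul m⁻¹ (m * g), inv_mul_cancel_left, cj_eq_iff.2 (inv_mem hm)] at h3
  exact h3

theorem meet' (h : Sit q Z J V D) {x g v : G} (hv : v ∈ cj x V) (hv1 : v ≠ 1) (hvg : v ∈ cj g V) :
    Cm (cj x V) (cj g V) := by
  have h1 : x⁻¹ * v * x ∈ cj (x⁻¹ * g) V := by
    rw [mem_cj]
    have e : (x⁻¹ * g)⁻¹ * (x⁻¹ * v * x) * (x⁻¹ * g) = g⁻¹ * v * g := by group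
    rw [e]
    exact mem_cj.1 hvg
  have h2 := h.meet (mem_cj.1 hv) (fun h3 => hv1 (by
    calc v = x * (x⁻¹ * v * x) * x⁻¹ := by group
      _ = 1 := by rw [h3]; group)) h1
  have h3 := h2.cj x
  rwa [← cj_mul, mul_inv_cancel_left] at h3

/-- `P` between `C₀` and `C_G(Z)` -/
structure Pp (Z V P : Subgroup G) : Prop where
  CP : normalizer (V : Set G) ⊓ centralizer (Z : Set G) ≤ P
  PZ : P ≤ centralizer (Z : Set G)

theorem cmP (h : Sit q Z J V D) (p : Pp Z V P) {x y : G} (hx : x ∈ P) (hy : y ∈ P) : Cm (cj x V) (cj y V) :=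
  h.cmN (centralizer_le_normalizer _ (p.PZ hx)) (centralizer_le_normalizer _ (p.PZ hy))

theorem cm_WW (h : Sit q Z J V D) (p : Pp Z V P) : Cm (Wc P V) (Wc P V) :=
  cm_Wc fun _ hx => (cm_Wc fun _ hy => (h.cmP p hy hx)).symm

theorem W_sq (h : Sit q Z J V D) (p : Pp Z V P) : ∀ w ∈ Wc P V, w * w = 1 := by
  intro w hw
  induction hw using Subgroup.closure_induction with
  | mem x hx =>
    obtain ⟨g, hg, x, hx, rfl⟩ := hx
    show (g * x * g⁻¹) * (g * x * g⁻¹) = 1
    calc (g * x * g⁻¹) * (g * x * g⁻¹) = g * (x * x) * g⁻¹ := by group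
      _ = 1 := by rw [h.sq x hx]; group
  | one => rw [mul_one]
  | mul x y hx' hy' hx hy =>
    calc x * y * (x * y) = x * (y * x) * y := by group
      _ = x * (x * y) * y := by rw [h.cm_WW p y hy' x hx']
      _ = (x * x) * (y * y) := by group
      _ = 1 := by rw [hx, hy, mul_one]
  | inv x _ hx => rw [← mul_inv_rev, hx, inv_one]

theorem cent_le (h : Sit q Z J V D) (p : Pp Z V P) : centralizer (V : Set G) ≤ P :=
  (le_inf (centralizer_le_normalizer _) (centralizer_le (h.ZJ.trans h.JV))).trans p.CP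

theorem cr_le (h : Sit q Z J V D) (p : Pp Z V P) {g : G} (c : Fr.Cr P V g) : cj g (Wc P V) ≤ P :=
  (cm_iff.mp c.right).trans (h.cent_le p)

/-- `W ≤ P^g` -/
theorem cr_le' (h : Sit q Z J V D) (p : Pp Z V P) {g : G} (c : Fr.Cr P V g) : Wc P V ≤ cj g P := by
  have h1 := cj_mono (g := g) (h.cr_le p c.inv)
  rwa [cj_cj_inv] at h1

theorem sq_cj (h : Sit q Z J V D) {k v : G} (hv : v ∈ cj k V) : v * v = 1 := by
  have h1 := h.sq _ (mem_cj.1 hv)
  calc v * v = k * ((k⁻¹ * v * k) * (k⁻¹ * v * k)) * k⁻¹ := by group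
    _ = 1 := by rw [h1]; group

/-- the kernel normalises the lines -/
theorem Kc_norm {x k : G} (hx : x ∈ P) (hk : k ∈ Kc P V) : k ∈ normalizer (cj x V : Set G) := by
  rw [← cj_eq_iff]
  exact (mem_Kc.1 hk).2 x hx

theorem Kc_norm' {g x k : G} (hx : x ∈ P) (hk : k ∈ cj g (Kc P V)) : k ∈ normalizer (cj g (cj x V) : Set G) := by
  rw [mem_norm_cj]
  exact Kc_norm hx (mem_cj.1 hk)

/-- `[V^x ∩ K', V^{gy} ∩ K] = 1` if the two lines do not commute -/
theorem comm_inf (h : Sit q Z J V D) {g x y : G} (hx : x ∈ P) (hy : y ∈ P)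
    (hn : ¬ Cm (cj x V) (cj g (cj y V))) {a b : G} (ha : a ∈ cj x V) (haK : a ∈ cj g (Kc P V))
    (hb : b ∈ cj g (cj y V)) (hbK : b ∈ Kc P V) : a * b = b * a := by
  by_contra hne
  apply hn
  have h1 : a * b * a⁻¹ * b⁻¹ ∈ cj x V := by
    have h2 := (mem_normalizer_iff.1 (Kc_norm hx hbK) _).1 (inv_mem ha)
    have e : a * b * a⁻¹ * b⁻¹ = a * (b * a⁻¹ * b⁻¹) := by group
    rw [e]
    exact mul_mem ha h2
  have h2 : a * b * a⁻¹ * b⁻¹ ∈ cj g (cj y V) := by
    have h3 := (mem_normalizer_iff.1 (Kc_norm' hy haK) _).1 hb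
    exact mul_mem h3 (inv_mem hb)
  rw [← cj_mul] at h2 ⊢
  refine h.meet' h1 (fun h3 => hne ?_) h2
  calc a * b = (a * b * a⁻¹ * b⁻¹) * (b * a) := by group
    _ = b * a := by rw [h3, one_mul]

/-- the count of (4.2) -/
theorem le_of_card {K A : Subgroup G} (hA : Nat.card A = q * q) (h4 : 4 ≤ q)
    (hc : Nat.card (A ⊓ K : Subgroup G) ≤ q) : q ≤ K.relIndex A := by
  have h1 := relIndex_mul_card (K := K) (A := A)
  rw [hA] at h1
  by_contra hcon
  push Not at hcon
  have h2 : K.relIndex A * Nat.card (A ⊓ K : Subgroup G) ≤ K.relIndex A * q := Nat.mul_le_mul_left _ hc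
  have h3 : K.relIndex A * q < q * q := Nat.mul_lt_mul_of_pos_right hcon (by omega)
  omega

theorem relIndex_cj (g : G) (K A : Subgroup G) : (cj g K).relIndex A = K.relIndex (cj g⁻¹ A) := by
  have h3 : A = cj g (cj g⁻¹ A) := (cj_cj_inv g A).symm
  conv_lhs => rw [h3]
  exact relIndex_map_map_of_injective _ _ (MulAut.conj g).injective

/-- (4.2), one half -/
theorem exists_line_aux (h : Sit q Z J V D) (p : Pp Z V P) {g : G} (c : Fr.Cr P V g) {x : G} (hx : x ∈ P)
    (hxK : ¬ cj x V ≤ cj g (Kc P V)) :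
    (∃ x ∈ P, q ≤ (Kc P V).relIndex (cj g (cj x V))) ∨ ∃ x ∈ P, q ≤ (Kc P V).relIndex (cj g⁻¹ (cj x V)) := by
  obtain ⟨a, ha, haK⟩ := SetLike.not_le_iff_exists.mp hxK
  have haP : g⁻¹ * a * g ∈ P := mem_cj.1 (h.cr_le' p c (cj_le_Wc hx ha))
  have haK' : g⁻¹ * a * g ∉ Kc P V := fun h1 => haK (mem_cj.2 h1)
  rw [mem_Kc] at haK'
  push Not at haK'
  obtain ⟨y, hy, hne⟩ := haK' haP
  have han : a ∉ normalizer (cj g (cj y V) : Set G) := by
    intro h1
    apply hne
    rw [cj_eq_iff]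
    exact mem_norm_cj.1 h1
  have hcard : ∀ k : G, Nat.card (cj k V) = q * q := fun k => by rw [card_cj, h.cardV]
  have hc1 : Nat.card (cj g (cj y V) ⊓ centralizer ({a} : Set G) : Subgroup G) ≤ q := by
    rw [← cj_mul] at han ⊢
    exact h.u4' han
  by_cases hD : Cm (cj g (cj y V) ⊓ Kc P V) (cj x V)
  · left
    refine ⟨y, hy, le_of_card (by rw [← cj_mul]; exact hcard _) h.q4 ?_⟩
    refine (Subgroup.card_le_of_le ?_).trans hc1
    refine le_inf inf_le_left fun b hb => ?_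
    rw [mem_centralizer_singleton_iff]
    exact hD b hb a ha
  · right
    refine ⟨x, hx, ?_⟩
    rw [← relIndex_cj]
    refine le_of_card (hcard x) h.q4 ?_
    have hn : ¬ Cm (cj x V) (cj g (cj y V)) := fun h1 => hD (h1.symm.mono inf_le_left le_rfl)
    rw [Cm] at hD
    push Not at hD
    obtain ⟨b, hb, w, hw, hbw⟩ := hD
    have hc2 : Nat.card (cj x V ⊓ centralizer ({b} : Set G) : Subgroup G) ≤ q := by
      refine h.idx' (Kc_norm hx hb.2) (fun h1 => hbw ?_) ?_
      · exact (mem_centralizer_iff.1 h1 w hw).symm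
      · have h1 := hb.1
        rw [← cj_mul] at h1
        exact h.sq_cj h1
    refine (Subgroup.card_le_of_le ?_).trans hc2
    intro v hv
    refine ⟨hv.1, ?_⟩
    show v ∈ centralizer ({b} : Set G)
    rw [mem_centralizer_singleton_iff]
    exact h.comm_inf hx hy hn hv.1 hv.2 hb.1 hb.2

/-- **(4.2)** -/
theorem exists_line (h : Sit q Z J V D) (p : Pp Z V P) {g : G} (c : Fr.Cr P V g) :
    (∃ x ∈ P, q ≤ (Kc P V).relIndex (cj g (cj x V))) ∨ ∃ x ∈ P, q ≤ (Kc P V).relIndex (cj g⁻¹ (cj x V)) := by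
  obtain ⟨x, hx, h1⟩ := exists_not_cm c.not
  have h2 : ¬ Cm (Wc P V) (cj g⁻¹ (cj x V)) := by
    intro h3
    have h4 := h3.cj g
    rw [cj_cj_inv] at h4
    exact h1 h4.symm
  obtain ⟨y, hy, h3⟩ := exists_not_cm h2
  have h4 : ¬ Cm (cj x V) (cj g (cj y V)) := by
    intro h5
    have h6 := h5.cj g⁻¹
    rw [cj_inv_cj] at h6
    exact h3 h6.symm
  by_cases h5 : cj x V ≤ cj g (Kc P V)
  · by_cases h6 : cj g (cj y V) ≤ Kc P V
    · exact absurd (fun a ha b hb => h.comm_inf hx hy h4 ha (h5 ha) hb (h6 hb)) h4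
    · have h7 : ¬ cj y V ≤ cj g⁻¹ (Kc P V) := by
        intro h8
        apply h6
        have h9 := cj_mono (g := g) h8
        rwa [cj_cj_inv] at h9
      have h8 := h.exists_line_aux p c.inv hy h7
      rw [inv_inv] at h8
      exact h8.symm
  · exact h.exists_line_aux p c hx h5

/-- a critical element with a big line -/
theorem exists_cr (h : Sit q Z J V D) (p : Pp Z V P)
    (hno : ∀ R : Subgroup G, V ≤ R → (∀ x ∈ R, x * x = 1) → normalizer (V : Set G) ≤ normalizer (R : Set G) →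
      P ≤ normalizer (R : Set G) → False) :
    ∃ g, Fr.Cr P V g ∧ ∃ x ∈ P, q ≤ (Kc P V).relIndex (cj g (cj x V)) := by
  obtain ⟨g, -, h1, h2, h3⟩ := Crit.exists_crit (M := normalizer (V : Set G)) (P := P) (V := V) (W := Wc P V)
    le_rfl (le_Wc P V) (norm_Wc P V) (h.W_sq p) hno
  have c : Fr.Cr P V g := ⟨h1, h2, h3⟩
  rcases h.exists_line p c with h4 | h4
  · exact ⟨g, c, h4⟩
  · exact ⟨g⁻¹, c.inv, h4⟩

/-- the line is in `C(V)` -/
theorem line_le (_h : Sit q Z J V D) {g x : G} (c : Fr.Cr P V g) (hx : x ∈ P) :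
    cj g (cj x V) ≤ centralizer (V : Set G) :=
  (cj_mono (cj_le_Wc hx)).trans (cm_iff.mp c.right)

/-- the line is quadratic on `W` -/
theorem line_quad (h : Sit q Z J V D) (p : Pp Z V P) {g x : G} (c : Fr.Cr P V g) (hx : x ∈ P) :
    ∀ a ∈ cj g (cj x V), ∀ b ∈ cj g (cj x V), ∀ w ∈ Wc P V, (a * w * a⁻¹ * w⁻¹) * b = b * (a * w * a⁻¹ * w⁻¹) := by
  intro a ha b hb w hw
  have hle : cj g (cj x V) ≤ cj g (Wc P V) := cj_mono (cj_le_Wc hx)
  have h1 : Wc P V ≤ normalizer (cj g (Wc P V) : Set G) := by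
    have h3 := (h.cr_le' p c).trans (cj_mono (g := g) (norm_Wc P V))
    rwa [cj_normalizer] at h3
  have h2 : a * w * a⁻¹ * w⁻¹ ∈ cj g (Wc P V) := by
    have h3 : a * w * a⁻¹ * w⁻¹ = a * (w * a⁻¹ * w⁻¹) := by group
    rw [h3]
    exact mul_mem (hle ha) (forall_of_mem_normalizer (h1 hw) _ (inv_mem (hle ha)))
  exact (h.cm_WW p).cj g _ h2 _ (hle hb)

/-- `|W : W ∩ N(A)| ≤ r` -/
theorem norm_relIndex_le (h : Sit q Z J V D) (p : Pp Z V P) {g x : G} (c : Fr.Cr P V g) (hx : x ∈ P) {r : ℕ}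
    (hr : ∀ E : Subgroup G, E ≤ P → (∀ e ∈ E, e * e = 1) → (Kc P V).relIndex E ≤ r) :
    (normalizer (cj g (cj x V) : Set G)).relIndex (Wc P V) ≤ (cj g (Kc P V)).relIndex (Wc P V) ∧
      (cj g (Kc P V)).relIndex (Wc P V) ≤ r := by
  constructor
  · refine relIndex_le_of_le_left (fun k hk => Kc_norm' hx hk) ?_
    rw [Subgroup.relIndex]
    exact index_ne_zero_of_finite
  · rw [relIndex_cj]
    refine hr _ (h.cr_le p c.inv) ?_
    intro e he
    have h1 := h.W_sq p _ (mem_cj.1 he)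
    calc e * e = g⁻¹ * ((g⁻¹⁻¹ * e * g⁻¹) * (g⁻¹⁻¹ * e * g⁻¹)) * g := by group
      _ = 1 := by rw [h1]; group

/-- **(4.4)** -/
theorem relIndex_le (h : Sit 4 Z J V D) (p : Pp Z V P) {g x : G} (c : Fr.Cr P V g) (hx : x ∈ P)
    (hr : ∀ E : Subgroup G, E ≤ P → (∀ e ∈ E, e * e = 1) → (Kc P V).relIndex E ≤ 4) :
    (centralizer (cj g (cj x V) : Set G)).relIndex (Wc P V) ≤ 8 ∧
      ((centralizer (cj g (cj x V) : Set G)).relIndex (Wc P V) = 8 → ¬ Kc P V ≤ centralizer (V : Set G)) := by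
  set A := cj g (cj x V) with hA
  obtain ⟨hn1, hn2⟩ := h.norm_relIndex_le p c hx hr
  rw [← hA] at hn1
  have hAP : A ≤ P := (h.line_le c hx).trans (h.cent_le p)
  have hAk : A = cj (g * x) V := by rw [cj_mul]
  set! E : Subgroup G := normalizer (A : Set G) ⊓ Wc P V with hE
  have hprod : (centralizer (A : Set G)).relIndex E * (normalizer (A : Set G)).relIndex (Wc P V) =
      (centralizer (A : Set G)).relIndex (Wc P V) := by
    have h1 := relIndex_mul_relIndex (centralizer (A : Set G) ⊓ Wc P V) E (Wc P V)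
      (inf_le_inf_right _ (centralizer_le_normalizer _)) inf_le_right
    have h3 : (centralizer (A : Set G) ⊓ Wc P V).relIndex (Wc P V) = (centralizer (A : Set G)).relIndex (Wc P V) :=
      inf_relIndex_right _ _
    have h4 : E.relIndex (Wc P V) = (normalizer (A : Set G)).relIndex (Wc P V) := inf_relIndex_right _ _
    have h2 : centralizer (A : Set G) ⊓ Wc P V = centralizer (A : Set G) ⊓ E := by
      rw [hE, ← inf_assoc, inf_eq_left.2 (centralizer_le_normalizer (A : Set G))]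
    have h5 : (centralizer (A : Set G) ⊓ Wc P V).relIndex E = (centralizer (A : Set G)).relIndex E := by
      rw [h2]
      exact inf_relIndex_right _ _
    rw [h3, h4, h5] at h1
    exact h1
  have hquad := h.quad' (k := g * x) (A := E) (by rw [← hAk]; exact inf_le_left)
    (fun e he => h.W_sq p e he.2) (by
      intro a ha b hb v hv
      rw [← hAk] at hv
      have hvP := hAP hv
      have h1 : a * v * a⁻¹ * v⁻¹ ∈ Wc P V := by
        have h2 : a * v * a⁻¹ * v⁻¹ = a * (v * a⁻¹ * v⁻¹) := by group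
        rw [h2]
        exact mul_mem ha.2 (forall_of_mem_normalizer (norm_Wc P V hvP) _ (inv_mem ha.2))
      exact h.cm_WW p _ h1 _ hb.2)
  rw [← hAk] at hquad
  by_cases hWA : Wc P V ≤ normalizer (A : Set G)
  · -- `W` normalises `A`
    have h1 : (normalizer (A : Set G)).relIndex (Wc P V) = 1 := relIndex_eq_one.2 hWA
    rw [h1, mul_one] at hprod
    have h2 : (centralizer (A : Set G)).relIndex E ≤ 4 := by
      rcases hquad with h3 | ⟨h3, -⟩
      · exact h3.trans (by norm_num)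
      · exact h3
    rw [← hprod]
    exact ⟨h2.trans (by norm_num), fun h3 => by omega⟩
  · obtain ⟨w, hw, hwA⟩ := SetLike.not_le_iff_exists.mp hWA
    have h2 : (centralizer (A : Set G)).relIndex E ≤ 2 := by
      rcases hquad with h3 | ⟨-, m, hm, a, ha, h3⟩
      · exact h3
      · exfalso
        apply hwA
        rw [← hm, mem_norm_cj]
        apply h.nJ
        apply centralizer_le_normalizer
        rw [← mem_cent_cj, mem_centralizer_iff]
        intro j hj
        obtain ⟨v, hv, rfl⟩ := h3 j hj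
        have hvP := hAP hv
        have h4 : a * v * a⁻¹ * v⁻¹ ∈ Wc P V := by
          have h5 : a * v * a⁻¹ * v⁻¹ = a * (v * a⁻¹ * v⁻¹) := by group
          rw [h5]
          exact mul_mem ha.2 (forall_of_mem_normalizer (norm_Wc P V hvP) _ (inv_mem ha.2))
        exact h.cm_WW p _ h4 _ hw
    have h3 : (centralizer (A : Set G)).relIndex E * (normalizer (A : Set G)).relIndex (Wc P V) ≤ 2 * 4 :=
      Nat.mul_le_mul h2 (hn1.trans hn2)
    rw [← hprod]
    refine ⟨h3, fun h4 hK => ?_⟩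
    have h5 : (normalizer (A : Set G)).relIndex (Wc P V) = 4 := by
      have h6 := hn1.trans hn2
      nlinarith only [hn1, hn2, h2, h4]
    have h6 : (centralizer (A : Set G)).relIndex E = 2 := by
      rw [h5] at h4
      omega
    -- `W ∩ N(A) = W ∩ K'`
    have h7 : cj g (Kc P V) ⊓ Wc P V = E := by
      have h8 : cj g (Kc P V) ⊓ Wc P V ≤ E := inf_le_inf_right _ (fun k hk => Kc_norm' hx hk)
      have h9 : (cj g (Kc P V)).relIndex (Wc P V) = 4 := le_antisymm hn2 (h5 ▸ hn1)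
      refine Subgroup.eq_of_le_of_card_ge h8 ?_
      have h10 := relIndex_mul_card (K := cj g (Kc P V)) (A := Wc P V)
      have h11 := relIndex_mul_card (K := normalizer (A : Set G)) (A := Wc P V)
      rw [h9] at h10
      rw [h5] at h11
      rw [hE, inf_comm, inf_comm (cj g (Kc P V))]
      omega
    have h8 : E ≤ centralizer (A : Set G) := by
      rw [← h7]
      intro k hk
      have h9 := mem_cj.1 hk.1
      rw [hA, mem_cent_cj, mem_cent_cj]
      apply hK
      rw [mem_Kc] at h9 ⊢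
      refine ⟨P.mul_mem (P.mul_mem (P.inv_mem hx) h9.1) hx, fun y hy => ?_⟩
      have h10 := h9.2 (x * y) (P.mul_mem hx hy)
      have h11 := congrArg (cj x⁻¹) h10
      rw [cj_mul x y, cj_inv_cj] at h11
      rw [cj_mul, cj_mul]
      exact h11
    rw [relIndex_eq_one.2 h8] at h6
    omega

end Sit

end Cfsg.Agent.OddCyclic.Eq.SecFour
end

-- part: OddCyclic/Eq/Sum
section
/-!
# (E_q) of `T_cyc`: the sum trick

`H` acts transitively on the finite set `Ω` and on the abelian group `Q`; `F : Ω → Q` is equivariant.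
If there are commuting involutions `a, b` of `H` with `F ω · F (aω) · F (bω) · F (abω) = 1` for all `ω`
such that each of `a, b, ab` fixes exactly the point `ω₀`, then `F` is constant.
-/

namespace Cfsg.Agent.OddCyclic.Eq.Sum

open Finset

variable {H Ω Q : Type*} [Group H] [MulAction H Ω] [CommGroup Q]

/-- the product of `F` over an `⟨a,b⟩`-invariant set on which the four-group is semiregular -/
theorem prod_eq_one [DecidableEq Ω] {F : Ω → Q} {a b : H} (ha : a * a = 1) (hb : b * b = 1) (hab : a * b = b * a)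
    (hsum : ∀ ω, F ω * F (a • ω) * F (b • ω) * F ((a * b) • ω) = 1) {ω₀ : Ω}
    (hsa : ∀ ω, a • ω = ω → ω = ω₀) (hsb : ∀ ω, b • ω = ω → ω = ω₀) (hsab : ∀ ω, (a * b) • ω = ω → ω = ω₀) :
    ∀ (n : ℕ) (T : Finset Ω), T.card ≤ n → ω₀ ∉ T → (∀ ω ∈ T, a • ω ∈ T) → (∀ ω ∈ T, b • ω ∈ T) →
      ∏ ω ∈ T, F ω = 1 := by
  intro n
  induction n with
  | zero =>
    intro T hT _ _ _
    rw [Finset.card_eq_zero.mp (Nat.le_zero.mp hT)]
    exact Finset.prod_empty
  | succ n ih =>
    intro T hT h0 hTa hTb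
    rcases T.eq_empty_or_nonempty with h | ⟨ω, hω⟩
    · rw [h]; exact Finset.prod_empty
    · have haa : ∀ x : Ω, a • a • x = x := fun x => by rw [smul_smul, ha, one_smul]
      have hbb : ∀ x : Ω, b • b • x = x := fun x => by rw [smul_smul, hb, one_smul]
      have hba : ∀ x : Ω, b • a • x = (a * b) • x := fun x => by rw [smul_smul, hab]
      have hab' : ∀ x : Ω, a • b • x = (a * b) • x := fun x => by rw [smul_smul]
      have hne : ω ≠ ω₀ := fun h => h0 (h ▸ hω)
      have h1 : a • ω ≠ ω := fun h => hne (hsa _ h)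
      have h2 : b • ω ≠ ω := fun h => hne (hsb _ h)
      have h3 : (a * b) • ω ≠ ω := fun h => hne (hsab _ h)
      have h4 : a • ω ≠ b • ω := by
        intro h
        apply h3
        rw [← hab', ← h, haa]
      have h5 : a • ω ≠ (a * b) • ω := by
        intro h
        apply h2
        have h' := congrArg (fun x => a • x) h
        simp only [← hab', haa] at h'
        exact h'.symm
      have h6 : b • ω ≠ (a * b) • ω := by
        intro h
        apply h1
        have h' := congrArg (fun x => b • x) h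
        simp only [← hba, hbb] at h'
        exact h'.symm
      set! D : Finset Ω := {ω, a • ω, b • ω, (a * b) • ω} with hD
      have hDT : D ⊆ T := by
        intro x hx
        simp only [hD, Finset.mem_insert, Finset.mem_singleton] at hx
        rcases hx with rfl | rfl | rfl | rfl
        · exact hω
        · exact hTa _ hω
        · exact hTb _ hω
        · rw [← hab']; exact hTa _ (hTb _ hω)
      have hDa : ∀ x, a • x ∈ D → x ∈ D := by
        intro x hx
        simp only [hD, Finset.mem_insert, Finset.mem_singleton] at hx ⊢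
        rcases hx with h | h | h | h
        · right; left; rw [← h, haa]
        · left; rw [← haa x, h, haa]
        · right; right; right; rw [← hab', ← h, haa]
        · right; right; left; rw [← haa x, h, ← hab', haa]
      have hDb : ∀ x, b • x ∈ D → x ∈ D := by
        intro x hx
        simp only [hD, Finset.mem_insert, Finset.mem_singleton] at hx ⊢
        rcases hx with h | h | h | h
        · right; right; left; rw [← h, hbb]
        · right; right; right; rw [← hba, ← h, hbb]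
        · left; rw [← hbb x, h, hbb]
        · right; left; rw [← hbb x, h, ← hba, hbb]
      have hprod : ∏ x ∈ D, F x = 1 := by
        rw [hD, Finset.prod_insert, Finset.prod_insert, Finset.prod_insert, Finset.prod_singleton]
        · rw [← mul_assoc, ← mul_assoc]; exact hsum ω
        · simpa using h6
        · simp only [Finset.mem_insert, Finset.mem_singleton, not_or]
          exact ⟨h4, h5⟩
        · simp only [Finset.mem_insert, Finset.mem_singleton, not_or]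
          exact ⟨h1.symm, h2.symm, h3.symm⟩
      rw [← Finset.prod_sdiff hDT, hprod, mul_one]
      apply ih
      · have : (T \ D).card < T.card := by
          apply Finset.card_lt_card
          refine ⟨Finset.sdiff_subset, fun h => ?_⟩
          have := h hω
          simp only [hD, _root_.Finset.mem_sdiff, _root_.Finset.mem_insert, _root_.Finset.mem_singleton, _root_.true_or, _root_.not_true_eq_false, _root_.and_false] at this
        omega
      · exact fun h => h0 (Finset.sdiff_subset h)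
      · intro x hx
        rw [Finset.mem_sdiff] at hx ⊢
        exact ⟨hTa x hx.1, fun h => hx.2 (hDa x h)⟩
      · intro x hx
        rw [Finset.mem_sdiff] at hx ⊢
        exact ⟨hTb x hx.1, fun h => hx.2 (hDb x h)⟩

/-- **the sum trick** -/
theorem const [Finite Ω] {F : Ω → Q} (act : H → Q →* Q) (hF : ∀ h ω, F (h • ω) = act h (F ω))
    (htr : ∀ ω ω' : Ω, ∃ h : H, h • ω = ω') {a b : H} (ha : a * a = 1) (hb : b * b = 1) (hab : a * b = b * a)
    (hsum : ∀ ω, F ω * F (a • ω) * F (b • ω) * F ((a * b) • ω) = 1) {ω₀ : Ω}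
    (h0a : a • ω₀ = ω₀) (h0b : b • ω₀ = ω₀)
    (hsa : ∀ ω, a • ω = ω → ω = ω₀) (hsb : ∀ ω, b • ω = ω → ω = ω₀) (hsab : ∀ ω, (a * b) • ω = ω → ω = ω₀)
    (ω ω' : Ω) : F ω = F ω' := by
  classical
  haveI := Fintype.ofFinite Ω
  have haa : ∀ x : Ω, a • a • x = x := fun x => by rw [smul_smul, ha, one_smul]
  have hbb : ∀ x : Ω, b • b • x = x := fun x => by rw [smul_smul, hb, one_smul]
  have h1 : ∏ x ∈ Finset.univ.erase ω₀, F x = 1 := by
    refine prod_eq_one ha hb hab hsum hsa hsb hsab _ _ le_rfl (Finset.notMem_erase _ _) ?_ ?_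
    · intro x hx
      rw [Finset.mem_erase] at hx ⊢
      refine ⟨fun h => hx.1 ?_, Finset.mem_univ _⟩
      rw [← haa x, h, h0a]
    · intro x hx
      rw [Finset.mem_erase] at hx ⊢
      refine ⟨fun h => hx.1 ?_, Finset.mem_univ _⟩
      rw [← hbb x, h, h0b]
  have h2 : ∏ x : Ω, F x = F ω₀ := by
    rw [← Finset.mul_prod_erase Finset.univ F (Finset.mem_univ ω₀), h1, mul_one]
  have h3 : ∀ h : H, act h (F ω₀) = F ω₀ := by
    intro h
    rw [← h2, map_prod, ← (Equiv.prod_comp (MulAction.toPerm h) F)]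
    refine Finset.prod_congr rfl fun x _ => ?_
    rw [MulAction.toPerm_apply, hF]
  have h4 : ∀ x, F x = F ω₀ := by
    intro x
    obtain ⟨h, rfl⟩ := htr ω₀ x
    rw [hF, h3]
  rw [h4 ω, h4 ω']

end Cfsg.Agent.OddCyclic.Eq.Sum
end

-- part: OddCyclic/Eq/LamMod
section
/-!
# (E_q) of `T_cyc`, (2.4): the module of a line

`V` elementary abelian, commuting with its conjugates under `P`; `Yc P V = ⋂ V^x`, `Kc P V` the kernel of `P` on the
conjugates of `V`.  `l ∈ V ∖ Yc P V` with `[P ∩ N(V), l] ≤ Yc P V`.  Then `Hq P V = P / Kc P V` acts on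
`Nq = ⟨l^P⟩ Yc / Yc` (`rho`), the class `lam` of `l` is fixed by the image `H0 P V` of `P ∩ N(V)`, not by `Hq P V`, and
its conjugates generate `Nq`.
-/

set_option autoImplicit false
set_option linter.unusedSectionVars false

namespace Cfsg.Agent.OddCyclic.Eq.LamMod

open Subgroup Cfsg.Agent.OddCyclic.CompStandard Cfsg.Agent.OddCyclic.RedFiveThree Cfsg.Agent.OddCyclic.Eq.Line
open Cfsg.Agent.OddCyclic.Emp3.NooG Cfsg.Agent.OddCyclic.T1Module

universe u

variable {G : Type u} [Group G] {P V : Subgroup G} {l : G}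

/-- the intersection of the conjugates of `V` under `P` -/
def Yc (P V : Subgroup G) : Subgroup G := ⨅ x : P, cj (x : G) V

theorem mem_Yc {y : G} : y ∈ Yc P V ↔ ∀ x ∈ P, y ∈ cj x V := by
  rw [Yc, mem_iInf]
  exact ⟨fun h x hx => h ⟨x, hx⟩, fun h x => h x x.2⟩

theorem Yc_le : Yc P V ≤ V := by
  intro y hy
  have h := mem_Yc.1 hy 1 P.one_mem
  rwa [cj_one] at h

theorem Yc_conj {x y : G} (hx : x ∈ P) (hy : y ∈ Yc P V) : x * y * x⁻¹ ∈ Yc P V := by
  rw [mem_Yc]
  intro z hz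
  have h1 := mem_Yc.1 hy (x⁻¹ * z) (P.mul_mem (P.inv_mem hx) hz)
  have h2 := conj_mem_cj (g := x) h1
  rwa [← cj_mul, mul_inv_cancel_left] at h2

theorem norm_Yc : P ≤ normalizer (Yc P V : Set G) := by
  intro x hx
  rw [mem_normalizer_iff]
  intro y
  refine ⟨fun h => Yc_conj hx h, fun h => ?_⟩
  have h1 := Yc_conj (P.inv_mem hx) h
  have e : x⁻¹ * (x * y * x⁻¹) * x⁻¹⁻¹ = y := by group
  rwa [e] at h1

/-- the subgroup generated by the conjugates of `l` and `Yc P V` -/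
def Wl (P V : Subgroup G) (l : G) : Subgroup G := Yc P V ⊔ _root_.Subgroup.closure {w | ∃ x ∈ P, w = x * l * x⁻¹}

theorem conj_mem_Wl {x : G} (hx : x ∈ P) : x * l * x⁻¹ ∈ Wl P V l :=
  mem_sup_right (subset_closure ⟨x, hx, rfl⟩)

theorem Wl_le_iff {R : Subgroup G} : Wl P V l ≤ R ↔ Yc P V ≤ R ∧ ∀ x ∈ P, x * l * x⁻¹ ∈ R := by
  rw [Wl, sup_le_iff, closure_le]
  refine and_congr_right fun _ => ⟨fun h x hx => h ⟨x, hx, rfl⟩, ?_⟩
  rintro h _ ⟨x, hx, rfl⟩
  exact h x hx

/-- the data -/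
structure Lm (P V : Subgroup G) (l : G) : Prop where
  sq : ∀ v ∈ V, v * v = 1
  ab : ∀ x ∈ P, Cm V (cj x V)
  lV : l ∈ V
  lY : l ∉ Yc P V
  fix : ∀ c ∈ P, c ∈ normalizer (V : Set G) → c * l * c⁻¹ * l⁻¹ ∈ Yc P V

theorem cm_WW (h : ∀ x ∈ P, Cm V (cj x V)) : Cm (Wc P V) (Wc P V) := by
  refine cm_Wc fun x hx => (cm_Wc fun y hy => ?_).symm
  have h1 := (h (y⁻¹ * x) (P.mul_mem (P.inv_mem hy) hx)).cj y
  rwa [← cj_mul, mul_inv_cancel_left] at h1

theorem sq_W (hs : ∀ v ∈ V, v * v = 1) (h : ∀ x ∈ P, Cm V (cj x V)) : ∀ w ∈ Wc P V, w * w = 1 := by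
  intro w hw
  induction hw using Subgroup.closure_induction with
  | mem x hx =>
    obtain ⟨g, hg, x, hx, rfl⟩ := hx
    show (g * x * g⁻¹) * (g * x * g⁻¹) = 1
    calc (g * x * g⁻¹) * (g * x * g⁻¹) = g * (x * x) * g⁻¹ := by group
      _ = 1 := by rw [hs x hx]; group
  | one => rw [mul_one]
  | mul x y hx' hy' hx hy =>
    calc x * y * (x * y) = x * (y * x) * y := by group
      _ = x * (x * y) * y := by rw [cm_WW h y hy' x hx']
      _ = (x * x) * (y * y) := by group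
      _ = 1 := by rw [hx, hy, mul_one]
  | inv x _ hx => rw [← mul_inv_rev, hx, inv_one]

theorem Wl_le (hl : l ∈ V) : Wl P V l ≤ Wc P V := by
  rw [Wl_le_iff]
  exact ⟨Yc_le.trans (le_Wc P V), fun x hx => cj_le_Wc hx (conj_mem_cj hl)⟩

theorem norm_Wl : P ≤ normalizer (Wl P V l : Set G) := by
  have key : ∀ x ∈ P, ∀ w ∈ Wl P V l, x * w * x⁻¹ ∈ Wl P V l := by
    intro x hx
    have h1 : Wl P V l ≤ (Wl P V l).comap (MulAut.conj x).toMonoidHom := by
      rw [Wl_le_iff]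
      refine ⟨fun y hy => ?_, fun z hz => ?_⟩
      · rw [mem_comap]
        exact mem_sup_left (Yc_conj hx hy)
      · rw [mem_comap]
        have e : (MulAut.conj x).toMonoidHom (z * l * z⁻¹) = (x * z) * l * (x * z)⁻¹ := by
          show x * (z * l * z⁻¹) * x⁻¹ = _
          group
        rw [e]
        exact conj_mem_Wl (P.mul_mem hx hz)
    exact fun w hw => h1 hw
  intro x hx
  rw [mem_normalizer_iff]
  intro y
  refine ⟨fun h => key x hx y h, fun h => ?_⟩
  have h1 := key x⁻¹ (P.inv_mem hx) _ h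
  have e : x⁻¹ * (x * y * x⁻¹) * x⁻¹⁻¹ = y := by group
  rwa [e] at h1

theorem Lm.secA (h : Lm P V l) : SecA P (Wl P V l) (Yc P V) where
  YW := le_sup_left
  WY := by
    intro w hw
    refine centralizer_le_normalizer _ ?_
    rw [mem_centralizer_iff]
    intro y hy
    exact cm_WW h.ab _ (Yc_le.trans (le_Wc P V) hy) _ (Wl_le h.lV hw)
  sq := by
    intro w hw
    rw [sq_W h.sq h.ab w (Wl_le h.lV hw)]
    exact one_mem _
  KW := norm_Wl
  KY := norm_Yc

/-- an element of `P` normalising `V` normalises nothing else than ... : membership in the kernel -/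
theorem mem_Kc' [Finite G] {k : G} : k ∈ Kc P V ↔ k ∈ P ∧ ∀ x ∈ P, x⁻¹ * k * x ∈ normalizer (V : Set G) := by
  rw [mem_Kc]
  refine and_congr_right fun _ => forall_congr' fun x => forall_congr' fun _ => ?_
  rw [← cj_eq_iff, cj_mul, cj_mul]
  constructor
  · intro h
    rw [h, cj_inv_cj]
  · intro h
    have h1 := congrArg (cj x) h
    rwa [cj_cj_inv] at h1

instance Kc_normal [Finite G] : ((Kc P V).subgroupOf P).Normal := by
  constructor
  intro k hk g
  rw [mem_subgroupOf, mem_Kc'] at hk ⊢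
  refine ⟨(g * k * g⁻¹).2, fun x hx => ?_⟩
  have h1 := hk.2 ((g : G)⁻¹ * x) (P.mul_mem (P.inv_mem g.2) hx)
  have e : ((g : G)⁻¹ * x)⁻¹ * (k : G) * ((g : G)⁻¹ * x) = x⁻¹ * ((g * k * g⁻¹ : P) : G) * x := by
    push_cast
    group
  rwa [e] at h1

section

variable [Finite G]

/-- `P` modulo its kernel on the conjugates of `V` -/
abbrev Hq (P V : Subgroup G) : Type u := ↥P ⧸ (Kc P V).subgroupOf P

/-- the projection -/
def pr (P V : Subgroup G) : ↥P →* Hq P V := QuotientGroup.mk' _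

namespace Lm

variable (h : Lm P V l)

/-- the module -/
abbrev Nq (h : Lm P V l) : Type u := UQ h.secA

/-- the kernel acts trivially -/
theorem act_Kc {k : P} (hk : (k : G) ∈ Kc P V) : act h.secA k = 1 := by
  have h1 : ∀ w ∈ Wl P V l, (k : G) * w * (k : G)⁻¹ * w⁻¹ ∈ Yc P V := by
    have hle : Wl P V l ≤ cw (Wl P V l) (Yc P V) (zpowers (k : G)) := by
      rw [Wl_le_iff]
      have hWY := h.secA.WY
      refine ⟨fun y hy => ⟨mem_sup_left hy, le_normalizer hy, fun a ha => ?_⟩, fun x hx =>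
        ⟨conj_mem_Wl hx, hWY (conj_mem_Wl hx), fun a ha => ?_⟩⟩
      · have ha' : a ∈ P := (zpowers_le.2 k.2) ha
        exact Subgroup.mul_mem _ (Yc_conj ha' hy) (Subgroup.inv_mem _ hy)
      · have ha' : a ∈ Kc P V := (zpowers_le.2 hk) ha
        rw [mem_Kc'] at ha'
        have h2 := h.fix (x⁻¹ * a * x) (P.mul_mem (P.mul_mem (P.inv_mem hx) ha'.1) hx) (ha'.2 x hx)
        have h3 := Yc_conj hx h2
        have e : x * (x⁻¹ * a * x * l * (x⁻¹ * a * x)⁻¹ * l⁻¹) * x⁻¹ =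
          a * (x * l * x⁻¹) * a⁻¹ * (x * l * x⁻¹)⁻¹ := by group
        rwa [e] at h3
    intro w hw
    exact (mem_cw.1 (hle hw)).2.2 _ (mem_zpowers _)
  ext x
  obtain ⟨w, rfl⟩ := mk_surj h.secA x
  exact (act_eq_iff h.secA k w).2 (h1 w w.2)

/-- the action of `Hq P V` on the module -/
noncomputable def rho : Hq P V →* MulAut h.Nq :=
  QuotientGroup.lift _ (act h.secA) (fun _ hk => h.act_Kc (mem_subgroupOf.1 hk))

/-- the upper bound -/
theorem index_le_Wl {A : Subgroup G} (hA : A ≤ P) : (CS h.rho ((A.subgroupOf P).map (pr P V))).index ≤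
    (centralizer (A : Set G)).relIndex (Wl P V l) := by
  have h1 : CS h.rho ((A.subgroupOf P).map (pr P V)) = CS (act h.secA) (A.subgroupOf P) := by
    ext x
    rw [mem_CS, mem_CS]
    constructor
    · intro h2 b hb
      exact h2 _ ⟨b, hb, rfl⟩
    · rintro h2 _ ⟨b, hb, rfl⟩
      exact h2 b hb
  rw [h1, index_CS h.secA hA]
  refine (relIndex_cw_le h.secA.WY).trans ?_
  rw [inf_comm, inf_relIndex_right]

/-- **the upper bound** -/
theorem index_le {A : Subgroup G} (hA : A ≤ P) : (CS h.rho ((A.subgroupOf P).map (pr P V))).index ≤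
    (centralizer (A : Set G)).relIndex (Wc P V) := by
  refine (h.index_le_Wl hA).trans ?_
  refine relIndex_le_of_le_right (Wl_le h.lV) ?_
  rw [Subgroup.relIndex]
  exact index_ne_zero_of_finite

/-- more than two cosets: a four-group modulo `K` -/
theorem exists_four {H : Type*} [Group H] {A : Subgroup H} [Finite H] (hA : ∀ a ∈ A, a * a = 1)
    (h : 4 ≤ Nat.card A) : ∃ a ∈ A, ∃ b ∈ A, a ≠ 1 ∧ b ≠ 1 ∧ a * b ≠ 1 := by
  have h1 : ∃ a ∈ A, a ≠ 1 := by
    by_contra hcon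
    push Not at hcon
    have : A = ⊥ := by rw [eq_bot_iff]; exact fun a ha => mem_bot.2 (hcon a ha)
    rw [this, Subgroup.card_bot] at h
    omega
  obtain ⟨a, ha, ha1⟩ := h1
  by_contra hcon
  push Not at hcon
  have h2 : A ≤ zpowers a := by
    intro b hb
    by_cases hb1 : b = 1
    · rw [hb1]; exact one_mem _
    · have h3 := hcon a ha b hb ha1 hb1
      have h4 : b = a⁻¹ := eq_inv_of_mul_eq_one_right h3
      rw [h4]
      exact inv_mem (mem_zpowers a)
  have h3 := Subgroup.card_le_of_le h2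
  have h4 : Nat.card (zpowers a) = 2 := by
    rw [Nat.card_zpowers]
    exact orderOf_eq_prime (by rw [pow_two]; exact hA a ha) ha1
  omega

end Lm

/-- a suitable `l` exists -/
theorem exists_lam (hs : ∀ v ∈ V, v * v = 1) (hab : ∀ x ∈ P, Cm V (cj x V))
    (hne : ¬ P ≤ normalizer (V : Set G))
    (two : ∀ c ∈ P, c ∈ normalizer (V : Set G) → ∃ k : ℕ, c ^ 2 ^ k ∈ centralizer (V : Set G)) :
    ∃ l, Lm P V l := by
  have hYV : Yc P V < V := by
    refine lt_of_le_not_ge Yc_le fun h1 => hne fun x hx => ?_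
    have h2 : V ≤ cj x V := fun v hv => mem_Yc.1 (h1 hv) x hx
    rw [← cj_eq_iff]
    exact (Subgroup.eq_of_le_of_card_ge h2 (card_cj _ _).le).symm
  have s : SecA (P ⊓ normalizer (V : Set G)) V (Yc P V) := by
    refine ⟨Yc_le, ?_, fun w hw => by rw [hs w hw]; exact one_mem _, inf_le_right, inf_le_left.trans norm_Yc⟩
    intro w hw
    refine centralizer_le_normalizer _ ?_
    rw [mem_centralizer_iff]
    intro y hy
    exact comm_of_sq hs (Yc_le hy) hw
  have hp : Fact (Nat.Prime 2) := ⟨Nat.prime_two⟩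
  have hrange : IsPGroup 2 (act s).range := by
    rintro ⟨_, c, rfl⟩
    obtain ⟨k, hk⟩ := two c c.2.1 c.2.2
    refine ⟨k, Subtype.ext ?_⟩
    show (act s c) ^ 2 ^ k = 1
    rw [← map_pow]
    ext x
    obtain ⟨w, rfl⟩ := Emp3.NooG.mk_surj s x
    refine (act_eq_iff s _ w).2 ?_
    have h1 : ((c ^ 2 ^ k : (P ⊓ normalizer (V : Set G) : Subgroup G)) : G) ∈ centralizer (V : Set G) := by
      push_cast
      exact hk
    have h2 := mem_centralizer_iff.1 h1 w w.2
    rw [← h2, mul_inv_cancel_right, mul_inv_cancel]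
    exact one_mem _
  let _ : MulAction (act s).range (UQ s) := MulAction.compHom _ (act s).range.subtype
  have hcard : 2 ∣ Nat.card (UQ s) := by
    have h1 : IsPGroup 2 (UQ s) := fun x => ⟨1, by rw [pow_one, pow_two]; exact uq_sq s x⟩
    have h2 : Nontrivial (UQ s) := by
      obtain ⟨v, hv, hvY⟩ := SetLike.exists_of_lt hYV
      refine ⟨Emp3.NooG.mk s ⟨v, hv⟩, 1, fun h3 => hvY ?_⟩
      exact (_root_.Cfsg.Agent.OddCyclic.Emp3.NooG.mk_eq_one s).1 h3
    obtain ⟨n, hn0, hn⟩ := h1.nontrivial_iff_card.mp h2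
    rw [hn]
    exact dvd_pow_self 2 (by omega)
  obtain ⟨b, hb, hb1⟩ := hrange.exists_fixed_point_of_prime_dvd_card_of_fixed_point (UQ s) hcard (a := 1)
    (fun c => by
      show (c : MulAut (UQ s)) 1 = 1
      exact map_one _)
  obtain ⟨w, rfl⟩ := Emp3.NooG.mk_surj s b
  refine ⟨w, hs, hab, w.2, fun h1 => hb1 ((_root_.Cfsg.Agent.OddCyclic.Emp3.NooG.mk_eq_one s).2 h1).symm, fun c hc hcV => ?_⟩
  exact (act_eq_iff s ⟨c, hc, hcV⟩ w).1 (hb ⟨_, ⟨c, hc, hcV⟩, rfl⟩)

end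

end Cfsg.Agent.OddCyclic.Eq.LamMod
end

-- part: OddCyclic/Eq/SecSeven
section
/-!
# (E_q), piece J = (4.7) of blueprints/S0342-A2-helper402.md

`W = V V_P` is impossible: `C₀ = N_P(V)` acts on `V` as `D₈`, `K = Kc P V` acts nontrivially on `V`, `P` contains an
element of 7-power order outside `C₀`, `C₀` is maximal in `P`.
-/

set_option autoImplicit false

namespace Cfsg.Agent.OddCyclic.Eq.SecSeven

open Subgroup Cfsg.Agent.OddCyclic.CompStandard Cfsg.Agent.OddCyclic.RedFiveThree Cfsg.Agent.OddCyclic.Eq.Line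

variable {G : Type*} [Group G]

structure Sit (Z J V P : Subgroup G) : Prop where
  ZJ : Z ≤ J
  JV : J ≤ V
  PZ : P ≤ centralizer (Z : Set G)
  max : ∀ N : Subgroup G, normalizer (V : Set G) ⊓ P ≤ N → N ≤ P → N ≤ normalizer (V : Set G) ∨ N = P
  JZ : ∀ c ∈ normalizer (V : Set G) ⊓ P, ∀ j ∈ J, c * j * c⁻¹ * j⁻¹ ∈ Z
  PJ : ¬ P ≤ normalizer (J : Set G)
  ab : ∀ x ∈ P, Cm V (cj x V)
  small : ∀ c ∈ normalizer (V : Set G) ⊓ P, (∀ v ∈ V, c * v * c⁻¹ * v⁻¹ ∈ Z) → c ∈ centralizer (V : Set G)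
  center : ∀ N : Subgroup G, N ≤ normalizer (V : Set G) ⊓ P → normalizer (V : Set G) ⊓ P ≤ normalizer (N : Set G) →
    ¬ N ≤ centralizer (V : Set G) → ∃ s ∈ N, (∀ c ∈ normalizer (V : Set G) ⊓ P,
      c * s * c⁻¹ * s⁻¹ ∈ centralizer (V : Set G)) ∧ (∀ j ∈ J, s * j * s⁻¹ * j⁻¹ = 1) ∧
      (∀ j ∈ J, ∃ v ∈ V, s * v * s⁻¹ * v⁻¹ = j) ∧ (∀ v ∈ V, s * v * s⁻¹ * v⁻¹ ∈ J)
  eight : (centralizer (V : Set G)).relIndex (normalizer (V : Set G) ⊓ P) = 8
  nab : ∃ a ∈ normalizer (V : Set G) ⊓ P, ∃ b ∈ normalizer (V : Set G) ⊓ P,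
    a * b * a⁻¹ * b⁻¹ ∉ centralizer (V : Set G)
  seven : ∃ y ∈ P, y ∉ normalizer (V : Set G) ∧ ∃ n : ℕ, y ^ (7 ^ n) = 1
  KV : ¬ Kc P V ≤ centralizer (V : Set G)
  WV : ∀ x ∈ P, cj x V ≤ V ⊔ Wc P J

theorem mem_cen {V : Subgroup G} {k : G} : k ∈ centralizer (V : Set G) ↔ ∀ v ∈ V, k * v * k⁻¹ * v⁻¹ = 1 := by
  rw [mem_centralizer_iff]
  refine forall₂_congr fun v _ => ?_
  rw [mul_inv_eq_one, mul_inv_eq_iff_eq_mul]
  exact eq_comm

theorem mem_sup_of_cm {A B : Subgroup G} (h : Cm A B) {x : G} (hx : x ∈ A ⊔ B) : ∃ a ∈ A, ∃ b ∈ B, x = a * b := by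
  let S : Subgroup G :=
    { carrier := {x | ∃ a ∈ A, ∃ b ∈ B, x = a * b}
      one_mem' := ⟨1, one_mem _, 1, one_mem _, (mul_one _).symm⟩
      mul_mem' := by
        rintro _ _ ⟨a, ha, b, hb, rfl⟩ ⟨a', ha', b', hb', rfl⟩
        refine ⟨a * a', mul_mem ha ha', b * b', mul_mem hb hb', ?_⟩
        rw [mul_assoc, ← mul_assoc b, ← h a' ha' b hb, mul_assoc a' b, ← mul_assoc]
      inv_mem' := by
        rintro _ ⟨a, ha, b, hb, rfl⟩
        refine ⟨a⁻¹, inv_mem ha, b⁻¹, inv_mem hb, ?_⟩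
        rw [_root_.mul_inv_rev, h a⁻¹ (inv_mem ha) b⁻¹ (inv_mem hb)] }
  have hS : A ⊔ B ≤ S := sup_le (fun a ha => ⟨a, ha, 1, one_mem _, (mul_one _).symm⟩)
    (fun b hb => ⟨1, one_mem _, b, hb, (one_mul _).symm⟩)
  exact hS hx

variable [Finite G]

theorem Kc_le (P V : Subgroup G) : Kc P V ≤ normalizer (V : Set G) ⊓ P := by
  intro k hk
  rw [mem_Kc] at hk
  refine ⟨?_, hk.1⟩
  have h := hk.2 1 P.one_mem
  rw [cj_one] at h
  exact cj_eq_iff.mp h

theorem Kc_conj {P V : Subgroup G} {x k : G} (hx : x ∈ P) (hk : k ∈ Kc P V) : x * k * x⁻¹ ∈ Kc P V := by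
  rw [mem_Kc] at hk ⊢
  refine ⟨P.mul_mem (P.mul_mem hx hk.1) (P.inv_mem hx), fun y hy => ?_⟩
  have h1 := hk.2 (x⁻¹ * y) (P.mul_mem (P.inv_mem hx) hy)
  rw [← cj_mul, show x * k * x⁻¹ * y = x * (k * (x⁻¹ * y)) by group, cj_mul, cj_mul, h1, ← cj_mul,
    mul_inv_cancel_left]

namespace Sit

variable {Z J V P : Subgroup G}

theorem cenZ (h : Sit Z J V P) {x z : G} (hx : x ∈ P) (hz : z ∈ Z) : x * z = z * x :=
  (mem_centralizer_iff.1 (h.PZ hx) z hz).symm

theorem ab' (h : Sit Z J V P) {x y : G} (hx : x ∈ P) (hy : y ∈ P) : Cm (cj x V) (cj y V) := by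
  have h1 := (h.ab (x⁻¹ * y) (P.mul_mem (P.inv_mem hx) hy)).cj x
  rwa [← cj_mul, mul_inv_cancel_left] at h1

theorem cm_WW (h : Sit Z J V P) : Cm (Wc P V) (Wc P V) :=
  cm_Wc fun _ hx => (cm_Wc fun _ hy => (h.ab' hy hx)).symm

theorem WJ_le (h : Sit Z J V P) : Wc P J ≤ Wc P V :=
  Wc_le fun _ hx => (cj_mono h.JV).trans (cj_le_Wc hx)

/-- `K` acts trivially on `V_P / Z` -/
theorem comm_WJ (h : Sit Z J V P) {k u : G} (hk : k ∈ Kc P V) (hu : u ∈ Wc P J) : k * u * k⁻¹ * u⁻¹ ∈ Z := by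
  induction hu using Subgroup.closure_induction with
  | mem u hu =>
    obtain ⟨x, hx, hu⟩ := hu
    have h1 : x⁻¹ * k * x ∈ Kc P V := by
      have := Kc_conj (P.inv_mem hx) hk
      rwa [inv_inv] at this
    have h2 := h.JZ _ (Kc_le _ _ h1) _ (mem_cj.mp hu)
    have h3 : k * u * k⁻¹ * u⁻¹ =
        x * (x⁻¹ * k * x * (x⁻¹ * u * x) * (x⁻¹ * k * x)⁻¹ * (x⁻¹ * u * x)⁻¹) * x⁻¹ := by group
    rw [h3, h.cenZ hx h2, mul_inv_cancel_right]
    exact h2
  | one => rw [mul_one, mul_inv_cancel, one_mul, inv_one]; exact one_mem _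
  | mul u v hu' hv' hu hv =>
    have hkP : k ∈ P := (mem_Kc.1 hk).1
    have huP : ∀ z ∈ Z, u * z = z * u := fun z hz =>
      h.cm_WW u (h.WJ_le hu') z ((h.ZJ.trans (h.JV.trans (le_Wc P V))) hz)
    have h3 : k * (u * v) * k⁻¹ * (u * v)⁻¹ = (k * u * k⁻¹ * u⁻¹) * (u * (k * v * k⁻¹ * v⁻¹) * u⁻¹) := by group
    rw [h3, huP _ hv, mul_inv_cancel_right]
    exact mul_mem hu hv
  | inv u hu' hu =>
    have huP : ∀ z ∈ Z, u * z = z * u := fun z hz =>
      h.cm_WW u (h.WJ_le hu') z ((h.ZJ.trans (h.JV.trans (le_Wc P V))) hz)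
    have h3 : k * u⁻¹ * k⁻¹ * (u⁻¹)⁻¹ = (u⁻¹ * (k * u * k⁻¹ * u⁻¹) * u)⁻¹ := by group
    have h4 : u⁻¹ * (k * u * k⁻¹ * u⁻¹) * u = k * u * k⁻¹ * u⁻¹ := by
      rw [mul_assoc, ← huP _ hu, inv_mul_cancel_left]
    rw [h3, h4]
    exact inv_mem hu

/-- `C_K(V) = C_K(W)` -/
theorem cen_cj (h : Sit Z J V P) {k x : G} (hk : k ∈ Kc P V) (hkV : k ∈ centralizer (V : Set G)) (hx : x ∈ P) :
    x⁻¹ * k * x ∈ centralizer (V : Set G) := by
  have h1 : x⁻¹ * k * x ∈ Kc P V := by
    have := Kc_conj (P.inv_mem hx) hk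
    rwa [inv_inv] at this
  refine h.small _ (Kc_le _ _ h1) fun v hv => ?_
  have h2 : x * v * x⁻¹ ∈ V ⊔ Wc P J := h.WV x hx (cj_mem_cj hv)
  have h3 : x⁻¹ * k * x * v * (x⁻¹ * k * x)⁻¹ * v⁻¹ = x⁻¹ * (k * (x * v * x⁻¹) * k⁻¹ * (x * v * x⁻¹)⁻¹) * x := by
    group
  have hcm : Cm V (Wc P J) := fun v hv w hw => h.cm_WW v (le_Wc P V hv) w (h.WJ_le hw)
  have h4 : ∀ w ∈ V ⊔ Wc P J, k * w * k⁻¹ * w⁻¹ ∈ Z := by
    intro w hw
    rw [sup_comm] at hw
    obtain ⟨u, hu, v, hv, rfl⟩ := mem_sup_of_cm hcm.symm hw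
    have h5 : k * (u * v) * k⁻¹ * (u * v)⁻¹ = (k * u * k⁻¹ * u⁻¹) * (u * (k * v * k⁻¹ * v⁻¹) * u⁻¹) := by group
    rw [h5, mem_cen.1 hkV v hv, mul_one, mul_inv_cancel, mul_one]
    exact h.comm_WJ hk hu
  rw [h3]
  have h5 := h4 _ h2
  have h6 : x⁻¹ * (k * (x * v * x⁻¹) * k⁻¹ * (x * v * x⁻¹)⁻¹) = (k * (x * v * x⁻¹) * k⁻¹ * (x * v * x⁻¹)⁻¹) * x⁻¹ :=
    h.cenZ (P.inv_mem hx) h5
  rw [h6, inv_mul_cancel_right]
  exact h5

/-- the elements of `P` centralising `s` modulo `C_K(V)` -/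
def NN (h : Sit Z J V P) (s : G) (hs : s ∈ Kc P V) : Subgroup G where
  carrier := {x | x ∈ P ∧ x * s * x⁻¹ * s⁻¹ ∈ centralizer (V : Set G)}
  one_mem' := ⟨P.one_mem, by rw [one_mul, inv_one, mul_one, mul_inv_cancel]; exact one_mem _⟩
  mul_mem' := by
    rintro x y ⟨hx, hx'⟩ ⟨hy, hy'⟩
    refine ⟨P.mul_mem hx hy, ?_⟩
    have h1 : x * y * s * (x * y)⁻¹ * s⁻¹ = (x⁻¹)⁻¹ * (y * s * y⁻¹ * s⁻¹) * x⁻¹ * (x * s * x⁻¹ * s⁻¹) := by group
    rw [h1]
    exact mul_mem (h.cen_cj (mul_mem (Kc_conj hy hs) (inv_mem hs)) hy' (P.inv_mem hx)) hx'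
  inv_mem' := by
    rintro x ⟨hx, hx'⟩
    refine ⟨P.inv_mem hx, ?_⟩
    have h1 : x⁻¹ * s * (x⁻¹)⁻¹ * s⁻¹ = x⁻¹ * (s * x * s⁻¹ * x⁻¹) * x := by group
    have h2 : s * x * s⁻¹ * x⁻¹ = (x * s * x⁻¹ * s⁻¹)⁻¹ := by group
    have h3 : s * x * s⁻¹ * x⁻¹ ∈ Kc P V := by
      rw [h2]; exact inv_mem (mul_mem (Kc_conj hx hs) (inv_mem hs))
    rw [h1]
    refine h.cen_cj h3 ?_ hx
    rw [h2]
    exact inv_mem hx'

theorem mem_NN (h : Sit Z J V P) {s : G} (hs : s ∈ Kc P V) {x : G} :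
    x ∈ h.NN s hs ↔ x ∈ P ∧ x * s * x⁻¹ * s⁻¹ ∈ centralizer (V : Set G) := Iff.rfl

/-- `s` is `P`-invariant modulo `C_K(V)` -/
theorem inv (h : Sit Z J V P) {s : G} (hs : s ∈ Kc P V) (hsV : s ∉ centralizer (V : Set G))
    (hc : ∀ c ∈ normalizer (V : Set G) ⊓ P, c * s * c⁻¹ * s⁻¹ ∈ centralizer (V : Set G)) :
    ∀ x ∈ P, x * s * x⁻¹ * s⁻¹ ∈ centralizer (V : Set G) := by
  have hle : normalizer (V : Set G) ⊓ P ≤ h.NN s hs := fun c hc' => ⟨hc'.2, hc c hc'⟩
  rcases h.max _ hle (fun x hx => hx.1) with h1 | h1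
  swap
  · intro x hx
    rw [← h1] at hx
    exact hx.2
  exfalso
  obtain ⟨y, hyP, hyV, n, hn⟩ := h.seven
  have hyN : y ∉ h.NN s hs := fun hy => hyV (h1 hy)
  have hpow : ∀ i : ℕ, 0 < i → i < 7 → y ^ i ∉ h.NN s hs := by
    intro i hi0 hi7 hyi
    apply hyN
    have hcop : Nat.Coprime i (orderOf y) := by
      have h2 : orderOf y ∣ 7 ^ n := orderOf_dvd_of_pow_eq_one hn
      refine Nat.Coprime.coprime_dvd_right h2 (Nat.Coprime.pow_right n ?_)
      exact (Nat.coprime_of_lt_prime (by omega) hi7 (by norm_num)).symm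
    have h3 : y ∈ zpowers (y ^ i) := mem_zpowers_pow_iff.2 hcop
    exact (zpowers_le.2 hyi) h3
  set K := Kc P V with hK
  have hKC : K ≤ normalizer (V : Set G) ⊓ P := Kc_le P V
  have hyi : ∀ i : ℕ, y ^ i ∈ P := fun i => pow_mem hyP i
  have hsi : ∀ i : ℕ, y ^ i * s * (y ^ i)⁻¹ ∈ K := fun i => Kc_conj (hyi i) hs
  let f : Option (Fin 7) → K ⧸ (centralizer (V : Set G)).subgroupOf K := fun o =>
    match o with
    | none => QuotientGroup.mk 1
    | some i => QuotientGroup.mk ⟨y ^ (i : ℕ) * s * (y ^ (i : ℕ))⁻¹, hsi i⟩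
  have hf0 : ∀ i : Fin 7, f none ≠ f (some i) := by
    intro i hi
    have h2 := QuotientGroup.eq.1 hi
    rw [mem_subgroupOf] at h2
    simp only [inv_one, one_mul] at h2
    apply hsV
    have h3 := h.cen_cj (hsi i) h2 (hyi i)
    have h4 : (y ^ (i : ℕ))⁻¹ * (y ^ (i : ℕ) * s * (y ^ (i : ℕ))⁻¹) * y ^ (i : ℕ) = s := by group
    rwa [h4] at h3
  have hf1 : ∀ i j : Fin 7, i < j → f (some i) ≠ f (some j) := by
    intro i j hij hi
    have h2 := QuotientGroup.eq.1 hi
    rw [mem_subgroupOf] at h2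
    have h2' : (y ^ (i : ℕ) * s * (y ^ (i : ℕ))⁻¹)⁻¹ * (y ^ (j : ℕ) * s * (y ^ (j : ℕ))⁻¹) ∈
      centralizer (V : Set G) := h2
    have h3 := h.cen_cj (mul_mem (inv_mem (hsi i)) (hsi j)) h2' (hyi i)
    have hij' : (i : ℕ) < j := hij
    have h5 : y ^ (j : ℕ) = y ^ (i : ℕ) * y ^ ((j : ℕ) - i) := by
      rw [← pow_add]; congr 1; omega
    have h4 : (y ^ (i : ℕ))⁻¹ * ((y ^ (i : ℕ) * s * (y ^ (i : ℕ))⁻¹)⁻¹ * (y ^ (j : ℕ) * s * (y ^ (j : ℕ))⁻¹)) *
        y ^ (i : ℕ) = s⁻¹ * (y ^ ((j : ℕ) - i) * s * (y ^ ((j : ℕ) - i))⁻¹) := by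
      rw [h5]; group
    rw [h4] at h3
    refine hpow ((j : ℕ) - i) (by omega) (by have := j.2; omega) ?_
    rw [mem_NN]
    refine ⟨hyi _, ?_⟩
    -- conjugate by `s ∈ N(V)`
    have h6 : y ^ ((j : ℕ) - i) * s * (y ^ ((j : ℕ) - i))⁻¹ * s⁻¹ =
        (s⁻¹)⁻¹ * (s⁻¹ * (y ^ ((j : ℕ) - i) * s * (y ^ ((j : ℕ) - i))⁻¹)) * s⁻¹ := by group
    rw [h6]
    exact h.cen_cj (mul_mem (inv_mem hs) (hsi _)) h3 (P.inv_mem (hKC hs).2)
  have hfinj : Function.Injective f := by
    intro a b hab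
    rcases a with _ | i <;> rcases b with _ | j
    · rfl
    · exact absurd hab (hf0 j)
    · exact absurd hab.symm (hf0 i)
    · rcases lt_trichotomy i j with h2 | h2 | h2
      · exact absurd hab (hf1 i j h2)
      · rw [h2]
      · exact absurd hab.symm (hf1 j i h2)
  have h8 : Nat.card (Option (Fin 7)) = 8 := by
    rw [Nat.card_eq_fintype_card, Fintype.card_option, Fintype.card_fin]
  have hKidx : (centralizer (V : Set G)).relIndex K ≤ 8 := by
    rw [← h.eight]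
    exact relIndex_le_of_le_right hKC (by rw [h.eight]; norm_num)
  have hcardK : Nat.card (K ⧸ (centralizer (V : Set G)).subgroupOf K) ≤ 8 := hKidx
  have hcard8 : 8 ≤ Nat.card (K ⧸ (centralizer (V : Set G)).subgroupOf K) := by
    rw [← h8]; exact Nat.card_le_card_of_injective f hfinj
  have hfsurj : Function.Surjective f :=
    (hfinj.bijective_of_nat_card_le (by rw [h8]; exact hcardK)).2
  -- everything in `K` is central modulo `C(V)`
  have hcen : ∀ k ∈ K, ∀ k' ∈ K, k * k' * k⁻¹ * k'⁻¹ ∈ centralizer (V : Set G) := by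
    intro k hk k' hk'
    obtain ⟨o, ho⟩ := hfsurj (QuotientGroup.mk ⟨k', hk'⟩)
    have key : ∀ r ∈ K, (k * r * k⁻¹ * r⁻¹ ∈ centralizer (V : Set G)) → r⁻¹ * k' ∈ centralizer (V : Set G) →
        k * k' * k⁻¹ * k'⁻¹ ∈ centralizer (V : Set G) := by
      intro r hr hkr hrk
      have h2 : k * k' * k⁻¹ * k'⁻¹ = (k * r * k⁻¹ * r⁻¹) * ((r⁻¹)⁻¹ * (((k⁻¹)⁻¹ * (r⁻¹ * k') * k⁻¹) *
          (r⁻¹ * k')⁻¹) * r⁻¹) := by group
      have hrk' : r⁻¹ * k' ∈ K := mul_mem (inv_mem hr) hk'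
      have h3 := h.cen_cj hrk' hrk (P.inv_mem (hKC hk).2)
      have h4 : (k⁻¹)⁻¹ * (r⁻¹ * k') * k⁻¹ ∈ K := by
        rw [inv_inv]; exact Kc_conj (hKC hk).2 hrk'
      rw [h2]
      exact mul_mem hkr (h.cen_cj (mul_mem h4 (inv_mem hrk')) (mul_mem h3 (inv_mem hrk)) (P.inv_mem (hKC hr).2))
    rcases o with _ | i
    · have h2 := QuotientGroup.eq.1 ho
      rw [mem_subgroupOf] at h2
      refine key 1 (one_mem _) ?_ ?_
      · rw [mul_one, mul_inv_cancel, one_mul, inv_one]; exact one_mem _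
      · exact h2
    · have h2 := QuotientGroup.eq.1 ho
      rw [mem_subgroupOf] at h2
      refine key (y ^ (i : ℕ) * s * (y ^ (i : ℕ))⁻¹) (hsi i) ?_ h2
      have h3 : k * (y ^ (i : ℕ) * s * (y ^ (i : ℕ))⁻¹) * k⁻¹ * (y ^ (i : ℕ) * s * (y ^ (i : ℕ))⁻¹)⁻¹ =
          ((y ^ (i : ℕ))⁻¹)⁻¹ * ((y ^ (i : ℕ))⁻¹ * k * y ^ (i : ℕ) * s * ((y ^ (i : ℕ))⁻¹ * k * y ^ (i : ℕ))⁻¹ * s⁻¹) *
            (y ^ (i : ℕ))⁻¹ := by group
      have h4 : (y ^ (i : ℕ))⁻¹ * k * y ^ (i : ℕ) ∈ K := by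
        have := Kc_conj (P.inv_mem (hyi i)) hk
        rwa [inv_inv] at this
      rw [h3]
      refine h.cen_cj ?_ (hc _ (hKC h4)) (P.inv_mem (hyi i))
      exact mul_mem (mul_mem (mul_mem h4 hs) (inv_mem h4)) (inv_mem hs)
  -- `K` covers `C₀`
  have hcov : ∀ a ∈ normalizer (V : Set G) ⊓ P, ∃ k ∈ K, k⁻¹ * a ∈ centralizer (V : Set G) := by
    intro a ha
    let e := quotientSubgroupOfEmbeddingOfLE (centralizer (V : Set G)) hKC
    have hle : Nat.card (↥(normalizer (V : Set G) ⊓ P) ⧸ (centralizer (V : Set G)).subgroupOf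
        (normalizer (V : Set G) ⊓ P)) ≤ Nat.card (K ⧸ (centralizer (V : Set G)).subgroupOf K) := by
      have h2 : Nat.card (↥(normalizer (V : Set G) ⊓ P) ⧸ (centralizer (V : Set G)).subgroupOf
        (normalizer (V : Set G) ⊓ P)) = 8 := h.eight
      rw [h2]; exact hcard8
    have hsurj := (e.injective.bijective_of_nat_card_le hle).2
    obtain ⟨k, hk⟩ := hsurj (QuotientGroup.mk ⟨a, ha⟩)
    obtain ⟨k, rfl⟩ := QuotientGroup.mk_surjective k
    rw [quotientSubgroupOfEmbeddingOfLE_apply_mk] at hk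
    have h2 := QuotientGroup.eq.1 hk
    rw [mem_subgroupOf] at h2
    exact ⟨k, k.2, h2⟩
  obtain ⟨a, ha, b, hb, hab⟩ := h.nab
  apply hab
  obtain ⟨k, hk, hka⟩ := hcov a ha
  obtain ⟨k', hk', hkb⟩ := hcov b hb
  have hφ : ∀ x : G, ∀ hx : x ∈ normalizer (V : Set G), x ∈ centralizer (V : Set G) ↔
      V.normalizerMonoidHom ⟨x, hx⟩ = 1 := by
    intro x hx
    rw [← MonoidHom.mem_ker, normalizerMonoidHom_ker, mem_subgroupOf]
  have h1 : V.normalizerMonoidHom ⟨k, (hKC hk).1⟩ = V.normalizerMonoidHom ⟨a, ha.1⟩ := by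
    rw [← inv_mul_eq_one, ← map_inv, ← map_mul]
    exact (hφ _ _).1 hka
  have h2 : V.normalizerMonoidHom ⟨k', (hKC hk').1⟩ = V.normalizerMonoidHom ⟨b, hb.1⟩ := by
    rw [← inv_mul_eq_one, ← map_inv, ← map_mul]
    exact (hφ _ _).1 hkb
  have h3 := (hφ _ (mul_mem (mul_mem (mul_mem (hKC hk).1 (hKC hk').1) (inv_mem (hKC hk).1))
    (inv_mem (hKC hk').1))).1 (hcen k hk k' hk')
  rw [hφ _ (mul_mem (mul_mem (mul_mem ha.1 hb.1) (inv_mem ha.1)) (inv_mem hb.1))]
  have h4 : (⟨a * b * a⁻¹ * b⁻¹, mul_mem (mul_mem (mul_mem ha.1 hb.1) (inv_mem ha.1)) (inv_mem hb.1)⟩ :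
      normalizer (V : Set G)) = ⟨a, ha.1⟩ * ⟨b, hb.1⟩ * (⟨a, ha.1⟩)⁻¹ * (⟨b, hb.1⟩)⁻¹ := rfl
  have h5 : (⟨k * k' * k⁻¹ * k'⁻¹, mul_mem (mul_mem (mul_mem (hKC hk).1 (hKC hk').1) (inv_mem (hKC hk).1))
    (inv_mem (hKC hk').1)⟩ : normalizer (V : Set G)) =
      ⟨k, (hKC hk).1⟩ * ⟨k', (hKC hk').1⟩ * (⟨k, (hKC hk).1⟩)⁻¹ * (⟨k', (hKC hk').1⟩)⁻¹ := rfl
  rw [h5] at h3
  rw [h4]
  simp only [map_mul, map_inv] at h3 ⊢
  rw [← h1, ← h2]
  exact h3

/-- **(4.7)** -/
theorem false (h : Sit Z J V P) : False := by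
  obtain ⟨s, hs, hc, hsJ, hsj, hsV⟩ := h.center (Kc P V) (Kc_le P V) (fun c hc => by
    rw [← cj_eq_iff]
    refine Subgroup.eq_of_le_of_card_ge ?_ (card_cj c _).ge
    intro k hk
    have h1 := Kc_conj hc.2 (mem_cj.mp hk)
    have h2 : c * (c⁻¹ * k * c) * c⁻¹ = k := by group
    rwa [h2] at h1) h.KV
  have hsC : s ∉ centralizer (V : Set G) := by
    intro h1
    apply h.PJ
    have h2 : J = ⊥ := by
      rw [eq_bot_iff]
      intro j hj
      obtain ⟨v, hv, rfl⟩ := hsj j hj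
      rw [mem_bot]
      exact mem_cen.1 h1 v hv
    rw [h2]
    intro x _
    rw [← cj_eq_iff]
    show (⊥ : Subgroup G).map _ = ⊥
    exact Subgroup.map_bot _
  have hinv := h.inv hs hsC hc
  -- `s` and `s ^ x` act in the same way on `W`
  have hact : ∀ x ∈ P, ∀ w ∈ Wc P V, x * s * x⁻¹ * w * (x * s * x⁻¹)⁻¹ = s * w * s⁻¹ := by
    intro x hx w hw
    have h1 : x * s * x⁻¹ * s⁻¹ ∈ Kc P V := mul_mem (Kc_conj hx hs) (inv_mem hs)
    have h2 : x * s * x⁻¹ * s⁻¹ ∈ centralizer (Wc P V : Set G) := by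
      rw [← zpowers_le, ← cm_iff]
      refine (cm_Wc fun y hy => ?_).symm
      have h3 := h.cen_cj h1 (hinv x hx) hy
      have h4 := conj_mem_cj (g := y) h3
      rw [cj_centralizer, show y * (y⁻¹ * (x * s * x⁻¹ * s⁻¹) * y) * y⁻¹ = x * s * x⁻¹ * s⁻¹ by group] at h4
      exact (cm_iff.2 (zpowers_le.2 h4)).symm
    have h3 : s * w * s⁻¹ ∈ Wc P V := by
      have h4 := norm_Wc P V (Kc_le P V hs).2
      rw [← cj_eq_iff] at h4
      rw [← h4]
      exact cj_mem_cj hw
    have h4 := mem_centralizer_iff.1 h2 _ h3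
    calc x * s * x⁻¹ * w * (x * s * x⁻¹)⁻¹ = (x * s * x⁻¹ * s⁻¹) * (s * w * s⁻¹) * (x * s * x⁻¹ * s⁻¹)⁻¹ := by group
      _ = s * w * s⁻¹ := by rw [← h4, mul_inv_cancel_right]
  -- `s` centralises `V_P`
  have hcJ : ∀ u ∈ Wc P J, s * u * s⁻¹ = u := by
    have h1 : Cm (Wc P J) (zpowers s) := by
      refine cm_Wc fun x hx => ?_
      rw [cm_iff]
      refine fun u hu => ?_
      rw [mem_centralizer_iff]
      have h2 : s * u * s⁻¹ = u := by
        rw [← hact x hx u (h.WJ_le (cj_le_Wc hx hu))]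
        have h3 := hsJ _ (mem_cj.mp hu)
        rw [mul_inv_eq_one] at h3
        calc x * s * x⁻¹ * u * (x * s * x⁻¹)⁻¹ = x * (s * (x⁻¹ * u * x) * s⁻¹) * x⁻¹ := by group
          _ = u := by rw [h3]; group
      intro t ht
      have h3 : zpowers s ≤ centralizer {u} := by
        rw [zpowers_le, mem_centralizer_singleton_iff]
        exact mul_inv_eq_iff_eq_mul.1 h2
      exact mem_centralizer_singleton_iff.1 (h3 ht)
    intro u hu
    rw [mul_inv_eq_iff_eq_mul]
    exact (h1 u hu s (mem_zpowers s)).symm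
  apply h.PJ
  intro x hx
  rw [← cj_eq_iff]
  refine Subgroup.eq_of_le_of_card_ge ?_ (card_cj x _).ge
  intro u hu
  obtain ⟨v, hv, hvu⟩ := hsj _ (mem_cj.mp hu)
  have hxv : x * v * x⁻¹ ∈ V ⊔ Wc P J := h.WV x hx (cj_mem_cj hv)
  have hcm : Cm V (Wc P J) := fun v hv w hw => h.cm_WW v (le_Wc P V hv) w (h.WJ_le hw)
  obtain ⟨v₁, hv₁, w, hw, hvw⟩ := mem_sup_of_cm hcm hxv
  have h1 : u = s * (x * v * x⁻¹) * s⁻¹ * (x * v * x⁻¹)⁻¹ := by
    rw [← hact x hx _ (cj_le_Wc hx (cj_mem_cj hv))]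
    calc u = x * (x⁻¹ * u * x) * x⁻¹ := by group
      _ = x * (s * v * s⁻¹ * v⁻¹) * x⁻¹ := by rw [hvu]
      _ = _ := by group
  have h2 : u = s * v₁ * s⁻¹ * v₁⁻¹ := by
    rw [h1, hvw]
    have h3 := hcJ w hw
    calc s * (v₁ * w) * s⁻¹ * (v₁ * w)⁻¹ = s * v₁ * s⁻¹ * (s * w * s⁻¹) * w⁻¹ * v₁⁻¹ := by group
      _ = _ := by rw [h3]; group
  rw [h2]
  exact hsV v₁ hv₁

end Sit

end Cfsg.Agent.OddCyclic.Eq.SecSeven
end

-- part: OddCyclic/Eq/PGLSeven
section
/-!
# (E_q), piece J = (4.6) of blueprints/S0342-A2-helper402.md, module part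

`L = PSL₂(7)` normal in `H`, `C_H(L) = 1`, `L ≠ H` (so `H = PGL₂(7)`), `H` acts on an elementary abelian 2-group `V`,
`L` acts nontrivially.  Then `|V : C_V(A)| ≥ 8` for every elementary abelian `A ≤ H` of order at least 4.
-/

set_option autoImplicit false
set_option linter.unusedSectionVars false

namespace Cfsg.Agent.OddCyclic.Eq.PGLSeven

open Matrix Cfsg.Agent.Lib.SL2Mat Cfsg.Agent.OddCyclic.T1Module Cfsg.Agent.OddCyclic.FFBasic
  Cfsg.Agent.OddCyclic.FFSl2 Cfsg.Agent.OddCyclic.FFPsl Cfsg.Agent.OddCyclic.FFPslMat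
  Cfsg.Agent.OddCyclic.T1Defs Cfsg.Agent.OddCyclic.PGLTorus Cfsg.Agent.GH.L2Aut

local instance fact7 : Fact (Nat.Prime 7) := ⟨by norm_num⟩

section rep

variable {F : Type*} [Field F] [Finite F] {L : Type*} [Group L]

/-- coordinates over `ZMod 7` -/
theorem exists_rep (R : Cfsg.Agent.GH.L2Aut.Rep F L) (hF : Nat.card F = 7) :
    Nonempty (Cfsg.Agent.GH.L2Aut.Rep (ZMod 7) L) := by
  have hp : (Nat.card F).Prime := by rw [hF]; norm_num
  have hch : CharP F 7 := by
    have := FFPsl.charP (F := F) hp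
    rwa [hF] at this
  have := Fintype.ofFinite F
  have hb := ZMod.castHom_bijective (n := 7) F (by rw [← Nat.card_eq_fintype_card, hF])
  let φ : ZMod 7 →+* F := ZMod.castHom (dvd_refl 7) F
  let e : ZMod 7 ≃+* F := RingEquiv.ofBijective φ hb
  have hinj : Function.Injective (Matrix.SpecialLinearGroup.map (n := Fin 2) φ) := by
    intro a b hab
    apply Subtype.ext
    ext i j
    have := congrArg (fun w : Matrix.SpecialLinearGroup (Fin 2) F => w.1 i j) hab
    exact φ.injective this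
  have hsurj : Function.Surjective (Matrix.SpecialLinearGroup.map (n := Fin 2) φ) := by
    intro x
    refine ⟨Matrix.SpecialLinearGroup.map (e.symm : F →+* ZMod 7) x, ?_⟩
    apply Subtype.ext
    ext i j
    exact e.apply_symm_apply (x.1 i j)
  have hneg : Matrix.SpecialLinearGroup.map (n := Fin 2) φ (-1) = -1 := by
    apply Subtype.ext
    ext i j
    (revert i j; simp only [_root_.Fin.forall_fin_succ, _root_.Matrix.SpecialLinearGroup.map_apply_coe, _root_.Matrix.SpecialLinearGroup.coe_neg, _root_.Matrix.SpecialLinearGroup.coe_one, _root_.RingHom.mapMatrix_apply, _root_.Matrix.map_apply, _root_.Matrix.neg_apply, _root_.map_neg, _root_.neg_inj, _root_.IsEmpty.forall_iff, _root_.and_true, _root_.Matrix.one_apply_eq, _root_.map_one, Nat.reduceAdd, Fin.isValue, _root_.Fin.succ_zero_eq_one, _root_.ne_eq, _root_.zero_ne_one, _root_.not_false_eq_true, _root_.Matrix.one_apply_ne, _root_.map_zero, _root_.and_self, _root_.Fin.succ_ne_zero,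 _root_.true_and])
  have hker : ∀ x, (R.π.comp (Matrix.SpecialLinearGroup.map φ)) x = 1 ↔ x = 1 ∨ x = -1 := by
    intro x
    rw [MonoidHom.comp_apply, R.ker]
    constructor
    · rintro (h | h)
      · exact Or.inl (hinj (h.trans (map_one _).symm))
      · exact Or.inr (hinj (h.trans hneg.symm))
    · rintro (rfl | rfl)
      · exact Or.inl (map_one _)
      · exact Or.inr hneg
  have h2 : (2 : ZMod 7) ≠ 0 := by decide
  exact ⟨{ π := R.π.comp (Matrix.SpecialLinearGroup.map φ)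
           surj := R.surj.comp hsurj
           ker := hker
           two := h2 }⟩

end rep

def i1 : Matrix.SpecialLinearGroup (Fin 2) (ZMod 7) := ⟨!![0, 1; 6, 0], by decide⟩
def j1 : Matrix.SpecialLinearGroup (Fin 2) (ZMod 7) := ⟨!![2, 3; 3, 5], by decide⟩
def i2 : Matrix.SpecialLinearGroup (Fin 2) (ZMod 7) := ⟨!![0, 2; 3, 0], by decide⟩
def j2 : Matrix.SpecialLinearGroup (Fin 2) (ZMod 7) := ⟨!![2, 1; 2, 5], by decide⟩

theorem facts : i1.1 * i1.1 = -1 ∧ j1.1 * j1.1 = -1 ∧ i1.1 * j1.1 = -(j1.1 * i1.1) ∧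
    i2.1 * i2.1 = -1 ∧ j2.1 * j2.1 = -1 ∧ i2.1 * j2.1 = -(j2.1 * i2.1) ∧
    i1 * j2 * (i1 * j1) * i2 = -up 1 := by decide +kernel

theorem nonsq : ∀ a b : ZMod 7, a ≠ 0 → b ≠ 0 → ¬ IsSquare a → ¬ IsSquare b → IsSquare (a⁻¹ * b) := by decide +kernel

theorem neg_sq : ∀ a : ZMod 7, ¬ IsSquare a → IsSquare (-a) := by decide +kernel

variable {H : Type*} [Group H] [Finite H] {V : Type*} [CommGroup V] [Finite V] {ρ : H →* MulAut V}
variable {L A : Subgroup H} [L.Normal] (R : Cfsg.Agent.GH.L2Aut.Rep (ZMod 7) L)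

local notation "ψ" => (MulAut.conjNormal (H := L))

theorem psi_one (hC : Subgroup.centralizer (L : Set H) = ⊥) {h : H} (h1 : ψ h = 1) : h = 1 := by
  have h2 : h ∈ Subgroup.centralizer (L : Set H) := by
    rw [Subgroup.mem_centralizer_iff]
    intro l hl
    have h2 := congrArg (fun α : MulAut L => ((α ⟨l, hl⟩ : L) : H)) h1
    simp only [MulAut.conjNormal_apply, MulAut.one_apply] at h2
    exact (mul_inv_eq_iff_eq_mul.1 h2).symm
  rwa [hC, Subgroup.mem_bot] at h2

theorem psi_inj (hC : Subgroup.centralizer (L : Set H) = ⊥) {h k : H} (h1 : ψ h = ψ k) : h = k := by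
  have h2 : ψ (k⁻¹ * h) = 1 := by rw [map_mul, map_inv, h1, inv_mul_cancel]
  exact (inv_mul_eq_one.1 (psi_one hC h2)).symm

theorem psi_coe (l : L) : ψ (l : H) = MulAut.conj l := by
  ext x
  simp only [MulAut.conjNormal_apply, _root_.MulAut.conjNormal_apply, _root_.MulAut.conj_apply, _root_.Subgroup.coe_mul, _root_.InvMemClass.coe_inv]

theorem card7 : Nat.card (ZMod 7) = 7 := by rw [Nat.card_eq_fintype_card, ZMod.card]

theorem exists_gl (h : H) : ∃ γ : GL (Fin 2) (ZMod 7), R.gl γ = ψ h := by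
  obtain ⟨γ, hγ⟩ := R.mem_PGL.1 (mem_PGL_of_prime R (by rw [card7]; norm_num) (ψ h))
  exact ⟨γ, hγ.symm⟩

theorem mem_of_sq (hC : Subgroup.centralizer (L : Set H) = ⊥) {h : H} {γ : GL (Fin 2) (ZMod 7)} (hγ : R.gl γ = ψ h)
    (hs : IsSquare γ.1.det) : h ∈ L := by
  obtain ⟨y, hy⟩ := R.gl_mem_inn.2 hs
  have h1 : h = y := by
    apply psi_inj hC
    rw [← hγ, ← hy, psi_coe]
  rw [h1]; exact y.2

/-- `H` induces `PGL₂(7)` -/
theorem surj (hC : Subgroup.centralizer (L : Set H) = ⊥) (htop : L ≠ ⊤) (g : GL (Fin 2) (ZMod 7)) :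
    ∃ h : H, ψ h = R.gl g := by
  by_cases hg : IsSquare g.1.det
  · obtain ⟨y, hy⟩ := R.gl_mem_inn.2 hg
    exact ⟨y, by rw [psi_coe]; exact hy⟩
  obtain ⟨h₀, hh₀⟩ : ∃ h₀ : H, h₀ ∉ L := by
    by_contra hcon
    push Not at hcon
    exact htop (eq_top_iff.2 fun x _ => hcon x)
  obtain ⟨γ, hγ⟩ := exists_gl R h₀
  have hγ' : ¬ IsSquare γ.1.det := fun hs => hh₀ (mem_of_sq R hC hγ hs)
  have h1 : IsSquare (γ⁻¹ * g).1.det := by
    have h2 := nonsq _ _ (det_ne γ) (det_ne g) hγ' hg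
    have h3 : (γ⁻¹ * g).1.det = γ.1.det⁻¹ * g.1.det := by
      have h4 : (γ⁻¹ * g).1 = (γ⁻¹).1 * g.1 := rfl
      rw [h4, Matrix.det_mul]
      congr 1
      have h5 : (γ⁻¹).1 * γ.1 = 1 := inv_val_mul_val γ
      have h6 := congrArg Matrix.det h5
      rw [Matrix.det_mul, Matrix.det_one] at h6
      exact eq_inv_of_mul_eq_one_left h6
    rw [h3]; exact h2
  obtain ⟨y, hy⟩ := R.gl_mem_inn.2 h1
  refine ⟨h₀ * y, ?_⟩
  rw [map_mul, psi_coe, hy, ← hγ, ← map_mul, mul_inv_cancel_left]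

theorem exists_notin2 {J : Type*} [Group J] [Finite J] (E : Subgroup J) (h : 3 ≤ Nat.card E) (a b : J) :
    ∃ e ∈ E, e ≠ a ∧ e ≠ b := by
  classical
  by_contra hc
  push Not at hc
  have h1 : (E : Set J) ⊆ (({a, b} : Finset J) : Set J) := by
    intro e he
    by_cases h1 : e = a
    · simp [h1]
    · simp [hc e he h1]
  have h2 := Set.ncard_le_ncard h1 (Finset.finite_toSet _)
  rw [Set.ncard_coe_finset] at h2
  have h3 : Nat.card E = (E : Set J).ncard := rfl
  have h4 : ({a, b} : Finset J).card ≤ 2 := Finset.card_le_two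
  omega

theorem card_ge (hV : ∀ v : V, v * v = 1) {s u : H} (hs : s * s = 1) (hu : orderOf u = 7) (h : s * u * s⁻¹ = u⁻¹)
    (hne : ∃ v, ρ u v ≠ v) : 64 ≤ (fx ρ u).index := by
  have hodd : Odd (orderOf u) := by rw [hu]; decide
  obtain ⟨d, hd, hd1, hd2⟩ := prim (ρ := ρ) hV (l := 7) (by norm_num) (by norm_num) hu hne
  obtain ⟨e, he⟩ := prim_even (ρ := ρ) hV hs hodd h
  have h7 : d = 2 * e := by
    rw [hd1, ← pow_mul] at he
    rw [Nat.pow_right_injective (le_refl 2) he, mul_comm]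
  have he3 : 3 ≤ e := by
    by_contra hcon
    have h8 : e = 0 ∨ e = 1 ∨ e = 2 := by omega
    rcases h8 with rfl | rfl | rfl
    · omega
    · rw [h7] at hd2; norm_num at hd2
    · rw [h7] at hd2; norm_num at hd2
  rw [he]
  calc 64 = (2 ^ 3) ^ 2 := by norm_num
    _ ≤ (2 ^ e) ^ 2 := Nat.pow_le_pow_left (Nat.pow_le_pow_right (by norm_num) he3) 2

include R in
theorem eight_le (hV : ∀ v : V, v * v = 1) (hC : Subgroup.centralizer (L : Set H) = ⊥) (htop : L ≠ ⊤)
    (hne : ∀ y ∈ L, y ≠ 1 → ∃ v, ρ y v ≠ v) (hA : ∀ a ∈ A, a * a = 1) (h4 : 4 ≤ Nat.card A) {C : Subgroup V}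
    (hCA : ∀ a ∈ A, ∀ v ∈ C, ρ a v = v) : 8 ≤ C.index := by
  by_cases hAL : A ≤ L
  · -- a four-group of `L`
    obtain ⟨a, ha, ha1, -⟩ := exists_notin2 A (by omega) 1 1
    obtain ⟨b, hb, hb1, hba⟩ := exists_notin2 A (by omega) 1 a
    let a' : L := ⟨a, hAL ha⟩
    let b' : L := ⟨b, hAL hb⟩
    have hF : Four a' b' := by
      refine ⟨Subtype.ext (hA a ha), Subtype.ext (hA b hb), fun h => ha1 (congrArg Subtype.val h),
        fun h => hb1 (congrArg Subtype.val h), fun h => hba (congrArg Subtype.val h).symm, Subtype.ext ?_⟩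
      have h1 := hA (a * b) (mul_mem ha hb)
      have h2 : a * b = (a * b)⁻¹ := eq_inv_of_mul_eq_one_left h1
      change a * b = b * a
      rw [h2, _root_.mul_inv_rev, ← eq_inv_of_mul_eq_one_left (hA a ha), ← eq_inv_of_mul_eq_one_left (hA b hb)]
    set! D : Subgroup V := fx ρ a ⊓ fx ρ b with hD
    have hCD : C ≤ D := fun v hv => ⟨hCA a ha v hv, hCA b hb v hv⟩
    refine le_trans ?_ (index_le_of_le hCD)
    by_contra hcon
    push Not at hcon
    obtain ⟨f1, f2, f3, f4, f5, f6, f7⟩ := facts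
    have key : ∀ i j : Matrix.SpecialLinearGroup (Fin 2) (ZMod 7), i.1 * i.1 = -1 → j.1 * j.1 = -1 →
        i.1 * j.1 = -(j.1 * i.1) → ∃ E : Subgroup V, E.index = D.index ∧
          (∀ v ∈ E, ρ ((R.π i : L) : H) v = v) ∧ (∀ v ∈ E, ρ ((R.π j : L) : H) v = v) := by
      intro i j hi hj hij
      obtain ⟨g, hg1, hg2⟩ := R.four_conj hF (R.four_of_pair hi hj hij)
      obtain ⟨h, hh⟩ := surj R hC htop g
      rw [← hh] at hg1 hg2
      have e1 : h * ((R.π i : L) : H) * h⁻¹ = a := conj_of_psi hg1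
      have e2 : h * ((R.π j : L) : H) * h⁻¹ = b := conj_of_psi hg2
      have hfix : ∀ x c : H, h * x * h⁻¹ = c → ∀ v, ρ c (ρ h v) = ρ h v → ρ x v = v := by
        intro x c hx v hv
        apply (ρ h).injective
        rw [← MulAut.mul_apply, ← map_mul]
        rw [← MulAut.mul_apply, ← map_mul, ← hx, inv_mul_cancel_right] at hv
        exact hv
      refine ⟨D.comap (ρ h).toMonoidHom, ?_, ?_, ?_⟩
      · exact Subgroup.index_comap_of_surjective _ (ρ h).surjective
      · intro v hv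
        exact hfix _ _ e1 v hv.1
      · intro v hv
        exact hfix _ _ e2 v hv.2
    obtain ⟨E1, k1, k2, k3⟩ := key i1 j1 f1 f2 f3
    obtain ⟨E2, l1, l2, l3⟩ := key i2 j2 f4 f5 f6
    set! u : H := ((R.π (up 1) : L) : H) with hu
    have huo : orderOf u = 7 := by
      have := orderOf_u (H := H) R (by rw [card7]; norm_num)
      rwa [card7] at this
    have hu1 : u ≠ 1 := by
      intro h
      rw [h, orderOf_one] at huo
      omega
    have hune := hne u (R.π (up 1)).2 hu1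
    have hle : E1 ⊓ E2 ≤ fx ρ u := by
      rintro v ⟨hv1, hv2⟩
      rw [mem_fx]
      change ρ u v = v
      have h1 : u = ((R.π i1 : L) : H) * ((R.π j2 : L) : H) * (((R.π i1 : L) : H) * ((R.π j1 : L) : H)) *
          ((R.π i2 : L) : H) := by
        have h2 : R.π (up 1) = R.π (i1 * j2 * (i1 * j1) * i2) := by
          rw [f7, R.π_eq_iff]
          exact Or.inr (neg_neg _).symm
        rw [hu, h2]
        simp only [map_mul, Subgroup.coe_mul]
      rw [h1]
      simp only [map_mul, MulAut.mul_apply]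
      rw [l2 v hv2, k3 v hv1, k2 v hv1, l3 v hv2, k2 v hv1]
    -- an involution inverting `u`
    have hodd : Odd (orderOf u) := by rw [huo]; decide
    let g : GL (Fin 2) (ZMod 7) := ⟨!![1, 0; 0, -1], !![1, 0; 0, -1], by decide, by decide⟩
    obtain ⟨h, hh⟩ := surj R hC htop g
    have hgg : g * g = 1 := by
      apply Units.ext
      decide
    have hhh : h * h = 1 := by
      apply psi_one hC
      rw [map_mul, hh, ← map_mul, hgg, map_one]
    have hinv : h * u * h⁻¹ = u⁻¹ := by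
      have h1 : R.gl g (R.π (up 1)) = (R.π (up 1))⁻¹ := by
        rw [R.gl_apply, ← map_inv]
        (with_reducible congr 1)
        apply conjGL_eq_of
        decide
      rw [← hh] at h1
      exact conj_of_psi h1
    have h64 := card_ge hV hhh huo hinv hune
    have h1 : (fx ρ u).index ≤ (E1 ⊓ E2).index := index_le_of_le hle
    have h2 : (E1 ⊓ E2).index ≤ E1.index * E2.index := Subgroup.index_inf_le
    rw [k1, l1] at h2
    have h3 : D.index * D.index ≤ 7 * 7 := Nat.mul_le_mul (by omega) (by omega)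
    omega
  · obtain ⟨a, ha, haL⟩ : ∃ a ∈ A, a ∉ L := by
      by_contra hcon
      push Not at hcon
      exact hAL hcon
    obtain ⟨γ, hγ⟩ := exists_gl R a
    have ha1 : a ≠ 1 := by rintro rfl; exact haL (one_mem _)
    have hγ0 : γ.1.trace = 0 := by
      apply trace_of_sq R
      · rw [hγ]
        intro h1
        exact ha1 (psi_one hC h1)
      · rw [hγ, ← map_mul, hA a ha, map_one]
    have hγs : ¬ IsSquare γ.1.det := fun hs => haL (mem_of_sq R hC hγ hs)
    obtain ⟨s, hs⟩ := neg_sq _ hγs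
    obtain ⟨u, hu1, hup, hui⟩ := split_inv R hγ0 hs.symm
    have h1 := hup 7 (CharP.cast_eq_zero (ZMod 7) 7)
    have h2 : orderOf ((R.π u : L) : H) = 7 := by
      rw [Subgroup.orderOf_coe]
      exact orderOf_eq_prime (by rw [← map_pow, h1, map_one]) hu1
    rw [hγ] at hui
    have h3 := conj_of_psi hui
    have h5 : ((R.π u : L) : H) ≠ 1 := fun h => hu1 (Subtype.ext h)
    have h6 := card_ge hV (hA a ha) h2 h3 (hne _ (R.π u).2 h5)
    have hodd : Odd (orderOf ((R.π u : L) : H)) := by rw [h2]; decide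
    have h7 := half' ρ hodd h3
    have h8 : 8 ≤ (fx ρ a).index := by
      by_contra hcon
      push Not at hcon
      have : (fx ρ a).index ^ 2 ≤ 7 ^ 2 := Nat.pow_le_pow_left (by omega) 2
      omega
    exact h8.trans (index_le_of_le fun v hv => hCA a ha v hv)

end Cfsg.Agent.OddCyclic.Eq.PGLSeven
end

-- part: OddCyclic/Eq/Quot
section
/-!
# (E_q) of `T_cyc`: the group `P/K_P`

`Pd X V T`: `X` the stabiliser of a point, `T` a Sylow 2-subgroup of `X` contained in `C₀ = N_X(V)`, `N_X(T) ≤ N(V)`,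
`C₀` is a `3'`-group. `P` minimal with `C₀ < P ≤ X`, `K = Kc P V` the kernel of `P` on the conjugates of `V`:
`Pd.cases`: the trichotomy of `Prim.cases` for `P/K`.
-/

set_option autoImplicit false

namespace Cfsg.Agent.OddCyclic.Eq.Quot

open Subgroup Cfsg.Agent.OddCyclic.CompStandard Cfsg.Agent.OddCyclic.RedFiveThree Cfsg.Agent.OddCyclic.CaseABase
open Cfsg.Agent.LieExceptional.CITDefs (IsSyl2)
open Cfsg.Agent.OddCyclic.T1Defs (OddCyc)
open Cfsg.Agent.OddCyclic.PumpMain (KZero)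
open Cfsg.Agent.OddCyclic.Eq.Line

universe u

variable {G : Type u} [Group G]

/-- a point: `X` its stabiliser, `V` a line on it, `T` a Sylow 2-subgroup of `X` -/
structure Pd (X V T : Subgroup G) : Prop where
  TV : T ≤ normalizer (V : Set G)
  syl : IsSyl2 X T
  NT : ∀ x ∈ X, x ∈ normalizer (T : Set G) → x ∈ normalizer (V : Set G)
  three : ¬ 3 ∣ Nat.card (normalizer (V : Set G) ⊓ X : Subgroup G)

theorem cj_top {H : Type*} [Group H] (g : H) : cj g (⊤ : Subgroup H) = ⊤ :=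
  Subgroup.map_top_of_surjective _ (MulAut.conj g).surjective

/-- `IsSyl2 ⊤` and `Sylow 2` -/
def toSyl {H : Type*} [Group H] {S : Subgroup H} (hS : IsSyl2 (⊤ : Subgroup H) S) : Sylow 2 H where
  toSubgroup := S
  isPGroup' := hS.two
  is_maximal' := fun hQ hle => hS.max _ le_top hQ hle

theorem isSyl2_top {H : Type*} [Group H] (S : Sylow 2 H) : IsSyl2 (⊤ : Subgroup H) S where
  le := le_top
  two := S.isPGroup'
  max := fun _ _ h2 hle => S.is_maximal' h2 hle

/-- a Sylow 2-subgroup of `X` is one of every intermediate group -/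
theorem isSyl2_of_le {X P T : Subgroup G} (h : IsSyl2 X T) (h1 : T ≤ P) (h2 : P ≤ X) : IsSyl2 P T :=
  ⟨h1, h.two, fun Y hY hY2 hle => h.max Y (hY.trans h2) hY2 hle⟩

theorem isSyl2_subgroupOf {P T : Subgroup G} (h : IsSyl2 P T) : IsSyl2 (⊤ : Subgroup P) (T.subgroupOf P) := by
  refine ⟨le_top, h.two.comap_of_injective _ P.subtype_injective, fun Y _ hY hle => ?_⟩
  have h1 : IsPGroup 2 (Y.map P.subtype) := hY.map _
  have h2 : T ≤ Y.map P.subtype := by
    intro t ht
    exact ⟨⟨t, h.le ht⟩, hle ht, rfl⟩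
  have h3 := h.max _ (map_subtype_le _) h1 h2
  ext y
  rw [mem_subgroupOf, ← h3]
  constructor
  · intro hy; exact ⟨y, hy, rfl⟩
  · rintro ⟨z, hz, hzy⟩
    have : z = y := Subtype.ext hzy
    rwa [← this]

variable [Finite G]

/-- the kernel as a subgroup of `P` -/
abbrev Kp (P V : Subgroup G) : Subgroup P := (Kc P V).subgroupOf P

instance Kp_normal (P V : Subgroup G) : (Kp P V).Normal := by
  constructor
  rintro ⟨k, hkP⟩ hk ⟨g, hg⟩
  have hk' : k ∈ Kc P V := hk
  show g * k * g⁻¹ ∈ Kc P V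
  rw [mem_Kc] at hk' ⊢
  refine ⟨mul_mem (mul_mem hg hkP) (inv_mem hg), fun x hx => ?_⟩
  have h1 := hk'.2 (g⁻¹ * x) (mul_mem (inv_mem hg) hx)
  rw [cj_mul, cj_mul, ← cj_mul g⁻¹ x, h1, ← cj_mul, mul_inv_cancel_left]

/-- `C₀ = N_P(V)` -/
abbrev Co (P V : Subgroup G) : Subgroup G := normalizer (V : Set G) ⊓ P

theorem Kc_le (P V : Subgroup G) : Kc P V ≤ Co P V := by
  intro k hk
  rw [mem_Kc] at hk
  refine ⟨?_, hk.1⟩
  have := hk.2 1 P.one_mem
  rw [cj_one] at this
  exact cj_eq_iff.mp this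

/-- the image of `C₀` in `P/K` -/
abbrev Hz (P V : Subgroup G) : Subgroup (P ⧸ Kp P V) :=
  ((Co P V).subgroupOf P).map (QuotientGroup.mk' (Kp P V))

theorem mem_Hz {P V : Subgroup G} {x : P} : (x : P ⧸ Kp P V) ∈ Hz P V ↔ (x : G) ∈ normalizer (V : Set G) := by
  constructor
  · rintro ⟨y, hy, hyx⟩
    have h1 : y⁻¹ * x ∈ Kp P V := QuotientGroup.eq.mp hyx
    have h2 : (y : G)⁻¹ * x ∈ Co P V := Kc_le P V h1
    have h3 := mul_mem (show (y : G) ∈ Co P V from hy) h2
    rw [mul_inv_cancel_left] at h3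
    exact h3.1
  · intro hx
    exact ⟨x, ⟨hx, x.2⟩, rfl⟩

theorem comap_Hz (P V : Subgroup G) :
    (Hz P V).comap (QuotientGroup.mk' (Kp P V)) = (Co P V).subgroupOf P := by
  ext x
  exact mem_Hz.trans ⟨fun h => ⟨h, x.2⟩, fun h => h.1⟩

/-- `C₀` maximal in `P` -/
theorem coatom {P V : Subgroup G} (hlt : Co P V < P) (hmin : ∀ Q : Subgroup G, Co P V < Q → Q ≤ P → Q = P) :
    IsCoatom (Hz P V) := by
  constructor
  · intro h1
    apply hlt.not_ge
    intro x hx
    have : ((⟨x, hx⟩ : P) : P ⧸ Kp P V) ∈ Hz P V := by rw [h1]; exact mem_top _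
    exact ⟨mem_Hz.mp this, hx⟩
  · intro N hN
    set! Q : Subgroup G := (N.comap (QuotientGroup.mk' (Kp P V))).map P.subtype with hQ
    have hQP : Q ≤ P := map_subtype_le _
    have hQm : ∀ x : P, (x : G) ∈ Q ↔ (x : P ⧸ Kp P V) ∈ N := by
      intro x
      constructor
      · rintro ⟨y, hy, hyx⟩
        have h1 : y = x := Subtype.ext hyx
        rw [← h1]
        exact hy
      · intro hx
        exact ⟨x, hx, rfl⟩
    have hCQ : Co P V < Q := by
      refine lt_of_le_not_ge ?_ ?_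
      · intro x hx
        rw [hQm ⟨x, hlt.le hx⟩]
        exact hN.le (mem_Hz.mpr hx.1)
      · intro h1
        apply hN.not_ge
        intro y hy
        obtain ⟨x, rfl⟩ := QuotientGroup.mk_surjective y
        exact mem_Hz.mpr (h1 ((hQm x).mpr hy)).1
    have h2 := hmin Q hCQ hQP
    rw [eq_top_iff]
    intro y _
    obtain ⟨x, rfl⟩ := QuotientGroup.mk_surjective y
    rw [← hQm, h2]
    exact x.2

/-- `H₀` is core-free -/
theorem core {P V : Subgroup G} (N : Subgroup (P ⧸ Kp P V)) (hN : N.Normal) (hle : N ≤ Hz P V) : N = ⊥ := by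
  rw [eq_bot_iff]
  intro y hy
  obtain ⟨k, rfl⟩ := QuotientGroup.mk_surjective y
  rw [mem_bot, QuotientGroup.eq_one_iff]
  show (k : G) ∈ Kc P V
  rw [mem_Kc]
  refine ⟨k.2, fun x hx => ?_⟩
  have h1 : (((⟨x, hx⟩ : P)⁻¹ * k * ⟨x, hx⟩ : P) : P ⧸ Kp P V) ∈ N := by
    have := hN.conj_mem _ hy (((⟨x, hx⟩ : P)⁻¹ : P) : P ⧸ Kp P V)
    simpa only [_root_.QuotientGroup.mk_mul, _root_.QuotientGroup.mk_inv, _root_.inv_inv] using this
  have h2 := mem_Hz.mp (hle h1)
  have h3 : cj (x⁻¹ * k * x) V = V := cj_eq_iff.mpr h2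
  have h4 := congrArg (cj x) h3
  rwa [← cj_mul, mul_assoc, mul_inv_cancel_left, cj_mul] at h4

/-- the image of `T` in `P/K` -/
abbrev Tz (P V T : Subgroup G) : Subgroup (P ⧸ Kp P V) := (T.subgroupOf P).map (QuotientGroup.mk' (Kp P V))

theorem syl_Tz {P V T : Subgroup G} (h : IsSyl2 P T) : IsSyl2 ⊤ (Tz P V T) := by
  have hpf : Fact (Nat.Prime 2) := ⟨Nat.prime_two⟩
  exact isSyl2_top ((toSyl (isSyl2_subgroupOf h)).mapSurjective (QuotientGroup.mk'_surjective (Kp P V)))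

theorem odd_index {P V T : Subgroup G} (h : IsSyl2 P T) (hTV : T ≤ normalizer (V : Set G)) :
    Odd (Hz P V).index := by
  have hpf : Fact (Nat.Prime 2) := ⟨Nat.prime_two⟩
  have h1 : Tz P V T ≤ Hz P V := map_mono fun t ht => ⟨hTV ht, h.le ht⟩
  have h2 := (toSyl (syl_Tz (V := V) h)).not_dvd_index
  have h3 : (Hz P V).index ∣ (Tz P V T).index := index_dvd_of_le h1
  exact Odd.of_dvd_nat (Nat.not_even_iff_odd.mp fun h7 => h2 h7.two_dvd) h3

theorem not_three {P V : Subgroup G} (h : ¬ 3 ∣ Nat.card (Co P V)) : ¬ 3 ∣ Nat.card (Hz P V) := by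
  intro h1
  apply h
  have h2 : Nat.card (Hz P V) ∣ Nat.card ((Co P V).subgroupOf P) := card_map_dvd _ _
  have h3 : Nat.card ((Co P V).subgroupOf P) ∣ Nat.card (Co P V) := by
    have h4 : Nat.card (((Co P V).subgroupOf P).map P.subtype) = Nat.card ((Co P V).subgroupOf P) :=
      card_map_of_injective P.subtype_injective
    rw [← h4]
    apply card_dvd_of_le
    rw [subgroupOf_map_subtype]
    exact inf_le_left
  exact h1.trans (h2.trans h3)

theorem norm_Tz {P V T : Subgroup G} (h : IsSyl2 P T) (hTV : T ≤ normalizer (V : Set G))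
    (hNT : ∀ x ∈ P, x ∈ normalizer (T : Set G) → x ∈ normalizer (V : Set G)) :
    normalizer (Tz P V T : Set (P ⧸ Kp P V)) ≤ Hz P V := by
  have hBP : T ≤ P := h.le
  intro n hn
  obtain ⟨p, rfl⟩ := QuotientGroup.mk_surjective n
  rw [mem_Hz]
  set! R : Subgroup P := (Tz P V T).comap (QuotientGroup.mk' (Kp P V)) with hR
  have hs := isSyl2_subgroupOf h
  have hBR : T.subgroupOf P ≤ R := le_comap_map _ _
  have hRC : ∀ r ∈ R, (r : G) ∈ normalizer (V : Set G) := by
    rintro r ⟨b, hb, hbr⟩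
    rw [← mem_Hz]
    exact ⟨b, ⟨hTV hb, b.2⟩, hbr⟩
  have hS : IsSyl2 R (T.subgroupOf P) := isSyl2_of_le hs hBR le_top
  have hT : IsSyl2 R (cj p (T.subgroupOf P)) := by
    have h2 := isSyl2_cj p hs
    rw [cj_top] at h2
    refine isSyl2_of_le h2 ?_ le_top
    rintro _ ⟨b, hb, rfl⟩
    show ((p * b * p⁻¹ : P) : P ⧸ Kp P V) ∈ Tz P V T
    exact forall_of_mem_normalizer hn _ ⟨b, hb, rfl⟩
  obtain ⟨r, hr, hrp⟩ := isSyl2_conj hT hS
  have h1 : cj ((r * p : P) : G) T = T := by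
    rw [← cj_mul] at hrp
    have h2 := congrArg (Subgroup.map P.subtype) hrp
    rw [subgroupOf_map_subtype, inf_eq_left.mpr hBP] at h2
    have h3 : (cj (r * p) (T.subgroupOf P)).map P.subtype = cj ((r * p : P) : G) T := by
      ext x
      constructor
      · rintro ⟨_, ⟨b, hb, rfl⟩, rfl⟩
        exact ⟨b, hb, rfl⟩
      · rintro ⟨b, hb, rfl⟩
        exact ⟨(r * p) * ⟨b, hBP hb⟩ * (r * p)⁻¹, ⟨⟨b, hBP hb⟩, hb, rfl⟩, rfl⟩
    rw [h3] at h2
    exact h2.symm
  have h2 : ((r * p : P) : G) ∈ normalizer (V : Set G) := hNT _ (r * p).2 (cj_eq_iff.mp h1)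
  have h3 : (p : G) = (r : G)⁻¹ * ((r * p : P) : G) := by
    rw [Subgroup.coe_mul, inv_mul_cancel_left]
  rw [h3]
  exact mul_mem (inv_mem (hRC r hr)) h2

theorem norm_syl {P V T : Subgroup G} (h : IsSyl2 P T) (hTV : T ≤ normalizer (V : Set G))
    (hNT : ∀ x ∈ P, x ∈ normalizer (T : Set G) → x ∈ normalizer (V : Set G))
    (T' : Subgroup (P ⧸ Kp P V)) (hT : IsSyl2 ⊤ T') (hTH : T' ≤ Hz P V) :
    normalizer (T' : Set (P ⧸ Kp P V)) ≤ Hz P V := by
  have hB := syl_Tz (V := V) h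
  have hT' : IsSyl2 (Hz P V) T' := isSyl2_of_le hT hTH le_top
  have hB' : IsSyl2 (Hz P V) (Tz P V T) := isSyl2_of_le hB (map_mono fun t ht => ⟨hTV ht, h.le ht⟩) le_top
  obtain ⟨m, hm, rfl⟩ := isSyl2_conj hB' hT'
  rw [← cj_normalizer]
  rintro _ ⟨x, hx, rfl⟩
  exact mul_mem (mul_mem hm (norm_Tz h hTV hNT hx)) (inv_mem hm)

/-- sections of proper subgroups -/
theorem oddCyc (hc : OddCyc G) (P V : Subgroup G) : OddCyc (P ⧸ Kp P V) :=
  T1Structure.oddCyc_of_surjective (T1Structure.oddCyc_of_injective hc P.subtype P.subtype_injective)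
    (QuotientGroup.mk' (Kp P V)) (QuotientGroup.mk'_surjective _)

theorem kzero (hs : CompStart.SecZero G) {P : Subgroup G} (hP : P ≠ ⊤) (V : Subgroup G) :
    ∀ J : Subgroup (P ⧸ Kp P V), IsSimpleGroup J → (∃ x y : J, x * y ≠ y * x) → KZero J :=
  FFSec.kzero_of_image hs hP (QuotientGroup.mk' (Kp P V)) (QuotientGroup.mk'_surjective _)

namespace Pd

variable {X V T P : Subgroup G}

/-- a minimal overgroup of `C₀` in `X` -/
theorem exists_min (hX : ¬ X ≤ normalizer (V : Set G)) : ∃ P : Subgroup G, P ≤ X ∧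
    normalizer (V : Set G) ⊓ X < P ∧
    ∀ Q : Subgroup G, normalizer (V : Set G) ⊓ X < Q → Q ≤ P → Q = P := by
  have hne : {P : Subgroup G | P ≤ X ∧ normalizer (V : Set G) ⊓ X < P}.Nonempty :=
    ⟨X, le_rfl, lt_of_le_not_ge inf_le_right fun h1 => hX (h1.trans inf_le_left)⟩
  obtain ⟨P, hP⟩ := Set.Finite.exists_minimal (Set.toFinite _) hne
  refine ⟨P, hP.1.1, hP.1.2, fun Q hQ hQP => ?_⟩
  exact le_antisymm hQP (hP.2 ⟨hQP.trans hP.1.1, hQ⟩ hQP)

omit [Finite G] in
theorem co_eq (hP : P ≤ X) (hCP : normalizer (V : Set G) ⊓ X ≤ P) : Co P V = normalizer (V : Set G) ⊓ X :=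
  le_antisymm (inf_le_inf_left _ hP) (le_inf inf_le_left hCP)

/-- **the trichotomy for `P/K`** -/
theorem cases (h : Pd X V T) (hc : OddCyc G) (hs : CompStart.SecZero G) (hX : X ≠ ⊤) (hP : P ≤ X)
    (hlt : normalizer (V : Set G) ⊓ X < P)
    (hmin : ∀ Q : Subgroup G, normalizer (V : Set G) ⊓ X < Q → Q ≤ P → Q = P) :
    (∀ A : Subgroup (P ⧸ Kp P V), (∀ a ∈ A, a * a = 1) → Nat.card A ≤ 2) ∨
    (∀ a ∈ Hz P V, a * a = 1 → a ≠ 1 → ∀ h : P ⧸ Kp P V, h * a * h⁻¹ ∈ Hz P V → h ∈ Hz P V) ∨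
    (3 ∣ Nat.card (P ⧸ Kp P V) ∧ ∀ A : Subgroup (P ⧸ Kp P V), (∀ a ∈ A, a * a = 1) → Nat.card A ≤ 4) := by
  have h0 : Co P V = normalizer (V : Set G) ⊓ X := co_eq hP hlt.le
  have hT : IsSyl2 P T := isSyl2_of_le h.syl ((le_inf h.TV h.syl.le).trans hlt.le) hP
  have hPt : P ≠ ⊤ := fun h1 => hX (top_le_iff.mp (h1 ▸ hP))
  exact Prim.cases (oddCyc hc P V) (kzero hs hPt V) (coatom (by rw [h0]; exact hlt) (by rw [h0]; exact hmin)) core
    (odd_index hT h.TV) (not_three (by rw [h0]; exact h.three)) (norm_syl hT h.TV fun x hx => h.NT x (hP hx))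

end Pd

end Cfsg.Agent.OddCyclic.Eq.Quot
end

-- part: OddCyclic/Eq/SumG
section
/-!
# (E_q) of `T_cyc`: the sum trick in `G`

`W = ⟨V^P⟩` elementary abelian, `U₀ ≤ V` normalised by `P`, `v ∈ V` fixed modulo `U₀` by `N_P(V)`; `{1, a, b, ab}` a
four-group quadratic on `W`, each of `a`, `b`, `ab` fixing only the line `V`: then `P` fixes `v` modulo `U₀`.
-/

set_option autoImplicit false

namespace Cfsg.Agent.OddCyclic.Eq.SumG

open Subgroup Cfsg.Agent.OddCyclic.CompStandard Cfsg.Agent.OddCyclic.RedFiveThree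
open Cfsg.Agent.OddCyclic.Eq.Line

variable {G : Type*} [Group G] [Finite G] {q : ℕ} {U V P : Subgroup G}

/-- conjugation by `x ∈ P` on `W` -/
def cW (P V : Subgroup G) (x : P) : Wc P V →* Wc P V where
  toFun w := ⟨x * w * (x : G)⁻¹, forall_of_mem_normalizer (norm_Wc P V x.2) _ w.2⟩
  map_one' := Subtype.ext (by simp)
  map_mul' a b := Subtype.ext (by simp only [mul_assoc, _root_.Subgroup.coe_mul, _root_.mul_assoc, _root_.MulMemClass.mk_mul_mk, _root_.inv_mul_cancel_left])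

/-- **the sum trick** -/
theorem fix {U₀ : Subgroup G} (hWc : Cm (Wc P V) (Wc P V)) (hW2 : ∀ w ∈ Wc P V, w * w = 1) (hUV : U₀ ≤ V)
    (hPU : P ≤ normalizer (U₀ : Set G)) {v : G} (hv : v ∈ V)
    (hvC : ∀ c ∈ P, c ∈ normalizer (V : Set G) → c * v * c⁻¹ * v⁻¹ ∈ U₀) {a b : G} (ha : a ∈ P) (hb : b ∈ P)
    (haa : a * a = 1) (hbb : b * b = 1) (hab : a * b = b * a)
    (haV : cj a V = V) (hbV : cj b V = V)
    (hquad : ∀ w ∈ Wc P V, (a * w * a⁻¹ * w⁻¹) * b = b * (a * w * a⁻¹ * w⁻¹))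
    (hfa : ∀ x ∈ P, cj a (cj x V) = cj x V → cj x V = V)
    (hfb : ∀ x ∈ P, cj b (cj x V) = cj x V → cj x V = V)
    (hfab : ∀ x ∈ P, cj (a * b) (cj x V) = cj x V → cj x V = V) {x₀ : G} (hx₀ : x₀ ∈ P) :
    x₀ * v * x₀⁻¹ * v⁻¹ ∈ U₀ := by
  have hN : (U₀.subgroupOf (Wc P V)).Normal := by
    constructor
    intro u hu g
    have h1 : g * u = u * g := Subtype.ext (hWc g g.2 u u.2)
    rw [h1, mul_inv_cancel_right]
    exact hu
  set! C : Subgroup P := (normalizer (V : Set G)).subgroupOf P with hC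
  let Q := Wc P V ⧸ (U₀.subgroupOf (Wc P V))
  let cQ : CommGroup Q :=
    { QuotientGroup.Quotient.group (U₀.subgroupOf (Wc P V)) with
      mul_comm := by
        intro x y
        obtain ⟨a, rfl⟩ := QuotientGroup.mk_surjective x
        obtain ⟨b, rfl⟩ := QuotientGroup.mk_surjective y
        have h1 : a * b = b * a := Subtype.ext (hWc a a.2 b b.2)
        show ((a * b : Wc P V) : Wc P V ⧸ (U₀.subgroupOf (Wc P V))) = ((b * a : Wc P V) : _)
        rw [h1] }
  have hUW : U₀ ≤ Wc P V := hUV.trans (le_Wc P V)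
  have hcU : ∀ x ∈ P, ∀ u ∈ U₀, x * u * x⁻¹ ∈ U₀ := fun x hx u hu => forall_of_mem_normalizer (hPU hx) u hu
  -- the action on `W/U₀`
  let act : P → Q →* Q := fun x => QuotientGroup.map _ _ (cW P V x) (by
    intro w hw
    show (x : G) * w * (x : G)⁻¹ ∈ U₀
    exact hcU x x.2 w hw)
  -- the function
  have hmem : ∀ x : P, (x : G) * v * (x : G)⁻¹ ∈ Wc P V := fun x => cj_le_Wc x.2 (conj_mem_cj hv)
  let F₀ : P → Q := fun x => QuotientGroup.mk (⟨(x : G) * v * (x : G)⁻¹, hmem x⟩ : Wc P V)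
  have hwd : ∀ x y : P, x⁻¹ * y ∈ C → F₀ x = F₀ y := by
    intro x y hxy
    apply QuotientGroup.eq.mpr
    show ((x : G) * v * (x : G)⁻¹)⁻¹ * ((y : G) * v * (y : G)⁻¹) ∈ U₀
    have h1 := hvC ((x : G)⁻¹ * y) (mul_mem (inv_mem x.2) y.2) hxy
    have h2 := hcU x x.2 _ h1
    have h3 : (x : G) * (((x : G)⁻¹ * y) * v * ((x : G)⁻¹ * y)⁻¹ * v⁻¹) * (x : G)⁻¹ ∈ Wc P V := hUW h2
    have h4 : ((x : G) * v * (x : G)⁻¹)⁻¹ * ((y : G) * v * (y : G)⁻¹) =
        ((x : G) * v * (x : G)⁻¹)⁻¹ * (((x : G) * (((x : G)⁻¹ * y) * v * ((x : G)⁻¹ * y)⁻¹ * v⁻¹) * (x : G)⁻¹) *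
          ((x : G) * v * (x : G)⁻¹)) := by group
    have h5 := hWc _ h3 _ (hmem x)
    rw [h4, h5, inv_mul_cancel_left]
    exact h2
  let F : P ⧸ C → Q := Quotient.lift F₀ (fun x y hxy => hwd x y (QuotientGroup.leftRel_apply.mp hxy))
  have hCV : ∀ x : P, (x : P ⧸ C) = ((1 : P) : P ⧸ C) ↔ cj (x : G) V = V := by
    intro x
    rw [eq_comm, QuotientGroup.eq, inv_one, one_mul, cj_eq_iff]
    exact Iff.rfl
  have hsmul : ∀ (p : P) (ω : P ⧸ C), p • ω = ω → (∀ x ∈ P, cj (p : G) (cj x V) = cj x V → cj x V = V) →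
      ω = ((1 : P) : P ⧸ C) := by
    intro p ω hp hf
    obtain ⟨x, rfl⟩ := QuotientGroup.mk_surjective ω
    rw [hCV]
    apply hf x x.2
    have h1 : ((p * x : P) : P ⧸ C) = (x : P ⧸ C) := hp
    have h2 : x⁻¹ * (p * x) ∈ C := QuotientGroup.eq.mp h1.symm
    have h3 : cj ((x : G)⁻¹ * (p * x)) V = V := cj_eq_iff.mpr h2
    have h4 := congrArg (cj (x : G)) h3
    rwa [← cj_mul, mul_inv_cancel_left, cj_mul] at h4
  have hconst := Sum.const (H := P) (Ω := P ⧸ C) (Q := Q) (F := F) act (by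
      intro p ω
      obtain ⟨x, rfl⟩ := QuotientGroup.mk_surjective ω
      show F₀ (p * x) = QuotientGroup.mk (cW P V p ⟨(x : G) * v * (x : G)⁻¹, hmem x⟩)
      show QuotientGroup.mk (⟨((p * x : P) : G) * v * ((p * x : P) : G)⁻¹, _⟩ : Wc P V) = _
      congr 1
      apply Subtype.ext
      show ((p : G) * x) * v * ((p : G) * x)⁻¹ = (p : G) * ((x : G) * v * (x : G)⁻¹) * (p : G)⁻¹
      group) (by
      intro ω ω'
      obtain ⟨x, rfl⟩ := QuotientGroup.mk_surjective ω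
      obtain ⟨y, rfl⟩ := QuotientGroup.mk_surjective ω'
      refine ⟨y * x⁻¹, ?_⟩
      show ((y * x⁻¹ * x : P) : P ⧸ C) = y
      rw [inv_mul_cancel_right])
      (a := ⟨a, ha⟩) (b := ⟨b, hb⟩) (Subtype.ext haa) (Subtype.ext hbb) (Subtype.ext hab) (by
      intro ω
      obtain ⟨x, rfl⟩ := QuotientGroup.mk_surjective ω
      set! w : G := (x : G) * v * (x : G)⁻¹ with hw
      have hwW : w ∈ Wc P V := hmem x
      have haw : a * w * a⁻¹ ∈ Wc P V := forall_of_mem_normalizer (norm_Wc P V ha) _ hwW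
      have hbw : b * w * b⁻¹ ∈ Wc P V := forall_of_mem_normalizer (norm_Wc P V hb) _ hwW
      have h1 : w * (a * w * a⁻¹) * (b * w * b⁻¹) * ((a * b) * w * (a * b)⁻¹) = 1 := by
        have e1 := hquad w hwW
        have e2 : (a * b) * w * (a * b)⁻¹ = (a * w * a⁻¹ * w⁻¹) * (b * w * b⁻¹) := by
          calc (a * b) * w * (a * b)⁻¹ = (b * a) * w * (b * a)⁻¹ := by rw [hab]
            _ = (b * (a * w * a⁻¹ * w⁻¹)) * w * b⁻¹ := by group
            _ = ((a * w * a⁻¹ * w⁻¹) * b) * w * b⁻¹ := by rw [e1]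
            _ = _ := by group
        have e3 : w⁻¹ = w := inv_eq_of_mul_eq_one_left (hW2 w hwW)
        rw [e2, e3]
        have c1 := hWc _ hbw _ haw
        have c2 := hWc _ hbw _ hwW
        have s1 := hW2 _ hwW
        have s2 := hW2 _ haw
        have s3 := hW2 _ hbw
        calc w * (a * w * a⁻¹) * (b * w * b⁻¹) * (a * w * a⁻¹ * w * (b * w * b⁻¹))
            = w * (a * w * a⁻¹) * ((b * w * b⁻¹) * (a * w * a⁻¹)) * w * (b * w * b⁻¹) := by
              simp only [mul_assoc]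
          _ = w * ((a * w * a⁻¹) * (a * w * a⁻¹)) * (b * w * b⁻¹) * w * (b * w * b⁻¹) := by
              rw [c1]; simp only [mul_assoc]
          _ = w * ((b * w * b⁻¹) * w) * (b * w * b⁻¹) := by rw [s2]; simp only [mul_assoc, mul_one]
          _ = (w * w) * ((b * w * b⁻¹) * (b * w * b⁻¹)) := by rw [c2]; simp only [mul_assoc]
          _ = 1 := by rw [s1, s3, mul_one]
      show F₀ x * F₀ (⟨a, ha⟩ * x) * F₀ (⟨b, hb⟩ * x) * F₀ (⟨a, ha⟩ * ⟨b, hb⟩ * x) = 1
      show QuotientGroup.mk ((⟨(x : G) * v * (x : G)⁻¹, _⟩ : Wc P V) *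
        (⟨(a * (x : G)) * v * (a * (x : G))⁻¹, _⟩ : Wc P V) * (⟨(b * (x : G)) * v * (b * (x : G))⁻¹, _⟩ : Wc P V) *
        (⟨((a * b) * (x : G)) * v * ((a * b) * (x : G))⁻¹, _⟩ : Wc P V)) = _
      have e0 : (⟨(x : G) * v * (x : G)⁻¹, hmem x⟩ : Wc P V) *
        (⟨(a * (x : G)) * v * (a * (x : G))⁻¹, hmem (⟨a, ha⟩ * x :)⟩ : Wc P V) *
          (⟨(b * (x : G)) * v * (b * (x : G))⁻¹, hmem (⟨b, hb⟩ * x :)⟩ : Wc P V) *
        (⟨((a * b) * (x : G)) * v * ((a * b) * (x : G))⁻¹, (hmem (⟨a, ha⟩ * ⟨b, hb⟩ * x :) :)⟩ : Wc P V) = 1 := by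
        apply Subtype.ext
        show (x : G) * v * (x : G)⁻¹ * ((a * (x : G)) * v * (a * (x : G))⁻¹) *
          ((b * (x : G)) * v * (b * (x : G))⁻¹) * (((a * b) * (x : G)) * v * ((a * b) * (x : G))⁻¹) = 1
        have e1 : ∀ p : G, (p * (x : G)) * v * (p * (x : G))⁻¹ = p * w * p⁻¹ := by
          intro p; rw [hw]; group
        rw [e1, e1, e1]
        exact h1
      rw [e0]
      rfl) (ω₀ := ((1 : P) : P ⧸ C))
      (by
        show ((⟨a, ha⟩ * 1 : P) : P ⧸ C) = _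
        rw [mul_one, hCV]
        exact haV) (by
        show ((⟨b, hb⟩ * 1 : P) : P ⧸ C) = _
        rw [mul_one, hCV]
        exact hbV) (fun ω hω => hsmul _ _ hω hfa) (fun ω hω => hsmul _ _ hω hfb)
      (fun ω hω => hsmul _ _ hω hfab)
  have h1 := hconst ((1 : P) : P ⧸ C) ((⟨x₀, hx₀⟩ : P) : P ⧸ C)
  have h1' : ((⟨((1 : P) : G) * v * ((1 : P) : G)⁻¹, hmem 1⟩ : Wc P V) : Wc P V ⧸ (U₀.subgroupOf (Wc P V))) =
    ((⟨x₀ * v * x₀⁻¹, hmem ⟨x₀, hx₀⟩⟩ : Wc P V) : Wc P V ⧸ (U₀.subgroupOf (Wc P V))) := h1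
  have h2' := QuotientGroup.eq.mp h1'
  have h2 : (((1 : G) * v * (1 : G)⁻¹)⁻¹ * (x₀ * v * x₀⁻¹)) ∈ U₀ := h2'
  rw [one_mul, inv_one, mul_one] at h2
  have h3 := hWc _ (inv_mem (le_Wc P V hv)) _ (hmem ⟨x₀, hx₀⟩)
  rw [h3] at h2
  exact h2

end Cfsg.Agent.OddCyclic.Eq.SumG
end

-- part: OddCyclic/Eq/Four
section
/-!
# (E_q) of `T_cyc`: a quadratic four-group in `P/K`

`Pd.three_dvd`: if `A ≤ P` is elementary abelian, quadratic on `W = ⟨V^P⟩` and `|A : A ∩ K| ≥ 4`, then `3` divides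
`|P/K|` and the elementary abelian 2-subgroups of `P/K` have order at most 4.
-/

set_option autoImplicit false

namespace Cfsg.Agent.OddCyclic.Eq.Quot

open Subgroup Cfsg.Agent.OddCyclic.CompStandard Cfsg.Agent.OddCyclic.RedFiveThree Cfsg.Agent.OddCyclic.CaseABase
open Cfsg.Agent.LieExceptional.CITDefs (IsSyl2)
open Cfsg.Agent.OddCyclic.T1Defs (OddCyc)
open Cfsg.Agent.OddCyclic.Eq.Line

universe u

variable {G : Type u} [Group G]

/-- more than two cosets: a four-group modulo `K` -/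
theorem exists_four {H : Type*} [Group H] {K A : Subgroup H} (h : 4 ≤ K.relIndex A) :
    ∃ a ∈ A, ∃ b ∈ A, a ∉ K ∧ b ∉ K ∧ a * b ∉ K := by
  have h1 : ∃ a ∈ A, a ∉ K := by
    by_contra hcon
    push Not at hcon
    have : K.relIndex A = 1 := relIndex_eq_one.mpr hcon
    omega
  obtain ⟨a, ha, haK⟩ := h1
  by_contra hcon
  push Not at hcon
  have h2 : K.relIndex A = 2 := by
    rw [relIndex_eq_two_iff]
    refine ⟨a, ha, fun b hb => ?_⟩
    by_cases hbK : b ∈ K
    · refine Or.inr ⟨hbK, fun h3 => haK ?_⟩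
      have h4 := K.mul_mem (K.inv_mem hbK) h3
      rwa [inv_mul_cancel_left] at h4
    · refine Or.inl ⟨?_, hbK⟩
      have h3 : b⁻¹ ∉ K := fun h4 => hbK (by rw [← inv_inv b]; exact K.inv_mem h4)
      have h4 : a⁻¹ ∉ K := fun h4 => haK (by rw [← inv_inv a]; exact K.inv_mem h4)
      have h5 := hcon a⁻¹ (inv_mem ha) b⁻¹ (inv_mem hb) h4 h3
      have h6 := K.inv_mem h5
      rwa [mul_inv_rev, inv_inv, inv_inv] at h6
  omega

/-- the intersection of the lines on the point -/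
def Uo (P V : Subgroup G) : Subgroup G := ⨅ x : P, cj (x : G) V

theorem mem_Uo {P V : Subgroup G} {v : G} : v ∈ Uo P V ↔ ∀ x ∈ P, v ∈ cj x V := by
  rw [Uo, mem_iInf]
  exact ⟨fun h x hx => h ⟨x, hx⟩, fun h x => h x x.2⟩

theorem Uo_le (P V : Subgroup G) : Uo P V ≤ V := fun v hv => by
  have := mem_Uo.mp hv 1 P.one_mem
  rwa [cj_one] at this

variable [Finite G]

theorem norm_Uo (P V : Subgroup G) : P ≤ normalizer (Uo P V : Set G) := by
  intro p hp
  refine mem_normalizer_of_forall fun v hv => ?_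
  rw [mem_Uo] at hv ⊢
  intro x hx
  have h1 := hv (p⁻¹ * x) (mul_mem (inv_mem hp) hx)
  have h2 := conj_mem_cj (g := p) h1
  rwa [← cj_mul, mul_inv_cancel_left] at h2

omit [Finite G] in
/-- `v` is moved modulo `U₀` if `v ∉ U₀` -/
theorem exists_moved {P V : Subgroup G} {v : G} (hv : v ∈ V) (hvU : v ∉ Uo P V) :
    ∃ x ∈ P, x * v * x⁻¹ * v⁻¹ ∉ Uo P V := by
  by_contra hcon
  push Not at hcon
  apply hvU
  rw [mem_Uo]
  intro x hx
  rw [mem_cj]
  have h1 := mul_mem (Uo_le P V (hcon x⁻¹ (inv_mem hx))) hv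
  rwa [inv_mul_cancel_right, inv_inv] at h1

/-- the order of the image in `P/K` -/
theorem card_image {P V A : Subgroup G} (hAP : A ≤ P) :
    Nat.card ((A.subgroupOf P).map (QuotientGroup.mk' ((Kc P V).subgroupOf P)) : Subgroup (P ⧸ (Kc P V).subgroupOf P)) =
      (Kc P V).relIndex A := by
  rw [← relIndex_ker, QuotientGroup.ker_mk', ← relIndex_subgroupOf hAP]

/-- if involutions of `H₀` fix only one line -/
theorem fixes {P V : Subgroup G}
    (h1 : ∀ a ∈ Hz P V, a * a = 1 → a ≠ 1 → ∀ h : P ⧸ Kp P V, h * a * h⁻¹ ∈ Hz P V → h ∈ Hz P V)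
    {a : G} (haP : a ∈ P) (haV : a ∈ normalizer (V : Set G)) (ha : a * a = 1) (haK : a ∉ Kc P V) {x : G}
    (hx : x ∈ P) (hax : cj a (cj x V) = cj x V) : cj x V = V := by
  have h3 : x⁻¹ * a * x ∈ normalizer (V : Set G) := by
    rw [← cj_eq_iff, mul_assoc, cj_mul, cj_mul, hax, cj_inv_cj]
  have h4 := h1 (((⟨a, haP⟩ : P) : P ⧸ Kp P V)) (mem_Hz.mpr haV)
    (by
      rw [← QuotientGroup.mk_mul]
      have : (⟨a, haP⟩ : P) * ⟨a, haP⟩ = 1 := Subtype.ext ha
      rw [this]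
      rfl)
    (by
      rw [Ne, QuotientGroup.eq_one_iff]
      exact haK) (((⟨x⁻¹, inv_mem hx⟩ : P) : P ⧸ Kp P V)) (by
      rw [← QuotientGroup.mk_inv, ← QuotientGroup.mk_mul, ← QuotientGroup.mk_mul, mem_Hz]
      show x⁻¹ * a * (x⁻¹)⁻¹ ∈ normalizer (V : Set G)
      rw [inv_inv]
      exact h3)
  have h6 : x⁻¹ ∈ normalizer (V : Set G) := mem_Hz.mp h4
  rw [cj_eq_iff, ← inv_inv x]
  exact inv_mem h6

variable {X V T P : Subgroup G}

/-- **a quadratic four-group** -/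
theorem Pd.three_dvd (h : Pd X V T) (hc : OddCyc G) (hs : CompStart.SecZero G) (hX : X ≠ ⊤) (hP : P ≤ X)
    (hlt : normalizer (V : Set G) ⊓ X < P)
    (hmin : ∀ Q : Subgroup G, normalizer (V : Set G) ⊓ X < Q → Q ≤ P → Q = P)
    (hWc : Cm (Wc P V) (Wc P V)) (hW2 : ∀ w ∈ Wc P V, w * w = 1)
    {v : G} (hv : v ∈ V) (hvU : v ∉ Uo P V)
    (hvC : ∀ c ∈ P, c ∈ normalizer (V : Set G) → c * v * c⁻¹ * v⁻¹ ∈ Uo P V)
    {A : Subgroup G} (hAP : A ≤ P) (hAV : A ≤ normalizer (V : Set G)) (hA2 : ∀ a ∈ A, a * a = 1)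
    (hAq : ∀ a ∈ A, ∀ b ∈ A, ∀ w ∈ Wc P V, (a * w * a⁻¹ * w⁻¹) * b = b * (a * w * a⁻¹ * w⁻¹))
    (hA4 : 4 ≤ (Kc P V).relIndex A) :
    3 ∣ Nat.card (P ⧸ Kp P V) ∧
      ∀ E : Subgroup G, E ≤ P → (∀ e ∈ E, e * e = 1) → (Kc P V).relIndex E ≤ 4 := by
  have key : ∀ E : Subgroup G, (∀ e ∈ E, e * e = 1) → ∀ a ∈ (E.subgroupOf P).map (QuotientGroup.mk' (Kp P V)),
      a * a = 1 := by
    rintro E hE _ ⟨a, ha, rfl⟩
    rw [← map_mul]
    have : a * a = 1 := Subtype.ext (hE a ha)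
    rw [this, map_one]
  rcases h.cases hc hs hX hP hlt hmin with h1 | h1 | ⟨h1, h2⟩
  · have h2 := h1 _ (key A hA2)
    rw [card_image hAP] at h2
    omega
  · exfalso
    obtain ⟨a, ha, b, hb, haK, hbK, habK⟩ := exists_four hA4
    obtain ⟨x, hx, hxv⟩ := exists_moved hv hvU
    apply hxv
    refine SumG.fix hWc hW2 (Uo_le P V) (norm_Uo P V) hv hvC (hAP ha) (hAP hb) (hA2 a ha) (hA2 b hb)
      (comm_of_sq hA2 ha hb) (cj_eq_iff.mpr (hAV ha)) (cj_eq_iff.mpr (hAV hb)) (fun w hw => hAq a ha b hb w hw)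
      (fun y hy hy' => fixes h1 (hAP ha) (hAV ha) (hA2 a ha) haK hy hy')
      (fun y hy hy' => fixes h1 (hAP hb) (hAV hb) (hA2 b hb) hbK hy hy')
      (fun y hy hy' => fixes h1 (hAP (mul_mem ha hb)) (hAV (mul_mem ha hb)) (hA2 _ (mul_mem ha hb)) habK hy hy') hx
  · refine ⟨h1, fun E hE hE2 => ?_⟩
    have h3 := h2 _ (key E hE2)
    rwa [card_image hE] at h3

end Cfsg.Agent.OddCyclic.Eq.Quot
end

-- part: OddCyclic/Eq/TopSeven
section
/-!
# (E_q), (2.2): `PSL₂(7)` has no maximal subgroup of odd index and order prime to 3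
-/

set_option autoImplicit false
set_option linter.unusedSectionVars false

namespace Cfsg.Agent.OddCyclic.Eq.TopSeven

open Subgroup Cfsg.Agent.GTwoFour.OuterSyl Cfsg.Agent.GH.L2Aut

theorem card_four {K : Type*} [Group K] {a b : K} (h : Four a b) :
    Nat.card (four a b h.aa h.bb h.comm) = 4 := by
  classical
  have h1 : Nat.card (four a b h.aa h.bb h.comm) = Set.ncard ((four a b h.aa h.bb h.comm : Subgroup K) : Set K) := rfl
  have h2 : ((four a b h.aa h.bb h.comm : Subgroup K) : Set K) = (({1, a, b, a * b} : Finset K) : Set K) := by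
    ext x
    simp only [SetLike.mem_coe, mem_four, Finset.coe_insert, Finset.coe_singleton, Set.mem_insert_iff,
      Set.mem_singleton_iff]
  rw [h1, h2, Set.ncard_coe_finset]
  have h3 := h.right
  have hb := h.symm.right
  rw [Finset.card_insert_of_notMem, Finset.card_insert_of_notMem, Finset.card_insert_of_notMem, Finset.card_singleton]
  · simp only [Finset.mem_singleton]
    intro h4
    apply hb.ne
    rw [← h.comm, ← h4]
  · simp only [Finset.mem_insert, Finset.mem_singleton, not_or]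
    exact ⟨h.ne, h3.ne⟩
  · simp only [Finset.mem_insert, Finset.mem_singleton, not_or]
    exact ⟨h.a1.symm, h.b1.symm, h3.b1.symm⟩

theorem false {H : Type*} [Group H] [Finite H] [IsSimpleGroup H] {F : Type*} [Field F] [Fintype F]
    (hF : Fintype.card F = 7) (e : H ≃* Matrix.ProjectiveSpecialLinearGroup (Fin 2) F) {H0 : Subgroup H}
    (hco : IsCoatom H0) (hodd : Odd H0.index) (h3 : ¬ 3 ∣ Nat.card H0) : False := by
  classical
  have hodF : Odd (Fintype.card F) := by rw [hF]; decide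
  have hcH : Nat.card H = 168 := by
    have h1 := Cfsg.Agent.SmallSimple.PSLTwoPart.card_psl_two_odd (F := F) hodF
    rw [hF, ← Nat.card_congr e.toEquiv] at h1
    omega
  have h2F : (2 : F) ≠ 0 := two_ne_zero_of_odd hodF
  have hmul := H0.card_mul_index
  rw [hcH] at hmul
  -- no subgroup of index 3
  have hidx : H0.index ≠ 3 := by
    intro hi
    have hker : H0.normalCore = ⊥ := by
      rcases IsSimpleGroup.eq_bot_or_eq_top_of_normal H0.normalCore inferInstance with h1 | h1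
      · exact h1
      · exact absurd (top_le_iff.1 (h1 ▸ H0.normalCore_le)) hco.1
    have hinj : Function.Injective (MulAction.toPermHom H (H ⧸ H0)) := by
      rw [← MonoidHom.ker_eq_bot_iff, ← normalCore_eq_ker, hker]
    have h1 := card_dvd_of_injective _ hinj
    rw [hcH, Nat.card_perm] at h1
    have h2 : Nat.card (H ⧸ H0) = 3 := hi
    rw [h2] at h1
    revert h1
    decide
  have h8 : Nat.card H0 = 8 := by
    have hle : H0.index ≤ 168 := Nat.le_of_dvd (by norm_num) ⟨_, by rw [mul_comm]; exact hmul.symm⟩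
    have hd : H0.index ∣ 168 := ⟨_, by rw [mul_comm]; exact hmul.symm⟩
    have hne1 : H0.index ≠ 1 := fun h => hco.1 (index_eq_one.1 h)
    have hodd' : ¬ 2 ∣ H0.index := fun h => (Nat.not_even_iff_odd.2 hodd) (even_iff_two_dvd.2 h)
    have hd21 : H0.index ∣ 21 := by
      have h4 : Nat.Coprime H0.index 8 := by
        rw [show 8 = 2 ^ 3 from rfl]
        exact Nat.Coprime.pow_right 3 ((Nat.Prime.coprime_iff_not_dvd Nat.prime_two).2 hodd').symm
      exact h4.dvd_of_dvd_mul_left (show H0.index ∣ 8 * 21 from hd)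
    have hc : Nat.card H0 = 168 / H0.index := by
      rw [← hmul, Nat.mul_div_cancel _ (Nat.pos_of_ne_zero (by rintro h; rw [h] at hd; simp at hd))]
    have hmem : H0.index ∈ Nat.divisors 21 := Nat.mem_divisors.2 ⟨hd21, by norm_num⟩
    have hdiv : Nat.divisors 21 = {1, 3, 7, 21} := by decide
    rw [hdiv] at hmem
    simp only [Finset.mem_insert, Finset.mem_singleton] at hmem
    rcases hmem with h4 | h4 | h4 | h4
    · exact absurd h4 hne1
    · exact absurd h4 hidx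
    · rw [h4] at hc
      rw [hc] at h3
      exact absurd (by norm_num : 3 ∣ 168 / 7) h3
    · rw [h4] at hc
      exact hc
  -- a four-group inside `H0`
  have R := Rep.ofEquiv h2F e
  obtain ⟨R'⟩ := PGLSeven.exists_rep R (by rw [Nat.card_eq_fintype_card, hF])
  have : Fact (Nat.Prime 2) := ⟨Nat.prime_two⟩
  have : Fact (Nat.Prime 7) := ⟨by norm_num⟩
  obtain ⟨f1, f2, f3, -⟩ := PGLSeven.facts
  have hF0 := R'.four_of_pair f1 f2 f3
  set a0 := R'.π PGLSeven.i1
  set b0 := R'.π PGLSeven.j1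
  set! E0 := four a0 b0 hF0.aa hF0.bb hF0.comm with hE0
  have hE0p : IsPGroup 2 E0 := IsPGroup.of_card (n := 2) (by rw [hE0, card_four hF0]; norm_num)
  obtain ⟨Q, hQ⟩ := hE0p.exists_le_sylow
  have hH0p : IsPGroup 2 H0 := IsPGroup.of_card (n := 3) (by rw [h8]; norm_num)
  obtain ⟨Q', hQ'⟩ := hH0p.exists_le_sylow
  have hQcard : Nat.card Q' ≤ 8 := by
    obtain ⟨n, hn⟩ := (IsPGroup.iff_card (p := 2)).1 Q'.2
    have h1 : 2 ^ n ∣ 168 := by
      rw [← hn, ← hcH]
      exact Subgroup.card_subgroup_dvd_card _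
    have hn3 : n ≤ 3 := by
      by_contra hcon
      have h2 : 2 ^ 4 ∣ 168 := (pow_dvd_pow 2 (by omega)).trans h1
      revert h2
      norm_num
    have h2 : 2 ^ n ≤ 2 ^ 3 := Nat.pow_le_pow_right (by norm_num) hn3
    change Nat.card (Q' : Subgroup H) ≤ 8
    rw [hn]
    omega
  have hQ'eq : (Q' : Subgroup H) = H0 := (Subgroup.eq_of_le_of_card_ge hQ' (by rw [h8]; exact hQcard)).symm
  obtain ⟨g, hg⟩ := MulAction.exists_smul_eq H Q Q'
  have hmem : ∀ x ∈ E0, g * x * g⁻¹ ∈ H0 := by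
    intro x hx
    rw [← hQ'eq, ← hg]
    exact Subgroup.smul_mem_pointwise_smul x (MulAut.conj g) (Q : Subgroup H) (hQ hx)
  have hFour := hF0.map (MulAut.conj g)
  set a := MulAut.conj g a0 with ha
  set b := MulAut.conj g b0 with hb
  have haH : a ∈ H0 := hmem a0 (mem_four.2 (Or.inr (Or.inl rfl)))
  have hbH : b ∈ H0 := hmem b0 (mem_four.2 (Or.inr (Or.inr (Or.inl rfl))))
  set! E := four a b hFour.aa hFour.bb hFour.comm with hE
  have hEH : E ≤ H0 := by
    rintro x (rfl | rfl | rfl | rfl)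
    · exact one_mem _
    · exact haH
    · exact hbH
    · exact mul_mem haH hbH
  have hE4 : Nat.card E = 4 := card_four hFour
  -- `E` is normal in `H0`
  have hEn : H0 ≤ normalizer (E : Set H) := by
    have h1 : (E.subgroupOf H0).index = 2 := by
      have h2 := (E.subgroupOf H0).card_mul_index
      rw [h8, Nat.card_congr (subgroupOfEquivOfLe hEH).toEquiv, hE4] at h2
      omega
    have h2 : (E.subgroupOf H0).Normal := normal_of_index_eq_two h1
    exact normal_subgroupOf_iff_le_normalizer hEH |>.1 h2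
  obtain ⟨-, y, -, -, -, -, -, hy3, hy1, hya, hyb, -⟩ := R'.exists_frame hFour
  have hyn : y ∈ normalizer (E : Set H) := by
    rw [← CompStandard.cj_eq_iff]
    refine Subgroup.eq_of_le_of_card_ge ?_ (CompStandard.card_cj y _).ge
    rintro _ ⟨x, hx, rfl⟩
    change y * x * y⁻¹ ∈ E
    have hab : y * (a * b) * y⁻¹ ∈ E := by
      have h1 : y * (a * b) * y⁻¹ = (y * a * y⁻¹) * (y * b * y⁻¹) := by group
      rw [h1, hya, hyb]
      exact mul_mem (mem_four.2 (Or.inr (Or.inr (Or.inl rfl)))) (mem_four.2 (Or.inr (Or.inr (Or.inr rfl))))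
    rcases hx with rfl | rfl | rfl | rfl
    · rw [mul_one, mul_inv_cancel]; exact one_mem _
    · rw [hya]; exact mem_four.2 (Or.inr (Or.inr (Or.inl rfl)))
    · rw [hyb]; exact mem_four.2 (Or.inr (Or.inr (Or.inr rfl)))
    · exact hab
  have hyH : y ∉ H0 := by
    intro hy
    have h1 : orderOf (⟨y, hy⟩ : H0) = 3 := by
      have : Fact (Nat.Prime 3) := ⟨Nat.prime_three⟩
      apply orderOf_eq_prime
      · apply Subtype.ext
        show y ^ 3 = 1
        rw [pow_succ, pow_two]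
        exact hy3
      · intro h2
        exact hy1 (congrArg Subtype.val h2)
    have h2 := _root_.orderOf_dvd_natCard (⟨y, hy⟩ : H0)
    rw [h1] at h2
    exact h3 h2
  have htop : normalizer (E : Set H) = ⊤ := hco.2 _ (lt_of_le_not_ge hEn fun h => hyH (h hyn))
  have hEN : E.Normal := normalizer_eq_top_iff.1 htop
  rcases IsSimpleGroup.eq_bot_or_eq_top_of_normal E hEN with h1 | h1
  · rw [h1, card_bot] at hE4
    omega
  · rw [h1, card_top, hcH] at hE4
    omega

end Cfsg.Agent.OddCyclic.Eq.TopSeven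
end

-- part: OddCyclic/Eq/JGlue
section
/-!
# (E_q), Part II, `q = 4`: pieces I and J = (4.5)-(4.7) of blueprints/S0342-A2-helper402.md assembled

`JIn Z J V P`: `P` minimal over `C₀ = N_P(V)`, `C₀` acts on `V` as `D₈`, and some elementary abelian `A ≤ P` with
`|A : A ∩ K| ≥ 4` satisfies `|W : C_W(A)| ≤ 8`, with equality only if `K` acts nontrivially on `V`.
-/

set_option autoImplicit false

namespace Cfsg.Agent.OddCyclic.Eq.JGlue

open Subgroup Cfsg.Agent.OddCyclic.CompStandard Cfsg.Agent.OddCyclic.RedFiveThree Cfsg.Agent.OddCyclic.Eq.Line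
  Cfsg.Agent.OddCyclic.Eq.Quot Cfsg.Agent.OddCyclic.Eq.Struct Cfsg.Agent.OddCyclic.FFBasic
  Cfsg.Agent.OddCyclic.T1Module Cfsg.Agent.OddCyclic.FFSl2

universe u

variable {G : Type u} [Group G] [Finite G]

structure JIn (Z J V P : Subgroup G) : Prop where
  ZJ : Z ≤ J
  JV : J ≤ V
  VP : V ≤ P
  sq : ∀ v ∈ V, v * v = 1
  PZ : P ≤ centralizer (Z : Set G)
  lt : Co P V < P
  min : ∀ Q : Subgroup G, Co P V < Q → Q ≤ P → Q = P
  JZ : ∀ c ∈ Co P V, ∀ j ∈ J, c * j * c⁻¹ * j⁻¹ ∈ Z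
  PJ : ¬ P ≤ normalizer (J : Set G)
  ab : ∀ x ∈ P, Cm V (cj x V)
  small : ∀ c ∈ Co P V, (∀ v ∈ V, c * v * c⁻¹ * v⁻¹ ∈ Z) → c ∈ centralizer (V : Set G)
  center : ∀ N : Subgroup G, N ≤ Co P V → Co P V ≤ normalizer (N : Set G) →
    ¬ N ≤ centralizer (V : Set G) → ∃ s ∈ N, (∀ c ∈ Co P V,
      c * s * c⁻¹ * s⁻¹ ∈ centralizer (V : Set G)) ∧ (∀ j ∈ J, s * j * s⁻¹ * j⁻¹ = 1) ∧
      (∀ j ∈ J, ∃ v ∈ V, s * v * s⁻¹ * v⁻¹ = j) ∧ (∀ v ∈ V, s * v * s⁻¹ * v⁻¹ ∈ J)
  eight : (centralizer (V : Set G)).relIndex (Co P V) = 8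
  nab : ∃ a ∈ Co P V, ∃ b ∈ Co P V, a * b * a⁻¹ * b⁻¹ ∉ centralizer (V : Set G)
  crit : ∃ A : Subgroup G, A ≤ P ∧ (∀ a ∈ A, a * a = 1) ∧ 4 ≤ (Kc P V).relIndex A ∧
    (centralizer (A : Set G)).relIndex (Wc P V) ≤ 8 ∧
    ((centralizer (A : Set G)).relIndex (Wc P V) = 8 → ¬ Kc P V ≤ centralizer (V : Set G))

namespace JIn

variable {Z J V P : Subgroup G}

omit [Finite G] in
theorem cenZ' {P Z : Subgroup G} (h : P ≤ centralizer (Z : Set G)) {x z : G} (hx : x ∈ P) (hz : z ∈ Z) : x * z = z * x :=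
  (mem_centralizer_iff.1 (h hx) z hz).symm

theorem ab' (h : JIn Z J V P) {x y : G} (hx : x ∈ P) (hy : y ∈ P) : Cm (cj x V) (cj y V) := by
  have h1 := (h.ab (x⁻¹ * y) (P.mul_mem (P.inv_mem hx) hy)).cj x
  rwa [← cj_mul, mul_inv_cancel_left] at h1

theorem cm_WW (h : JIn Z J V P) : Cm (Wc P V) (Wc P V) :=
  cm_Wc fun _ hx => (cm_Wc fun _ hy => (h.ab' hy hx)).symm

theorem WJ_le (h : JIn Z J V P) : Wc P J ≤ Wc P V :=
  Wc_le fun _ hx => (cj_mono h.JV).trans (cj_le_Wc hx)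

theorem W_le (h : JIn Z J V P) : Wc P V ≤ P := by
  refine Wc_le fun x hx w hw => ?_
  have h1 := P.mul_mem (P.mul_mem hx (h.VP (mem_cj.mp hw))) (P.inv_mem hx)
  have h2 : x * (x⁻¹ * w * x) * x⁻¹ = w := by group
  rwa [h2] at h1

theorem W_sq (h : JIn Z J V P) : ∀ w ∈ Wc P V, w * w = 1 := by
  intro w hw
  induction hw using Subgroup.closure_induction with
  | mem x hx =>
    obtain ⟨g, hg, hx⟩ := hx
    have h1 := h.sq _ (mem_cj.mp hx)
    calc x * x = g * ((g⁻¹ * x * g) * (g⁻¹ * x * g)) * g⁻¹ := by group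
      _ = 1 := by rw [h1]; group
  | one => rw [mul_one]
  | mul x y hx' hy' hx hy =>
    calc x * y * (x * y) = x * (y * x) * y := by group
      _ = x * (x * y) * y := by rw [h.cm_WW y hy' x hx']
      _ = (x * x) * (y * y) := by group
      _ = 1 := by rw [hx, hy, mul_one]
  | inv x _ hx => rw [← mul_inv_rev, hx, inv_one]

/-- `K` acts trivially on `V_P / Z` -/
theorem comm_WJ (h : JIn Z J V P) {k u : G} (hk : k ∈ Kc P V) (hu : u ∈ Wc P J) : k * u * k⁻¹ * u⁻¹ ∈ Z := by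
  have hc : ∀ u ∈ Wc P J, ∀ z ∈ Z, u * z = z * u := fun u hu z hz =>
    h.cm_WW u (h.WJ_le hu) z ((h.ZJ.trans (h.JV.trans (le_Wc P V))) hz)
  induction hu using Subgroup.closure_induction with
  | mem u hu =>
    obtain ⟨x, hx, hu⟩ := hu
    have h1 : x⁻¹ * k * x ∈ Kc P V := by
      have := SecSeven.Kc_conj (P.inv_mem hx) hk
      rwa [inv_inv] at this
    have h2 := h.JZ _ (Quot.Kc_le _ _ h1) _ (mem_cj.mp hu)
    have h3 : k * u * k⁻¹ * u⁻¹ =
        x * (x⁻¹ * k * x * (x⁻¹ * u * x) * (x⁻¹ * k * x)⁻¹ * (x⁻¹ * u * x)⁻¹) * x⁻¹ := by group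
    rw [h3, cenZ' h.PZ hx h2, mul_inv_cancel_right]
    exact h2
  | one => rw [mul_one, mul_inv_cancel, one_mul, inv_one]; exact one_mem _
  | mul u v hu' hv' hu hv =>
    have h3 : k * (u * v) * k⁻¹ * (u * v)⁻¹ = (k * u * k⁻¹ * u⁻¹) * (u * (k * v * k⁻¹ * v⁻¹) * u⁻¹) := by group
    rw [h3, hc u hu' _ hv, mul_inv_cancel_right]
    exact mul_mem hu hv
  | inv u hu' hu =>
    have h3 : k * u⁻¹ * k⁻¹ * (u⁻¹)⁻¹ = (u⁻¹ * (k * u * k⁻¹ * u⁻¹) * u)⁻¹ := by group
    have h4 : u⁻¹ * (k * u * k⁻¹ * u⁻¹) * u = k * u * k⁻¹ * u⁻¹ := by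
      rw [mul_assoc, ← hc u hu' _ hu, inv_mul_cancel_left]
    rw [h3, h4]
    exact inv_mem hu

/-- the action of `P / K` on `V_P / Z` -/
theorem exists_act (h : JIn Z J V P) :
    ∃ (N : Type u) (_ : CommGroup N) (_ : Finite N) (ρ : (P ⧸ Kp P V) →* MulAut N) (p : ↥(Wc P J) →* N),
      Function.Surjective p ∧ (∀ w, p w = 1 ↔ (w : G) ∈ Z) ∧ (∀ n : N, n * n = 1) ∧
      ∀ (c : P) (w w' : Wc P J), (w' : G) = c * w * c⁻¹ → ρ (QuotientGroup.mk c) (p w) = p w' := by
  have hPZ : P ≤ normalizer (Z : Set G) := h.PZ.trans (centralizer_le_normalizer _)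
  obtain ⟨N, iN, ρ₀, p, hps, hp1, hact⟩ := exists_qact (h.WJ_le.trans h.W_le) (norm_Wc P J) hPZ (fun x hx y hy => by
    rw [h.cm_WW x (h.WJ_le hx) y (h.WJ_le hy), mul_inv_cancel_right, mul_inv_cancel]
    exact one_mem _)
  have hN : Finite N := Finite.of_surjective p hps
  have hker : ∀ k ∈ Kp P V, ρ₀ k = 1 := by
    intro k hk
    ext n
    obtain ⟨w, rfl⟩ := hps n
    have hk' : (k : G) ∈ Kc P V := hk
    have hw' : (k : G) * w * (k : G)⁻¹ ∈ Wc P J := by
      have h1 := norm_Wc P J k.2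
      rw [← cj_eq_iff] at h1
      have h2 : (k : G) * w * (k : G)⁻¹ ∈ cj (k : G) (Wc P J) := cj_mem_cj w.2
      rwa [h1] at h2
    rw [hact k w ⟨_, hw'⟩ rfl, MulAut.one_apply, ← div_eq_one, ← map_div, hp1, div_eq_mul_inv]
    exact h.comm_WJ hk' w.2
  refine ⟨N, iN, hN, QuotientGroup.lift (Kp P V) ρ₀ hker, p, hps, hp1, ?_, ?_⟩
  · intro n
    obtain ⟨w, rfl⟩ := hps n
    rw [← map_mul]
    have : w * w = 1 := Subtype.ext (h.W_sq w (h.WJ_le w.2))
    rw [this, map_one]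
  · intro c w w' hw
    exact hact c w w' hw

/-- a normal subgroup of `P / K` contained in `H₀` is trivial; so a normal subgroup of `P` not contained in `K`
does not normalise `V` -/
theorem moves (h : JIn Z J V P) {L : Subgroup (P ⧸ Kp P V)} (hL : L.Normal) (hL1 : L ≠ ⊥) :
    ∃ x : P, (x : P ⧸ Kp P V) ∈ L ∧ (x : G) ∉ normalizer (V : Set G) := by
  by_contra hcon
  push Not at hcon
  apply hL1
  refine Quot.core L hL fun y hy => ?_
  obtain ⟨x, rfl⟩ := QuotientGroup.mk_surjective y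
  exact Quot.mem_Hz.2 (hcon x hy)

/-- maximality of `C₀` -/
theorem eq_P (h : JIn Z J V P) {Q : Subgroup G} (hQ : Co P V ≤ Q) (hQP : Q ≤ P) {x : G} (hx : x ∈ Q)
    (hxV : x ∉ normalizer (V : Set G)) : Q = P :=
  h.min Q (lt_of_le_not_ge hQ fun h1 => hxV (h1 hx).1) hQP

/-- the Sylow 7 part: an element of 7-power order outside `N(V)` -/
theorem exists_seven (h : JIn Z J V P) {L : Subgroup (P ⧸ Kp P V)} (hL : L.Normal) (hs : IsSimpleGroup L)
    (h7 : 7 ∣ Nat.card L) : ∃ y ∈ P, y ∉ normalizer (V : Set G) ∧ ∃ n : ℕ, y ^ (7 ^ n) = 1 := by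
  have hf : Fact (Nat.Prime 7) := ⟨by norm_num⟩
  -- an element of order 7 of `L` outside `H₀`
  obtain ⟨y, hy7, hyH⟩ : ∃ y : L, orderOf y = 7 ∧ (y : P ⧸ Kp P V) ∉ Hz P V := by
    by_contra hcon
    push Not at hcon
    let E : Subgroup L := _root_.Subgroup.closure {y : L | orderOf y = 7}
    have hE : E.Normal := by
      refine ⟨fun n hn g => ?_⟩
      induction hn using Subgroup.closure_induction with
      | mem x hx =>
        apply Subgroup.subset_closure
        change orderOf (g * x * g⁻¹) = 7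
        rw [← hx]
        exact orderOf_injective (MulAut.conj g).toMonoidHom (MulAut.conj g).injective x
      | one => rw [mul_one, mul_inv_cancel]; exact one_mem _
      | mul x y _ _ hx hy =>
        have : g * (x * y) * g⁻¹ = (g * x * g⁻¹) * (g * y * g⁻¹) := by group
        rw [this]
        exact mul_mem hx hy
      | inv x _ hx =>
        have : g * x⁻¹ * g⁻¹ = (g * x * g⁻¹)⁻¹ := by group
        rw [this]
        exact inv_mem hx
    obtain ⟨y₀, hy₀⟩ := exists_prime_orderOf_dvd_card' 7 h7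
    have hy₀E : y₀ ∈ E := Subgroup.subset_closure hy₀
    have hEtop : E = ⊤ := by
      rcases hs.eq_bot_or_eq_top_of_normal E hE with h1 | h1
      · rw [h1, mem_bot] at hy₀E
        rw [hy₀E, orderOf_one] at hy₀
        omega
      · exact h1
    have hLle : L ≤ Hz P V := by
      intro x hx
      have h1 : (⟨x, hx⟩ : L) ∈ E := by rw [hEtop]; trivial
      have h2 : E ≤ (Hz P V).comap L.subtype := (closure_le _).2 fun y hy => hcon y hy
      exact h2 h1
    have h1 := Quot.core L hL hLle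
    have h2 : Nat.card L = 1 := by rw [h1, card_bot]
    rw [h2] at h7
    omega
  obtain ⟨x, hx⟩ := QuotientGroup.mk_surjective (y : P ⧸ Kp P V)
  -- the 7-part of `x`
  have hord : orderOf x ≠ 0 := (orderOf_pos x).ne'
  obtain ⟨n, b, hb, hab⟩ := Nat.exists_eq_pow_mul_and_not_dvd hord 7 (by norm_num)
  refine ⟨((x ^ b : P) : G), (x ^ b : P).2, ?_, n, ?_⟩
  · intro hxV
    apply hyH
    have h1 : ((x ^ b : P) : P ⧸ Kp P V) ∈ Hz P V := Quot.mem_Hz.2 hxV
    rw [QuotientGroup.mk_pow, hx] at h1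
    have h2 : orderOf (y : P ⧸ Kp P V) = 7 := by rw [orderOf_coe]; exact hy7
    have h3 : (y : P ⧸ Kp P V) ∈ zpowers ((y : P ⧸ Kp P V) ^ b) := by
      rw [mem_zpowers_pow_iff, h2]
      exact ((Nat.Prime.coprime_iff_not_dvd (by norm_num)).2 hb).symm
    exact (zpowers_le.2 h1) h3
  · rw [← Subgroup.coe_pow, ← pow_mul, mul_comm, ← hab, pow_orderOf_eq_one, Subgroup.coe_one]

/-- if `A` centralises `W` modulo `V_P` -/
theorem wv (h : JIn Z J V P) {A : Subgroup G} (hAP : A ≤ P) (hA4 : 4 ≤ (Kc P V).relIndex A)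
    (hA : ∀ a ∈ A, ∀ w ∈ Wc P V, a * w * a⁻¹ * w⁻¹ ∈ Wc P J) : ∀ x ∈ P, cj x V ≤ V ⊔ Wc P J := by
  have hnJ : ∀ x ∈ P, ∀ w ∈ Wc P J, x * w * x⁻¹ ∈ Wc P J := by
    intro x hx w hw
    have h1 := norm_Wc P J hx
    rw [← cj_eq_iff] at h1
    have h2 : x * w * x⁻¹ ∈ cj x (Wc P J) := cj_mem_cj hw
    rwa [h1] at h2
  have hnV : ∀ x ∈ P, ∀ w ∈ Wc P V, x * w * x⁻¹ ∈ Wc P V := by
    intro x hx w hw
    have h1 := norm_Wc P V hx
    rw [← cj_eq_iff] at h1
    have h2 : x * w * x⁻¹ ∈ cj x (Wc P V) := cj_mem_cj hw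
    rwa [h1] at h2
  let Y : Subgroup P :=
    { carrier := {x | ∀ w ∈ Wc P V, (x : G) * w * (x : G)⁻¹ * w⁻¹ ∈ Wc P J}
      one_mem' := fun w _ => by
        rw [Subgroup.coe_one, one_mul, inv_one, mul_one, mul_inv_cancel]; exact one_mem _
      mul_mem' := by
        intro x y hx hy w hw
        have h1 : ((x * y : P) : G) * w * ((x * y : P) : G)⁻¹ * w⁻¹ =
            (x * (y * w * (y : G)⁻¹) * (x : G)⁻¹ * (y * w * (y : G)⁻¹)⁻¹) * (y * w * (y : G)⁻¹ * w⁻¹) := by
          push_cast; group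
        rw [h1]
        exact mul_mem (hx _ (hnV _ y.2 _ hw)) (hy _ hw)
      inv_mem' := by
        intro x hx w hw
        have h1 : ((x⁻¹ : P) : G) * w * ((x⁻¹ : P) : G)⁻¹ * w⁻¹ =
            (x * ((x : G)⁻¹ * w * ((x : G)⁻¹)⁻¹) * (x : G)⁻¹ * ((x : G)⁻¹ * w * ((x : G)⁻¹)⁻¹)⁻¹)⁻¹ := by
          push_cast; group
        rw [h1]
        exact inv_mem (hx _ (hnV _ (inv_mem x.2) _ hw)) }
  have hY : Y.Normal := by
    refine ⟨fun n hn g w hw => ?_⟩
    have h1 : ((g * n * g⁻¹ : P) : G) * w * ((g * n * g⁻¹ : P) : G)⁻¹ * w⁻¹ =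
        g * (n * ((g : G)⁻¹ * w * ((g : G)⁻¹)⁻¹) * (n : G)⁻¹ * ((g : G)⁻¹ * w * ((g : G)⁻¹)⁻¹)⁻¹) * (g : G)⁻¹ := by
      push_cast; group
    rw [h1]
    exact hnJ _ g.2 _ (hn _ (hnV _ (inv_mem g.2) _ hw))
  have hYn : (Y.map (QuotientGroup.mk' (Kp P V))).Normal := hY.map _ (QuotientGroup.mk'_surjective _)
  have hY1 : Y.map (QuotientGroup.mk' (Kp P V)) ≠ ⊥ := by
    intro hbot
    have h1 : ∀ a ∈ A, a ∈ Kc P V := by
      intro a ha
      have h2 : (QuotientGroup.mk' (Kp P V)) ⟨a, hAP ha⟩ ∈ Y.map (QuotientGroup.mk' (Kp P V)) :=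
        ⟨⟨a, hAP ha⟩, fun w hw => hA a ha w hw, rfl⟩
      rw [hbot, mem_bot] at h2
      have h3 : ((⟨a, hAP ha⟩ : P) : P ⧸ Kp P V) = 1 := h2
      have h4 : (⟨a, hAP ha⟩ : P) ∈ Kp P V := (QuotientGroup.eq_one_iff _).1 h3
      exact h4
    have h3 : (Kc P V).relIndex A = 1 := relIndex_eq_one.2 h1
    omega
  obtain ⟨x, ⟨y, hy, hyx⟩, hxV⟩ := h.moves hYn hY1
  have hyV : (y : G) ∉ normalizer (V : Set G) := by
    intro h1
    apply hxV
    rw [← Quot.mem_Hz] at h1 ⊢
    rw [← hyx]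
    exact h1
  set U : Subgroup G := V ⊔ Wc P J with hU
  have hUn : normalizer (U : Set G) ⊓ P = P := by
    have hle : ∀ x ∈ P, cj x V ≤ U → x ∈ normalizer (U : Set G) := by
      intro x hx hxV
      rw [← cj_eq_iff]
      refine Subgroup.eq_of_le_of_card_ge ?_ (card_cj x _).ge
      rw [hU, cj_sup]
      refine sup_le hxV ?_
      rw [cj_eq_iff.2 (norm_Wc P J hx)]
      exact le_sup_right
    refine h.eq_P (x := y) (le_inf ?_ inf_le_right) inf_le_right ⟨hle y y.2 ?_, y.2⟩ hyV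
    · intro c hc
      refine hle c hc.2 ?_
      rw [cj_eq_iff.2 hc.1]
      exact le_sup_left
    · intro v hv
      have h1 : (y : G)⁻¹ * v * y ∈ V := mem_cj.1 hv
      have h2 := hy _ (le_Wc P V h1)
      have h3 : v = ((y : G) * ((y : G)⁻¹ * v * y) * (y : G)⁻¹ * ((y : G)⁻¹ * v * y)⁻¹) * ((y : G)⁻¹ * v * y) := by group
      rw [h3]
      exact mul_mem (mem_sup_right h2) (mem_sup_left h1)
  intro x hx
  have h1 : x ∈ normalizer (U : Set G) := by
    have : x ∈ normalizer (U : Set G) ⊓ P := by rw [hUn]; exact hx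
    exact this.1
  rw [← cj_eq_iff] at h1
  rw [← h1]
  exact cj_mono le_sup_left

theorem false (h : JIn Z J V P) (hpsl : OutPsl (P ⧸ Kp P V))
    (htop : ∀ L : Subgroup (P ⧸ Kp P V), (∃ (F : Type) (_ : Field F) (_ : Fintype F), Fintype.card F = 7 ∧
      Nonempty (L ≃* Matrix.ProjectiveSpecialLinearGroup (Fin 2) F)) → L ≠ ⊤) : False := by
  obtain ⟨L, hLc, hLs, hLC, ⟨F, iF, iF', hp, h7, ⟨e⟩⟩, -⟩ := hpsl
  have hLn : L.Normal := ⟨fun n hn g => hLc (MulAut.conj g) n hn⟩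
  obtain ⟨A, hAP, hA2, hA4, hA8, hAK⟩ := h.crit
  obtain ⟨N, iN, iN', ρ, p, hps, hp1, hN2, hact⟩ := h.exists_act
  have hL1 : L ≠ ⊥ := by
    rintro rfl
    exact (nontrivial_iff_ne_bot (⊥ : Subgroup (P ⧸ Kp P V))).1 hLs.toNontrivial rfl
  have hconjJ : ∀ x ∈ P, ∀ w ∈ Wc P J, x * w * x⁻¹ ∈ Wc P J := by
    intro x hx w hw
    have h1 := norm_Wc P J hx
    rw [← cj_eq_iff] at h1
    have h2 : x * w * x⁻¹ ∈ cj x (Wc P J) := cj_mem_cj hw
    rwa [h1] at h2
  -- `L` acts nontrivially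
  have hLne : ¬ ∀ g ∈ L, ∀ n : N, ρ g n = n := by
    intro hcon
    obtain ⟨x, hxL, hxV⟩ := h.moves hLn hL1
    apply h.PJ
    have hJn : normalizer (J : Set G) ⊓ P = P := by
      have hle : ∀ x ∈ P, (∀ j ∈ J, x * j * x⁻¹ * j⁻¹ ∈ Z) → x ∈ normalizer (J : Set G) := by
        intro x hx hj
        rw [← cj_eq_iff]
        refine Subgroup.eq_of_le_of_card_ge ?_ (card_cj x _).ge
        intro j hj'
        have h1 := hj _ (mem_cj.1 hj')
        have h2 : j = (x * (x⁻¹ * j * x) * x⁻¹ * (x⁻¹ * j * x)⁻¹) * (x⁻¹ * j * x) := by group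
        rw [h2]
        exact mul_mem (h.ZJ h1) (mem_cj.1 hj')
      refine h.eq_P (x := x) (le_inf (fun c hc => hle c hc.2 (h.JZ c hc)) inf_le_right) inf_le_right
        ⟨hle x x.2 ?_, x.2⟩ hxV
      intro j hj
      have hjW : j ∈ Wc P J := le_Wc P J hj
      have h1 := hact x ⟨j, hjW⟩ ⟨_, hconjJ _ x.2 _ hjW⟩ rfl
      rw [hcon _ hxL, eq_comm, ← div_eq_one, ← map_div, hp1, div_eq_mul_inv] at h1
      exact h1
    exact hJn ▸ inf_le_left
  have hne : ∀ y ∈ L, y ≠ 1 → ∃ v : N, ρ y v ≠ v := by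
    intro y hy hy1
    by_contra hcon
    push Not at hcon
    exact hLne fun g hg n => BTwoLin.SocleGen.fix_of_one (ρ := ρ) (J := L) hLs (W := ⊤) (fun _ _ _ _ => mem_top _) hy hy1
      (fun w _ => hcon w) g hg n (mem_top _)
  -- the image of `A`
  set! Ab : Subgroup (P ⧸ Kp P V) := (A.subgroupOf P).map (QuotientGroup.mk' (Kp P V)) with hAb
  have hAb2 : ∀ a ∈ Ab, a * a = 1 := by
    rintro _ ⟨a, ha, rfl⟩
    rw [← map_mul]
    have : a * a = 1 := Subtype.ext (hA2 a ha)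
    rw [this, map_one]
  have hAb4 : 4 ≤ Nat.card Ab := by rw [hAb, card_image hAP]; exact hA4
  -- the index of the fixed points
  have hidx : (CS ρ Ab).index ≤ (centralizer (A : Set G)).relIndex (Wc P J) := by
    let D : Subgroup ↥(Wc P J) := (centralizer (A : Set G)).subgroupOf (Wc P J)
    have h1 : D.map p ≤ CS ρ Ab := by
      rintro _ ⟨w, hw, rfl⟩ _ ⟨a, ha, rfl⟩
      have hw' : (w : G) ∈ centralizer (A : Set G) := hw
      have ha' : (a : G) ∈ A := ha
      have h2 : (w : G) = a * w * (a : G)⁻¹ := by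
        rw [mem_centralizer_iff.1 hw' a ha', mul_inv_cancel_right]
      exact hact a w w h2
    have h2 : (D.map p).index ≤ D.index :=
      Nat.le_of_dvd (Nat.pos_of_ne_zero Subgroup.index_ne_zero_of_finite) (index_map_dvd (f := p) D hps)
    exact (index_le_of_le h1).trans h2
  have hWJ : (centralizer (A : Set G)).relIndex (Wc P J) ≤ (centralizer (A : Set G)).relIndex (Wc P V) :=
    relIndex_le_of_le_right h.WJ_le Subgroup.index_ne_zero_of_finite
  have hodd : Odd (Fintype.card F) := hp.odd_of_ne_two (by omega)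
  have h2F : (2 : F) ≠ 0 := Cfsg.Agent.GH.L2Aut.two_ne_zero_of_odd hodd
  have R := Cfsg.Agent.GH.L2Aut.Rep.ofEquiv h2F e
  have hFp : (Nat.card F).Prime := by rw [Nat.card_eq_fintype_card]; exact hp
  by_cases hF7 : Fintype.card F = 7
  · -- (4.6), (4.7)
    have hF7' : Nat.card F = 7 := by rw [Nat.card_eq_fintype_card, hF7]
    obtain ⟨R'⟩ := PGLSeven.exists_rep R hF7'
    have h8 := PGLSeven.eight_le (ρ := ρ) (A := Ab) R' hN2 hLC (htop L ⟨F, _, _, hF7, ⟨e⟩⟩) hne hAb2 hAb4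
      (C := CS ρ Ab) (fun a ha v hv => hv a ha)
    have e1 : (centralizer (A : Set G)).relIndex (Wc P V) = 8 := by omega
    have e2 : (centralizer (A : Set G)).relIndex (Wc P J) = 8 := by omega
    have hcov : ∀ w ∈ Wc P V, ∃ u ∈ Wc P J, u⁻¹ * w ∈ centralizer (A : Set G) := by
      intro w hw
      let E := quotientSubgroupOfEmbeddingOfLE (centralizer (A : Set G)) h.WJ_le
      have hle : Nat.card (↥(Wc P V) ⧸ (centralizer (A : Set G)).subgroupOf (Wc P V)) ≤
          Nat.card (↥(Wc P J) ⧸ (centralizer (A : Set G)).subgroupOf (Wc P J)) := by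
        have h3 : Nat.card (↥(Wc P V) ⧸ (centralizer (A : Set G)).subgroupOf (Wc P V)) = 8 := e1
        have h4 : Nat.card (↥(Wc P J) ⧸ (centralizer (A : Set G)).subgroupOf (Wc P J)) = 8 := e2
        rw [h3, h4]
      have hsurj := (E.injective.bijective_of_nat_card_le hle).2
      obtain ⟨u, hu⟩ := hsurj (QuotientGroup.mk ⟨w, hw⟩)
      obtain ⟨u, rfl⟩ := QuotientGroup.mk_surjective u
      rw [quotientSubgroupOfEmbeddingOfLE_apply_mk] at hu
      have h3 := QuotientGroup.eq.1 hu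
      rw [mem_subgroupOf, Subgroup.coe_mul, Subgroup.coe_inv, Subgroup.coe_inclusion] at h3
      exact ⟨u, u.2, h3⟩
    have hcomm : ∀ a ∈ A, ∀ w ∈ Wc P V, a * w * a⁻¹ * w⁻¹ ∈ Wc P J := by
      intro a ha w hw
      obtain ⟨u, hu, huw⟩ := hcov w hw
      have h3 := mem_centralizer_iff.1 huw a ha
      have h4 : a * w * a⁻¹ * w⁻¹ = (a * u * a⁻¹) * (a * (u⁻¹ * w) * a⁻¹ * (u⁻¹ * w)⁻¹) * u⁻¹ := by group
      rw [h4, h3, mul_inv_cancel_right, mul_inv_cancel, mul_one]
      exact mul_mem (hconjJ a (hAP ha) u hu) (inv_mem hu)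
    have hsev : 7 ∣ Nat.card L := by
      have h3 : orderOf ((R.π (Lib.SL2Mat.up 1) : L) : P ⧸ Kp P V) = 7 := by
        have := FFPsl.orderOf_u (H := P ⧸ Kp P V) R hFp
        rwa [hF7'] at this
      rw [orderOf_coe] at h3
      rw [← h3]
      exact _root_.orderOf_dvd_natCard _
    exact SecSeven.Sit.false
      { ZJ := h.ZJ
        JV := h.JV
        PZ := h.PZ
        max := fun N hN hNP => by
          by_cases hNV : N ≤ normalizer (V : Set G)
          · exact Or.inl hNV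
          · right
            obtain ⟨x, hx, hxV⟩ : ∃ x ∈ N, x ∉ normalizer (V : Set G) := by
              by_contra hcon
              push Not at hcon
              exact hNV hcon
            exact h.eq_P hN hNP hx hxV
        JZ := h.JZ
        PJ := h.PJ
        ab := h.ab
        small := h.small
        center := h.center
        eight := h.eight
        nab := h.nab
        seven := h.exists_seven hLn hLs hsev
        KV := hAK e1
        WV := h.wv hAP hA4 hcomm }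
  · -- (4.5)
    have h11 : 11 ≤ Nat.card F := by
      rw [Nat.card_eq_fintype_card]
      by_contra hcon
      have h3 : Fintype.card F = 8 ∨ Fintype.card F = 9 ∨ Fintype.card F = 10 := by omega
      rcases h3 with h3 | h3 | h3 <;> rw [h3] at hp <;> revert hp <;> norm_num
    -- an involution of `A` in `L`
    have hinner : ∀ a : P ⧸ Kp P V, MulAut.conjNormal (H := L) a ∈ (MulAut.conj : L →* MulAut L).range → a ∈ L := by
      rintro a ⟨l, hl⟩
      have h3 : (l : P ⧸ Kp P V)⁻¹ * a ∈ centralizer (L : Set (P ⧸ Kp P V)) := by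
        rw [mem_centralizer_iff]
        intro x hx
        have h4 := congrArg (fun α : MulAut L => ((α ⟨x, hx⟩ : L) : P ⧸ Kp P V)) hl
        simp only [MulAut.conjNormal_apply, MulAut.conj_apply, Subgroup.coe_mul, Subgroup.coe_inv] at h4
        have h5 : x = (l : P ⧸ Kp P V)⁻¹ * (a * x * a⁻¹) * l := by rw [← h4]; group
        calc x * ((l : P ⧸ Kp P V)⁻¹ * a) = ((l : P ⧸ Kp P V)⁻¹ * (a * x * a⁻¹) * l) * ((l : P ⧸ Kp P V)⁻¹ * a) := by
              rw [← h5]
          _ = (l : P ⧸ Kp P V)⁻¹ * a * x := by group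
      rw [hLC, mem_bot, inv_mul_eq_one] at h3
      rw [← h3]
      exact l.2
    obtain ⟨t₀, ht₀A, ht₀L, ht₀1⟩ : ∃ t ∈ Ab, t ∈ L ∧ t ≠ 1 := by
      obtain ⟨a, ha, ha1, -⟩ := PGLSeven.exists_notin2 Ab (by omega) 1 1
      obtain ⟨b, hb, hb1, hba⟩ := PGLSeven.exists_notin2 Ab (by omega) 1 a
      by_cases haL : a ∈ L
      · exact ⟨a, ha, haL, ha1⟩
      by_cases hbL : b ∈ L
      · exact ⟨b, hb, hbL, hb1⟩
      refine ⟨a * b, mul_mem ha hb, hinner _ ?_, ?_⟩
      · rw [map_mul]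
        exact PGLTorus.mul_mem_inn R (PGLTorus.mem_PGL_of_prime R hFp _) (PGLTorus.mem_PGL_of_prime R hFp _)
          (fun h3 => haL (hinner _ h3)) (fun h3 => hbL (hinner _ h3))
      · intro h3
        apply hba
        have h4 := hAb2 a ha
        exact mul_left_cancel (h3.trans h4.symm)
    have ht₀i : (fx ρ t₀).index ≤ 8 :=
      (index_le_of_le (CS_le_fx ht₀A)).trans (hidx.trans (hWJ.trans hA8))
    refine ModP.false_of (ρ := ρ) (L := L) R hN2 hFp h11 hne fun t htL htt ht1 => ?_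
    obtain ⟨g, hg⟩ := Lib.PSL2Torus.conj_inv h2F e (t := ⟨t₀, ht₀L⟩) (u := ⟨t, htL⟩)
      (fun h3 => ht₀1 (congrArg Subtype.val h3)) (Subtype.ext (hAb2 _ ht₀A))
      (fun h3 => ht1 (congrArg Subtype.val h3)) (Subtype.ext htt)
    have h3 : (g : P ⧸ Kp P V) * t₀ * (g : P ⧸ Kp P V)⁻¹ = t := congrArg Subtype.val hg
    rw [← h3, index_fx_conj]
    exact ht₀i

/-- **Part II, `q = 4`, `V ≤ O₂(C_G(Z))`: (4.5)-(4.7)** -/
theorem false' (h : JIn Z J V P) (hodd : ¬ 2 ∣ (Co P V).relIndex P) (h3 : ¬ 3 ∣ Nat.card (Co P V))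
    (hpsl : OutPsl (P ⧸ Kp P V)) : False := by
  refine h.false hpsl ?_
  rintro L ⟨F, iF, iF', hF7, ⟨e⟩⟩ rfl
  have hp : (Fintype.card F).Prime := by rw [hF7]; norm_num
  have e' : (P ⧸ Kp P V) ≃* Matrix.ProjectiveSpecialLinearGroup (Fin 2) F := (Subgroup.topEquiv (G := P ⧸ Kp P V)).symm.trans e
  have hsimp : IsSimpleGroup (P ⧸ Kp P V) := by
    have hs : IsSimpleGroup (Matrix.ProjectiveSpecialLinearGroup (Fin 2) F) :=
      Cfsg.Agent.TwoFusion.SLTwoFacts.isSimpleGroup_psl (by omega)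
    exact e'.isSimpleGroup
  refine TopSeven.false hF7 e' (H0 := Hz P V) (Quot.coatom h.lt h.min) ?_ (Quot.not_three h3)
  rw [← Nat.not_even_iff_odd, even_iff_two_dvd]
  intro h2
  apply hodd
  have h4 : (Hz P V).index = (Co P V).relIndex P := by
    rw [← index_comap_of_surjective (Hz P V) (QuotientGroup.mk'_surjective (Kp P V)), Quot.comap_Hz]
    rfl
  rwa [h4] at h2

end JIn

end Cfsg.Agent.OddCyclic.Eq.JGlue
end

-- part: OddCyclic/Eq/PslOf
section
/-!
# (E_q): `P/K` is of type `PSL₂(p)` if some elementary abelian group of order at least 4 acts quadratically on `W`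

`dat`: `Struct.Dat ⊥` for `P/K`; `outPsl`: `Struct.cases` + helper405's sum trick.
-/

set_option autoImplicit false

namespace Cfsg.Agent.OddCyclic.Eq.PslOf

open Subgroup Cfsg.Agent.OddCyclic.CompStandard Cfsg.Agent.OddCyclic.RedFiveThree Cfsg.Agent.OddCyclic.Eq.Line
  Cfsg.Agent.OddCyclic.Eq.Quot Cfsg.Agent.OddCyclic.Eq.Struct
open Cfsg.Agent.OddCyclic.T1Defs (OddCyc)
open Cfsg.Agent.LieExceptional.CITDefs (IsSyl2)

universe u

variable {G : Type u} [Group G] [Finite G] {X V T P : Subgroup G}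

/-- `P/K` satisfies the hypotheses of `Struct.cases` with `Γ = 1` -/
theorem dat (h : Pd X V T) (hc : OddCyc G) (hs : CompStart.SecZero G) (hX : X ≠ ⊤) (hP : P ≤ X)
    (hlt : normalizer (V : Set G) ⊓ X < P)
    (hmin : ∀ Q : Subgroup G, normalizer (V : Set G) ⊓ X < Q → Q ≤ P → Q = P) :
    _root_.Cfsg.Agent.OddCyclic.Eq.Struct.Dat (⊥ : Subgroup (MulAut (P ⧸ Kp P V))) (Hz P V) (Tz P V T) := by
  have h0 : Co P V = normalizer (V : Set G) ⊓ X := Pd.co_eq hP hlt.le
  have hTP : T ≤ P := (le_inf h.TV h.syl.le).trans hlt.le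
  have hT : IsSyl2 P T := isSyl2_of_le h.syl hTP hP
  have hPt : P ≠ ⊤ := fun h1 => hX (top_le_iff.mp (h1 ▸ hP))
  have hco : IsCoatom (Hz P V) := coatom (by rw [h0]; exact hlt) (by rw [h0]; exact hmin)
  have hle : Tz P V T ≤ Hz P V := map_mono fun t ht => ⟨h.TV ht, hTP ht⟩
  refine ⟨?_, hco.1, ?_, core, ⟨toSyl (syl_Tz hT), rfl⟩, hle, ?_, not_three (by rw [h0]; exact h.three), oddCyc hc P V,
    kzero hs hPt V⟩
  · intro γ hγ x hx
    rw [mem_bot] at hγ
    rw [hγ]
    exact hx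
  · intro Y _ hY
    rcases hY.lt_or_eq with h1 | h1
    · exact Or.inr (hco.2 Y h1)
    · exact Or.inl h1.symm
  · exact norm_syl hT h.TV (fun x hx => h.NT x (hP hx)) _ (syl_Tz hT) hle

/-- the involutions of `H₀` are in `T`, if `T` is normal in `H₀` -/
theorem semi_of_rk {H : Type u} [Group H] [Finite H] {Γ : Subgroup (MulAut H)} {H0 T K : Subgroup H} (d : _root_.Cfsg.Agent.OddCyclic.Eq.Struct.Dat Γ H0 T)
    (r : Rk H0 T K) : ∀ a ∈ H0, a * a = 1 → a ≠ 1 → ∀ h : H, h * a * h⁻¹ ∈ H0 → h ∈ H0 := by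
  intro a ha ha2 ha1 h hh
  refine r.semi h a ?_ ha1 hh
  -- `a` normalises the Sylow 2-subgroup `T`
  have hf : Fact (Nat.Prime 2) := ⟨Nat.prime_two⟩
  obtain ⟨Q, hQ⟩ := d.syl
  have haT : a ∈ normalizer (T : Set H) := by rw [r.nT]; exact ha
  have h1 : IsPGroup 2 (zpowers a) := by
    refine IsPGroup.of_card (n := 1) ?_
    rw [Nat.card_zpowers, pow_one]
    exact orderOf_eq_prime (by rw [pow_two]; exact ha2) ha1
  have h2 : zpowers a ≤ normalizer (T : Set H) := by rwa [zpowers_le]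
  have h3 : IsPGroup 2 (T ⊔ zpowers a : Subgroup H) := by
    rw [sup_comm]
    exact h1.to_sup_of_normal_right' (by rw [← hQ]; exact Q.2) h2
  have h4 : (Q : Subgroup H) ≤ T ⊔ zpowers a := by rw [hQ]; exact le_sup_left
  have h5 := Q.is_maximal' h3 h4
  have h6 : a ∈ T ⊔ zpowers a := mem_sup_right (mem_zpowers a)
  rw [h5] at h6
  rw [← hQ]
  exact h6

theorem outPsl (h : Pd X V T) (hc : OddCyc G) (hs : CompStart.SecZero G) (hX : X ≠ ⊤) (hP : P ≤ X)
    (hlt : normalizer (V : Set G) ⊓ X < P)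
    (hmin : ∀ Q : Subgroup G, normalizer (V : Set G) ⊓ X < Q → Q ≤ P → Q = P)
    (hWc : Cm (Wc P V) (Wc P V)) (hW2 : ∀ w ∈ Wc P V, w * w = 1)
    {v : G} (hv : v ∈ V) (hvU : v ∉ Uo P V)
    (hvC : ∀ c ∈ P, c ∈ normalizer (V : Set G) → c * v * c⁻¹ * v⁻¹ ∈ Uo P V)
    {A : Subgroup G} (hAP : A ≤ P) (hAV : A ≤ normalizer (V : Set G)) (hA2 : ∀ a ∈ A, a * a = 1)
    (hAq : ∀ a ∈ A, ∀ b ∈ A, ∀ w ∈ Wc P V, (a * w * a⁻¹ * w⁻¹) * b = b * (a * w * a⁻¹ * w⁻¹))
    (hA4 : 4 ≤ (Kc P V).relIndex A) : OutPsl (P ⧸ Kp P V) := by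
  have d := dat h hc hs hX hP hlt hmin
  have key : ∀ a ∈ (A.subgroupOf P).map (QuotientGroup.mk' (Kp P V)), a * a = 1 := by
    rintro _ ⟨a, ha, rfl⟩
    rw [← map_mul]
    have : a * a = 1 := Subtype.ext (hA2 a ha)
    rw [this, map_one]
  have hsum : (∀ a ∈ Hz P V, a * a = 1 → a ≠ 1 → ∀ h : P ⧸ Kp P V, h * a * h⁻¹ ∈ Hz P V → h ∈ Hz P V) → False := by
    intro h1
    obtain ⟨a, ha, b, hb, haK, hbK, habK⟩ := exists_four hA4
    obtain ⟨x, hx, hxv⟩ := exists_moved hv hvU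
    apply hxv
    refine SumG.fix hWc hW2 (Uo_le P V) (norm_Uo P V) hv hvC (hAP ha) (hAP hb) (hA2 a ha) (hA2 b hb)
      (comm_of_sq hA2 ha hb) (cj_eq_iff.mpr (hAV ha)) (cj_eq_iff.mpr (hAV hb)) (fun w hw => hAq a ha b hb w hw)
      (fun y hy hy' => fixes h1 (hAP ha) (hAV ha) (hA2 a ha) haK hy hy')
      (fun y hy hy' => fixes h1 (hAP hb) (hAV hb) (hA2 b hb) hbK hy hy')
      (fun y hy hy' => fixes h1 (hAP (mul_mem ha hb)) (hAV (mul_mem ha hb)) (hA2 _ (mul_mem ha hb)) habK hy hy') hx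
  rcases cases d with h1 | ⟨K, hr, -⟩ | ⟨K, hr, -⟩ | h1
  · have h2 := h1.card_le d.odd _ key
    rw [card_image hAP] at h2
    omega
  · exact (hsum (semi_of_rk d hr)).elim
  · exact (hsum (semi_of_rk d hr)).elim
  · exact h1

end Cfsg.Agent.OddCyclic.Eq.PslOf
end

-- part: OddCyclic/Eq/SecFourEnd
section
/-!
# (E_q) of `T_cyc`, Part II, `V ≤ O₂(C_G(Z))`: the end

`SecFourEnd.false`: `SecFour.Sit`, `Quot.Pd (C_G(Z)) V S`, `C_G(Z) ≰ N_G(V)`, `N_G(V)` maximal among the normalisers of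
elementary abelian groups containing `V`, `N_G(V) ∩ C_G(Z)` a 2-group on `V`, and for `q = 4` the action of
`N_G(V) ∩ C_G(Z)` on `V` as `D₈` (`Ex4`) are contradictory.
-/

set_option autoImplicit false
set_option linter.unusedSectionVars false

namespace Cfsg.Agent.OddCyclic.Eq.SecFourEnd

open Subgroup Cfsg.Agent.OddCyclic.CompStandard Cfsg.Agent.OddCyclic.RedFiveThree Cfsg.Agent.OddCyclic.Eq.Line
  Cfsg.Agent.OddCyclic.Eq.Quot Cfsg.Agent.OddCyclic.Eq.SecFour
open Cfsg.Agent.OddCyclic.T1Defs (OddCyc)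
open Cfsg.Agent.LieExceptional.CITDefs (IsSyl2)

universe u

variable {G : Type u} [Group G]

/-- `C₀ = N_G(V) ∩ C_G(Z)` acts on `V` (`|V| = 16`) as `D₈` -/
structure Ex4 (Z J V : Subgroup G) : Prop where
  JZ : ∀ c ∈ normalizer (V : Set G) ⊓ centralizer (Z : Set G), ∀ j ∈ J, c * j * c⁻¹ * j⁻¹ ∈ Z
  small : ∀ c ∈ normalizer (V : Set G) ⊓ centralizer (Z : Set G), (∀ v ∈ V, c * v * c⁻¹ * v⁻¹ ∈ Z) →
    c ∈ centralizer (V : Set G)
  center : ∀ N : Subgroup G, N ≤ normalizer (V : Set G) ⊓ centralizer (Z : Set G) →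
    normalizer (V : Set G) ⊓ centralizer (Z : Set G) ≤ normalizer (N : Set G) →
    ¬ N ≤ centralizer (V : Set G) → ∃ s ∈ N, (∀ c ∈ normalizer (V : Set G) ⊓ centralizer (Z : Set G),
      c * s * c⁻¹ * s⁻¹ ∈ centralizer (V : Set G)) ∧ (∀ j ∈ J, s * j * s⁻¹ * j⁻¹ = 1) ∧
      (∀ j ∈ J, ∃ v ∈ V, s * v * s⁻¹ * v⁻¹ = j) ∧ (∀ v ∈ V, s * v * s⁻¹ * v⁻¹ ∈ J)
  eight : (centralizer (V : Set G)).relIndex (normalizer (V : Set G) ⊓ centralizer (Z : Set G)) = 8
  nab : ∃ a ∈ normalizer (V : Set G) ⊓ centralizer (Z : Set G),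
    ∃ b ∈ normalizer (V : Set G) ⊓ centralizer (Z : Set G), a * b * a⁻¹ * b⁻¹ ∉ centralizer (V : Set G)

variable [Finite G] {q : ℕ} {Z J V D S : Subgroup G}

/-- **Part II, `V ≤ O₂(C_G(Z))`, is impossible** -/
theorem false (hc : OddCyc G) (hs : CompStart.SecZero G) (h : Sit q Z J V D)
    (pd : Pd (centralizer (Z : Set G)) V S) (hX : centralizer (Z : Set G) ≠ ⊤)
    (nle : ¬ centralizer (Z : Set G) ≤ normalizer (V : Set G))
    (mx : ∀ R : Subgroup G, V ≤ R → (∀ x ∈ R, x * x = 1) → normalizer (V : Set G) ≤ normalizer (R : Set G) →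
      normalizer (R : Set G) ≤ normalizer (V : Set G))
    (two : ∀ c ∈ normalizer (V : Set G) ⊓ centralizer (Z : Set G), ∃ k : ℕ, c ^ 2 ^ k ∈ centralizer (V : Set G))
    (ex : q = 4 → Ex4 Z J V) : False := by
  obtain ⟨P, hP, hlt, hmin⟩ := Pd.exists_min nle
  have p : Sit.Pp Z V P := ⟨hlt.le, hP⟩
  have hPV : ¬ P ≤ normalizer (V : Set G) := fun h1 => hlt.not_ge (le_inf h1 hP)
  have hco : Co P V = normalizer (V : Set G) ⊓ centralizer (Z : Set G) := Pd.co_eq hP hlt.le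
  have hab : ∀ x ∈ P, Cm V (cj x V) := by
    intro x hx
    have h1 := h.cmP p P.one_mem hx
    rwa [cj_one] at h1
  -- the offender
  obtain ⟨g, c, x, hx, hq⟩ := h.exists_cr p fun R hVR hR2 h1 h2 => hPV (h2.trans (mx R hVR hR2 h1))
  set A := cj g (cj x V) with hA
  have hAV : A ≤ centralizer (V : Set G) := h.line_le c hx
  have hAP : A ≤ P := hAV.trans (h.cent_le p)
  have hA2 : ∀ a ∈ A, a * a = 1 := by
    intro a ha
    rw [hA, ← cj_mul] at ha
    exact h.sq_cj ha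
  have hA4 : 4 ≤ (Kc P V).relIndex A := h.q4.trans hq
  -- the module
  obtain ⟨l, hl⟩ := LamMod.exists_lam h.sq hab hPV fun c hc hcV => two c ⟨hcV, hP hc⟩
  have hthree := pd.three_dvd hc hs hX hP hlt hmin (h.cm_WW p) (h.W_sq p) hl.lV hl.lY hl.fix hAP
    (hAV.trans (centralizer_le_normalizer _)) hA2 (h.line_quad p c hx) hA4
  have hpsl := PslOf.outPsl pd hc hs hX hP hlt hmin (h.cm_WW p) (h.W_sq p) hl.lV hl.lY hl.fix hAP
    (hAV.trans (centralizer_le_normalizer _)) hA2 (h.line_quad p c hx) hA4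
  -- `q = 4`
  have hq4 : q = 4 := le_antisymm (hq.trans (hthree.2 A hAP hA2)) h.q4
  subst hq4
  have e := ex rfl
  have hle := h.relIndex_le p c hx hthree.2
  have hT : IsSyl2 P S := isSyl2_of_le pd.syl ((le_inf pd.TV pd.syl.le).trans hlt.le) hP
  have hJ : JGlue.JIn Z J V P := by
    refine
      { ZJ := h.ZJ
        JV := h.JV
        VP := ?_
        sq := h.sq
        PZ := hP
        lt := by rw [hco]; exact hlt
        min := by rw [hco]; exact hmin
        JZ := by rw [hco]; exact e.JZ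
        PJ := fun h1 => hPV (h1.trans h.nJ)
        ab := hab
        small := by rw [hco]; exact e.small
        center := by rw [hco]; exact e.center
        eight := by rw [hco]; exact e.eight
        nab := by rw [hco]; exact e.nab
        crit := ⟨A, hAP, hA2, hA4, hle.1, hle.2⟩ }
    intro v hv
    refine h.cent_le p ?_
    rw [mem_centralizer_iff]
    intro w hw
    exact comm_of_sq h.sq hw hv
  refine hJ.false' ?_ (by rw [hco]; exact pd.three) hpsl
  have h1 := odd_index (V := V) hT pd.TV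
  have h2 : (Hz P V).index = (Co P V).relIndex P := by
    rw [← index_comap_of_surjective _ (QuotientGroup.mk'_surjective (Kp P V)), comap_Hz]
    rfl
  rw [h2] at h1
  intro h3
  exact (Nat.not_even_iff_odd.2 h1) (even_iff_two_dvd.2 h3)

end Cfsg.Agent.OddCyclic.Eq.SecFourEnd
end

-- part: OddCyclic/Eq/AbJ
section
/-!
# (E_q) of `T_cyc`: the action on `Z_J`

* `abJ`: the elements of `N(B)` fixing `1 ≠ u ∈ Z_J` induce an abelian group on `Z_J`;
* `field_le`: `|C_{Z_J}(s)|² ≤ q` for `s ∈ N(B)`, an involution on `Z_J`;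
* `mx`: `N(V)` is a maximal 2-local;
* `cov`: `V` is covered by the conjugates of `Z_J` under `L`.
-/

set_option autoImplicit false

namespace Cfsg.Agent.OddCyclic.Eq.Base

open Subgroup Cfsg Cfsg.Agent.ZN Cfsg.Agent.OddCyclic.COneBlk
open Cfsg.Agent.OddCyclic.COneDefs (LBlk)
open Cfsg.Agent.OddCyclic.T1Sl2 (up dg ww)
open Cfsg.Agent.OddCyclic.T1Defs (OddCyc)
open Cfsg.Agent.OddCyclic.RedU (EqOne)
open Cfsg.Agent.OddCyclic.CompStandard (mem_normalizer_of_forall cj mem_cj)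
open Matrix (SpecialLinearGroup)

universe u

variable {G : Type u} [Group G] [Finite G] {S : Sylow 2 G} {L V : Subgroup G} {q : ℕ}

/-- coordinates with `e 1 0 = z`, `1 ≠ z ∈ Z_J` -/
theorem exists_norm' (h : EqOne S L V q) {z : G} (hz : z ∈ zc (bau (S : Subgroup G))) (hz1 : z ≠ 1) :
    ∃ (F : Type) (_ : Field F) (_ : Fintype F) (_ : CharP F 2) (e : F → F → G)
      (φ : L →* _root_.Matrix.SpecialLinearGroup (Fin 2) F), Fintype.card F = q ∧ Co (bau (S : Subgroup G)) L V e φ ∧ e 1 0 = z := by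
  obtain ⟨F, _, _, _, e, φ, hq, c⟩ := exists_co_of h
  obtain ⟨z₀, rfl⟩ := (mem_zc h c).mp hz
  have hz0 : z₀ ≠ 0 := by
    rintro rfl
    exact hz1 c.zero
  refine ⟨F, inferInstance, inferInstance, inferInstance, _, φ, hq, c.scale hz0, ?_⟩
  show e (z₀ * 1) (z₀ * 0) = e z₀ 0
  rw [mul_one, mul_zero]

/-- the automorphism group of a finite field of characteristic 2 is abelian -/
theorem aut_comm {F : Type} [Field F] [Fintype F] [CharP F 2] (σ τ : RingAut F) : σ * τ = τ * σ := by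
  let _ : Algebra (ZMod 2) F := ZMod.algebra F 2
  have key : ∀ ρ : RingAut F, ∀ x : ZMod 2, ρ (algebraMap (ZMod 2) F x) = algebraMap (ZMod 2) F x := by
    intro ρ x
    exact RingHom.congr_fun (Subsingleton.elim ((ρ : F ≃+* F).toRingHom.comp (algebraMap (ZMod 2) F)) (algebraMap (ZMod 2) F)) x
  let f : RingAut F → (F ≃ₐ[ZMod 2] F) := fun ρ => AlgEquiv.ofRingEquiv (f := ρ) (key ρ)
  have h1 : f σ * f τ = f τ * f σ := IsCyclic.commGroup.mul_comm (f σ) (f τ)
  refine RingEquiv.ext fun x => ?_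
  exact congrArg (fun g : F ≃ₐ[ZMod 2] F => g x) h1

/-- **abelian action** on `Z_J` -/
theorem abJ (h : EqOne S L V q) {z : G} (hz : z ∈ zc (bau (S : Subgroup G))) (hz1 : z ≠ 1) {a b : G}
    (ha : a ∈ normalizer (V : Set G)) (hb : b ∈ normalizer (V : Set G))
    (haz : a * z = z * a) (hbz : b * z = z * b) :
    a * b * a⁻¹ * b⁻¹ ∈ centralizer (zc (bau (S : Subgroup G)) : Set G) := by
  obtain ⟨F, _, _, _, e, φ, hq, c, rfl⟩ := exists_norm' h hz hz1
  obtain ⟨σ, b₁, d₁, -, hσ⟩ := exists_sig h c ha haz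
  obtain ⟨τ, b₂, d₂, -, hτ⟩ := exists_sig h c hb hbz
  have h1 : ∀ x, a * e x 0 * a⁻¹ = e (σ x) 0 := by
    intro x
    rw [hσ, map_zero, mul_zero, mul_zero, add_zero]
  have h2 : ∀ x, b * e x 0 * b⁻¹ = e (τ x) 0 := by
    intro x
    rw [hτ, map_zero, mul_zero, mul_zero, add_zero]
  have h3 : ∀ x, (a * b) * e x 0 * (a * b)⁻¹ = (b * a) * e x 0 * (b * a)⁻¹ := by
    intro x
    have h4 : (a * b) * e x 0 * (a * b)⁻¹ = a * (b * e x 0 * b⁻¹) * a⁻¹ := by group
    have h5 : (b * a) * e x 0 * (b * a)⁻¹ = b * (a * e x 0 * a⁻¹) * b⁻¹ := by group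
    rw [h4, h5, h1, h2, h1, h2]
    exact congrArg (fun ρ : RingAut F => e (ρ x) 0) (aut_comm σ τ)
  rw [mem_cent_zc h c]
  intro x
  obtain ⟨x', hx'⟩ : ∃ x', (b * a) * e x' 0 * (b * a)⁻¹ = e x 0 := by
    refine ⟨(τ * σ)⁻¹ x, ?_⟩
    have h5 : ∀ y, (b * a) * e y 0 * (b * a)⁻¹ = b * (a * e y 0 * a⁻¹) * b⁻¹ := fun y => by group
    rw [h5, h1, h2]
    exact congrArg (fun y => e y 0) ((τ * σ).apply_symm_apply x)
  have h6 := h3 x'
  rw [hx'] at h6
  have h7 : e x' 0 = (b * a)⁻¹ * e x 0 * (b * a) := by rw [← hx']; group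
  calc a * b * a⁻¹ * b⁻¹ * e x 0 * (a * b * a⁻¹ * b⁻¹)⁻¹ =
        (a * b) * ((b * a)⁻¹ * e x 0 * (b * a)) * (a * b)⁻¹ := by group
    _ = e x 0 := by rw [← h7, h6]

/-- `N(V)` is a maximal 2-local -/
theorem mx (h : EqOne S L V q) {R : Subgroup G} (hVR : V ≤ R) (hR : IsPGroup 2 R)
    (hle : normalizer (V : Set G) ≤ normalizer (R : Set G)) : normalizer (R : Set G) ≤ normalizer (V : Set G) := by
  obtain ⟨F, _, _, _, e, φ, hq, c⟩ := exists_co_of h
  refine h.le_NV _ ⟨R, hR, ?_, rfl⟩ L q h.blk ((L_V c).trans hle)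
  rintro rfl
  have h1 : V = ⊥ := le_bot_iff.mp hVR
  have h2 := h.card
  rw [h1, card_bot] at h2
  have h3 := h.blk.four
  nlinarith only [h2, h3]

omit [Finite G] in
theorem two_of_sq {R : Subgroup G} (hR : ∀ x ∈ R, x * x = 1) : IsPGroup 2 R := fun x =>
  ⟨1, Subtype.ext (by rw [pow_one, pow_two]; exact hR x x.2)⟩

/-- `V` is covered by the conjugates of `Z_J` -/
theorem cov (h : EqOne S L V q) {v : G} (hv : v ∈ V) :
    ∃ m ∈ L, m ∈ normalizer (V : Set G) ∧ v ∈ cj m (zc (bau (S : Subgroup G))) := by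
  obtain ⟨F, _, _, _, e, φ, hq, c⟩ := exists_co_of h
  obtain ⟨x, y, rfl⟩ := (c.mem v).mp hv
  by_cases h0 : (x, y) = (0 : F × F)
  · refine ⟨1, one_mem _, one_mem _, ?_⟩
    have hx : x = 0 := congrArg Prod.fst h0
    have hy : y = 0 := congrArg Prod.snd h0
    rw [mem_cj, hx, hy, c.zero]
    simp only [inv_one, mul_one]
    exact one_mem _
  · obtain ⟨g, hg⟩ := Semi.exists_act (F := F) h0
    obtain ⟨l, rfl⟩ := c.surj g
    refine ⟨l, l.2, L_V c l.2, ?_⟩
    rw [mem_cj, mem_zc h c]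
    refine ⟨1, ?_⟩
    have h1 := c.act l 1 0
    have h2 : φ l 0 0 * 1 + φ l 0 1 * 0 = x := congrArg Prod.fst hg
    have h3 : φ l 1 0 * 1 + φ l 1 1 * 0 = y := congrArg Prod.snd hg
    rw [h2, h3] at h1
    rw [← h1]; group

end Cfsg.Agent.OddCyclic.Eq.Base
end

-- part: OddCyclic/Eq/SixADefs
section
/-!
# (E_q) of `T_cyc`, `q = 4`, `|V ∩ O₂(C_G(z))| = 8`: the input of the end game

`S` Sylow 2-subgroup of `G`, `V` the natural module (order 16), `J = Z_J` (order 4), `Ω₁Z(S) = ⟨z⟩`,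
`B = C_S(J)`, `Q₁ = C_S(V)`, `M = N_G(V)`, `C_z = C_G(z)`.
-/

set_option autoImplicit false

namespace Cfsg.Agent.OddCyclic.Eq.SixA

open Subgroup

universe u

variable {G : Type u} [Group G]

/-- input of section 6: `q = 4`, `V ∩ O₂(C_G(z))` of order 8 -/
structure Hyp (S V J : Subgroup G) (z : G) : Prop where
  two : IsPGroup 2 S
  smax : ∀ P : Subgroup G, IsPGroup 2 P → S ≤ P → P ≤ S
  VS : V ≤ S
  SV : S ≤ normalizer (V : Set G)
  Vsq : ∀ v ∈ V, v * v = 1
  cardV : Nat.card V = 16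
  JV : J ≤ V
  cardJ : Nat.card J = 4
  SJ : S ≤ normalizer (J : Set G)
  zJ : z ∈ J
  z1 : z ≠ 1
  Sz : ∀ s ∈ S, s * z = z * s
  zS : ∀ x ∈ S, x * x = 1 → (∀ s ∈ S, s * x = x * s) → x = 1 ∨ x = z
  NJ : normalizer (J : Set G) ≤ normalizer (V : Set G)
  fact : ∀ c : G, c * z = z * c → c ∈ normalizer (V : Set G) →
    ∃ d ∈ centralizer (V : Set G), ∃ s ∈ S, c = d * s
  no3 : ∀ x ∈ centralizer (V : Set G), x ^ 3 = 1 → x = 1
  maxl : ∀ U : Subgroup G, U ≠ ⊥ → IsPGroup 2 U → normalizer (V : Set G) ≤ normalizer (U : Set G) →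
    normalizer (U : Set G) ≤ normalizer (V : Set G)
  char2 : ∀ x ∈ normalizer (V : Set G), (∀ r ∈ ZN.o2 (normalizer (V : Set G)), x * r = r * x) →
    x ∈ ZN.o2 (normalizer (V : Set G))
  notle : ∃ c : G, c * z = z * c ∧ c ∉ normalizer (V : Set G)
  cfix : ∀ b ∈ S ⊓ centralizer (J : Set G), b ∉ centralizer (V : Set G) → ∀ v ∈ V, b * v = v * b → v ∈ J
  ccom : ∀ b ∈ S ⊓ centralizer (J : Set G), ∀ v ∈ V, v * b * v⁻¹ * b⁻¹ ∈ J
  csurj : ∀ b ∈ S ⊓ centralizer (J : Set G), b ∉ centralizer (V : Set G) → ∀ c ∈ J,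
    ∃ v ∈ V, v * b * v⁻¹ * b⁻¹ = c
  idx : (S ⊓ centralizer (V : Set G)).relIndex (S ⊓ centralizer (J : Set G)) = 4
  Jo2 : J ≤ ZN.o2 (centralizer {z})
  card8 : Nat.card ↥(V ⊓ ZN.o2 (centralizer {z})) = 8
  exA : ∃ A ≤ S ⊓ centralizer (J : Set G), ¬ A ≤ centralizer (V : Set G) ∧ (∀ x ∈ A, x * x = 1) ∧
    ∀ A' ≤ S, (∀ x ∈ A', x * x = 1) → Nat.card A' ≤ Nat.card A
  cB : ∀ x ∈ S, x * x = 1 → (∀ b ∈ S ⊓ centralizer (J : Set G), b * x = x * b) → x ∈ J
  exk : ∃ k : G, k ^ 3 = 1 ∧ k ∈ normalizer ((S ⊓ centralizer (J : Set G) : Subgroup G) : Set G) ∧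
    k ∈ normalizer (V : Set G) ∧ k ∈ normalizer (J : Set G) ∧ (∀ x ∈ J, k * x * k⁻¹ = x → x = 1) ∧
    (∀ x ∈ V, k * x * k⁻¹ * x⁻¹ ∈ J → x ∈ J) ∧
    ∀ x ∈ S ⊓ centralizer (J : Set G), k * x * k⁻¹ * x⁻¹ ∈ centralizer (V : Set G) →
      x ∈ centralizer (V : Set G)
  exl : ∃ l ∈ normalizer (V : Set G), ∀ x ∈ J, l * x * l⁻¹ ∈ J → x = 1
  cyc3 : ∀ P : Sylow 3 G, IsCyclic P

/-- `V_z = ⟨J ^ C_G(z)⟩` -/
def Vz (J : Subgroup G) (z : G) : Subgroup G :=
  _root_.Subgroup.closure {x | ∃ c : G, c * z = z * c ∧ ∃ a ∈ J, x = c * a * c⁻¹}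

end Cfsg.Agent.OddCyclic.Eq.SixA
end

-- part: OddCyclic/Eq/SixATrans
section
/-!
# (E_q) of `T_cyc`, (6.3): a group generated by the conjugates of a transvection

`H` acts faithfully on the elementary abelian group `N = ⟨λ^H⟩`, `t ≠ 1` is a transvection with centre `λ`, the
stabiliser of `λ` centralises `t` and has no elements of order 3, `O₂(H) = 1`.  Then `|N| = 4` and `3 ∣ |H|`.
-/

set_option autoImplicit false
set_option linter.style.haveILetI false

namespace Cfsg.Agent.OddCyclic.Eq.SixA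

open Subgroup

universe u v

variable {H : Type u} [Group H] {N : Type v} [CommGroup N]

/-- a transvection `t` with centre `lam`, centralised by the stabiliser of `lam` -/
structure Tv (ρ : H →* MulAut N) (lam : N) (t : H) : Prop where
  inj : ∀ h : H, (∀ m, ρ h m = m) → h = 1
  sq : ∀ m : N, m * m = 1
  lam1 : lam ≠ 1
  t1 : t ≠ 1
  tv : ∀ m, ρ t m = m ∨ ρ t m = m * lam
  st : ∀ h, ρ h lam = lam → h * t = t * h
  no3 : ∀ h, ρ h lam = lam → h ^ 3 = 1 → h = 1
  gen : _root_.Subgroup.closure {m | ∃ h, m = ρ h lam} = ⊤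
  core : ∀ R : Subgroup H, R.Normal → IsPGroup 2 R → R = ⊥

/-- a set of commuting involutions generates a group of exponent 2 -/
theorem sq_of_closure {s : Set H} (h1 : ∀ x ∈ s, x * x = 1) (h2 : ∀ x ∈ s, ∀ y ∈ s, x * y = y * x) :
    ∀ x ∈ _root_.Subgroup.closure s, x * x = 1 := by
  have hc : ∀ x ∈ _root_.Subgroup.closure s, ∀ y ∈ s, x * y = y * x := by
    intro x hx y hy
    induction hx using closure_induction with
    | mem x hx => exact h2 x hx y hy
    | one => simp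
    | mul a b _ _ ha hb => rw [mul_assoc, hb, ← mul_assoc, ha, mul_assoc]
    | inv a _ ha => rw [inv_mul_eq_iff_eq_mul, ← mul_assoc, ha, mul_inv_cancel_right]
  intro x hx
  induction hx using closure_induction with
  | mem x hx => exact h1 x hx
  | one => simp
  | mul a b ha hb ia ib =>
    have hab : a * b = b * a := by
      clear ia ib
      induction hb using closure_induction with
      | mem y hy => exact hc a ha y hy
      | one => simp
      | mul c d _ _ hc hd => rw [← mul_assoc, hc, mul_assoc, hd, mul_assoc]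
      | inv c _ hc => rw [eq_inv_mul_iff_mul_eq, ← mul_assoc, ← hc, mul_inv_cancel_right]
    calc a * b * (a * b) = a * (b * a) * b := by group
      _ = a * (a * b) * b := by rw [hab]
      _ = (a * a) * (b * b) := by group
      _ = 1 := by rw [ia, ib, one_mul]
  | inv a _ ia => rw [← mul_inv_rev, ia, inv_one]

theorem two_of_sq {R : Subgroup H} (h : ∀ x ∈ R, x * x = 1) : IsPGroup 2 R := by
  intro x
  refine ⟨1, ?_⟩
  ext
  simpa only [pow_two, _root_.pow_one, _root_.Subgroup.coe_mul, _root_.OneMemClass.coe_one] using h x x.2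

namespace Tv

variable {ρ : H →* MulAut N} {lam : N} {t : H}

/-- conjugates of `t` -/
def T (t x : H) : H := x * t * x⁻¹

theorem T_mul (t h x : H) : T t (h * x) = h * T t x * h⁻¹ := by simp only [T, mul_assoc, _root_.Cfsg.Agent.OddCyclic.Eq.SixA.Tv.T, _root_.mul_assoc, _root_.mul_inv_rev]

theorem map_mul' (h : Tv ρ lam t) (a b : H) (m : N) : ρ (a * b) m = ρ a (ρ b m) := by
  have _ := h
  rw [map_mul]
  rfl

theorem inv_act (h : Tv ρ lam t) (a : H) (m : N) : ρ a⁻¹ (ρ a m) = m := by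
  rw [← h.map_mul', inv_mul_cancel, map_one]
  rfl

theorem act_inv (h : Tv ρ lam t) (a : H) (m : N) : ρ a (ρ a⁻¹ m) = m := by
  rw [← h.map_mul', mul_inv_cancel, map_one]
  rfl

theorem cancel (h : Tv ρ lam t) (a b : N) : a * b * b = a := by rw [mul_assoc, h.sq, mul_one]

theorem tvx (h : Tv ρ lam t) (x : H) (m : N) : ρ (T t x) m = m ∨ ρ (T t x) m = m * ρ x lam := by
  rcases h.tv (ρ x⁻¹ m) with h1 | h1
  · left
    rw [T, h.map_mul', h.map_mul', h1, h.act_inv]
  · right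
    rw [T, h.map_mul', h.map_mul', h1, map_mul, h.act_inv]

theorem T_ne (h : Tv ρ lam t) (x : H) : T t x ≠ 1 := by
  intro h1
  apply h.t1
  have : t = x⁻¹ * T t x * x := by simp [T, mul_assoc]
  rw [this, h1]
  simp

theorem L_ne (h : Tv ρ lam t) (x : H) : ρ x lam ≠ 1 := by
  intro h1
  exact h.lam1 ((ρ x).map_eq_one_iff.1 h1)

theorem exists_moved (h : Tv ρ lam t) (x : H) : ∃ m, ρ (T t x) m = m * ρ x lam := by
  by_contra hcon
  push Not at hcon
  exact h.T_ne x (h.inj _ fun m => (h.tvx x m).resolve_right (hcon m))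

theorem T_self (h : Tv ρ lam t) (x : H) : ρ (T t x) (ρ x lam) = ρ x lam := by
  rcases h.tvx x (ρ x lam) with h1 | h1
  · exact h1
  · rw [h.sq] at h1
    exact absurd ((ρ (T t x)).map_eq_one_iff.1 h1) (h.L_ne x)

theorem T_sq (h : Tv ρ lam t) (x : H) : T t x * T t x = 1 := by
  apply h.inj
  intro m
  rw [h.map_mul']
  rcases h.tvx x m with h1 | h1
  · rw [h1, h1]
  · rw [h1, map_mul, h1, h.T_self, h.cancel]

theorem T_inv (h : Tv ρ lam t) (x : H) : (T t x)⁻¹ = T t x := inv_eq_of_mul_eq_one_left (h.T_sq x)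

theorem comm_of_fix (h : Tv ρ lam t) {g y : H} (hg : ρ g (ρ y lam) = ρ y lam) : g * T t y = T t y * g := by
  have h1 : ρ (y⁻¹ * g * y) lam = lam := by
    rw [h.map_mul', h.map_mul', hg, h.inv_act]
  have h2 := h.st _ h1
  have h3 : g * T t y = y * ((y⁻¹ * g * y) * t) * y⁻¹ := by simp only [T, mul_assoc, _root_.Cfsg.Agent.OddCyclic.Eq.SixA.Tv.T, _root_.mul_assoc, _root_.mul_inv_cancel_left]
  rw [h3, h2]
  simp only [T, mul_assoc, _root_.mul_assoc, _root_.mul_inv_cancel, _root_.mul_one, _root_.Cfsg.Agent.OddCyclic.Eq.SixA.Tv.T]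

theorem T_of_L (h : Tv ρ lam t) {x y : H} (hxy : ρ x lam = ρ y lam) : T t x = T t y := by
  have h1 : ρ (x * y⁻¹) (ρ y lam) = ρ y lam := by
    rw [h.map_mul', h.inv_act, hxy]
  have h2 := h.comm_of_fix h1
  have h3 : T t x = (x * y⁻¹) * T t y * (x * y⁻¹)⁻¹ := by simp only [T, mul_assoc, _root_.Cfsg.Agent.OddCyclic.Eq.SixA.Tv.T, _root_.mul_assoc, _root_.inv_mul_cancel_left, _root_.mul_inv_rev, _root_.inv_inv]
  rw [h3, h2, mul_inv_cancel_right]

theorem L_of_T (h : Tv ρ lam t) {x y : H} (hxy : T t x = T t y) : ρ x lam = ρ y lam := by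
  obtain ⟨m, hm⟩ := h.exists_moved x
  rcases h.tvx y m with h1 | h1
  · rw [← hxy, hm] at h1
    exact absurd (mul_eq_left.1 h1) (h.L_ne x)
  · rw [← hxy, hm] at h1
    exact mul_left_cancel h1

theorem fix_of_comm (h : Tv ρ lam t) {g y : H} (hg : g * T t y = T t y * g) : ρ g (ρ y lam) = ρ y lam := by
  have h1 : T t (g * y) = T t y := by
    rw [T_mul, hg, mul_inv_cancel_right]
  have h2 := h.L_of_T h1
  rwa [h.map_mul'] at h2

/-- commuting transvections -/
def R (t x y : H) : Prop := T t x * T t y = T t y * T t x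

theorem R_symm {x y : H} (hxy : R t x y) : R t y x := hxy.symm

theorem R_conj {x y : H} (g : H) (hxy : R t x y) : R t (g * x) (g * y) := by
  unfold R at hxy ⊢
  rw [T_mul, T_mul]
  calc g * T t x * g⁻¹ * (g * T t y * g⁻¹) = g * (T t x * T t y) * g⁻¹ := by group
    _ = g * (T t y * T t x) * g⁻¹ := by rw [hxy]
    _ = g * T t y * g⁻¹ * (g * T t x * g⁻¹) := by group

theorem move (h : Tv ρ lam t) {x y : H} (hxy : ¬ R t x y) : ρ (T t x) (ρ y lam) = ρ y lam * ρ x lam := by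
  rcases h.tvx x (ρ y lam) with h1 | h1
  · exact absurd (h.comm_of_fix h1) hxy
  · exact h1

theorem cube (h : Tv ρ lam t) {x y : H} (hxy : ¬ R t x y) : (T t x * T t y) ^ 3 = 1 := by
  have h1 : ρ (T t x * y) lam = ρ (T t y * x) lam := by
    rw [h.map_mul', h.map_mul', h.move hxy, h.move (fun h' => hxy (R_symm h')), mul_comm]
  have h2 := h.T_of_L h1
  rw [T_mul, T_mul, h.T_inv, h.T_inv] at h2
  calc (T t x * T t y) ^ 3 = (T t x * T t y * T t x) * (T t y * T t x * T t y) := by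
        simp only [pow_succ, pow_zero, one_mul, mul_assoc]
    _ = (T t y * T t x * T t y) * (T t y * T t x * T t y) := by rw [h2]
    _ = T t y * T t x * (T t y * T t y) * T t x * T t y := by simp only [mul_assoc]
    _ = T t y * (T t x * T t x) * T t y := by rw [h.T_sq]; simp only [mul_assoc, one_mul]
    _ = 1 := by rw [h.T_sq, mul_one, h.T_sq]

theorem no3' (h : Tv ρ lam t) {g x : H} (hg : g * T t x = T t x * g) (h3 : g ^ 3 = 1) : g = 1 := by
  have h1 := h.fix_of_comm hg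
  have h2 : ρ (x⁻¹ * g * x) lam = lam := by
    rw [h.map_mul', h.map_mul', h1, h.inv_act]
  have h4 : (x⁻¹ * g * x) ^ 3 = 1 := by
    have : (x⁻¹ * g * x) ^ 3 = x⁻¹ * g ^ 3 * x := by
      simp only [pow_succ, pow_zero, one_mul]
      group
    rw [this, h3]
    simp
  have h5 := h.no3 _ h2 h4
  have : g = x * (x⁻¹ * g * x) * x⁻¹ := by group
  rw [this, h5]
  simp

theorem R_trans (h : Tv ρ lam t) {u v w : H} (h1 : R t u v) (h2 : R t v w) : R t u w := by
  by_contra h3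
  have h4 := h.cube h3
  have h5 : (T t u * T t w) * T t v = T t v * (T t u * T t w) := by
    unfold R at h1 h2
    rw [mul_assoc, ← h2, ← mul_assoc, h1, mul_assoc]
  have h6 := h.no3' h5 h4
  apply h3
  have h7 : T t u = T t w := by
    rw [← h.T_inv w]
    exact eq_inv_of_mul_eq_one_left h6
  unfold R
  rw [h7]

theorem R_refl (x : H) : R t x x := rfl

theorem three (h : Tv ρ lam t) {x y : H} (hxy : ¬ R t x y) (w : H) :
    R t w x ∨ R t w y ∨ R t w (T t x * y) := by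
  by_cases h1 : R t w x
  · exact Or.inl h1
  by_cases h2 : R t w y
  · exact Or.inr (Or.inl h2)
  right
  right
  apply h.comm_of_fix
  rw [h.map_mul', h.move hxy, map_mul, h.move h1, h.move h2]
  calc ρ y lam * ρ w lam * (ρ x lam * ρ w lam) = ρ y lam * ρ x lam * (ρ w lam * ρ w lam) := by
        rw [mul_assoc, mul_assoc]
        congr 1
        rw [mul_left_comm]
    _ = ρ y lam * ρ x lam := by rw [h.sq, mul_one]

/-- the kernel on the classes -/
def Kr (h : Tv ρ lam t) : Subgroup H where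
  carrier := {g | ∀ a, R t a (g * a)}
  mul_mem' := by
    intro g g' hg hg' a
    rw [mul_assoc]
    exact h.R_trans (hg' a) (hg _)
  one_mem' := by
    intro a
    rw [one_mul]
    exact R_refl a
  inv_mem' := by
    intro g hg a
    have := hg (g⁻¹ * a)
    rw [mul_inv_cancel_left] at this
    exact R_symm this

theorem Kr_normal (h : Tv ρ lam t) : h.Kr.Normal := by
  constructor
  intro g hg x a
  have h1 := R_conj x (hg (x⁻¹ * a))
  rw [mul_inv_cancel_left] at h1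
  rwa [mul_assoc, mul_assoc]

theorem mem_Kr (h : Tv ρ lam t) {a b : H} (hab : R t a b) : T t a * T t b ∈ h.Kr := by
  intro w
  by_cases h1 : R t w a
  · have h2 := h.R_trans h1 hab
    have h3 : T t (T t a * T t b * w) = T t w := by
      unfold R at h1 h2
      rw [T_mul, mul_inv_rev, h.T_inv, h.T_inv]
      calc T t a * T t b * T t w * (T t b * T t a) = T t a * (T t b * T t w) * T t b * T t a := by
            simp only [mul_assoc]
        _ = T t a * T t w * (T t b * T t b) * T t a := by rw [← h2]; simp only [mul_assoc]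
        _ = T t w * (T t a * T t a) := by rw [h.T_sq, mul_one, ← h1]; simp only [mul_assoc]
        _ = T t w := by rw [h.T_sq, mul_one]
    unfold R
    rw [h3]
  · have h2 : ¬ R t w b := fun h' => h1 (h.R_trans h' (R_symm hab))
    have h3 : R t (T t b * w) (T t a * w) := by
      rcases h.three (x := a) (y := w) (fun h' => h1 (R_symm h')) (T t b * w) with h3 | h3 | h3
      · exfalso
        have h4 := h.R_trans h3 hab
        have h5 := R_conj (T t b) h4
        rw [← mul_assoc, h.T_sq, one_mul] at h5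
        apply h2
        unfold R at h5 ⊢
        have h6 : T t (T t b * b) = T t b := by
          rw [T_mul, mul_inv_cancel_right]
        rwa [h6] at h5
      · exfalso
        have h4 := h.fix_of_comm (R_symm h3)
        rw [h.map_mul', h.move (fun h' => h2 (R_symm h')), map_mul, h.T_self, h.move h2] at h4
        have h5 : ρ b lam * ρ w lam = ρ b lam := mul_left_cancel h4
        exact h.L_ne w (mul_eq_left.1 h5)
      · exact h3
    have h4 := R_conj (T t a) h3
    rw [← mul_assoc (T t a) (T t a) w, h.T_sq, one_mul] at h4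
    rw [mul_assoc]
    exact R_symm h4

/-- the products of the transvections of one class -/
def Acl (t a : H) : Subgroup H := _root_.Subgroup.closure {x | ∃ b c, R t a b ∧ R t a c ∧ x = T t b * T t c}

theorem Acl_sq (h : Tv ρ lam t) (a : H) : ∀ x ∈ Acl t a, x * x = 1 := by
  have hab : ∀ b c, R t a b → R t a c → T t b * T t c = T t c * T t b := fun b c hb hc =>
    h.R_trans (R_symm hb) hc
  apply sq_of_closure
  · rintro x ⟨b, c, hb, hc, rfl⟩
    calc T t b * T t c * (T t b * T t c) = T t b * (T t c * T t b) * T t c := by simp only [mul_assoc]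
      _ = (T t b * T t b) * (T t c * T t c) := by rw [← hab b c hb hc]; simp only [mul_assoc]
      _ = 1 := by rw [h.T_sq, h.T_sq, one_mul]
  · rintro x ⟨b, c, hb, hc, rfl⟩ y ⟨b', c', hb', hc', rfl⟩
    have e1 : Commute (T t b) (T t b') := hab _ _ hb hb'
    have e2 : Commute (T t b) (T t c') := hab _ _ hb hc'
    have e3 : Commute (T t c) (T t b') := hab _ _ hc hb'
    have e4 : Commute (T t c) (T t c') := hab _ _ hc hc'
    exact (Commute.mul_left (e1.mul_right e2) (e3.mul_right e4)).eq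

theorem Acl_le (h : Tv ρ lam t) (a : H) : Acl t a ≤ h.Kr := by
  unfold Acl
  rw [closure_le]
  rintro x ⟨b, c, hb, hc, rfl⟩
  exact h.mem_Kr (h.R_trans (R_symm hb) hc)

theorem Kr_le (h : Tv ρ lam t) (a : H) : h.Kr ≤ normalizer (Acl t a : Set H) := by
  have key : ∀ g ∈ h.Kr, ∀ x ∈ Acl t a, g * x * g⁻¹ ∈ Acl t a := by
    intro g hg x hx
    induction hx using closure_induction with
    | mem x hx =>
      obtain ⟨b, c, hb, hc, rfl⟩ := hx
      apply Subgroup.subset_closure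
      refine ⟨g * b, g * c, h.R_trans hb (hg b), h.R_trans hc (hg c), ?_⟩
      rw [T_mul, T_mul]
      group
    | one => simp
    | mul x y _ _ hx hy =>
      have : g * (x * y) * g⁻¹ = (g * x * g⁻¹) * (g * y * g⁻¹) := by group
      rw [this]
      exact (Acl t a).mul_mem hx hy
    | inv x _ hx =>
      have : g * x⁻¹ * g⁻¹ = (g * x * g⁻¹)⁻¹ := by group
      rw [this]
      exact (Acl t a).inv_mem hx
  intro g hg
  rw [mem_normalizer_iff]
  intro x
  constructor
  · exact key g hg x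
  · intro hx
    have := key g⁻¹ (h.Kr.inv_mem hg) _ hx
    simpa [mul_assoc] using this

theorem eq_of_R (h : Tv ρ lam t) {a b : H} (hab : R t a b) : T t a = T t b := by
  have h1 : Acl t a ≤ ZN.o2 h.Kr := ZN.le_o2 (h.Acl_le a) (two_of_sq (h.Acl_sq a)) (h.Kr_le a)
  have h2 : (ZN.o2 h.Kr).Normal := by
    have h3 := ZN.normalizer_le_normalizer_o2 h.Kr
    haveI := h.Kr_normal
    rw [normalizer_eq_top (H := h.Kr)] at h3
    exact normalizer_eq_top_iff.1 (top_le_iff.1 h3)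
  have h3 := h.core _ h2 (ZN.isPGroup_o2 _)
  rw [h3] at h1
  have h4 : T t a * T t b ∈ Acl t a := subset_closure ⟨a, b, R_refl a, hab, rfl⟩
  have h5 := mem_bot.1 (h1 h4)
  rw [← h.T_inv b]
  exact eq_inv_of_mul_eq_one_left h5

theorem exists_pair (h : Tv ρ lam t) : ∃ x y, ¬ R t x y := by
  by_contra hcon
  push Not at hcon
  set D : Subgroup H := _root_.Subgroup.closure {x | ∃ a, x = T t a}
  have h1 : ∀ x ∈ D, x * x = 1 := by
    apply sq_of_closure
    · rintro x ⟨a, rfl⟩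
      exact h.T_sq a
    · rintro x ⟨a, rfl⟩ y ⟨b, rfl⟩
      exact hcon a b
  have h2 : D.Normal := by
    constructor
    intro x hx g
    induction hx using closure_induction with
    | mem x hx =>
      obtain ⟨a, rfl⟩ := hx
      exact subset_closure ⟨g * a, (T_mul _ _ _).symm⟩
    | one => simp
    | mul x y _ _ hx hy =>
      have : g * (x * y) * g⁻¹ = (g * x * g⁻¹) * (g * y * g⁻¹) := by group
      rw [this]
      exact D.mul_mem hx hy
    | inv x _ hx =>
      have : g * x⁻¹ * g⁻¹ = (g * x * g⁻¹)⁻¹ := by group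
      rw [this]
      exact D.inv_mem hx
  have h3 := h.core D h2 (two_of_sq h1)
  have h4 : T t 1 ∈ D := subset_closure ⟨1, rfl⟩
  rw [h3] at h4
  exact h.T_ne 1 (mem_bot.1 h4)

/-- **(6.3)** -/
theorem main [Finite H] (h : Tv ρ lam t) : Nat.card N = 4 ∧ 3 ∣ Nat.card H := by
  obtain ⟨x, y, hxy⟩ := h.exists_pair
  have hne : ρ x lam ≠ ρ y lam := by
    intro h1
    apply hxy
    unfold R
    rw [h.T_of_L h1]
  constructor
  · set a := ρ x lam with ha
    set b := ρ y lam with hb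
    have ha1 : a ≠ 1 := h.L_ne x
    have hb1 : b ≠ 1 := h.L_ne y
    have hmem : ∀ m : N, m = 1 ∨ m = a ∨ m = b ∨ m = b * a := by
      intro m
      have hm : m ∈ _root_.Subgroup.closure {m | ∃ h, m = ρ h lam} := by rw [h.gen]; trivial
      induction hm using closure_induction with
      | mem m hm =>
        obtain ⟨w, rfl⟩ := hm
        rcases h.three hxy w with h1 | h1 | h1
        · exact Or.inr (Or.inl (h.L_of_T (h.eq_of_R h1)))
        · exact Or.inr (Or.inr (Or.inl (h.L_of_T (h.eq_of_R h1))))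
        · right
          right
          right
          rw [h.L_of_T (h.eq_of_R h1), h.map_mul', h.move hxy]
      | one => exact Or.inl rfl
      | mul m m' _ _ h1 h2 =>
        have e1 : a * a = 1 := h.sq a
        have e2 : b * b = 1 := h.sq b
        rcases h1 with rfl | rfl | rfl | rfl <;> rcases h2 with rfl | rfl | rfl | rfl
        · simp
        · simp
        · simp
        · simp only [_root_.one_mul, _root_.mul_eq_right, _root_.mul_eq_left, _root_.or_true]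
        · simp
        · left; exact e1
        · right; right; right; exact mul_comm _ _
        · right; right; left
          rw [mul_comm b a, ← mul_assoc, e1, one_mul]
        · simp
        · simp
        · left; exact e2
        · right; left
          rw [← mul_assoc, e2, one_mul]
        · simp only [_root_.mul_one, _root_.mul_eq_right, _root_.mul_eq_left, _root_.or_true]
        · right; right; left
          rw [mul_assoc, e1, mul_one]
        · right; left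
          rw [mul_right_comm, e2, one_mul]
        · left
          exact h.sq _
      | inv m _ h1 =>
        have : m⁻¹ = m := inv_eq_of_mul_eq_one_left (h.sq m)
        rwa [this]
    have hab : b * a ≠ 1 := by
      intro h1
      apply hne
      have : a⁻¹ = a := inv_eq_of_mul_eq_one_left (h.sq a)
      rw [← this]
      exact inv_eq_of_mul_eq_one_left h1
    have huniv : (Set.univ : Set N) = {1, a, b, b * a} := by
      ext m
      simpa using hmem m
    have h0 : Nat.card N = (Set.univ : Set N).ncard := (Set.ncard_univ N).symm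
    rw [h0, huniv]
    rw [Set.ncard_insert_of_notMem, Set.ncard_insert_of_notMem, Set.ncard_insert_of_notMem,
      Set.ncard_singleton]
    · simp only [Set.mem_singleton_iff]
      intro h1
      exact ha1 ((mul_eq_left (a := b)).1 h1.symm)
    · simp only [Set.mem_insert_iff, Set.mem_singleton_iff, not_or]
      refine ⟨hne, ?_⟩
      intro h1
      exact hb1 ((mul_eq_right (b := a)).1 h1.symm)
    · simp only [Set.mem_insert_iff, Set.mem_singleton_iff, not_or]
      exact ⟨ha1.symm, hb1.symm, hab.symm⟩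
  · have h1 := h.cube hxy
    have h2 : T t x * T t y ≠ 1 := by
      intro h2
      apply hxy
      have : T t x = T t y := by
        rw [← h.T_inv y]
        exact eq_inv_of_mul_eq_one_left h2
      unfold R
      rw [this]
    haveI : Fact (Nat.Prime 3) := ⟨Nat.prime_three⟩
    have h3 : orderOf (T t x * T t y) = 3 := orderOf_eq_prime h1 h2
    rw [← h3]
    exact _root_.orderOf_dvd_natCard _

end Tv

end Cfsg.Agent.OddCyclic.Eq.SixA
end

-- part: OddCyclic/Eq/SixABase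
section
/-!
# (E_q) of `T_cyc`, (6.1): `V_z`, `K_z = C(V_z / ⟨z⟩)`
-/

set_option autoImplicit false
set_option linter.style.haveILetI false

namespace Cfsg.Agent.OddCyclic.Eq.SixA

open Subgroup

universe u

/-- four different elements of a set of size 4 -/
theorem ncard_four {α : Type u} {s : Set α} (hs : s.ncard = 4) {a b c d : α} (ha : a ∈ s) (hb : b ∈ s)
    (hc : c ∈ s) (hd : d ∈ s) (h1 : a ≠ b) (h2 : a ≠ c) (h3 : a ≠ d) (h4 : b ≠ c) (h5 : b ≠ d) (h6 : c ≠ d) :
    ∀ x ∈ s, x = a ∨ x = b ∨ x = c ∨ x = d := by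
  have hfin : s.Finite := Set.finite_of_ncard_ne_zero (by omega)
  have hcard : ({a, b, c, d} : Set α).ncard = 4 := by
    rw [Set.ncard_insert_of_notMem, Set.ncard_insert_of_notMem, Set.ncard_insert_of_notMem,
      Set.ncard_singleton]
    · simpa using h6
    · simpa using ⟨h4, h5⟩
    · simpa using ⟨h1, h2, h3⟩
  have hsub : ({a, b, c, d} : Set α) ⊆ s := by
    intro x hx
    simp only [Set.mem_insert_iff, Set.mem_singleton_iff] at hx
    rcases hx with rfl | rfl | rfl | rfl <;> assumption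
  have heq := Set.eq_of_subset_of_ncard_le hsub (by rw [hs, hcard]) hfin
  intro x hx
  rw [← heq] at hx
  simpa using hx

variable {G : Type u} [Group G] {S V J : Subgroup G} {z : G}

/-- `C_G(z)` -/
abbrev Cz (z : G) : Subgroup G := centralizer {z}

theorem mem_Cz {c : G} : c ∈ Cz z ↔ c * z = z * c := mem_centralizer_singleton_iff

theorem Cz_conj {c : G} (hc : c ∈ Cz z) : c * z * c⁻¹ = z := by
  rw [mem_Cz.1 hc, mul_inv_cancel_right]

theorem J_le_Vz (J : Subgroup G) (z : G) : J ≤ Vz J z := by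
  intro a ha
  exact Subgroup.subset_closure ⟨1, by simp, a, ha, by simp⟩

theorem Vz_conj {c w : G} (hc : c ∈ Cz z) (hw : w ∈ Vz J z) : c * w * c⁻¹ ∈ Vz J z := by
  induction hw using closure_induction with
  | mem x hx =>
    obtain ⟨d, hd, a, ha, rfl⟩ := hx
    exact Subgroup.subset_closure ⟨c * d, mem_Cz.1 ((Cz z).mul_mem hc (mem_Cz.2 hd)), a, ha, by group⟩
  | one => simp
  | mul x y _ _ hx hy =>
    have : c * (x * y) * c⁻¹ = (c * x * c⁻¹) * (c * y * c⁻¹) := by group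
    rw [this]
    exact (Vz J z).mul_mem hx hy
  | inv x _ hx =>
    have : c * x⁻¹ * c⁻¹ = (c * x * c⁻¹)⁻¹ := by group
    rw [this]
    exact (Vz J z).inv_mem hx

theorem Cz_le_normalizer (J : Subgroup G) (z : G) : Cz z ≤ normalizer (Vz J z : Set G) := by
  intro c hc
  rw [mem_normalizer_iff]
  intro x
  constructor
  · exact Vz_conj hc
  · intro hx
    have := Vz_conj ((Cz z).inv_mem hc) hx
    simpa [mul_assoc] using this

theorem Cz_le_normalizer_zpowers (z : G) : Cz z ≤ normalizer (zpowers z : Set G) := by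
  have key : ∀ c ∈ Cz z, ∀ x ∈ zpowers z, c * x * c⁻¹ = x := by
    intro c hc x hx
    obtain ⟨n, rfl⟩ := mem_zpowers_iff.1 hx
    rw [mul_inv_eq_iff_eq_mul]
    exact (Commute.zpow_right (mem_Cz.1 hc : Commute c z) n).eq
  intro c hc
  rw [mem_normalizer_iff]
  intro x
  constructor
  · intro hx
    rw [key c hc x hx]
    exact hx
  · intro hx
    have h1 := key c⁻¹ ((Cz z).inv_mem hc) _ hx
    have h2 : x = c * x * c⁻¹ := by
      rw [← h1]
      group
    rw [h2]
    exact hx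

/-- `K_z = C_{C_G(z)}(V_z / ⟨z⟩)` -/
def Kz (J : Subgroup G) (z : G) : Subgroup G where
  carrier := {c | c ∈ Cz z ∧ ∀ w ∈ Vz J z, c * w * c⁻¹ * w⁻¹ ∈ zpowers z}
  mul_mem' := by
    rintro c d ⟨hc, hc'⟩ ⟨hd, hd'⟩
    refine ⟨(Cz z).mul_mem hc hd, fun w hw => ?_⟩
    have h1 : c * d * w * (c * d)⁻¹ * w⁻¹ =
        (c * (d * w * d⁻¹) * c⁻¹ * (d * w * d⁻¹)⁻¹) * (d * w * d⁻¹ * w⁻¹) := by group
    rw [h1]
    exact (zpowers z).mul_mem (hc' _ (Vz_conj hd hw)) (hd' w hw)
  one_mem' := ⟨(Cz z).one_mem, fun w hw => by simp⟩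
  inv_mem' := by
    rintro c ⟨hc, hc'⟩
    refine ⟨(Cz z).inv_mem hc, fun w hw => ?_⟩
    have h0 : c⁻¹ * w * c⁻¹⁻¹ ∈ Vz J z := Vz_conj ((Cz z).inv_mem hc) hw
    have h1 : c⁻¹ * w * c⁻¹⁻¹ * w⁻¹ = (c * (c⁻¹ * w * c⁻¹⁻¹) * c⁻¹ * (c⁻¹ * w * c⁻¹⁻¹)⁻¹)⁻¹ := by group
    rw [h1]
    exact (zpowers z).inv_mem (hc' _ h0)

theorem Kz_le (J : Subgroup G) (z : G) : Kz J z ≤ Cz z := fun _ h => h.1

theorem Kz_conj {c k : G} (hc : c ∈ Cz z) (hk : k ∈ Kz J z) : c * k * c⁻¹ ∈ Kz J z := by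
  refine ⟨(Cz z).mul_mem ((Cz z).mul_mem hc hk.1) ((Cz z).inv_mem hc), fun w hw => ?_⟩
  have h0 : c⁻¹ * w * c ∈ Vz J z := by
    have := Vz_conj ((Cz z).inv_mem hc) hw
    rwa [inv_inv] at this
  have h1 : c * k * c⁻¹ * w * (c * k * c⁻¹)⁻¹ * w⁻¹ =
      c * (k * (c⁻¹ * w * c) * k⁻¹ * (c⁻¹ * w * c)⁻¹) * c⁻¹ := by group
  rw [h1]
  exact (mem_normalizer_iff.1 (Cz_le_normalizer_zpowers z hc) _).1 (hk.2 _ h0)

theorem Cz_le_normalizer_Kz (J : Subgroup G) (z : G) : Cz z ≤ normalizer (Kz J z : Set G) := by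
  intro c hc
  rw [mem_normalizer_iff]
  intro x
  constructor
  · exact Kz_conj hc
  · intro hx
    have := Kz_conj ((Cz z).inv_mem hc) hx
    simpa [mul_assoc] using this

/-- exponent 2 implies commutative -/
theorem comm_of_sq {A : Subgroup G} (hA : ∀ x ∈ A, x * x = 1) {x y : G} (hx : x ∈ A) (hy : y ∈ A) :
    x * y = y * x := by
  have h1 := hA _ (A.mul_mem hx hy)
  have h2 := hA x hx
  have h3 := hA y hy
  calc x * y = x * (x * y * (x * y)) * y := by rw [h1, mul_one]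
    _ = (x * x) * (y * x) * (y * y) := by group
    _ = y * x := by rw [h2, h3, one_mul, mul_one]

namespace Hyp

theorem z_sq (h : Hyp S V J z) : z * z = 1 := h.Vsq z (h.JV h.zJ)

theorem mem_zp (h : Hyp S V J z) {x : G} : x ∈ zpowers z ↔ x = 1 ∨ x = z := by
  constructor
  · intro hx
    obtain ⟨n, rfl⟩ := mem_zpowers_iff.1 hx
    rcases Int.even_or_odd' n with ⟨k, rfl | rfl⟩
    · left
      rw [zpow_mul, zpow_two, h.z_sq, one_zpow]
    · right
      rw [zpow_add, zpow_mul, zpow_two, h.z_sq, one_zpow, one_mul, zpow_one]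
  · rintro (rfl | rfl)
    · exact one_mem _
    · exact mem_zpowers _

theorem zp_le (h : Hyp S V J z) : zpowers z ≤ J := by
  rw [zpowers_le]
  exact h.zJ

theorem exists_a (h : Hyp S V J z) : ∃ a ∈ J, a ∉ zpowers z := by
  by_contra hcon
  push Not at hcon
  have h1 : Nat.card J ≤ Nat.card (zpowers z) := by
    haveI : Finite (zpowers z) := by
      have h2 : (zpowers z : Set G) ⊆ {1, z} := fun x hx => by simpa using h.mem_zp.1 hx
      exact Set.Finite.subset (Set.toFinite _) h2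
    exact Nat.card_mono (Set.toFinite _) hcon
  have h2 : Nat.card (zpowers z) = 2 := by
    rw [Nat.card_zpowers]
    exact orderOf_eq_prime (by rw [pow_two]; exact h.z_sq) h.z1
  rw [h2, h.cardJ] at h1
  omega

theorem J_cases (h : Hyp S V J z) {a : G} (ha : a ∈ J) (haz : a ∉ zpowers z) {x : G} (hx : x ∈ J) :
    x = 1 ∨ x = z ∨ x = a ∨ x = a * z := by
  rw [h.mem_zp, not_or] at haz
  have hc : (J : Set G).ncard = 4 := h.cardJ
  have hz1 := h.z1
  refine ncard_four hc J.one_mem h.zJ ha (J.mul_mem ha h.zJ) (Ne.symm hz1) (Ne.symm haz.1) ?_ (Ne.symm haz.2)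
    ?_ ?_ x hx
  · intro h1
    apply haz.2
    have : a = z⁻¹ := eq_inv_of_mul_eq_one_left h1.symm
    rw [this]
    exact inv_eq_of_mul_eq_one_left h.z_sq
  · intro h1
    exact haz.1 (mul_eq_right.1 h1.symm)
  · intro h1
    exact hz1 (mul_eq_left.1 h1.symm)

/-- an element of `C_G(z)` fixing `λ` normalises `J` -/
theorem mem_nJ (h : Hyp S V J z) {a : G} (ha : a ∈ J) (haz : a ∉ zpowers z) {c : G} (hc : c ∈ Cz z)
    (h1 : c * a * c⁻¹ * a⁻¹ ∈ zpowers z) : c ∈ normalizer (J : Set G) := by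
  have hca : c * a * c⁻¹ ∈ J := by
    have := J.mul_mem (h.zp_le h1) ha
    rwa [inv_mul_cancel_right] at this
  have key : ∀ x ∈ J, c * x * c⁻¹ ∈ J := by
    intro x hx
    rcases h.J_cases ha haz hx with rfl | rfl | rfl | rfl
    · simp
    · rw [Cz_conj hc]; exact h.zJ
    · exact hca
    · have : c * (a * z) * c⁻¹ = (c * a * c⁻¹) * (c * z * c⁻¹) := by group
      rw [this, Cz_conj hc]
      exact J.mul_mem hca h.zJ
  have hfin : Finite J := Nat.finite_of_card_ne_zero (by rw [h.cardJ]; decide)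
  have hmap : J.map (MulAut.conj c).toMonoidHom = J := by
    have hle : J.map (MulAut.conj c).toMonoidHom ≤ J := by
      rintro _ ⟨x, hx, rfl⟩
      exact key x hx
    apply eq_of_le_of_card_ge hle
    rw [Subgroup.card_map_of_injective (MulAut.conj c).injective]
  exact ZN.mem_normalizer_of_map_conj_eq hmap

theorem nJ_act (h : Hyp S V J z) {a : G} (ha : a ∈ J) (haz : a ∉ zpowers z) {c : G} (hc : c ∈ Cz z)
    (h1 : c ∈ normalizer (J : Set G)) : c * a * c⁻¹ * a⁻¹ ∈ zpowers z := by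
  have h2 : c * a * c⁻¹ ∈ J := (mem_normalizer_iff.1 h1 a).1 ha
  rcases h.J_cases ha haz h2 with h3 | h3 | h3 | h3
  · exfalso
    apply haz
    have : a = 1 := by
      have h4 : a = c⁻¹ * (c * a * c⁻¹) * c := by group
      rw [h4, h3]
      simp
    rw [this]
    exact one_mem _
  · exfalso
    apply haz
    have : a = z := by
      have h4 : a = c⁻¹ * (c * a * c⁻¹) * c := by group
      have h5 := Cz_conj ((Cz z).inv_mem hc)
      rw [inv_inv] at h5
      rw [h4, h3, h5]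
    rw [this]
    exact mem_zpowers _
  · rw [h3]
    simp
  · rw [h3]
    have h5 : a * z * a⁻¹ = z := by
      rw [comm_of_sq h.Vsq (h.JV ha) (h.JV h.zJ), mul_inv_cancel_right]
    rw [h5]
    exact mem_zpowers _

theorem J_comm (h : Hyp S V J z) {x y : G} (hx : x ∈ J) (hy : y ∈ J) : x * y = y * x :=
  comm_of_sq h.Vsq (h.JV hx) (h.JV hy)

theorem J_le_Cz (h : Hyp S V J z) : J ≤ Cz z := fun _ hx => mem_Cz.2 (h.J_comm hx h.zJ)

theorem V_le_Cz (h : Hyp S V J z) : V ≤ Cz z := fun _ hx => mem_Cz.2 (comm_of_sq h.Vsq hx (h.JV h.zJ))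

theorem S_le_Cz (h : Hyp S V J z) : S ≤ Cz z := fun _ hx => mem_Cz.2 (h.Sz _ hx)

theorem Vz_le_Cz (h : Hyp S V J z) : Vz J z ≤ Cz z := by
  unfold Vz
  rw [closure_le]
  rintro _ ⟨c, hc, a, ha, rfl⟩
  have hc' : c ∈ Cz z := mem_Cz.2 hc
  exact (Cz z).mul_mem ((Cz z).mul_mem hc' (h.J_le_Cz ha)) ((Cz z).inv_mem hc')

theorem Vz_le_o2 (h : Hyp S V J z) : Vz J z ≤ ZN.o2 (Cz z) := by
  unfold Vz
  rw [closure_le]
  rintro _ ⟨c, hc, a, ha, rfl⟩
  exact (mem_normalizer_iff.1 (ZN.le_normalizer_o2 (Cz z) (mem_Cz.2 hc)) a).1 (h.Jo2 ha)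

theorem o2_le_S (h : Hyp S V J z) : ZN.o2 (Cz z) ≤ S := by
  have h1 : IsPGroup 2 ↥(S ⊔ ZN.o2 (Cz z)) :=
    IsPGroup.to_sup_of_normal_right' h.two (ZN.isPGroup_o2 _)
      (h.S_le_Cz.trans (ZN.le_normalizer_o2 (Cz z)))
  exact le_sup_right.trans (h.smax _ h1 le_sup_left)

theorem Vz_le_S (h : Hyp S V J z) : Vz J z ≤ S := h.Vz_le_o2.trans h.o2_le_S

/-- `[V_z, Q] ≤ ⟨z⟩` -/
theorem o2_le_Kz (h : Hyp S V J z) : ZN.o2 (Cz z) ≤ Kz J z := by
  obtain ⟨a, ha, haz⟩ := h.exists_a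
  intro q hq
  refine ⟨ZN.o2_le _ hq, fun w hw => ?_⟩
  have hJ : ∀ q ∈ ZN.o2 (Cz z), ∀ x ∈ J, q * x * q⁻¹ * x⁻¹ ∈ zpowers z := by
    intro q hq x hx
    by_cases hxz : x ∈ zpowers z
    · rcases h.mem_zp.1 hxz with rfl | rfl
      · simp
      · rw [Cz_conj (ZN.o2_le _ hq)]
        simp
    · exact h.nJ_act hx hxz (ZN.o2_le _ hq) (h.SJ (h.o2_le_S hq))
  induction hw using closure_induction with
  | mem x hx =>
    obtain ⟨c, hc, b, hb, rfl⟩ := hx
    have hc' : c ∈ Cz z := mem_Cz.2 hc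
    have h1 : c⁻¹ * q * c ∈ ZN.o2 (Cz z) := by
      have := (mem_normalizer_iff.1 (ZN.le_normalizer_o2 (Cz z) ((Cz z).inv_mem hc')) q).1 hq
      rwa [inv_inv] at this
    have h2 : q * (c * b * c⁻¹) * q⁻¹ * (c * b * c⁻¹)⁻¹ =
        c * ((c⁻¹ * q * c) * b * (c⁻¹ * q * c)⁻¹ * b⁻¹) * c⁻¹ := by group
    rw [h2]
    exact (mem_normalizer_iff.1 (Cz_le_normalizer_zpowers z hc') _).1 (hJ _ h1 b hb)
  | one => simp
  | mul x y hx hy ihx ihy =>
    have h2 : q * (x * y) * q⁻¹ * (x * y)⁻¹ = (q * x * q⁻¹ * x⁻¹) * (x * (q * y * q⁻¹ * y⁻¹) * x⁻¹) := by group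
    rw [h2]
    exact (zpowers z).mul_mem ihx
      ((mem_normalizer_iff.1 (Cz_le_normalizer_zpowers z (h.Vz_le_Cz hx)) _).1 ihy)
  | inv x hx ihx =>
    have h2 : q * x⁻¹ * q⁻¹ * x⁻¹⁻¹ = x⁻¹ * (q * x * q⁻¹ * x⁻¹)⁻¹ * x⁻¹⁻¹ := by group
    rw [h2]
    exact (mem_normalizer_iff.1 (Cz_le_normalizer_zpowers z ((Cz z).inv_mem (h.Vz_le_Cz hx))) _).1
      ((zpowers z).inv_mem ihx)

theorem Kz_le_nJ (h : Hyp S V J z) : Kz J z ≤ normalizer (J : Set G) := by
  obtain ⟨a, ha, haz⟩ := h.exists_a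
  intro k hk
  exact h.mem_nJ ha haz hk.1 (hk.2 a (J_le_Vz J z ha))

/-- `V ∩ K_z = V ∩ O₂(C_z)` -/
theorem V_inf_Kz (h : Hyp S V J z) {v : G} (hv : v ∈ V) (hk : v ∈ Kz J z) : v ∈ ZN.o2 (Cz z) := by
  have h1 : V ⊓ Kz J z ≤ ZN.o2 (Kz J z) := by
    apply ZN.le_o2 inf_le_right
    · exact two_of_sq fun x hx => h.Vsq x hx.1
    · intro k hk
      have hkV : k ∈ normalizer (V : Set G) := h.NJ (h.Kz_le_nJ hk)
      rw [mem_normalizer_iff]
      intro x
      constructor
      · intro hx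
        exact ⟨(mem_normalizer_iff.1 hkV x).1 hx.1,
          (Kz J z).mul_mem ((Kz J z).mul_mem hk hx.2) ((Kz J z).inv_mem hk)⟩
      · intro hx
        refine ⟨(mem_normalizer_iff.1 hkV x).2 hx.1, ?_⟩
        have h3 := (Kz J z).mul_mem ((Kz J z).mul_mem ((Kz J z).inv_mem hk) hx.2) hk
        have h4 : k⁻¹ * (k * x * k⁻¹) * k = x := by group
        rwa [h4] at h3
  have h2 : ZN.o2 (Kz J z) ≤ ZN.o2 (Cz z) := by
    apply ZN.le_o2 ((ZN.o2_le _).trans (Kz_le J z)) (ZN.isPGroup_o2 _)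
    exact (Cz_le_normalizer_Kz J z).trans (ZN.normalizer_le_normalizer_o2 _)
  exact h2 (h1 ⟨hv, hk⟩)

theorem exists_v0 (h : Hyp S V J z) : ∃ v ∈ V, v ∉ ZN.o2 (Cz z) := by
  by_contra hcon
  push Not at hcon
  have h1 : V ⊓ ZN.o2 (Cz z) = V := inf_eq_left.2 hcon
  have h2 := h.card8
  rw [h1, h.cardV] at h2
  omega

theorem exists_v1 (h : Hyp S V J z) : ∃ v ∈ V, v ∈ ZN.o2 (Cz z) ∧ v ∉ J := by
  by_contra hcon
  push Not at hcon
  have h1 : V ⊓ ZN.o2 (Cz z) ≤ J := fun v hv => hcon v hv.1 hv.2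
  have hfin : Finite J := Nat.finite_of_card_ne_zero (by rw [h.cardJ]; decide)
  have h2 : Nat.card ↥(V ⊓ ZN.o2 (Cz z)) ≤ Nat.card J := Nat.card_mono (Set.toFinite _) h1
  have h3 := h.card8
  rw [h3, h.cardJ] at h2
  omega

/-- `|V : V ∩ Q| = 2` -/
theorem mul_mem_o2 (h : Hyp S V J z) {v w : G} (hv : v ∈ V) (hw : w ∈ V) (hv' : v ∉ ZN.o2 (Cz z))
    (hw' : w ∉ ZN.o2 (Cz z)) : v * w ∈ ZN.o2 (Cz z) := by
  have h1 : ((V ⊓ ZN.o2 (Cz z)).subgroupOf V).index = 2 := by
    have h2 := card_mul_index ((V ⊓ ZN.o2 (Cz z)).subgroupOf V)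
    have h3 : Nat.card ((V ⊓ ZN.o2 (Cz z)).subgroupOf V) = 8 := by
      rw [Nat.card_congr (subgroupOfEquivOfLe inf_le_left).toEquiv]
      exact h.card8
    rw [h3, h.cardV] at h2
    omega
  have h2 := mul_mem_iff_of_index_two h1 (a := ⟨v, hv⟩) (b := ⟨w, hw⟩)
  have h3 : (⟨v, hv⟩ : V) ∉ (V ⊓ ZN.o2 (Cz z)).subgroupOf V := fun h' => hv' (mem_subgroupOf.1 h').2
  have h4 : (⟨w, hw⟩ : V) ∉ (V ⊓ ZN.o2 (Cz z)).subgroupOf V := fun h' => hw' (mem_subgroupOf.1 h').2
  have h5 := h2.2 (iff_of_false h3 h4)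
  exact (mem_subgroupOf.1 h5).2

/-- `C_0` centralises `V / V¹` -/
theorem comm_o2 (h : Hyp S V J z) {c v : G} (hc : c ∈ Cz z) (hcV : c ∈ normalizer (V : Set G)) (hv : v ∈ V)
    (hv' : v ∉ ZN.o2 (Cz z)) : c * v * c⁻¹ * v⁻¹ ∈ ZN.o2 (Cz z) := by
  have h1 : c * v * c⁻¹ ∈ V := (mem_normalizer_iff.1 hcV v).1 hv
  have h2 : c * v * c⁻¹ ∉ ZN.o2 (Cz z) := fun h' =>
    hv' ((mem_normalizer_iff.1 (ZN.le_normalizer_o2 (Cz z) hc) v).2 h')
  exact h.mul_mem_o2 h1 (V.inv_mem hv) h2 (fun h' => hv' ((ZN.o2 (Cz z)).inv_mem_iff.1 h'))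

end Hyp

end Cfsg.Agent.OddCyclic.Eq.SixA
end

-- part: OddCyclic/Eq/SixAAct
section
/-!
# (E_q) of `T_cyc`, (6.1): `C_z` acting on `M_z = V_z / ⟨z⟩`
-/

set_option autoImplicit false
set_option linter.style.haveILetI false

namespace Cfsg.Agent.OddCyclic.Eq.SixA

open Subgroup

universe u

variable {G : Type u} [Group G] {S V J : Subgroup G} {z : G}

/-- the action of `C_z` on `N = V_z / ⟨z⟩`; `lam` is the image of `J` -/
structure Act (J : Subgroup G) (z a : G) (N : Type u) [CommGroup N] (ρ : ↥(Cz z) →* MulAut N)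
    (p : ↥(Vz J z) →* N) (lam : N) : Prop where
  surj : Function.Surjective p
  ker : ∀ w, p w = 1 ↔ (w : G) ∈ zpowers z
  act : ∀ (c : Cz z) (w w' : Vz J z), (w' : G) = c * w * c⁻¹ → ρ c (p w) = p w'
  lam_eq : ∀ w : Vz J z, (w : G) = a → p w = lam
  sq : ∀ m : N, m * m = 1
  one_iff : ∀ c, ρ c = 1 ↔ (c : G) ∈ Kz J z
  stab : ∀ c, ρ c lam = lam ↔ (c : G) ∈ normalizer (J : Set G)
  gen : _root_.Subgroup.closure {m | ∃ c, m = ρ c lam} = ⊤
  core : ∀ R : Subgroup ρ.range, R.Normal → IsPGroup 2 R → R = ⊥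

theorem Act.p_eq {a : G} {N : Type u} [CommGroup N] {ρ : ↥(Cz z) →* MulAut N}
    {p : ↥(Vz J z) →* N} {lam : N} (hA : Act J z a N ρ p lam) {w w' : Vz J z} :
    p w = p w' ↔ (w : G) * (w' : G)⁻¹ ∈ zpowers z := by
  rw [← mul_inv_eq_one, ← map_inv, ← map_mul, hA.ker]
  rfl

namespace Hyp

theorem exists_act [Finite G] (h : Hyp S V J z) {a : G} (ha : a ∈ J) (haz : a ∉ zpowers z) :
    ∃ (N : Type u) (_ : CommGroup N) (ρ : ↥(Cz z) →* MulAut N) (p : ↥(Vz J z) →* N) (lam : N),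
      Act J z a N ρ p lam := by
  have hab : ∀ x ∈ Vz J z, ∀ y ∈ Vz J z, x * y * x⁻¹ * y⁻¹ ∈ zpowers z := by
    intro x hx y hy
    exact (h.o2_le_Kz (h.Vz_le_o2 hx)).2 y hy
  obtain ⟨N, iN, ρ, p, hp, hk, hact⟩ := exists_qact h.Vz_le_Cz (Cz_le_normalizer J z)
    (Cz_le_normalizer_zpowers z) hab
  have haW : a ∈ Vz J z := J_le_Vz J z ha
  set! lam : N := p ⟨a, haW⟩ with hlam
  have hp_eq : ∀ w w' : Vz J z, p w = p w' ↔ (w : G) * (w' : G)⁻¹ ∈ zpowers z := by
    intro w w'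
    rw [← mul_inv_eq_one, ← map_inv, ← map_mul, hk]
    rfl
  have hρ : ∀ (c : Cz z) (w : Vz J z), ρ c (p w) = p ⟨c * w * c⁻¹, Vz_conj c.2 w.2⟩ :=
    fun c w => hact c w _ rfl
  have hstab : ∀ c, ρ c lam = lam ↔ (c : G) ∈ normalizer (J : Set G) := by
    intro c
    rw [hlam, hρ, hp_eq]
    constructor
    · intro h1
      exact h.mem_nJ ha haz c.2 h1
    · intro h1
      exact h.nJ_act ha haz c.2 h1
  have hgen : _root_.Subgroup.closure {m | ∃ c, m = ρ c lam} = ⊤ := by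
    rw [eq_top_iff]
    rintro m -
    obtain ⟨⟨w, hw⟩, rfl⟩ := hp m
    have key : ∀ (w : G) (hw : w ∈ Vz J z), p ⟨w, hw⟩ ∈ closure {m | ∃ c, m = ρ c lam} := by
      intro w hw
      induction hw using closure_induction with
      | mem x hx =>
        obtain ⟨c, hc, b, hb, rfl⟩ := hx
        have hbW : b ∈ Vz J z := J_le_Vz J z hb
        have hc' : c ∈ Cz z := mem_Cz.2 hc
        have h1 : p ⟨c * b * c⁻¹, Vz_conj hc' hbW⟩ = ρ ⟨c, hc'⟩ (p ⟨b, hbW⟩) := (hρ ⟨c, hc'⟩ ⟨b, hbW⟩).symm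
        rw [h1]
        rcases h.J_cases ha haz hb with rfl | rfl | rfl | rfl
        · have : p ⟨1, hbW⟩ = 1 := map_one p
          rw [this, map_one]
          exact one_mem _
        · have : p ⟨b, hbW⟩ = 1 := (hk _).2 (mem_zpowers b)
          rw [this, map_one]
          exact one_mem _
        · exact Subgroup.subset_closure ⟨_, rfl⟩
        · have : p ⟨a * z, hbW⟩ = lam := by
            rw [hlam, hp_eq]
            have h2 : a * z * a⁻¹ = z := by
              rw [h.J_comm ha h.zJ, mul_inv_cancel_right]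
            change a * z * a⁻¹ ∈ zpowers z
            rw [h2]
            exact mem_zpowers _
          rw [this]
          exact Subgroup.subset_closure ⟨_, rfl⟩
      | one =>
        have : p ⟨1, (Vz J z).one_mem⟩ = 1 := map_one p
        rw [this]
        exact one_mem _
      | mul x y hx hy ihx ihy =>
        have : p ⟨x * y, (Vz J z).mul_mem hx hy⟩ = p ⟨x, hx⟩ * p ⟨y, hy⟩ := by
          rw [← map_mul]
          rfl
        rw [this]
        exact mul_mem ihx ihy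
      | inv x hx ihx =>
        have : p ⟨x⁻¹, (Vz J z).inv_mem hx⟩ = (p ⟨x, hx⟩)⁻¹ := by
          rw [← map_inv]
          rfl
        rw [this]
        exact inv_mem ihx
    exact key w hw
  have hlam2 : lam * lam = 1 := by
    rw [hlam, ← map_mul, hk]
    change a * a ∈ _
    rw [h.Vsq a (h.JV ha)]
    exact one_mem _
  have hsq : ∀ m : N, m * m = 1 := by
    intro m
    have hm : m ∈ closure {m | ∃ c, m = ρ c lam} := by rw [hgen]; trivial
    refine sq_of_closure (s := {m | ∃ c, m = ρ c lam}) ?_ ?_ m hm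
    · rintro x ⟨c, rfl⟩
      rw [← map_mul, hlam2, map_one]
    · intro x _ y _
      exact mul_comm x y
  have hone : ∀ c, ρ c = 1 ↔ (c : G) ∈ Kz J z := by
    intro c
    constructor
    · intro h1
      refine ⟨c.2, fun w hw => ?_⟩
      have h2 : ρ c (p ⟨w, hw⟩) = p ⟨w, hw⟩ := by rw [h1]; rfl
      rw [hρ, hp_eq] at h2
      exact h2
    · intro h1
      ext m
      obtain ⟨w, rfl⟩ := hp m
      rw [hρ]
      change _ = p w
      rw [hp_eq]
      exact h1.2 w w.2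
  refine ⟨N, iN, ρ, p, lam, hp, hk, hact, ?_, hsq, hone, hstab, hgen, ?_⟩
  · rintro ⟨w, hw⟩ rfl
    rfl
  · intro R hR h2
    haveI : Fact (Nat.Prime 2) := ⟨Nat.prime_two⟩
    let P : Sylow 2 G := ⟨S, h.two, fun hQ hle => le_antisymm (h.smax _ hQ hle) hle⟩
    let P' : Sylow 2 ↥(Cz z) := P.subtype h.S_le_Cz
    let P'' : Sylow 2 ρ.range := P'.mapSurjective ρ.rangeRestrict_surjective
    have hle : R ≤ (P'' : Subgroup ρ.range) := by
      have h3 : IsPGroup 2 ↥(R ⊔ (P'' : Subgroup ρ.range)) :=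
        IsPGroup.to_sup_of_normal_left h2 P''.isPGroup'
      have h4 := P''.is_maximal' h3 le_sup_right
      rw [← h4]
      exact le_sup_left
    have hfix : ∀ r ∈ R, (r : MulAut N) lam = lam := by
      intro r hr
      obtain ⟨s, hs, rfl⟩ := hle hr
      have hs' : (s : G) ∈ S := hs
      exact (hstab s).2 (h.SJ hs')
    rw [eq_bot_iff]
    intro r hr
    rw [mem_bot]
    apply Subtype.ext
    change (r : MulAut N) = 1
    ext m
    change (r : MulAut N) m = m
    have hm : m ∈ _root_.Subgroup.closure {m | ∃ c, m = ρ c lam} := by rw [hgen]; trivial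
    induction hm using closure_induction with
    | mem x hx =>
      obtain ⟨c, rfl⟩ := hx
      have h5 : (⟨ρ c, c, rfl⟩ : ρ.range)⁻¹ * r * ⟨ρ c, c, rfl⟩ ∈ R := by
        have := hR.conj_mem r hr (⟨ρ c, c, rfl⟩ : ρ.range)⁻¹
        rwa [inv_inv] at this
      have h6 := hfix _ h5
      have h7 : (r : MulAut N) * ρ c = ρ c * ((⟨ρ c, c, rfl⟩ : ρ.range)⁻¹ * r * ⟨ρ c, c, rfl⟩ : ρ.range) := by
        simp only [mul_assoc, _root_.mul_assoc, _root_.Subgroup.coe_mul, _root_.InvMemClass.coe_inv, _root_.mul_inv_cancel_left]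
      calc (r : MulAut N) (ρ c lam) = ((r : MulAut N) * ρ c) lam := rfl
        _ = ρ c ((((⟨ρ c, c, rfl⟩ : ρ.range)⁻¹ * r * ⟨ρ c, c, rfl⟩ : ρ.range) : MulAut N) lam) := by
            rw [h7]; rfl
        _ = ρ c lam := by rw [h6]
    | one => simp
    | mul x y _ _ hx hy => rw [map_mul, hx, hy]
    | inv x _ hx => rw [map_inv, hx]

end Hyp

end Cfsg.Agent.OddCyclic.Eq.SixA
end

-- part: OddCyclic/EqNBase
section
/-!
# (E_q), 6.B: the module `V_z / Z` with its quadratic form: elements inverted by `t`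

Blueprint: blueprints/S0342-A2-helper402.md, (6.8)-(6.10).
-/

set_option autoImplicit false
set_option linter.unusedSectionVars false

namespace Cfsg.Agent.OddCyclic.EqN

open Subgroup
open Cfsg.Agent.OddCyclic.T1Defs (OddCyc)
open Cfsg.Agent.OddCyclic.FFBasic Cfsg.Agent.OddCyclic.FFRed
open Cfsg.Agent.OddCyclic.BTwoLin (Form)

variable {X V : Type*} [Group X] [CommGroup V]

/-- the situation of 6.B -/
structure Sit (ρ : X →* MulAut V) (f : V → V → ZMod 2) (q : V → ZMod 2) (T : Sylow 2 X) (t : X) (l : V) : Prop where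
  form : Form ρ f q
  ne : t ≠ 1
  sq : t * t = 1
  comm : ∀ s ∈ T, s * t = t * s
  idx : (fx ρ t).index = 4
  sing : ∀ r ∈ (cm ρ t).range, q r = 0
  lne : l ≠ 1
  lmem : l ∈ (cm ρ t).range
  fixl : ∀ s ∈ T, ρ s l = l
  gen : ∀ N : Subgroup V, (∀ g, ρ g l ∈ N) → N = ⊤
  nrad : ∃ x, f l x ≠ 0
  swap : ∃ s ∈ T, ∃ r ∈ (cm ρ t).range, ρ s r ≠ r
  baer : ∀ y, orderOf y = 3 → ∀ r ∈ (cm ρ t).range, ρ y r = r → r = 1

theorem ne_of_ne {ρ : X →* MulAut V} (hρ : Function.Injective ρ) {y : X} (hy1 : y ≠ 1) : ∃ v, ρ y v ≠ v := by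
  by_contra hcon
  push Not at hcon
  apply hy1
  apply hρ
  rw [map_one]
  exact MulEquiv.ext hcon

/-- `V = [V,y] × C_V(y)` -/
theorem exists_decomp [Finite V] {ρ : X →* MulAut V} (hV : ∀ v : V, v * v = 1) {y : X} (hy : Odd (orderOf y)) (v : V) :
    ∃ a ∈ (cm ρ y).range, ∃ b ∈ fx ρ y, v = a * b := by
  have h1 : IsComplement' (cm ρ y).range (fx ρ y) := by
    apply isComplement'_of_card_mul_and_disjoint
    · rw [card_range_cm, mul_comm]
      exact Subgroup.card_mul_index _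
    · rw [disjoint_iff, eq_bot_iff]
      intro w hw
      rw [mem_bot]
      exact eq_one_of_fix hV hy hw.1 hw.2
  obtain ⟨⟨a, b⟩, hab⟩ := h1.2 v
  exact ⟨a, a.2, b, b.2, hab.symm⟩

section

variable {ρ : X →* MulAut V} {y t : X}

/-- if `t` inverts `y` then `t` normalises `C_V(y)` -/
theorem apply_mem_fx_of_inv (h : t * y * t⁻¹ = y⁻¹) {v : V} (hv : v ∈ fx ρ y) : ρ t v ∈ fx ρ y := by
  have h1 : y * t = t * y⁻¹ := by
    have h2 : t⁻¹ * (y * t) = (t⁻¹ * y * t) := by group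
    have h3 : t⁻¹ * y⁻¹ * t = y := by rw [← h]; group
    have h4 : t⁻¹ * y * t = y⁻¹ := by
      rw [← inv_inj, inv_inv]
      calc (t⁻¹ * y * t)⁻¹ = t⁻¹ * y⁻¹ * t := by group
        _ = y := h3
    rw [← h4]; group
  rw [mem_fx, ← MulAut.mul_apply, ← map_mul, h1, map_mul, MulAut.mul_apply, (mem_fx ρ).1 (fx_inv ρ hv)]

theorem apply_cm (hV : ∀ v : V, v * v = 1) (ht : t * t = 1) {r : V} (hr : r ∈ (cm ρ t).range) : ρ t r = r := by
  obtain ⟨v, rfl⟩ := hr
  rw [cm_apply, map_mul, map_inv, ← MulAut.mul_apply, ← map_mul, ht, map_one]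
  change v * (ρ t v)⁻¹ = ρ t v * v⁻¹
  rw [inv_eq_of_mul_eq_one_right (hV (ρ t v)), inv_eq_of_mul_eq_one_right (hV v), mul_comm]

/-- the trick: if `t` inverts `y` of odd order then the translates of `C_V(t)` under powers of `y` are disjoint -/
theorem fix_trick (hy : Odd (orderOf y)) (h : t * y * t⁻¹ = y⁻¹) {i : ℕ} {v w : V} (hv : ρ t v = v)
    (hw : ρ t w = w) (hvw : ρ (y ^ i) v = w) : ρ (y ^ i) v = v := by
  have h1 : t * y ^ i * t⁻¹ = (y ^ i)⁻¹ := by rw [← conj_pow, h, inv_pow]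
  have h2 : ρ (y ^ i)⁻¹ v = w := by
    rw [← h1, map_mul, map_mul, MulAut.mul_apply, MulAut.mul_apply]
    have h3 : ρ t⁻¹ v = v := fx_inv ρ hv
    rw [h3, hvw, hw]
  have h3 : v ∈ fx ρ (y ^ i * y ^ i) := by
    rw [mem_fx, map_mul, MulAut.mul_apply, hvw, ← h2, ← MulAut.mul_apply, ← map_mul, mul_inv_cancel, map_one]
    rfl
  have h4 : Odd (orderOf (y ^ i)) := Odd.of_dvd_nat hy (orderOf_pow_dvd i)
  exact fx_of_sq ρ h4 h3

/-- powers of `y`, of odd prime order, have no fixed points on `[V,y]` -/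
theorem eq_one_of_pow (hV : ∀ v : V, v * v = 1) {r : ℕ} (hr : r.Prime) (hr2 : r ≠ 2) (hy : orderOf y = r) {i : ℕ}
    (hi : 0 < i) (hir : i < r) {v : V} (hv : v ∈ (cm ρ y).range) (hf : ρ (y ^ i) v = v) : v = 1 := by
  have hodd : Odd (orderOf y) := by rw [hy]; exact hr.odd_of_ne_two hr2
  apply eq_one_of_fix hV hodd hv
  have h1 : Nat.gcd r i = 1 := (Nat.Coprime.symm (Nat.coprime_of_lt_prime hi.ne' hir hr)).symm
  have h2 : y ∈ zpowers (y ^ i) := by
    have hfin : Finite (zpowers y) := Nat.finite_of_card_ne_zero (by rw [Nat.card_zpowers, hy]; exact hr.ne_zero)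
    have h3 : zpowers (y ^ i) = zpowers y := by
      apply Subgroup.eq_of_le_of_card_ge
      · rw [zpowers_le]; exact pow_mem (mem_zpowers y) i
      · rw [Nat.card_zpowers, Nat.card_zpowers, orderOf_pow' y hi.ne', hy, h1, Nat.div_one]
    rw [h3]; exact mem_zpowers y
  exact FFPsl.fx_le_of_mem ρ h2 hf

end

variable {ρ : X →* MulAut V} {f : V → V → ZMod 2} {q : V → ZMod 2} {T : Sylow 2 X} {t : X} {l : V}

/-- order 3 -/
theorem Sit.three [Finite V] (h : Sit ρ f q T t l) {y : X} (hy : orderOf y = 3) (hty : t * y * t⁻¹ = y⁻¹)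
    (hρ : Function.Injective ρ) : (fx ρ y).index = 16 ∧ (cm ρ t).range ≤ (cm ρ y).range := by
  have hV := h.form.sq
  have hodd : Odd (orderOf y) := by rw [hy]; decide
  have hy1 : y ≠ 1 := by rintro rfl; rw [orderOf_one] at hy; norm_num at hy
  have hne := ne_of_ne hρ hy1
  have h16 : (fx ρ y).index ≤ 16 := (half' ρ hodd hty).trans (by rw [h.idx]; norm_num)
  have hle : fx ρ y ≤ fx ρ t := by
    intro v hv
    have h1 : cm ρ t v ∈ fx ρ y := mul_mem (apply_mem_fx_of_inv hty hv) (inv_mem hv)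
    have h2 := h.baer y hy _ ⟨v, rfl⟩ h1
    rw [cm_apply, mul_inv_eq_one] at h2
    exact h2
  have hR : (cm ρ t).range ≤ (cm ρ y).range := by
    rintro _ ⟨v, rfl⟩
    obtain ⟨a, ha, b, hb, rfl⟩ := exists_decomp hV hodd v
    have h1 : cm ρ t b = 1 := by
      rw [cm_apply, mul_inv_eq_one]; exact hle hb
    rw [map_mul, h1, mul_one]
    exact mul_mem (apply_mem_range_of_inv ρ hty ha) (inv_mem ha)
  refine ⟨?_, hR⟩
  obtain ⟨d, hd, h1, h2⟩ := prim (ρ := ρ) hV Nat.prime_three (by norm_num) hy hne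
  have hd4 : d ≤ 4 := by
    rw [h1] at h16
    exact (Nat.pow_le_pow_iff_right (by norm_num : 1 < 2)).1 (h16.trans (by norm_num : 16 ≤ 2 ^ 4))
  have hcard : Nat.card (cm ρ t).range = 4 := by rw [card_range_cm, h.idx]
  have h3 : d = 2 ∨ d = 4 := by
    interval_cases d
    · norm_num at h2
    · exact Or.inl rfl
    · norm_num at h2
    · exact Or.inr rfl
  rcases h3 with rfl | rfl
  · exfalso
    have h4 : (cm ρ t).range = (cm ρ y).range := by
      apply Subgroup.eq_of_le_of_card_ge hR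
      rw [hcard, card_range_cm, h1]
      norm_num
    have h5 : (cm ρ y).range = ⊥ := by
      rw [eq_bot_iff]
      intro v hv
      rw [mem_bot]
      have h6 : ρ t v = v := apply_cm hV h.sq (by rw [h4]; exact hv)
      have h7 : ρ t (ρ (y ^ 1) v) = ρ (y ^ 1) v := by
        rw [pow_one]
        exact apply_cm hV h.sq (by rw [h4]; exact apply_mem_range ρ rfl hv)
      have h8 := fix_trick (i := 1) hodd hty h6 h7 rfl
      rw [pow_one] at h8
      exact eq_one_of_fix hV hodd hv h8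
    have h6 : Nat.card (cm ρ y).range = 1 := by rw [h5, Subgroup.card_bot]
    rw [card_range_cm, h1] at h6
    norm_num at h6
  · rw [h1]; norm_num

/-- order 5 is impossible -/
theorem Sit.not_five [Finite V] (h : Sit ρ f q T t l) {y : X} (hy : orderOf y = 5) (hty : t * y * t⁻¹ = y⁻¹)
    (hρ : Function.Injective ρ) : False := by
  classical
  have hV := h.form.sq
  have hodd : Odd (orderOf y) := by rw [hy]; decide
  have hy1 : y ≠ 1 := by rintro rfl; rw [orderOf_one] at hy; norm_num at hy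
  have hne := ne_of_ne hρ hy1
  have h16 : (fx ρ y).index ≤ 16 := (half' ρ hodd hty).trans (by rw [h.idx]; norm_num)
  obtain ⟨d, hd, h1, h2⟩ := prim (ρ := ρ) hV Nat.prime_five (by norm_num) hy hne
  have hd4 : d ≤ 4 := by
    rw [h1] at h16
    exact (Nat.pow_le_pow_iff_right (by norm_num : 1 < 2)).1 (h16.trans (by norm_num : 16 ≤ 2 ^ 4))
  have hidx : (fx ρ y).index = 16 := by
    interval_cases d
    · norm_num at h2
    · norm_num at h2
    · norm_num at h2
    · rw [h1]; norm_num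
  set! N := (cm ρ y).range with hN
  have hNc : Nat.card N = 16 := by rw [hN, card_range_cm, hidx]
  have hNst : ∀ i : ℕ, ∀ v ∈ N, ρ (y ^ i) v ∈ N := fun i v hv =>
    apply_mem_range ρ ((Commute.refl y).pow_left i) hv
  set! C : Subgroup V := fx ρ t ⊓ N with hC
  -- the map of the trick
  let g : Fin 5 × {x : C // x ≠ 1} → {x : N // x ≠ 1} := fun p =>
    ⟨⟨ρ (y ^ (p.1 : ℕ)) (p.2.1 : V), hNst _ _ p.2.1.2.2⟩, by
      intro h0
      have h1 : ρ (y ^ (p.1 : ℕ)) (p.2.1 : V) = 1 := congrArg Subtype.val h0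
      apply p.2.2
      apply Subtype.ext
      exact (map_eq_one_iff _ (ρ (y ^ (p.1 : ℕ))).injective).1 h1⟩
  have hkey : ∀ i : ℕ, i < 5 → ∀ u ∈ C, ∀ v ∈ C, ρ (y ^ i) u = v → u ≠ 1 → i = 0 := by
    intro i hi u hu v hv huv hu1
    by_contra h0
    have h3 := fix_trick hodd hty hu.1 hv.1 huv
    exact hu1 (eq_one_of_pow hV Nat.prime_five (by norm_num) hy (Nat.pos_of_ne_zero h0) hi hu.2 h3)
  have hg : Function.Injective g := by
    rintro ⟨i, u⟩ ⟨j, v⟩ he
    have he' : ρ (y ^ (i : ℕ)) (u.1 : V) = ρ (y ^ (j : ℕ)) (v.1 : V) :=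
      congrArg (fun x : {x : N // x ≠ 1} => ((x.1 : N) : V)) he
    wlog hij : (i : ℕ) ≤ j generalizing i j u v
    · exact (this j v i u he.symm he'.symm (by omega)).symm
    have h3 : ρ (y ^ ((j : ℕ) - i)) (v.1 : V) = u.1 := by
      apply (ρ (y ^ (i : ℕ))).injective
      rw [← MulAut.mul_apply, ← map_mul, ← pow_add, Nat.add_sub_cancel' hij]
      exact he'.symm
    have h4 := hkey _ (by have := j.2; omega) _ v.1.2 _ u.1.2 h3 (fun h0 => v.2 (Subtype.ext h0))
    have h5 : (i : ℕ) = j := by omega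
    rw [h4, pow_zero, map_one] at h3
    have h6 : (v.1 : V) = u.1 := h3
    exact Prod.ext (Fin.ext h5) (Subtype.ext (Subtype.ext h6.symm))
  have hcN : Nat.card {x : N // x ≠ 1} = 15 := by
    have : Fintype N := Fintype.ofFinite _
    rw [Nat.card_eq_fintype_card, Fintype.card_subtype_compl, Fintype.card_subtype_eq, ← Nat.card_eq_fintype_card, hNc]
  have hcC : Nat.card {x : C // x ≠ 1} = Nat.card C - 1 := by
    have : Fintype C := Fintype.ofFinite _
    rw [Nat.card_eq_fintype_card, Fintype.card_subtype_compl, Fintype.card_subtype_eq, ← Nat.card_eq_fintype_card]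
  have hC4 : Nat.card C ≤ 4 := by
    have h3 := Nat.card_le_card_of_injective g hg
    rw [Nat.card_prod, Nat.card_eq_fintype_card (α := Fin 5), Fintype.card_fin, hcN, hcC] at h3
    omega
  -- `[V,t] ≤ N`
  set! R := (cm ρ t).range with hR
  have hRc : Nat.card R = 4 := by rw [hR, card_range_cm, h.idx]
  have hRN : R ≤ N := by
    let k : N →* R := ((cm ρ t).rangeRestrict).comp N.subtype
    have hk : Nat.card k.ker = Nat.card C := by
      refine Nat.card_congr ⟨fun v => ⟨v.1.1, ?_, v.1.2⟩, fun v => ⟨⟨v.1, v.2.2⟩, ?_⟩, fun v => rfl, fun v => rfl⟩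
      · have h6 : k v.1 = 1 := v.2
        have h7 : cm ρ t (v.1 : V) = 1 := congrArg Subtype.val h6
        rw [cm_apply] at h7
        exact mul_inv_eq_one.1 h7
      · rw [MonoidHom.mem_ker]
        apply Subtype.ext
        change cm ρ t (v : V) = 1
        rw [cm_apply, mul_inv_eq_one]
        exact v.2.1
    have h3 := k.ker.card_mul_index
    rw [Subgroup.index_ker, hk, hNc] at h3
    have h4 : 4 ≤ Nat.card k.range := by
      by_contra hcon
      push Not at hcon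
      have : Nat.card C * Nat.card k.range ≤ 4 * 3 := Nat.mul_le_mul hC4 (by omega)
      omega
    have h5 : k.range = ⊤ := Subgroup.eq_top_of_card_eq _ (le_antisymm (Subgroup.card_le_card_group _)
      (by rw [hRc]; exact h4))
    intro r hr
    have h6 : (⟨r, hr⟩ : R) ∈ k.range := by rw [h5]; exact mem_top _
    obtain ⟨n, hn⟩ := h6
    have h7 : cm ρ t (n : V) = r := congrArg Subtype.val hn
    rw [← h7, cm_apply]
    exact mul_mem (apply_mem_range_of_inv ρ hty n.2) (inv_mem n.2)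
  have hRC : R ≤ C := fun r hr => ⟨apply_cm hV h.sq hr, hRN hr⟩
  have hRC' : R = C := Subgroup.eq_of_le_of_card_ge hRC (by rw [hRc]; exact hC4)
  have hcC3 : Nat.card {x : C // x ≠ 1} = 3 := by rw [hcC, ← hRC', hRc]
  have hbij := hg.bijective_of_nat_card_le (by
    rw [Nat.card_prod, Nat.card_eq_fintype_card (α := Fin 5), Fintype.card_fin, hcN, hcC3])
  -- all vectors of `N` are singular
  have hsing : ∀ v ∈ N, q v = 0 := by
    intro v hv
    by_cases hv1 : v = 1
    · rw [hv1]; exact h.form.q_one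
    · obtain ⟨⟨i, u⟩, hu⟩ := hbij.2 ⟨⟨v, hv⟩, fun h0 => hv1 (congrArg Subtype.val h0)⟩
      have h3 : ρ (y ^ (i : ℕ)) (u.1 : V) = v := congrArg (fun x : {x : N // x ≠ 1} => ((x.1 : N) : V)) hu
      rw [← h3, h.form.q_inv]
      apply h.sing
      rw [← hR, hRC']
      exact u.1.2
  have hiso : ∀ u ∈ N, ∀ v ∈ N, f u v = 0 := fun u hu v hv =>
    h.form.q_comm_eq (hsing u hu) (hsing v hv) (hsing _ (mul_mem hu hv))
  -- `l` is in the radical
  obtain ⟨x, hx⟩ := h.nrad
  apply hx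
  obtain ⟨a, ha, b, hb, rfl⟩ := exists_decomp hV hodd x
  have hlN : l ∈ N := hRN h.lmem
  rw [h.form.mul_right, hiso l hlN a ha, zero_add]
  obtain ⟨m, hm⟩ := hlN
  have h3 := h.form.comm_perp (g := y) (x := b) hb m
  rw [← hm, cm_apply, h.form.f_symm]
  exact h3

/-- elements of odd prime order inverted by `t` -/
theorem Sit.real [Finite V] (h : Sit ρ f q T t l) (hρ : Function.Injective ρ) {r : ℕ} (hr : r.Prime) (hr2 : r ≠ 2)
    {y : X} (hy : orderOf y = r) (hty : t * y * t⁻¹ = y⁻¹) :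
    r = 3 ∧ (fx ρ y).index = 16 ∧ (cm ρ t).range ≤ (cm ρ y).range := by
  have hy1 : y ≠ 1 := by
    rintro rfl
    rw [orderOf_one] at hy
    exact hr.one_lt.ne hy
  obtain ⟨h35, h16⟩ := FFPsl.small h.form.sq h.sq hr hr2 hy (ne_of_ne hρ hy1) hty h.idx.le
  rcases h35 with rfl | rfl
  · exact ⟨rfl, h.three hy hty hρ⟩
  · exact (h.not_five hy hty hρ).elim

end Cfsg.Agent.OddCyclic.EqN
end

private theorem dce_2b98b8aaae69 : _root_.True := by
  try have : _root_.True := by simp only [_root_.Cfsg.Agent.OddCyclic.Eq.Quot.Uo.eq_1]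
  try have : _root_.True := by simp only [_root_.Cfsg.Agent.OddCyclic.Eq.SixA.Tv.T.eq_1]
  try have : _root_.True := by simp only [_root_.Cfsg.Agent.OddCyclic.RedFiveThree.Cm.eq_1]
  try have : _root_.True := by simp only [_root_.Cfsg.Agent.OddCyclic.Eq.LamMod.Wl.eq_1]
  try have : _root_.True := by simp only [_root_.Cfsg.Agent.OddCyclic.Eq.LamMod.Yc.eq_1]
  exact _root_.True.intro
end

-- part: OddCyclic/Eq/Main
section
prune_inst 0x2000000000100000000002000000000000000000000000402000000000000008000000000000000000200000000000000000000000000000000000000000000000800000000000000006000000000000000000000000000000000000000000000000000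
set_option linter.all false
open scoped Cfsg.Agent.FastGrp

-- part: OddCyclic/Eq/FourMod
section
/-!
# (E_q), Part I, `q = 4`: the module statement of (3.4)

`y` of prime order `s ≥ 5`, `k` of order 3 without fixed points, commuting with `y` and with an involution `a`
inverting `y`, `|M : C_M(a)| ≤ 8`.  Then `|M : C_M(a)| > 2` and no 2-element commutes with `y` and inverts `k`.
-/

set_option autoImplicit false

namespace Cfsg.Agent.OddCyclic.Eq.FourMod

open Subgroup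

variable {M : Type*} [CommGroup M]

/-- fixed points -/
def fixS (a : MulAut M) : Subgroup M where
  carrier := {v | a v = v}
  one_mem' := map_one a
  mul_mem' := by
    intro v w hv hw
    show a (v * w) = v * w
    rw [map_mul, show a v = v from hv, show a w = w from hw]
  inv_mem' := by
    intro v hv
    show a v⁻¹ = v⁻¹
    rw [map_inv, show a v = v from hv]

theorem mem_fixS {a : MulAut M} {v : M} : v ∈ fixS a ↔ a v = v := Iff.rfl

/-- `v ↦ a v * v⁻¹` -/
def dl (a : MulAut M) : M →* M where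
  toFun v := a v * v⁻¹
  map_one' := by rw [map_one, inv_one, mul_one]
  map_mul' v w := by
    rw [map_mul, mul_inv]
    exact mul_mul_mul_comm _ _ _ _

theorem dl_apply (a : MulAut M) (v : M) : dl a v = a v * v⁻¹ := rfl

theorem ker_dl (a : MulAut M) : (dl a).ker = fixS a := by
  ext v
  rw [MonoidHom.mem_ker, dl_apply, mul_inv_eq_one, mem_fixS]

/-- an invariant subgroup on which a power `p ^ n` of `f` is trivial: `|X| ≡ |C_X(f)|` -/
theorem card_mod [Finite M] {p n : ℕ} (hp : p.Prime) (f : MulAut M) (hf : f ^ p ^ n = 1) (X : Subgroup M)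
    (hX : ∀ v ∈ X, f v ∈ X) : Nat.card X ≡ Nat.card (X ⊓ fixS f : Subgroup M) [MOD p] := by
  classical
  have : Fact p.Prime := ⟨hp⟩
  have : Fintype X := Fintype.ofFinite X
  let F : Function.End X := fun v => ⟨f v, hX v v.2⟩
  have hFn : ∀ (m : ℕ) (v : X), ((F ^ m) v : M) = (f ^ m) (v : M) := by
    intro m
    induction m with
    | zero => intro v; rfl
    | succ m ih =>
      intro v
      have h1 : (F ^ (m + 1)) v = (F ^ m) (F v) := by rw [pow_succ]; rfl
      rw [h1, ih, pow_succ]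
      rfl
  have hF : F ^ p ^ n = 1 := by
    funext v
    apply Subtype.ext
    rw [hFn, hf]
    rfl
  have h1 := Equiv.Perm.card_fixedPoints_modEq (f := F) (p := p) (n := n) hF
  rw [← Nat.card_eq_fintype_card, ← Nat.card_eq_fintype_card] at h1
  have h2 : Nat.card (Function.fixedPoints F) = Nat.card (X ⊓ fixS f : Subgroup M) := by
    refine Nat.card_congr ⟨fun v => ⟨v.1.1, v.1.2, ?_⟩, fun v => ⟨⟨v.1, v.2.1⟩, ?_⟩, fun _ => rfl, fun _ => rfl⟩
    · exact congrArg Subtype.val v.2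
    · exact Subtype.ext v.2.2
  rw [h2] at h1
  exact h1

theorem card_two [Finite M] (h2 : ∀ v : M, v * v = 1) (X : Subgroup M) : ∃ n, Nat.card X = 2 ^ n := by
  have : Fact (Nat.Prime 2) := ⟨Nat.prime_two⟩
  have : IsPGroup 2 X := fun v => ⟨1, Subtype.ext (by
    show (v : M) ^ 2 ^ 1 = 1
    rw [pow_one, pow_two]; exact h2 v)⟩
  exact IsPGroup.iff_card.mp this

/-- `C(y) ∩ [M,y] = 1` -/
theorem inf_fix (h2 : ∀ v : M, v * v = 1) {y : MulAut M} {s : ℕ} (hs : Odd s) (hy : y ^ s = 1) :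
    (dl y).range ⊓ fixS y = ⊥ := by
  rw [eq_bot_iff]
  rintro w ⟨⟨v, rfl⟩, hw⟩
  have hw' : y (dl y v) = dl y v := hw
  have h3 : ∀ n : ℕ, (y ^ n) v = v * dl y v ^ n := by
    intro n
    induction n with
    | zero => rw [pow_zero, pow_zero, mul_one]; rfl
    | succ n ih =>
      have h4 : (y ^ (n + 1)) v = y ((y ^ n) v) := by rw [pow_succ']; rfl
      have h5 : y v = v * dl y v := by rw [dl_apply, mul_comm (y v), mul_inv_cancel_left]
      rw [h4, ih, map_mul, map_pow, hw', h5, pow_succ', mul_assoc]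
  have h4 := h3 s
  rw [hy] at h4
  have h5 : dl y v ^ s = 1 := by
    have h6 : v = v * dl y v ^ s := h4
    exact (mul_eq_left.mp h6.symm)
  obtain ⟨j, hj⟩ := hs
  rw [hj, pow_succ, pow_mul, pow_two, h2, one_pow, one_mul] at h5
  exact mem_bot.mpr h5

/-- an automorphism `y` with `y² v = v`, `y^s v = v`, `s` odd -/
theorem fix_of_sq {y : MulAut M} {s : ℕ} (hs : Odd s) (hy : y ^ s = 1) {v : M} (hv : y (y v) = v) : y v = v := by
  have h1 : ∀ n : ℕ, (y ^ (2 * n)) v = v := by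
    intro n
    induction n with
    | zero => rfl
    | succ n ih =>
      have : y ^ (2 * (n + 1)) = y ^ (2 * n) * (y * y) := by rw [mul_add, pow_add, mul_one, pow_two]
      rw [this]
      show (y ^ (2 * n)) (y (y v)) = v
      rw [hv, ih]
  obtain ⟨j, hj⟩ := hs
  have h2 := congrArg (fun f : MulAut M => f v) hy
  have h3 : (y ^ s) v = y ((y ^ (2 * j)) v) := by
    rw [hj, pow_succ']
    rfl
  have h4 : (y ^ s) v = v := h2
  rw [h3, h1] at h4
  exact h4

/-- **the module statement** -/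
theorem main [Finite M] (h2 : ∀ v : M, v * v = 1) {y k a : MulAut M} {s : ℕ} (hs : s.Prime) (hs2 : s ≠ 2)
    (hs3 : s ≠ 3) (hy : y ^ s = 1) (hy1 : y ≠ 1) (hk : k ^ 3 = 1) (hkf : ∀ v, k v = v → v = 1)
    (hky : k * y = y * k) (hka : k * a = a * k) (hay : a * y = y⁻¹ * a) (hi : (fixS a).index ≤ 8) :
    2 < (fixS a).index ∧ ∀ σ : MulAut M, (∃ n, σ ^ 2 ^ n = 1) → σ * y = y * σ → σ * k = k⁻¹ * σ → False := by
  classical
  have hodd : Odd s := hs.odd_of_ne_two hs2
  set N := (dl y).range with hN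
  have hNC : N ⊓ fixS y = ⊥ := inf_fix h2 hodd hy
  have hfixN : ∀ v ∈ N, y v = v → v = 1 := fun v hv h => by
    have : v ∈ N ⊓ fixS y := ⟨hv, h⟩
    rw [hNC] at this
    exact mem_bot.mp this
  have hcomm : ∀ τ : MulAut M, τ * y = y * τ → ∀ v ∈ N, τ v ∈ N := by
    rintro τ hτ _ ⟨v, rfl⟩
    refine ⟨τ v, ?_⟩
    rw [dl_apply, dl_apply, map_mul, map_inv]
    have : τ (y v) = y (τ v) := congrArg (fun f : MulAut M => f v) hτ
    rw [this]
  have hNy : ∀ v ∈ N, y v ∈ N := hcomm y rfl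
  have hNk : ∀ v ∈ N, k v ∈ N := hcomm k hky
  -- `|N|`
  have hN1 : N ≠ ⊥ := by
    intro h
    apply hy1
    ext v
    have h3 : dl y v ∈ N := ⟨v, rfl⟩
    rw [h, mem_bot, dl_apply, mul_inv_eq_one] at h3
    exact h3
  have hNs : Nat.card N ≡ 1 [MOD s] := by
    have h3 := card_mod (p := s) (n := 1) hs y (by rw [pow_one]; exact hy) N hNy
    rwa [hNC, Subgroup.card_bot] at h3
  have hX3 : ∀ X : Subgroup M, (∀ v ∈ X, k v ∈ X) → Nat.card X ≡ 1 [MOD 3] := by
    intro X hX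
    have h3 := card_mod (p := 3) (n := 1) Nat.prime_three k (by rw [pow_one]; exact hk) X hX
    have h4 : X ⊓ fixS k = ⊥ := by
      rw [eq_bot_iff]
      rintro v ⟨-, hv⟩
      exact mem_bot.mpr (hkf v hv)
    rwa [h4, Subgroup.card_bot] at h3
  have hN3 := hX3 N hNk
  -- the image of `N` under `a - 1`
  set I := N.map (dl a) with hI
  have hI3 : Nat.card I ≡ 1 [MOD 3] := by
    apply hX3
    rintro _ ⟨v, hv, rfl⟩
    refine ⟨k v, hNk v hv, ?_⟩
    rw [dl_apply, dl_apply, map_mul, map_inv]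
    have : k (a v) = a (k v) := congrArg (fun f : MulAut M => f v) hka
    rw [this]
  have hIle : Nat.card I ≤ (fixS a).index := by
    have h3 : (fixS a).index = Nat.card (dl a).range := by
      rw [← ker_dl, Subgroup.index_ker]
    rw [h3]
    exact Subgroup.card_le_of_le (Subgroup.map_le_range _ _)
  obtain ⟨i, hi2⟩ := card_two h2 I
  obtain ⟨n, hn2⟩ := card_two h2 N
  have hI4 : Nat.card I ≤ 4 := by
    have h3 := hIle.trans hi
    rw [hi2] at h3 hI3 ⊢
    have h4 : i ≤ 3 := by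
      by_contra hcon
      push Not at hcon
      have : 2 ^ 4 ≤ 2 ^ i := Nat.pow_le_pow_right (by norm_num) hcon
      omega
    interval_cases i
    · norm_num
    · norm_num
    · norm_num
    · exact absurd hI3 (by decide)
  -- injectivity
  have hNI : Nat.card N ≤ Nat.card I * Nat.card I := by
    rw [← Nat.card_prod]
    let f : N → I × I := fun v => (⟨dl a v, v, v.2, rfl⟩, ⟨dl a (y v), y v, hNy v v.2, rfl⟩)
    refine Nat.card_le_card_of_injective f ?_
    intro v w hvw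
    have h3 : dl a (v : M) = dl a (w : M) := congrArg (fun x : I × I => (x.1 : M)) hvw
    have h4 : dl a (y (v : M)) = dl a (y (w : M)) := congrArg (fun x : I × I => (x.2 : M)) hvw
    have h5 : dl a ((v : M) * (w : M)⁻¹) = 1 := by rw [map_mul, map_inv, h3, mul_inv_cancel]
    have h6 : dl a (y ((v : M) * (w : M)⁻¹)) = 1 := by
      rw [map_mul, map_inv, map_mul, map_inv, h4, mul_inv_cancel]
    set z : M := (v : M) * (w : M)⁻¹ with hz
    have hzN : z ∈ N := mul_mem v.2 (inv_mem w.2)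
    have h7 : a z = z := by rwa [dl_apply, mul_inv_eq_one] at h5
    have h8 : a (y z) = y z := by rwa [dl_apply, mul_inv_eq_one] at h6
    have h9 : a (y z) = y⁻¹ (a z) := congrArg (fun f : MulAut M => f z) hay
    rw [h7, h8] at h9
    have h10 : y (y z) = z := by
      rw [h9]
      exact MulAut.apply_inv_self _ y z
    have h11 := hfixN z hzN (fix_of_sq hodd hy h10)
    apply Subtype.ext
    rwa [hz, mul_inv_eq_one] at h11
  have hN16 : Nat.card N ≤ 16 := hNI.trans (by nlinarith only [hI4])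
  have hNgt : 1 < Nat.card N := by
    rw [Subgroup.one_lt_card_iff_ne_bot]
    exact hN1
  have hcardN : Nat.card N = 16 ∧ s = 5 := by
    rw [hn2] at hN16 hN3 hNs hNgt ⊢
    have h4 : n ≤ 4 := by
      by_contra hcon
      push Not at hcon
      have : 2 ^ 5 ≤ 2 ^ n := Nat.pow_le_pow_right (by norm_num) hcon
      omega
    interval_cases n
    · omega
    · exact absurd hN3 (by decide)
    · exfalso
      have h5 : s ∣ 3 := by
        have := (Nat.modEq_iff_dvd' (by norm_num : 1 ≤ 2 ^ 2)).mp hNs.symm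
        simpa using this
      exact hs3 ((Nat.prime_dvd_prime_iff_eq hs Nat.prime_three).mp h5)
    · exact absurd hN3 (by decide)
    · refine ⟨by norm_num, ?_⟩
      have h5 : s ∣ 3 * 5 := by
        have := (Nat.modEq_iff_dvd' (by norm_num : 1 ≤ 2 ^ 4)).mp hNs.symm
        simpa using this
      rcases hs.dvd_mul.mp h5 with h6 | h6
      · exact absurd ((Nat.prime_dvd_prime_iff_eq hs Nat.prime_three).mp h6) hs3
      · exact (Nat.prime_dvd_prime_iff_eq hs Nat.prime_five).mp h6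
  obtain ⟨hN16', rfl⟩ := hcardN
  have hI4' : 4 ≤ Nat.card I := by
    by_contra hcon
    have h3 : Nat.card I ≤ 3 := by omega
    have h4 : Nat.card I * Nat.card I ≤ 3 * 3 := Nat.mul_le_mul h3 h3
    omega
  refine ⟨by omega, ?_⟩
  rintro σ ⟨m, hσ⟩ hσy hσk
  -- `σ` is trivial on `N`
  set X := N ⊓ fixS σ with hX
  have h3 := card_mod (p := 2) (n := m) Nat.prime_two σ hσ N (hcomm σ hσy)
  rw [hN16', ← hX] at h3
  have hXs : Nat.card X ≡ 1 [MOD 5] := by
    have h4 := card_mod (p := 5) (n := 1) hs y (by rw [pow_one]; exact hy) X (by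
      rintro v ⟨hv, hv'⟩
      refine ⟨hNy v hv, ?_⟩
      have h5 : σ (y v) = y (σ v) := congrArg (fun f : MulAut M => f v) hσy
      show σ (y v) = y v
      rw [h5, show σ v = v from hv'])
    have h5 : X ⊓ fixS y = ⊥ := by
      rw [eq_bot_iff, ← hNC]
      exact inf_le_inf_right _ inf_le_left
    rwa [h5, Subgroup.card_bot] at h4
  have hXd : Nat.card X ∣ 16 := by
    rw [← hN16']
    exact Subgroup.card_dvd_of_le inf_le_left
  have hX16 : Nat.card X = 16 := by
    have h4 : Nat.card X ∈ Nat.divisors 16 := Nat.mem_divisors.mpr ⟨hXd, by norm_num⟩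
    have h5 : Nat.divisors 16 = {1, 2, 4, 8, 16} := by decide
    rw [h5] at h4
    simp only [Finset.mem_insert, Finset.mem_singleton] at h4
    rcases h4 with h4 | h4 | h4 | h4 | h4
    · rw [h4] at h3; exact absurd h3 (by decide)
    · rw [h4] at hXs; exact absurd hXs (by decide)
    · rw [h4] at hXs; exact absurd hXs (by decide)
    · rw [h4] at hXs; exact absurd hXs (by decide)
    · exact h4
  have hXN : X = N := Subgroup.eq_of_le_of_card_ge inf_le_left (by rw [hX16, hN16'])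
  have hσN : ∀ v ∈ N, σ v = v := fun v hv => by
    rw [← hXN] at hv
    exact hv.2
  apply hN1
  rw [eq_bot_iff]
  intro v hv
  rw [mem_bot]
  apply hkf
  have h4 : σ (k v) = k⁻¹ (σ v) := congrArg (fun f : MulAut M => f v) hσk
  rw [hσN v hv, hσN _ (hNk v hv)] at h4
  have h5 : k (k v) = v := by
    rw [h4]
    exact MulAut.apply_inv_self _ k v
  exact fix_of_sq (s := 3) (by decide) hk h5

end Cfsg.Agent.OddCyclic.Eq.FourMod
end

-- part: OddCyclic/Eq/PartIFour
section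
/-!
# (E_q), Part I, `q = 4`, `S > B`: (3.4)
-/

set_option autoImplicit false
set_option linter.unusedSectionVars false

namespace Cfsg.Agent.OddCyclic.Eq.PartIFour

open Subgroup Cfsg.Agent.OddCyclic.CompStandard Cfsg.Agent.OddCyclic.RedFiveThree Cfsg.Agent.OddCyclic.CaseABase
open Cfsg.Agent.OddCyclic.Eq.Line Cfsg.Agent.OddCyclic.Eq.LineT Cfsg.Agent.OddCyclic.Eq.SecQ
open Cfsg.Agent.OddCyclic.Eq.Struct Cfsg.Agent.OddCyclic.T1Module Cfsg.Agent.OddCyclic.Eq.PartI
open Cfsg.Agent.OddCyclic.Eq.FourMod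
open Cfsg.Agent.LieExceptional.CITDefs (IsSyl2)
open Cfsg.Agent.OddCyclic.T1Defs (OddCyc)

universe u

/-! ### a characteristic subgroup of prime order -/

section prime

variable {H : Type*} [Group H] {y : H}

/-- automorphisms commute on a characteristic cyclic subgroup -/
theorem comm_on (hch : ∀ γ : MulAut H, ∀ x ∈ zpowers y, γ x ∈ zpowers y) (γ δ : MulAut H) {z : H}
    (hz : z ∈ zpowers y) : γ (δ z) = δ (γ z) := by
  obtain ⟨l, rfl⟩ := mem_zpowers_iff.mp hz
  obtain ⟨i, hi⟩ := mem_zpowers_iff.mp (hch γ y (mem_zpowers y))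
  obtain ⟨j, hj⟩ := mem_zpowers_iff.mp (hch δ y (mem_zpowers y))
  have h1 : γ (δ y) = y ^ (i * j) := by rw [← hj, map_zpow, ← hi, ← zpow_mul]
  have h2 : δ (γ y) = y ^ (j * i) := by rw [← hi, map_zpow, ← hj, ← zpow_mul]
  rw [map_zpow, map_zpow, map_zpow, map_zpow, h1, h2, mul_comm]

/-- the element of order 3 acts trivially -/
theorem fix_y (hch : ∀ γ : MulAut H, ∀ x ∈ zpowers y, γ x ∈ zpowers y) {κ τ c : MulAut H} (hk : κ ^ 3 = 1)
    (hc : τ * κ * τ⁻¹ * κ = c) {n : ℕ} (hn : c ^ n = 1) (hn3 : ¬ 3 ∣ n) : κ y = y := by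
  have hy := mem_zpowers y
  have h1 : c y = (κ ^ 2) y := by
    rw [← hc]
    show τ (κ (τ⁻¹ (κ y))) = (κ ^ 2) y
    rw [comm_on hch τ κ (hch _ _ (hch _ _ hy))]
    show κ ((τ * τ⁻¹) (κ y)) = _
    rw [mul_inv_cancel, pow_two]
    rfl
  have h2 : ∀ m : ℕ, (c ^ m) y = (κ ^ (2 * m)) y := by
    intro m
    induction m with
    | zero => rfl
    | succ m ih =>
      have e1 : (c ^ (m + 1)) y = c ((c ^ m) y) := by rw [pow_succ']; rfl
      rw [e1, ih, comm_on hch c (κ ^ (2 * m)) hy, h1]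
      show (κ ^ (2 * m) * κ ^ 2) y = _
      rw [← pow_add]
      rfl
  have h3 := h2 n
  rw [hn, pow_eq_pow_mod (2 * n) hk] at h3
  have h4 : 2 * n % 3 = 1 ∨ 2 * n % 3 = 2 := by omega
  rcases h4 with h4 | h4
  · rw [h4, pow_one] at h3
    exact h3.symm
  · rw [h4] at h3
    have h5 : (κ ^ 3) y = κ ((κ ^ 2) y) := by rw [pow_succ']; rfl
    rw [hk, ← h3] at h5
    exact h5.symm

/-- an automorphism fixing `y` and normalising the complement is trivial -/
theorem fix_all (hch : ∀ γ : MulAut H, ∀ x ∈ zpowers y, γ x ∈ zpowers y) {H0 : Subgroup H}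
    (hcent : centralizer (zpowers y : Set H) = zpowers y) (hsup : H0 ⊔ zpowers y = ⊤) (hinf : H0 ⊓ zpowers y = ⊥)
    {κ : MulAut H} (hk : κ y = y) (hk0 : ∀ x ∈ H0, κ x ∈ H0) : κ = 1 := by
  have hz : ∀ z ∈ zpowers y, κ z = z := by
    intro z hz
    obtain ⟨l, rfl⟩ := mem_zpowers_iff.mp hz
    rw [map_zpow, hk]
  have h0 : ∀ x ∈ H0, κ x = x := by
    intro x hx
    have h1 : x * y * x⁻¹ ∈ zpowers y := hch (MulAut.conj x) y (mem_zpowers y)
    have h2 := hz _ h1
    rw [map_mul, map_mul, map_inv, hk] at h2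
    have h3 : x⁻¹ * κ x ∈ centralizer (zpowers y : Set H) := by
      rw [mem_centralizer_iff]
      intro z hz'
      obtain ⟨l, rfl⟩ := mem_zpowers_iff.mp hz'
      have h4 : Commute y (x⁻¹ * κ x) := by
        show y * (x⁻¹ * κ x) = x⁻¹ * κ x * y
        calc y * (x⁻¹ * κ x) = x⁻¹ * (x * y * x⁻¹) * κ x := by group
          _ = x⁻¹ * (κ x * y * (κ x)⁻¹) * κ x := by rw [h2]
          _ = x⁻¹ * κ x * y := by group
      exact h4.zpow_left l
    rw [hcent] at h3
    have h4 : x⁻¹ * κ x ∈ H0 ⊓ zpowers y := mem_inf.mpr ⟨mul_mem (inv_mem hx) (hk0 x hx), h3⟩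
    rw [hinf, mem_bot] at h4
    exact (eq_of_inv_mul_eq_one h4).symm
  let F : Subgroup H :=
    { carrier := {x | κ x = x}
      one_mem' := map_one κ
      mul_mem' := by
        intro a b ha hb
        show κ (a * b) = a * b
        rw [map_mul, show κ a = a from ha, show κ b = b from hb]
      inv_mem' := by
        intro a ha
        show κ a⁻¹ = a⁻¹
        rw [map_inv, show κ a = a from ha] }
  have hF : F = ⊤ := by
    rw [eq_top_iff, ← hsup]
    exact sup_le h0 hz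
  ext x
  have : x ∈ F := by rw [hF]; exact mem_top x
  exact this

theorem mem_zpowers_of_prime {r : ℕ} (hr : r.Prime) (hy : orderOf y = r) {z : H} (hz : z ∈ zpowers y) (hz1 : z ≠ 1) :
    y ∈ zpowers z := by
  have hfin : Finite (zpowers y) := by
    apply Nat.finite_of_card_ne_zero
    rw [Nat.card_zpowers, hy]
    exact hr.ne_zero
  have hle : zpowers z ≤ zpowers y := zpowers_le.mpr hz
  have h1 : orderOf z ∣ r := by
    rw [← hy, ← Nat.card_zpowers, ← Nat.card_zpowers]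
    exact card_dvd_of_le hle
  have h2 : orderOf z = r := by
    rcases (Nat.dvd_prime hr).mp h1 with h | h
    · exact absurd (orderOf_eq_one_iff.mp h) hz1
    · exact h
  have h3 : zpowers z = zpowers y := by
    refine Subgroup.eq_of_le_of_card_ge hle ?_
    rw [Nat.card_zpowers, Nat.card_zpowers, h2, hy]
  rw [h3]
  exact mem_zpowers y

/-- involutions invert -/
theorem inverts (hch : ∀ γ : MulAut H, ∀ x ∈ zpowers y, γ x ∈ zpowers y)
    (hcent : centralizer (zpowers y : Set H) = zpowers y) {r : ℕ} (hr : r.Prime) (hr2 : r ≠ 2) (hy : orderOf y = r)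
    {a : H} (ha : a * a = 1) (ha1 : a ≠ 1) : a * y * a⁻¹ = y⁻¹ := by
  have hy' : a * y * a⁻¹ ∈ zpowers y := hch (MulAut.conj a) y (mem_zpowers y)
  have hcz : ∀ z ∈ zpowers y, ∀ w ∈ zpowers y, z * w = w * z := by
    intro z hz w hw
    obtain ⟨i, rfl⟩ := mem_zpowers_iff.mp hz
    obtain ⟨j, rfl⟩ := mem_zpowers_iff.mp hw
    rw [← zpow_add, ← zpow_add, add_comm]
  by_contra hcon
  set w := y * (a * y * a⁻¹) with hw
  have hwz : w ∈ zpowers y := mul_mem (mem_zpowers y) hy'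
  have hw1 : w ≠ 1 := by
    intro h
    apply hcon
    exact eq_inv_of_mul_eq_one_right h
  have haw : a * w = w * a := by
    have h1 : a * w * a⁻¹ = w := by
      calc a * w * a⁻¹ = (a * y * a⁻¹) * ((a * a) * y * (a * a)⁻¹) := by rw [hw]; group
        _ = (a * y * a⁻¹) * y := by rw [ha]; group
        _ = w := by rw [hw]; exact hcz _ hy' _ (mem_zpowers y)
    calc a * w = (a * w * a⁻¹) * a := by group
      _ = w * a := by rw [h1]
  obtain ⟨i, hi⟩ := mem_zpowers_iff.mp (mem_zpowers_of_prime hr hy hwz hw1)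
  have hac : a ∈ centralizer (zpowers y : Set H) := by
    rw [mem_centralizer_iff]
    intro z hz
    obtain ⟨j, rfl⟩ := mem_zpowers_iff.mp hz
    have h2 : Commute w a := haw.symm
    rw [← hi]
    exact (h2.zpow_left i).zpow_left j
  rw [hcent] at hac
  have h3 : orderOf a ∣ r := by
    have hfin : Finite (zpowers y) := by
      apply Nat.finite_of_card_ne_zero
      rw [Nat.card_zpowers, hy]
      exact hr.ne_zero
    rw [← hy, ← Nat.card_zpowers, ← Nat.card_zpowers]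
    exact card_dvd_of_le (zpowers_le.mpr hac)
  have h4 : orderOf a ∣ 2 := orderOf_dvd_of_pow_eq_one (by rw [pow_two]; exact ha)
  have h5 : Nat.gcd r 2 = 1 := (Nat.coprime_primes hr Nat.prime_two).mpr hr2
  have h6 := Nat.dvd_gcd h3 h4
  rw [h5, Nat.dvd_one, orderOf_eq_one_iff] at h6
  exact ha1 h6

end prime

/-! ### the situation -/

variable {G : Type u} [Group G] [Finite G] {U V B P : Subgroup G}

/-- the additional data for `q = 4` -/
structure Ex (U V : Subgroup G) : Prop where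
  tor : ∃ k ∈ Mp U V, k ^ 3 = 1 ∧ (∀ v ∈ V, k * v * k⁻¹ * v⁻¹ ∈ U → v ∈ U) ∧ ∀ u ∈ U, k * u = u * k → u = 1
  inv : ∃ s ∈ Mp U V, (∃ n, s ^ 2 ^ n = 1) ∧ s ∉ centralizer (U : Set G)
  fus : ∀ u ∈ U, u ≠ 1 → ∀ g : G, u ∈ cj g U → ∃ c ∈ centralizer ({u} : Set G), cj g U = cj c U
  loc : ∀ u ∈ U, u ≠ 1 → ∃ T : Subgroup G, Lc U V u T

/-- `P/K` is faithful on `W/U` -/
theorem mem_Kc_of (h : PtT 4 2 U V B) (m : Mn U V P) {p : G} (hp : p ∈ P)
    (hpw : ∀ w ∈ Wc P V, p * w * p⁻¹ * w⁻¹ ∈ U) : p ∈ Kc P V := by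
  rw [mem_Kc]
  refine ⟨hp, fun x hx => ?_⟩
  refine Subgroup.eq_of_le_of_card_ge ?_ (card_cj p _).ge
  rintro _ ⟨w, hw, rfl⟩
  show p * w * p⁻¹ ∈ cj x V
  have h1 := hpw w (cj_le_Wc hx hw)
  have h2 : p * w * p⁻¹ = (p * w * p⁻¹ * w⁻¹) * w := by group
  rw [h2]
  exact mul_mem ((fr h m).U_le (m.PU hx) h1) hw

theorem rank_one (hc : OddCyc G) (hs : CompStart.SecZero G) (h : PtT 4 2 U V B) (m : Mn U V P) {E : Subgroup G}
    (hE : E ≤ P) (hE2 : ∀ e ∈ E, e * e = 1) : (Kc P V).relIndex E ≤ 2 := by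
  rw [← card_im hE]
  exact (PartI.outR hc hs h m).1.card_le (dat hc hs h m).odd _ (im_sq hE2)

/-- commutators in `P` modulo `K` -/
theorem act_triv {k : G} (hk : k ∈ NP P V) (h1 : act (secP P V) ⟨k, hk⟩ = 1) {p : G} (hp : p ∈ P) :
    k * p * k⁻¹ * p⁻¹ ∈ Kc P V := (act_eq_one (secP P V) ⟨k, hk⟩).mp h1 p hp

/-- `(centralizer {a}).relIndex W` for `a` in a line of the other point -/
theorem relIndex_le (hc : OddCyc G) (hs : CompStart.SecZero G) (h : PtT 4 2 U V B) (m : Mn U V P) {g x a : G}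
    (c : Fr.Cr P V g) (hx : x ∈ P) (ha : a ∈ cj g (cj x V)) :
    (centralizer ({a} : Set G)).relIndex (Wc P V) ≤ 8 ∧
      (U ⊓ cj g U = ⊥ → (centralizer ({a} : Set G)).relIndex (Wc P V) ≤ 2) := by
  have f := fr h m
  set W0 := cj g (Kc P V) ⊓ Wc P V with hW0
  have h1 : (cj g (Kc P V)).relIndex (Wc P V) ≤ 2 := by
    have h4 : Wc P V = cj g (cj g⁻¹ (Wc P V)) := by rw [cj_cj_inv]
    have h5 : (cj g (Kc P V)).relIndex (Wc P V) = (Kc P V).relIndex (cj g⁻¹ (Wc P V)) := by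
      conv_lhs => rw [h4]
      exact Subgroup.relIndex_map_map_of_injective _ _ (MulAut.conj g).injective
    rw [h5]
    exact rank_one hc hs h m (f.W_inv_le c) (f.cjW_sq g⁻¹)
  have hle : ∀ n, (centralizer ({a} : Set G)).relIndex W0 ≤ n →
      (centralizer ({a} : Set G)).relIndex (Wc P V) ≤ n * 2 := by
    intro n hn
    have h3 : (centralizer ({a} : Set G) ⊓ W0).relIndex (Wc P V) =
        (centralizer ({a} : Set G)).relIndex W0 * (cj g (Kc P V)).relIndex (Wc P V) := by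
      have h4 := Subgroup.relIndex_mul_relIndex (centralizer ({a} : Set G) ⊓ W0) W0 (Wc P V) inf_le_right inf_le_right
      rw [inf_relIndex_right] at h4
      rw [← h4]
      congr 1
      rw [hW0, inf_relIndex_right]
    have h4 : (centralizer ({a} : Set G)).relIndex (Wc P V) ≤
        (centralizer ({a} : Set G) ⊓ W0).relIndex (Wc P V) := by
      refine Nat.le_of_dvd (Nat.pos_of_ne_zero Subgroup.index_ne_zero_of_finite) ?_
      exact Subgroup.relIndex_dvd_of_le_left _ inf_le_left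
    rw [h3] at h4
    exact h4.trans (Nat.mul_le_mul hn h1)
  -- elements of `W⁰` act on the line `V^{gx}` trivially modulo `U^g`
  have hact : ∀ w ∈ W0, ∀ d ∈ cj g (cj x V), w * d * w⁻¹ * d⁻¹ ∈ cj g U := by
    intro w hw d hd
    have h3 := f.act' (mem_cj.mp hw.1) hx (mem_cj.mp hd)
    rw [mem_cj]
    have h4 : g⁻¹ * (w * d * w⁻¹ * d⁻¹) * g = g⁻¹ * w * g * (g⁻¹ * d * g) * (g⁻¹ * w * g)⁻¹ * (g⁻¹ * d * g)⁻¹ := by
      group
    rw [h4]
    exact h3
  constructor
  · refine (hle 4 ?_)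
    have h3 : Nat.card (cj g U) = 4 := by rw [card_cj, h.cardU]
    rw [← h3]
    refine relIndex_le_of_comm (D := Wc P V) inf_le_right (fun u hu v hv => f.cm_WW u hu v hv) ?_ ?_
    · intro w hw
      have h4 : a ∈ P := f.cr_le c (cj_mono (cj_le_Wc hx) ha)
      exact forall_of_mem_normalizer (norm_Wc P V h4) _ hw
    · intro w hw
      have h4 : a * w * a⁻¹ * w⁻¹ = (w * a * w⁻¹ * a⁻¹)⁻¹ := by group
      rw [h4]
      exact inv_mem (hact w hw a ha)
  · intro hbot
    refine (hle 1 ?_)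
    rw [Nat.le_one_iff_eq_zero_or_eq_one]
    right
    rw [relIndex_eq_one]
    intro w hw
    -- an element `d` of the line in `K`, not in `U^g`
    obtain ⟨d, ⟨hdK, hdV⟩, hdU⟩ : ∃ d ∈ Kc P V ⊓ cj g (cj x V), d ∉ cj g U := by
      by_contra hcon
      push Not at hcon
      have h3 := Subgroup.card_le_of_le (H := Kc P V ⊓ cj g (cj x V)) (K := cj g U) hcon
      rw [card_cj, h.cardU] at h3
      have h4 := FrT.card_mul_relIndex (Kc P V) (cj g (cj x V))
      rw [card_cj, card_cj, h.cardV] at h4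
      have h5 : (Kc P V).relIndex (cj g (cj x V)) ≤ 2 :=
        rank_one hc hs h m ((cj_mono (cj_le_Wc hx)).trans (f.cr_le c)) (by rw [← cj_mul]; exact f.cj_sq _)
      have h6 := Nat.mul_le_mul h3 h5
      omega
    have hwd : w * d = d * w := by
      have h3 := hact w hw d hdV
      have h4 : d * w * d⁻¹ * w⁻¹ ∈ U := Kc_triv h m hdK w hw.2
      have h5 : w * d * w⁻¹ * d⁻¹ ∈ U ⊓ cj g U := by
        refine mem_inf.mpr ⟨?_, h3⟩
        have h6 : w * d * w⁻¹ * d⁻¹ = (d * w * d⁻¹ * w⁻¹)⁻¹ := by group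
        rw [h6]
        exact inv_mem h4
      rw [hbot, mem_bot] at h5
      calc w * d = (w * d * w⁻¹ * d⁻¹) * (d * w) := by group
        _ = d * w := by rw [h5, one_mul]
    have h3 := f.free' (mem_cj.mp hw.1) hx (mem_cj.mp hdV) (fun h4 => hdU (mem_cj.mpr h4)) (by
      calc g⁻¹ * w * g * (g⁻¹ * d * g) = g⁻¹ * (w * d) * g := by group
        _ = g⁻¹ * d * g * (g⁻¹ * w * g) := by rw [hwd]; group)
    have h4 := h3 _ (mem_zpowers _) _ (mem_cj.mp ha)
    rw [mem_centralizer_singleton_iff]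
    calc w * a = g * (g⁻¹ * w * g * (g⁻¹ * a * g)) * g⁻¹ := by group
      _ = g * (g⁻¹ * a * g * (g⁻¹ * w * g)) * g⁻¹ := by rw [h4]
      _ = a * w := by group

/-- **Part I, `q = 4`, `S > B`** -/
theorem false (hc : OddCyc G) (hs : CompStart.SecZero G) (h : PtT 4 2 U V B) (e : Ex U V) : False := by
  classical
  obtain ⟨P, m⟩ := PartI.exists_min h
  have f := fr h m
  obtain ⟨⟨r, y, hr, hr2, hy, hch, hcent, hsup, hinf, -⟩, -⟩ := PartI.outR hc hs h m
  have h3H := three_H0 h m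
  have hr3 : r ≠ 3 := by
    rintro rfl
    exact h3H (hy ▸ _root_.orderOf_dvd_natCard y)
  obtain ⟨py, rfl⟩ := mk_surj (secP P V) y
  -- elements of `C₀` have order prime to 3
  have h3C : ∀ c ∈ Co U V, ¬ 3 ∣ orderOf c := by
    intro c hc h1
    apply h.three
    have h2 : orderOf (⟨c, hc.2⟩ : centralizer (U : Set G)) = orderOf c := Subgroup.orderOf_mk c hc.2
    rw [← h2] at h1
    exact h1.trans (_root_.orderOf_dvd_natCard _)
  have hU2 : ∀ x ∈ U, x * x = 1 := fun x hx => h.sq x (h.UV hx)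
  obtain ⟨k, hkM, hk3, hkV, hkU⟩ := e.tor
  obtain ⟨s₀, hsM, ⟨n₀, hs2⟩, hsU⟩ := e.inv
  have hMP := Mp_le m.MP
  -- the products `s k s⁻¹ k`
  have hc0 : ∀ s ∈ Mp U V, (∃ n, s ^ 2 ^ n = 1) → s ∉ centralizer (U : Set G) → s * k * s⁻¹ * k ∈ Co U V := by
    rintro s hsM ⟨n, hs2⟩ hsU
    exact mem_inf.mpr ⟨mul_mem (mul_mem (mul_mem (mem_inf.mp hsM).1 (mem_inf.mp hkM).1)
      (inv_mem (mem_inf.mp hsM).1)) (mem_inf.mp hkM).1, sym3 h.cardU hU2 hkM.2 hk3 hkU hsM.2 hs2 hsU⟩
  -- `k` centralises `P/K`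
  have hκ : act (secP P V) ⟨k, hMP hkM⟩ = 1 := by
    have hc1 := hc0 s₀ hsM ⟨n₀, hs2⟩ hsU
    set κ := act (secP P V) ⟨k, hMP hkM⟩ with hκ
    set τ := act (secP P V) ⟨s₀, hMP hsM⟩ with hτ
    have hc2 : s₀ * k * s₀⁻¹ * k ∈ NP P V := hMP (Co_le_Mp hc1)
    have h1 : τ * κ * τ⁻¹ * κ = act (secP P V) ⟨s₀ * k * s₀⁻¹ * k, hc2⟩ := by
      rw [hκ, hτ, ← map_inv, ← map_mul, ← map_mul, ← map_mul]
      rfl
    have h2 : (act (secP P V) ⟨s₀ * k * s₀⁻¹ * k, hc2⟩) ^ orderOf (s₀ * k * s₀⁻¹ * k) = 1 := by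
      rw [← map_pow]
      have h3 : (⟨s₀ * k * s₀⁻¹ * k, hc2⟩ : NP P V) ^ orderOf (s₀ * k * s₀⁻¹ * k) = 1 :=
        Subtype.ext (pow_orderOf_eq_one _)
      rw [h3, map_one]
    have h3 : κ ^ 3 = 1 := by
      rw [hκ, ← map_pow]
      have h3 : (⟨k, hMP hkM⟩ : NP P V) ^ 3 = 1 := Subtype.ext hk3
      rw [h3, map_one]
    have h4 := fix_y hch h3 h1 h2 (h3C _ hc1)
    refine fix_all hch hcent hsup hinf h4 ?_
    intro x hx
    exact inv_H0 m κ ⟨⟨k, hMP hkM⟩, hkM, rfl⟩ x hx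
  have hkP : ∀ p ∈ P, k * p * k⁻¹ * p⁻¹ ∈ Kc P V := fun p hp => act_triv (hMP hkM) hκ hp
  -- the critical pair
  obtain ⟨g, c⟩ := PartI.exists_cr h m
  obtain ⟨g, c, x, hx, hne⟩ : ∃ g : G, Fr.Cr P V g ∧ ∃ x ∈ P, ¬ cj g (cj x V) ≤ Kc P V := by
    obtain ⟨x, hx, h1⟩ := exists_not_cm c.not
    have h2 : ¬ Cm (Wc P V) (cj g⁻¹ (cj x V)) := by
      intro h3
      have h4 := h3.cj g
      rw [cj_cj_inv] at h4
      exact h1 h4.symm
    obtain ⟨y, hy, h3⟩ := exists_not_cm h2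
    have h4 : ¬ Cm (cj x V) (cj g (cj y V)) := by
      intro h5
      have h6 := h5.symm.cj g⁻¹
      rw [cj_inv_cj] at h6
      exact h3 h6
    by_cases h5 : cj g (cj y V) ≤ Kc P V
    · refine ⟨g⁻¹, c.inv, x, hx, fun h7 => ?_⟩
      refine f.not_both c hx hy h4 ?_ h5
      have h8 := cj_mono (g := g) h7
      rwa [cj_cj_inv] at h8
    · exact ⟨g, c, y, hy, h5⟩
  obtain ⟨a, ha, haK⟩ := SetLike.not_le_iff_exists.mp hne
  have haP : a ∈ P := f.cr_le c (cj_mono (cj_le_Wc hx) ha)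
  have ha2 : a * a = 1 := by
    rw [← cj_mul] at ha
    exact f.cj_sq _ a ha
  have hAy : mk (secP P V) ⟨a, haP⟩ * _root_.Cfsg.Agent.OddCyclic.Eq.SecQ.mk (secP P V) py * (mk (secP P V) ⟨a, haP⟩)⁻¹ = (_root_.Cfsg.Agent.OddCyclic.Eq.SecQ.mk (secP P V) py)⁻¹ := by
    refine inverts hch hcent hr hr2 hy ?_ ?_
    · rw [← map_mul]
      have : (⟨a, haP⟩ : P) * ⟨a, haP⟩ = 1 := Subtype.ext ha2
      rw [this, map_one]
    · rw [Ne, SecQ.mk_eq_one]
      exact haK
  -- the module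
  set sW := secW h m with hsW
  have hPN : ∀ p ∈ P, p ∈ NW P U V := fun p hp => P_le_NW m hp
  have hMN : ∀ p ∈ Mp U V, p ∈ NW P U V := fun p hp => Mp_norm_W m hp
  have htriv : ∀ {p : G} (hp : p ∈ NW P U V), p ∈ Kc P V → actM sW ⟨p, hp⟩ = 1 := by
    intro p hp hpK
    exact (actM_eq_one sW _).2 (Kc_triv h m hpK)
  have heq : ∀ {p p' : G} (hp : p ∈ NW P U V) (hp' : p' ∈ NW P U V), p * p'⁻¹ ∈ Kc P V →
      actM sW ⟨p, hp⟩ = actM sW ⟨p', hp'⟩ := by
    intro p p' hp hp' hK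
    have h1 : (⟨p, hp⟩ : NW P U V) = ⟨p * p'⁻¹, mul_mem hp (inv_mem hp')⟩ * ⟨p', hp'⟩ := Subtype.ext (by
      show p = p * p'⁻¹ * p'
      group)
    rw [h1, map_mul, htriv _ hK, one_mul]
  set Y := actM sW ⟨py, hPN py py.2⟩ with hY
  set κ := actM sW ⟨k, hMN k hkM⟩ with hκ'
  set α := actM sW ⟨a, hPN a haP⟩ with hα
  have hkcomm : ∀ {p : G} (hp : p ∈ P), κ * actM sW ⟨p, hPN p hp⟩ = actM sW ⟨p, hPN p hp⟩ * κ := by
    intro p hp
    rw [hκ', ← map_mul, ← map_mul]
    refine heq _ _ ?_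
    have h1 : k * p * (p * k)⁻¹ = k * p * k⁻¹ * p⁻¹ := by group
    show k * p * (p * k)⁻¹ ∈ Kc P V
    rw [h1]
    exact hkP p hp
  have hYr : Y ^ r = 1 := by
    rw [hY, ← map_pow]
    refine htriv (p := (py : G) ^ r) (pow_mem (hPN py py.2) r) ?_
    have h1 : _root_.Cfsg.Agent.OddCyclic.Eq.SecQ.mk (secP P V) (py ^ r) = 1 := by rw [map_pow, ← hy, pow_orderOf_eq_one]
    exact (SecQ.mk_eq_one (secP P V)).mp h1
  have hY1 : Y ≠ 1 := by
    intro h1
    have h2 := mem_Kc_of h m py.2 ((actM_eq_one sW _).mp h1)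
    have h3 : _root_.Cfsg.Agent.OddCyclic.Eq.SecQ.mk (secP P V) py = 1 := (SecQ.mk_eq_one (secP P V)).mpr h2
    rw [h3, orderOf_one] at hy
    exact hr.one_lt.ne hy
  have hk3' : κ ^ 3 = 1 := by
    rw [hκ', ← map_pow]
    have h3 : (⟨k, hMN k hkM⟩ : NW P U V) ^ 3 = 1 := Subtype.ext hk3
    rw [h3, map_one]
  have hαY : α * Y = Y⁻¹ * α := by
    rw [hα, hY, ← map_inv, ← map_mul, ← map_mul]
    refine heq _ _ ?_
    have h1 : _root_.Cfsg.Agent.OddCyclic.Eq.SecQ.mk (secP P V) (⟨a, haP⟩ * py * ⟨a, haP⟩⁻¹) = _root_.Cfsg.Agent.OddCyclic.Eq.SecQ.mk (secP P V) py⁻¹ := by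
      rw [map_mul, map_mul, map_inv, map_inv]
      exact hAy
    have h2 := (SecQ.mk_eq (secP P V)).mp h1
    have h3 : a * (py : G) * ((py : G)⁻¹ * a)⁻¹ = (((⟨a, haP⟩ * py * ⟨a, haP⟩⁻¹ : P)) : G) * ((py⁻¹ : P) : G)⁻¹ := by
      show a * (py : G) * ((py : G)⁻¹ * a)⁻¹ = a * py * a⁻¹ * (py : G)⁻¹⁻¹
      group
    show a * (py : G) * ((py : G)⁻¹ * a)⁻¹ ∈ Kc P V
    rw [h3]
    exact h2
  -- `κ` has no fixed points
  have hT3 : ∀ v : VQ sW, v * κ v * κ (κ v) = 1 := by
    let T3 : VQ sW →* VQ sW :=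
      { toFun := fun v => v * κ v * κ (κ v)
        map_one' := by simp only [_root_.map_one, _root_.mul_one]
        map_mul' := by
          intro v w
          rw [map_mul, map_mul]
          calc v * w * (κ v * κ w) * (κ (κ v) * κ (κ w)) = (v * κ v * (w * κ w)) * (κ (κ v) * κ (κ w)) := by
                rw [mul_mul_mul_comm v w (κ v) (κ w)]
            _ = _ := by rw [mul_mul_mul_comm (v * κ v) (w * κ w)] }
    have hT3k : ∀ w ∈ Wc P V, ∀ hw : w ∈ Wc P V, T3 (mkM sW ⟨w, hw⟩) = 1 := by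
      intro w hw0
      induction hw0 using Subgroup.closure_induction with
      | mem w hw0 =>
        intro hw
        obtain ⟨z, hz, hwz⟩ := hw0
        obtain ⟨v, hv, rfl⟩ := hwz
        have hvW : v ∈ Wc P V := le_Wc P V hv
        have hv' : k * v * k⁻¹ ∈ V := forall_of_mem_normalizer hkM.1 _ hv
        have hv'' : k * (k * v * k⁻¹) * k⁻¹ ∈ V := forall_of_mem_normalizer hkM.1 _ hv'
        have h1 : v * (k * v * k⁻¹) * (k * (k * v * k⁻¹) * k⁻¹) ∈ U := by
          apply hkV _ (mul_mem (mul_mem hv hv') hv'')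
          have h2 : k * (v * (k * v * k⁻¹) * (k * (k * v * k⁻¹) * k⁻¹)) * k⁻¹ =
              (k * v * k⁻¹) * (k * (k * v * k⁻¹) * k⁻¹) * (k ^ 3 * v * (k ^ 3)⁻¹) := by
            rw [pow_succ, pow_two]; group
          have h3 : k ^ 3 * v * (k ^ 3)⁻¹ = v := by rw [hk3]; group
          rw [h2, h3, f.V_comm (mul_mem hv' hv'') hv, ← mul_assoc, mul_inv_cancel]
          exact one_mem _
        have h4 : mkM sW ⟨z * v * z⁻¹, hw⟩ = actM sW ⟨z, hPN z hz⟩ (mkM sW ⟨v, hvW⟩) := by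
          rw [actM_mk]
          rfl
        have h5 : T3 (mkM sW ⟨v, hvW⟩) = 1 := by
          show mkM sW ⟨v, hvW⟩ * κ (mkM sW ⟨v, hvW⟩) * κ (κ (mkM sW ⟨v, hvW⟩)) = 1
          rw [hκ', actM_mk, actM_mk, ← map_mul, ← map_mul, mkM_eq_one]
          exact h1
        show T3 (mkM sW ⟨z * v * z⁻¹, hw⟩) = 1
        rw [h4]
        have h6 : ∀ v, κ (actM sW ⟨z, hPN z hz⟩ v) = actM sW ⟨z, hPN z hz⟩ (κ v) := fun v =>
          congrArg (fun φ : MulAut (VQ sW) => φ v) (hkcomm hz)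
        show actM sW ⟨z, hPN z hz⟩ (mkM sW ⟨v, hvW⟩) * κ (actM sW ⟨z, hPN z hz⟩ (mkM sW ⟨v, hvW⟩)) *
          κ (κ (actM sW ⟨z, hPN z hz⟩ (mkM sW ⟨v, hvW⟩))) = 1
        rw [h6, h6, ← map_mul, ← map_mul]
        have h7 : mkM sW ⟨v, hvW⟩ * κ (mkM sW ⟨v, hvW⟩) * κ (κ (mkM sW ⟨v, hvW⟩)) = 1 := h5
        rw [h7, map_one]
      | one =>
        intro hw
        have h1 : mkM sW ⟨1, hw⟩ = 1 := (mkM_eq_one sW).mpr (one_mem U)
        rw [h1, map_one]
      | mul v w hv hw ihv ihw =>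
        intro hvw
        have h1 : mkM sW ⟨v * w, hvw⟩ = mkM sW ⟨v, hv⟩ * mkM sW ⟨w, hw⟩ := by
          rw [← map_mul]
          rfl
        rw [h1, map_mul, ihv hv, ihw hw, mul_one]
      | inv v hv ihv =>
        intro hvi
        have h1 : mkM sW ⟨v⁻¹, hvi⟩ = (mkM sW ⟨v, hv⟩)⁻¹ := by
          rw [← map_inv]
          rfl
        rw [h1, map_inv, ihv hv, inv_one]
    intro v
    obtain ⟨w, rfl⟩ := mkM_surj sW v
    exact hT3k w w.2 w.2
  have hkf : ∀ v, κ v = v → v = 1 := by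
    intro v hv
    have h1 := hT3 v
    rw [hv, hv, vq_sq, one_mul] at h1
    exact h1
  -- the index
  have hcomap : (fixS α).index ≤ (centralizer ({a} : Set G)).relIndex (Wc P V) := by
    have h1 : (centralizer ({a} : Set G)).subgroupOf (Wc P V) ≤ (fixS α).comap (mkM sW) := by
      intro w hw
      rw [mem_comap, mem_fixS, hα, actM_eq_iff]
      have h2 := mem_centralizer_singleton_iff.mp (mem_subgroupOf.1 hw)
      have h3 : a * (w : G) * a⁻¹ * (w : G)⁻¹ = 1 := by rw [← h2]; group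
      show a * (w : G) * a⁻¹ * (w : G)⁻¹ ∈ U
      rw [h3]
      exact one_mem _
    have h2 : ((fixS α).comap (mkM sW)).index = (fixS α).index := index_comap_of_surjective _ (mkM_surj sW)
    rw [← h2]
    exact Nat.le_of_dvd (Nat.pos_of_ne_zero Subgroup.index_ne_zero_of_finite) (Subgroup.index_dvd_of_le h1)
  obtain ⟨hidx8, hidx2⟩ := relIndex_le hc hs h m c hx ha
  obtain ⟨hmod1, hmod2⟩ := FourMod.main (vq_sq sW) hr hr2 hr3 hYr hY1 hk3' hkf (hkcomm py.2) (hkcomm haP) hαY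
    (hcomap.trans hidx8)
  -- (ii)
  have hmod1' : 2 < (fixS α).index := hmod1
  have hbot : U ⊓ cj g U ≠ ⊥ := fun h1 => by
    have := hcomap.trans (hidx2 h1)
    omega
  obtain ⟨⟨u, hu⟩, hu1'⟩ := Subgroup.ne_bot_iff_exists_ne_one.1 hbot
  have hu1 : u ≠ 1 := fun h1 => hu1' (Subtype.ext h1)
  obtain ⟨huU, huU'⟩ := hu
  -- (iii)
  obtain ⟨T, l⟩ := e.loc u huU hu1
  obtain ⟨σ, hσM, hσ2, hσD, hσU⟩ := exists_sigma h.cardU hU2 huU hu1 l
  set X := centralizer ({u} : Set G) with hX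
  obtain ⟨c', hc'X, hc'⟩ := e.fus u huU hu1 g huU'
  by_cases hσy : act (secP P V) ⟨σ, hMP hσM⟩ (_root_.Cfsg.Agent.OddCyclic.Eq.SecQ.mk (secP P V) py) = _root_.Cfsg.Agent.OddCyclic.Eq.SecQ.mk (secP P V) py
  · -- (v)
    obtain ⟨n, hn⟩ := hσ2
    refine hmod2 (actM sW ⟨σ, hMN σ hσM⟩) ⟨n, ?_⟩ ?_ ?_
    · rw [← map_pow]
      have h3 : (⟨σ, hMN σ hσM⟩ : NW P U V) ^ 2 ^ n = 1 := Subtype.ext hn
      rw [h3, map_one]
    · rw [hY, ← map_mul, ← map_mul]
      refine heq _ _ ?_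
      rw [act_mk] at hσy
      have h2 := (SecQ.mk_eq (secP P V)).mp hσy
      have h3 : σ * (py : G) * ((py : G) * σ)⁻¹ = σ * (py : G) * σ⁻¹ * (py : G)⁻¹ := by group
      show σ * (py : G) * ((py : G) * σ)⁻¹ ∈ Kc P V
      rw [h3]
      exact h2
    · have hcσ := hc0 σ hσM ⟨n, hn⟩ hσU
      have hcP : σ * k * σ⁻¹ * k ∈ P := m.lt.le hcσ
      set S := actM sW ⟨σ, hMN σ hσM⟩ with hS
      set C := actM sW ⟨σ * k * σ⁻¹ * k, hPN _ hcP⟩ with hC
      have h1 : S * κ * S⁻¹ * κ = C := by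
        rw [hS, hκ', hC, ← map_inv, ← map_mul, ← map_mul, ← map_mul]
        rfl
      have h2 : κ * C = C * κ := hkcomm hcP
      have h3 : C ^ orderOf (σ * k * σ⁻¹ * k) = 1 := by
        rw [hC, ← map_pow]
        have h3 : (⟨σ * k * σ⁻¹ * k, hPN _ hcP⟩ : NW P U V) ^ orderOf (σ * k * σ⁻¹ * k) = 1 :=
          Subtype.ext (pow_orderOf_eq_one _)
        rw [h3, map_one]
      have h4 : S * κ * S⁻¹ = C * κ⁻¹ := by rw [← h1]; group
      have h5 : C ^ 3 = 1 := by
        have h6 : (S * κ * S⁻¹) ^ 3 = 1 := by rw [conj_pow, hk3', mul_one, mul_inv_cancel]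
        have h7 : Commute C κ⁻¹ := (Commute.inv_right (show Commute C κ from h2.symm))
        rw [h4, h7.mul_pow, inv_pow, hk3', inv_one, mul_one] at h6
        exact h6
      have h6 : C = 1 := by
        have h7 : orderOf C ∣ 3 := orderOf_dvd_of_pow_eq_one h5
        have h8 : orderOf C ∣ orderOf (σ * k * σ⁻¹ * k) := orderOf_dvd_of_pow_eq_one h3
        rcases (Nat.dvd_prime Nat.prime_three).mp h7 with h9 | h9
        · exact orderOf_eq_one_iff.mp h9
        · exact absurd (h9 ▸ h8) (h3C _ hcσ)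
      rw [h6, one_mul] at h4
      calc S * κ = (S * κ * S⁻¹) * S := by group
        _ = κ⁻¹ * S := by rw [h4]
  · -- (iv)
    have hyM : _root_.Cfsg.Agent.OddCyclic.Eq.SecQ.mk (secP P V) py ≠ 1 := by
      intro h3
      rw [h3, orderOf_one] at hy
      exact hr.one_lt.ne hy
    set z : G := (py : G) * (σ * (py : G)⁻¹ * σ⁻¹) with hz
    have hzP : z ∈ P := mul_mem py.2 (forall_of_mem_normalizer (m.MP hσM) _ (inv_mem py.2))
    have hmz : mk (secP P V) ⟨z, hzP⟩ = _root_.Cfsg.Agent.OddCyclic.Eq.SecQ.mk (secP P V) py * (act (secP P V) ⟨σ, hMP hσM⟩ (_root_.Cfsg.Agent.OddCyclic.Eq.SecQ.mk (secP P V) py))⁻¹ := by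
      rw [act_mk, ← map_inv, ← map_mul]
      congr 1
      apply Subtype.ext
      show (py : G) * (σ * (py : G)⁻¹ * σ⁻¹) = (py : G) * (σ * (py : G) * σ⁻¹)⁻¹
      group
    have hmzR : mk (secP P V) ⟨z, hzP⟩ ∈ zpowers (_root_.Cfsg.Agent.OddCyclic.Eq.SecQ.mk (secP P V) py) := by
      rw [hmz]
      exact mul_mem (mem_zpowers _) (inv_mem (hch _ _ (mem_zpowers _)))
    have hmz1 : mk (secP P V) ⟨z, hzP⟩ ≠ 1 := by
      rw [hmz, Ne, mul_inv_eq_one]
      exact fun h1 => hσy h1.symm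
    have hmzr : orderOf (mk (secP P V) ⟨z, hzP⟩) = r := by
      have h1 := mem_zpowers_of_prime hr hy hmzR hmz1
      have h2 : zpowers (mk (secP P V) ⟨z, hzP⟩) = zpowers (_root_.Cfsg.Agent.OddCyclic.Eq.SecQ.mk (secP P V) py) :=
        le_antisymm (zpowers_le.mpr hmzR) (zpowers_le.mpr h1)
      rw [← Nat.card_zpowers, h2, Nat.card_zpowers, hy]
    -- `z` normalises all members of `Δ`
    have hPX : P ≤ X := by
      intro p hp
      rw [hX, mem_centralizer_singleton_iff]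
      exact (mem_centralizer_iff.mp (m.PU hp) u huU).symm
    have hpy : ∀ c ∈ X, (py : G) * σ * (py : G)⁻¹ ∈ normalizer (cj c U : Set G) := by
      intro c hc
      have h1 := hσD ((py : G)⁻¹ * c) (mul_mem (inv_mem (hPX py.2)) hc)
      rw [← cj_eq_iff] at h1 ⊢
      have h2 : (py : G) * σ * (py : G)⁻¹ = (py : G) * (σ * (py : G)⁻¹) := by group
      rw [h2, cj_mul, cj_mul, ← cj_mul _ c, h1, ← cj_mul, mul_inv_cancel_left]
    have hzD : z ∈ normalizer (cj c' U : Set G) := by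
      have h1 : z = ((py : G) * σ * (py : G)⁻¹) * σ⁻¹ := by rw [hz]; group
      rw [h1]
      exact mul_mem (hpy c' hc'X) (inv_mem (hσD c' hc'X))
    -- the `r`-part
    obtain ⟨b, w, hbr, hbw⟩ : ∃ b w : ℕ, orderOf z = r ^ w * b ∧ ¬ r ∣ b := by
      obtain ⟨w, b, hb, hzo⟩ := Nat.exists_eq_pow_mul_and_not_dvd (orderOf_pos z).ne' r hr.ne_one
      exact ⟨b, w, hzo, hb⟩
    set z' := z ^ b with hz'
    have hz'o : Odd (orderOf z') := by
      have h1 : orderOf z' ∣ r ^ w := by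
        apply orderOf_dvd_of_pow_eq_one
        rw [hz', ← pow_mul, mul_comm, ← hbr, pow_orderOf_eq_one]
      exact Odd.of_dvd_nat ((hr.odd_of_ne_two hr2).pow) h1
    have hz'P : z' ∈ P := pow_mem hzP b
    have hmz' : mk (secP P V) ⟨z', hz'P⟩ = mk (secP P V) ⟨z, hzP⟩ ^ b := by
      rw [← map_pow]
      rfl
    have hmz'1 : mk (secP P V) ⟨z', hz'P⟩ ≠ 1 := by
      rw [hmz']
      intro h1
      apply hbw
      rw [← hmzr]
      exact orderOf_dvd_of_pow_eq_one h1
    have hmz'R : mk (secP P V) ⟨z', hz'P⟩ ∈ zpowers (_root_.Cfsg.Agent.OddCyclic.Eq.SecQ.mk (secP P V) py) := by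
      rw [hmz']
      exact pow_mem hmzR b
    have hz'c : z' ∈ centralizer (cj g U : Set G) := by
      refine odd_cent (by rw [card_cj, h.cardU]) ?_ huU' hu1 ?_ ?_ hz'o
      · rintro _ ⟨v, hv, rfl⟩
        show (g * v * g⁻¹) * (g * v * g⁻¹) = 1
        calc (g * v * g⁻¹) * (g * v * g⁻¹) = g * (v * v) * g⁻¹ := by group
          _ = 1 := by rw [hU2 v hv]; group
      · rw [hc']
        exact pow_mem hzD b
      · have h1 := mem_centralizer_iff.mp (m.PU hz'P) u huU
        rw [← h1, mul_inv_cancel_right]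
    -- the commutator with `a`
    have hd : g⁻¹ * z' * g ∈ centralizer (U : Set G) := by
      have h1 : z' ∈ cj g (centralizer (U : Set G)) := by rw [cj_centralizer]; exact hz'c
      exact mem_cj.mp h1
    set a₁ := g⁻¹ * a * g with ha₁
    have ha₁V : a₁ ∈ cj x V := mem_cj.mp ha
    set d := g⁻¹ * z' * g with hd'
    have hsq : (a₁ * (d * a₁⁻¹ * d⁻¹)) * (a₁ * (d * a₁⁻¹ * d⁻¹)) = 1 := by
      have h1 : d * a₁⁻¹ * d⁻¹ ∈ cj (d * x) V := by
        rw [cj_mul]
        exact conj_mem_cj (inv_mem ha₁V)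
      have h2 := f.ab' (m.PU hx) (mul_mem hd (m.PU hx)) a₁ ha₁V _ h1
      have h3 := f.cj_sq _ _ h1
      have h4 := f.cj_sq _ _ ha₁V
      calc (a₁ * (d * a₁⁻¹ * d⁻¹)) * (a₁ * (d * a₁⁻¹ * d⁻¹)) =
          (a₁ * (d * a₁⁻¹ * d⁻¹)) * ((d * a₁⁻¹ * d⁻¹) * a₁) := by rw [← h2]
        _ = a₁ * ((d * a₁⁻¹ * d⁻¹) * (d * a₁⁻¹ * d⁻¹)) * a₁ := by simp only [mul_assoc]
        _ = 1 := by rw [h3, mul_one, h4]
    have hsq' : (a * z' * a⁻¹ * z'⁻¹) * (a * z' * a⁻¹ * z'⁻¹) = 1 := by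
      have h1 : a * z' * a⁻¹ * z'⁻¹ = g * (a₁ * (d * a₁⁻¹ * d⁻¹)) * g⁻¹ := by rw [ha₁, hd']; group
      rw [h1]
      calc g * (a₁ * (d * a₁⁻¹ * d⁻¹)) * g⁻¹ * (g * (a₁ * (d * a₁⁻¹ * d⁻¹)) * g⁻¹) =
          g * ((a₁ * (d * a₁⁻¹ * d⁻¹)) * (a₁ * (d * a₁⁻¹ * d⁻¹))) * g⁻¹ := by group
        _ = 1 := by rw [hsq]; group
    -- modulo `K`
    set A := mk (secP P V) ⟨a, haP⟩ with hA
    set Z := mk (secP P V) ⟨z', hz'P⟩ with hZ
    have h1 : (A * Z * A⁻¹ * Z⁻¹) * (A * Z * A⁻¹ * Z⁻¹) = 1 := by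
      rw [hA, hZ, ← map_inv, ← map_inv, ← map_mul, ← map_mul, ← map_mul, ← map_mul, SecQ.mk_eq_one]
      show (a * z' * a⁻¹ * z'⁻¹) * (a * z' * a⁻¹ * z'⁻¹) ∈ Kc P V
      rw [hsq']
      exact one_mem _
    have h2 : A * Z * A⁻¹ = Z⁻¹ := by
      obtain ⟨i, hi⟩ := mem_zpowers_iff.mp hmz'R
      rw [← hi, ← conj_zpow, hAy, inv_zpow]
    rw [h2] at h1
    have h3 : Z ^ 4 = 1 := by
      have h4 : Z⁻¹ * Z⁻¹ * (Z⁻¹ * Z⁻¹) = (Z ^ 4)⁻¹ := by
        rw [← inv_pow, pow_succ, pow_succ, pow_two, mul_assoc, mul_assoc, mul_assoc]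
      rw [h4, inv_eq_one] at h1
      exact h1
    apply hmz'1
    have h5 : Z ^ r = 1 := by
      obtain ⟨i, hi⟩ := mem_zpowers_iff.mp hmz'R
      rw [← hi, ← zpow_natCast, ← zpow_mul, mul_comm, zpow_mul, zpow_natCast, ← hy, pow_orderOf_eq_one, one_zpow]
    have h6 : orderOf Z ∣ 4 := orderOf_dvd_of_pow_eq_one h3
    have h7 : orderOf Z ∣ r := orderOf_dvd_of_pow_eq_one h5
    have h8 : Nat.Coprime 4 r := by
      have : Nat.Coprime (2 ^ 2) r := Nat.Coprime.pow_left 2 ((Nat.coprime_primes Nat.prime_two hr).mpr (Ne.symm hr2))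
      simpa using this
    have h9 := Nat.dvd_gcd h6 h7
    rw [Nat.Coprime.gcd_eq_one h8, Nat.dvd_one, orderOf_eq_one_iff] at h9
    exact h9

end Cfsg.Agent.OddCyclic.Eq.PartIFour
end

-- part: OddCyclic/Eq/ExFour
section
/-!
# (E_q), Part I, `q = 4`, `S > B`: the data `PartIFour.Ex`

* `orbit` : (0.6);
* `tor`, `inv`, `fus`;
* `red` : a 2-reduced normal subgroup of `C(u)` is in `⟨u⟩`, from "type zero".
-/

set_option autoImplicit false
set_option linter.unusedSectionVars false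

namespace Cfsg.Agent.OddCyclic.Eq.ExFour

open Subgroup Cfsg Cfsg.Agent.ZN Cfsg.Agent.ZN.ChoiceBase
open Cfsg.Agent.MinSimple
open Cfsg.Agent.OddCyclic.RedU (EqOne)
open Cfsg.Agent.OddCyclic.RedX (mod Loc)
open Cfsg.Agent.OddCyclic.RedTy
open Cfsg.Agent.OddCyclic.Eq.Base Cfsg.Agent.OddCyclic.Eq.Ab
open Cfsg.Agent.OddCyclic.T1Sl2 (up dg ww)
open Cfsg.Agent.LieExceptional.CITDefs (IsSyl2)
open Matrix (SpecialLinearGroup)

universe u

variable {G : Type u} [Group G] [Finite G] {S : Sylow 2 G} {L V : Subgroup G} {q : ℕ}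

/-- **(0.6)** -/
theorem orbit (S : Sylow 2 G) {X : Subgroup G} {g : G} (h1 : bau (S : Subgroup G) ≤ X)
    (h2 : ChoiceBase.cj g (bau (S : Subgroup G)) ≤ X) :
    ∃ c ∈ X, ChoiceBase.cj g (bau (S : Subgroup G)) = ChoiceBase.cj c (bau (S : Subgroup G)) := by
  have hB : IsPGroup 2 (bau (S : Subgroup G)) := S.isPGroup'.to_le (ChoiceBase.bau_le _)
  obtain ⟨T, hT, hBT⟩ := ChoiceSit.exists_syl hB h1
  obtain ⟨T', hT', hBT'⟩ := ChoiceSit.exists_syl (isPGroup_cj g hB) h2
  obtain ⟨c, hc, hcT⟩ := ChoiceSit.syl_conj hT hT'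
  refine ⟨c, hc, ?_⟩
  have e1 : bau T = bau (S : Subgroup G) := SamePt.bau_eq S hT.2.1 hBT
  have e2 : bau (ChoiceBase.cj g⁻¹ T') = bau (S : Subgroup G) := by
    refine SamePt.bau_eq S (isPGroup_cj _ hT'.2.1) ?_
    have := cj_mono g⁻¹ hBT'
    rwa [cj_inv_cj] at this
  rw [bau_cj] at e2
  have e3 : bau T' = ChoiceBase.cj g (bau (S : Subgroup G)) := by
    rw [← e2, cj_cj_inv]
  rw [← e3, ← hcT, bau_cj, e1]

/-- **(0.6)** for `Z_J` -/
theorem orbit_zc (S : Sylow 2 G) {u g : G} (hu : u ∈ zc (bau (S : Subgroup G)))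
    (hg : u ∈ ChoiceBase.cj g (zc (bau (S : Subgroup G)))) :
    ∃ c ∈ centralizer ({u} : Set G),
      ChoiceBase.cj g (zc (bau (S : Subgroup G))) = ChoiceBase.cj c (zc (bau (S : Subgroup G))) := by
  have h1 : bau (S : Subgroup G) ≤ centralizer ({u} : Set G) := by
    intro b hb
    rw [mem_centralizer_singleton_iff]
    exact (ChoiceBase.mem_zc.1 hu).2.2 b hb
  have h2 : ChoiceBase.cj g (bau (S : Subgroup G)) ≤ centralizer ({u} : Set G) := by
    rintro b hb
    rw [mem_cj] at hb hg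
    rw [mem_centralizer_singleton_iff]
    have h3 := (ChoiceBase.mem_zc.1 hg).2.2 _ hb
    calc b * u = g * ((g⁻¹ * b * g) * (g⁻¹ * u * g)) * g⁻¹ := by group
      _ = g * ((g⁻¹ * u * g) * (g⁻¹ * b * g)) * g⁻¹ := by rw [h3]
      _ = u * b := by group
  obtain ⟨c, hc, hcB⟩ := orbit S h1 h2
  refine ⟨c, hc, ?_⟩
  have e : ∀ x : G, ChoiceBase.cj x (zc (bau (S : Subgroup G))) = zc (ChoiceBase.cj x (bau (S : Subgroup G))) := by
    intro x
    rw [← bau_cj, ChoiceBase.zc_bau, ChoiceBase.zc_bau, zj_cj]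
  rw [e, e, hcB]

/-- `s ∈ S \ B` moves `Z_J` -/
theorem not_cent {s : G} (hs : s ∈ (S : Subgroup G)) (hsB : s ∉ bau (S : Subgroup G)) :
    s ∉ centralizer (ZJ S : Set G) := by
  intro h
  apply hsB
  rw [mem_bau]
  refine ⟨hs, ?_⟩
  rw [ZJ, ChoiceBase.zc_bau] at h
  exact mem_centralizer_iff.1 h

theorem Mp_S (h : EqOne S L V q) : (S : Subgroup G) ≤ PartI.Mp (ZJ S) V := le_inf h.S_V (S_le S)

section four

variable (h : EqOne S L V 4)

include h

/-- the field `tor` -/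
theorem tor : ∃ k ∈ PartI.Mp (ZJ S) V, k ^ 3 = 1 ∧ (∀ v ∈ V, k * v * k⁻¹ * v⁻¹ ∈ ZJ S → v ∈ ZJ S) ∧
    ∀ u ∈ ZJ S, k * u = u * k → u = 1 := by
  classical
  obtain ⟨F, _, _, _, e, φ, hF, c⟩ := exists_co_of h
  obtain ⟨l, hl0, hl1⟩ : ∃ l : F, l ≠ 0 ∧ l ≠ 1 := by
    by_contra hcon
    push Not at hcon
    have h1 : (Finset.univ : Finset F) ⊆ {0, 1} := by
      intro x _
      by_cases hx : x = 0
      · simp only [hx, _root_.Finset.mem_insert, _root_.Finset.mem_singleton, _root_.zero_ne_one, _root_.or_false]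
      · simp only [hcon x hx, _root_.Finset.mem_insert, _root_.one_ne_zero, _root_.Finset.mem_singleton, _root_.or_true]
    have h2 := Finset.card_le_card h1
    rw [Finset.card_univ, hF] at h2
    have h3 : ({0, 1} : Finset F).card ≤ 2 := Finset.card_le_two
    omega
  obtain ⟨k, hkL, hk3, hk⟩ := _root_.Cfsg.Agent.OddCyclic.Eq.Ab.exists_tor h c hl0
  have hk3' : k ^ 3 = 1 := by rw [hF] at hk3; exact hk3
  refine ⟨k, mem_inf.2 ⟨L_V c hkL, ?_⟩, hk3', ?_, ?_⟩
  · refine CompStandard.mem_normalizer_of_forall fun v hv => ?_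
    obtain ⟨x, rfl⟩ := (mem_zc h c).1 hv
    rw [hk, mul_zero]
    exact (mem_zc h c).2 ⟨_, rfl⟩
  · intro v hv hkv
    obtain ⟨x, y, rfl⟩ := (c.mem v).1 hv
    obtain ⟨z, hz⟩ := (mem_zc h c).1 hkv
    have h1 : e (l * x) (l⁻¹ * y) = e z 0 * e x y := by
      rw [← hz, hk, inv_mul_cancel_right]
    rw [← c.add] at h1
    have h2 := (c.ext h1).2
    rw [zero_add] at h2
    have h3 : y = 0 := by
      by_contra hy
      have h4 : l⁻¹ = 1 := mul_right_cancel₀ hy (by rw [h2, one_mul])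
      exact hl1 (inv_eq_one.1 h4)
    rw [h3]
    exact (mem_zc h c).2 ⟨_, rfl⟩
  · intro u hu hku
    obtain ⟨x, rfl⟩ := (mem_zc h c).1 hu
    have h1 := hk x 0
    rw [hku, mul_inv_cancel_right, mul_zero] at h1
    have h2 := (c.ext h1).1
    have h3 : x = 0 := by
      by_contra hx
      exact hl1 (mul_right_cancel₀ hx (by rw [← h2, one_mul]))
    rw [h3]
    exact c.zero

end four

/-- the field `inv` -/
theorem inv (h : EqOne S L V q) (hSB : bau (S : Subgroup G) ≠ S) :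
    ∃ s ∈ PartI.Mp (ZJ S) V, (∃ n, s ^ 2 ^ n = 1) ∧ s ∉ centralizer (ZJ S : Set G) := by
  obtain ⟨s, hs, hsB⟩ : ∃ s ∈ (S : Subgroup G), s ∉ bau (S : Subgroup G) := by
    by_contra hcon
    push Not at hcon
    exact hSB (le_antisymm (ChoiceBase.bau_le _) hcon)
  refine ⟨s, Mp_S h hs, ?_, not_cent hs hsB⟩
  obtain ⟨n, hn⟩ := S.isPGroup' ⟨s, hs⟩
  exact ⟨n, congrArg Subtype.val hn⟩

/-- the field `fus` -/
theorem fus (S : Sylow 2 G) : ∀ u ∈ ZJ S, u ≠ 1 → ∀ g : G, u ∈ CompStandard.cj g (ZJ S) →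
    ∃ c ∈ centralizer ({u} : Set G), CompStandard.cj g (ZJ S) = CompStandard.cj c (ZJ S) :=
  fun _ hu _ _ hg => orbit_zc S hu hg

/-! ### the 2-local `C(u)` -/

/-- `C(u) = N(⟨u⟩)` -/
theorem cent_eq {u : G} (hu : u * u = 1) : centralizer ({u} : Set G) = normalizer (zpowers u : Set G) := by
  ext x
  rw [mem_centralizer_singleton_iff, mem_normalizer_iff_cj]
  have h2 : ∀ y ∈ zpowers u, y = 1 ∨ y = u := by
    intro y hy
    obtain ⟨n, rfl⟩ := mem_zpowers_iff.1 hy
    rcases Int.even_or_odd n with ⟨m, rfl⟩ | ⟨m, rfl⟩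
    · left
      rw [← two_mul, zpow_mul, zpow_two, hu, one_zpow]
    · right
      rw [zpow_add, zpow_mul, zpow_two, hu, one_zpow, one_mul, zpow_one]
  constructor
  · intro hx
    have h1 : x * u * x⁻¹ = u := by rw [hx, mul_inv_cancel_right]
    apply le_antisymm
    · rintro _ ⟨y, hy, rfl⟩
      show x * y * x⁻¹ ∈ zpowers u
      rcases h2 y hy with rfl | rfl
      · rw [mul_one, mul_inv_cancel]; exact one_mem _
      · rw [h1]; exact mem_zpowers _
    · intro y hy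
      rw [mem_cj]
      rcases h2 y hy with rfl | rfl
      · rw [mul_one, inv_mul_cancel]; exact one_mem _
      · have : x⁻¹ * y * x = y := by
          calc x⁻¹ * y * x = x⁻¹ * (y * x) := by group
            _ = x⁻¹ * (x * y) := by rw [hx]
            _ = y := by group
        rw [this]; exact mem_zpowers _
  · intro hx
    have h3 : x * u * x⁻¹ ∈ zpowers u := by
      rw [← hx]
      exact ⟨u, mem_zpowers u, rfl⟩
    rcases h2 _ h3 with h4 | h4
    · have h5 : u = 1 := by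
        calc u = x⁻¹ * (x * u * x⁻¹) * x := by group
          _ = 1 := by rw [h4]; group
      rw [h5, mul_one, one_mul]
    · calc x * u = (x * u * x⁻¹) * x := by group
        _ = u * x := by rw [h4]

theorem zp_ne {u : G} (hu1 : u ≠ 1) : zpowers u ≠ ⊥ := fun h => hu1 (zpowers_eq_bot.1 h)

theorem zp_two {u : G} (hu : u * u = 1) : IsPGroup 2 (zpowers u) := by
  rintro ⟨y, hy⟩
  refine ⟨1, Subtype.ext ?_⟩
  show y ^ 2 ^ 1 = 1
  obtain ⟨n, rfl⟩ := mem_zpowers_iff.1 hy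
  rw [pow_one, ← zpow_natCast, ← zpow_mul, mul_comm, zpow_mul, zpow_natCast, pow_two, hu, one_zpow]

/-- the local data of `C(u)` -/
theorem loc_of (h : EqOne S L V q) {u : G} (hu : u * u = 1) (hu1 : u ≠ 1) {T : Subgroup G}
    (hT : ChoiceSit.Syl T (centralizer ({u} : Set G))) : Loc (centralizer ({u} : Set G)) T := by
  rw [cent_eq hu] at hT ⊢
  exact h.cx.toCtx.loc (zp_two hu) (zp_ne hu1) hT

theorem ne_top (h : EqOne S L V q) {u : G} (hu : u * u = 1) (hu1 : u ≠ 1) : centralizer ({u} : Set G) ≠ ⊤ := by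
  rw [cent_eq hu]
  exact h.cx.toCtx.ne_top (zp_two hu) (zp_ne hu1)

theorem T_le (h : EqOne S L V q) {T : Subgroup G} (hT : IsPGroup 2 T) (hBT : bau (S : Subgroup G) ≤ T) :
    T ≤ PartI.Mp (ZJ S) V := by
  have h1 : T ≤ normalizer (bau (S : Subgroup G) : Set G) := SamePt.le_normalizer S hT hBT
  exact le_inf (h1.trans h.nb_V) (h1.trans (ZN.normalizer_le_normalizer_zc _))

/-- elements of `T` centralising `J(T)` -/
theorem le_ZJ {T Y : Subgroup G} (hT : IsPGroup 2 T) (hBT : bau (S : Subgroup G) ≤ T) (hY : Y ≤ T)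
    (hY2 : ∀ y ∈ Y, y * y = 1) (h0 : jj T ≤ centralizer (Y : Set G)) : Y ≤ ZJ S := by
  intro y hy
  have hc : ∀ a ∈ jj T, a * y = y * a := fun a ha => (mem_centralizer_iff.1 (h0 ha) y hy).symm
  have hy2 : y ^ 2 = 1 := by rw [pow_two]; exact hY2 y hy
  have h1 : y ∈ jj T := mem_jj_of_comm (hY hy) hy2 hc
  rw [ZJ, ChoiceBase.zc_bau, ← SamePt.zj_eq S hT hBT, ChoiceBase.mem_zj]
  exact ⟨h1, hy2, hc⟩

/-- `Ω₁Z(S) ≤ Z_J` -/
theorem zcS_le (S : Sylow 2 G) : zc (S : Subgroup G) ≤ ZJ S := by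
  rw [ZJ, ChoiceBase.zc_bau]; exact ChoiceBase.zc_le_zj _

theorem exists_zcS (h : EqOne S L V q) : ∃ z ∈ zc (S : Subgroup G), z ≠ 1 := by
  have hS1 : (S : Subgroup G) ≠ ⊥ := by
    intro h1
    obtain ⟨z, hz, hz1⟩ := exists_ne_zc h
    have h2 : z ∈ (S : Subgroup G) := ChoiceBase.bau_le _ (ChoiceBase.mem_zc.1 hz).1
    rw [h1, mem_bot] at h2
    exact hz1 h2
  by_contra hcon
  push Not at hcon
  exact ChoiceSit.zc_ne_bot S.isPGroup' hS1 ((Subgroup.eq_bot_iff_forall _).mpr hcon)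

open PartIFour (four_cases)

section four

variable (h : EqOne S L V 4)

include h

theorem ZJ_sq : ∀ x ∈ ZJ S, x * x = 1 := fun x hx => h.sq x (h.zc_le hx)

/-- the involutions of `Z_J` are conjugate under `M_p` -/
theorem exists_conj {u z : G} (hu : u ∈ ZJ S) (hu1 : u ≠ 1) (hz : z ∈ ZJ S) (hz1 : z ≠ 1) :
    ∃ g ∈ PartI.Mp (ZJ S) V, g * z * g⁻¹ = u := by
  obtain ⟨k, hk, hk3, -, hkf⟩ := tor h
  have hNk : ∀ x ∈ ZJ S, k * x * k⁻¹ ∈ ZJ S := fun x hx =>
    CompStandard.forall_of_mem_normalizer (mem_inf.1 hk).2 _ hx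
  have hzk := hNk z hz
  have hzk1 : k * z * k⁻¹ ≠ 1 := by
    intro h0; apply hz1
    calc z = k⁻¹ * (k * z * k⁻¹) * k := by group
      _ = 1 := by rw [h0]; group
  have hzz : z ≠ k * z * k⁻¹ := by
    intro h0
    apply hz1
    apply hkf z hz
    calc k * z = (k * z * k⁻¹) * k := by group
      _ = z * k := by rw [← h0]
  rcases four_cases h.card_zc (ZJ_sq h) hz hzk hz1 hzk1 hzz hu with h1 | h1 | h1 | h1
  · exact absurd h1 hu1
  · exact ⟨1, one_mem _, by rw [h1]; group⟩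
  · exact ⟨k, hk, h1.symm⟩
  · refine ⟨k * k, mul_mem hk hk, ?_⟩
    have h2 : k * k * z * (k * k)⁻¹ = k * (k * z * k⁻¹) * k⁻¹ := by group
    rw [h2, h1]
    rcases four_cases h.card_zc (ZJ_sq h) hz hzk hz1 hzk1 hzz (hNk _ hzk) with h3 | h3 | h3 | h3
    · exfalso; apply hzk1
      calc k * z * k⁻¹ = k⁻¹ * (k * (k * z * k⁻¹) * k⁻¹) * k := by group
        _ = 1 := by rw [h3]; group
    · exfalso
      have h4 : k ^ 3 * z * (k ^ 3)⁻¹ = k * z * k⁻¹ := by
        calc k ^ 3 * z * (k ^ 3)⁻¹ = k * (k * (k * z * k⁻¹) * k⁻¹) * k⁻¹ := by rw [pow_succ, pow_two]; group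
          _ = k * z * k⁻¹ := by rw [h3]
      rw [hk3] at h4
      apply hzz
      rw [← h4]
      group
    · exfalso
      apply hzk1
      apply hkf _ hzk
      calc k * (k * z * k⁻¹) = (k * (k * z * k⁻¹) * k⁻¹) * k := by group
        _ = _ := by rw [h3]
    · exact h3

/-- an element moving `Z_J` and centralising `u` -/
theorem exists_s (hSB : bau (S : Subgroup G) ≠ S) {u : G} (hu : u ∈ ZJ S) (hu1 : u ≠ 1) :
    ∃ s ∈ PartI.Mp (ZJ S) V, (∃ n, s ^ 2 ^ n = 1) ∧ s ∉ centralizer (ZJ S : Set G) ∧ s * u = u * s := by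
  obtain ⟨s, hs, hsB⟩ : ∃ s ∈ (S : Subgroup G), s ∉ bau (S : Subgroup G) := by
    by_contra hcon
    push Not at hcon
    exact hSB (le_antisymm (ChoiceBase.bau_le _) hcon)
  obtain ⟨z, hz, hz1⟩ := exists_zcS h
  obtain ⟨g, hg, hgz⟩ := exists_conj h hu hu1 (zcS_le S hz) hz1
  refine ⟨g * s * g⁻¹, mul_mem (mul_mem hg (Mp_S h hs)) (inv_mem hg), ?_, ?_, ?_⟩
  · obtain ⟨n, hn⟩ := S.isPGroup' ⟨s, hs⟩
    have hn' : s ^ 2 ^ n = 1 := congrArg Subtype.val hn
    exact ⟨n, by rw [conj_pow, hn', mul_one, mul_inv_cancel]⟩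
  · intro h1
    apply not_cent hs hsB
    have h2 : g⁻¹ ∈ normalizer ((centralizer (ZJ S : Set G) : Subgroup G) : Set G) :=
      cent_norm S (inv_mem (mem_inf.1 hg).2)
    have h3 := CompStandard.forall_of_mem_normalizer h2 _ h1
    have h4 : g⁻¹ * (g * s * g⁻¹) * g⁻¹⁻¹ = s := by group
    rwa [h4] at h3
  · have h1 : s * z = z * s := (ChoiceBase.mem_zc.1 hz).2.2 s hs
    rw [← hgz]
    calc g * s * g⁻¹ * (g * z * g⁻¹) = g * (s * z) * g⁻¹ := by group
      _ = g * (z * s) * g⁻¹ := by rw [h1]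
      _ = g * z * g⁻¹ * (g * s * g⁻¹) := by group

/-- elements of `N(Z_J) ∩ C(u)` are equal modulo `C(Z_J)` -/
theorem two_cases {u d t : G} (hu : u ∈ ZJ S) (hu1 : u ≠ 1) (hd : d ∈ normalizer (ZJ S : Set G))
    (ht : t ∈ normalizer (ZJ S : Set G)) (hdu : d * u = u * d) (htu : t * u = u * t)
    (hdc : d ∉ centralizer (ZJ S : Set G)) (htc : t ∉ centralizer (ZJ S : Set G)) :
    d * t⁻¹ ∈ centralizer (ZJ S : Set G) := by
  have hcom : ∀ x ∈ ZJ S, ∀ y ∈ ZJ S, x * y = y * x := fun x hx y hy => h.comm x (h.zc_le hx) y (h.zc_le hy)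
  obtain ⟨y, hy, hy1, hyu⟩ := PartIFour.exists_ne h.card_zc u
  -- the action
  have key : ∀ a ∈ normalizer (ZJ S : Set G), a * u = u * a → a ∉ centralizer (ZJ S : Set G) → a * y * a⁻¹ = u * y := by
    intro a ha hau hac
    have hau' : a * u * a⁻¹ = u := by rw [hau, mul_inv_cancel_right]
    rcases four_cases h.card_zc (ZJ_sq h) hu hy hu1 hy1 (Ne.symm hyu)
      (CompStandard.forall_of_mem_normalizer ha _ hy) with h1 | h1 | h1 | h1
    · exfalso; apply hy1
      calc y = a⁻¹ * (a * y * a⁻¹) * a := by group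
        _ = 1 := by rw [h1]; group
    · exfalso; apply hyu
      have : a * y * a⁻¹ = a * u * a⁻¹ := by rw [h1, hau']
      exact mul_left_cancel (mul_right_cancel this)
    · exfalso
      apply hac
      rw [mem_centralizer_iff]
      intro x hx
      have hya : y * a = a * y := by
        calc y * a = (a * y * a⁻¹) * a := by rw [h1]
          _ = a * y := by group
      rcases four_cases h.card_zc (ZJ_sq h) hu hy hu1 hy1 (Ne.symm hyu) hx with h | h | h | h
      · rw [h, one_mul, mul_one]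
      · rw [h, hau]
      · rw [h, hya]
      · rw [h, mul_assoc, hya, ← mul_assoc, ← hau, mul_assoc]
    · exact h1
  have e1 := key d hd hdu hdc
  have e2 := key t ht htu htc
  have hti : t⁻¹ * y * t = u * y := by
    have h1 : t * (u * y) * t⁻¹ = y := by
      calc t * (u * y) * t⁻¹ = (t * u) * t⁻¹ * (t * y * t⁻¹) := by group
        _ = u * (u * y) := by rw [e2, htu, mul_inv_cancel_right]
        _ = y := by rw [← mul_assoc, ZJ_sq h u hu, one_mul]
    calc t⁻¹ * y * t = t⁻¹ * (t * (u * y) * t⁻¹) * t := by rw [h1]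
      _ = u * y := by group
  have hcu : u * (d * t⁻¹) = d * t⁻¹ * u := by
    have h1 : u * t⁻¹ = t⁻¹ * u := by
      calc u * t⁻¹ = t⁻¹ * (t * u) * t⁻¹ := by group
        _ = t⁻¹ * (u * t) * t⁻¹ := by rw [htu]
        _ = t⁻¹ * u := by group
    rw [← mul_assoc, ← hdu, mul_assoc, h1, ← mul_assoc]
  have hcy : y * (d * t⁻¹) = d * t⁻¹ * y := by
    have h1 : d * (u * y) * d⁻¹ = y := by
      calc d * (u * y) * d⁻¹ = (d * u) * d⁻¹ * (d * y * d⁻¹) := by group
        _ = u * (u * y) := by rw [e1, hdu, mul_inv_cancel_right]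
        _ = y := by rw [← mul_assoc, ZJ_sq h u hu, one_mul]
    calc y * (d * t⁻¹) = (d * (u * y) * d⁻¹) * (d * t⁻¹) := by rw [h1]
      _ = d * (u * y) * t⁻¹ := by group
      _ = d * (t⁻¹ * y * t) * t⁻¹ := by rw [hti]
      _ = d * t⁻¹ * y := by group
  rw [mem_centralizer_iff]
  intro x hx
  rcases four_cases h.card_zc (ZJ_sq h) hu hy hu1 hy1 (Ne.symm hyu) hx with h | h | h | h
  · rw [h, one_mul, mul_one]
  · rw [h, hcu]
  · rw [h, hcy]
  · rw [h, mul_assoc, hcy, ← mul_assoc, hcu, mul_assoc]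

/-- **the field `loc`**, from "type zero" -/
theorem loc (hSB : bau (S : Subgroup G) ≠ S) {u : G} (hu : u ∈ ZJ S) (hu1 : u ≠ 1)
    (hz : ∀ T Y : Subgroup G, bau (S : Subgroup G) ≤ T → YC (centralizer ({u} : Set G)) T Y →
      jj T ≤ centralizer (Y : Set G)) : ∃ T : Subgroup G, PartIFour.Lc (ZJ S) V u T := by
  have hu2 : u * u = 1 := ZJ_sq h u hu
  set X := centralizer ({u} : Set G) with hX
  have hXu : ∀ x ∈ X, x * u = u * x := fun x hx => mem_centralizer_singleton_iff.1 hx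
  have hBX : bau (S : Subgroup G) ≤ X := by
    intro b hb
    rw [hX, mem_centralizer_singleton_iff]
    exact (ChoiceBase.mem_zc.1 hu).2.2 b hb
  obtain ⟨T, hT, hBT⟩ := ChoiceSit.exists_syl (S.isPGroup'.to_le (ChoiceBase.bau_le _)) hBX
  have hloc := loc_of h hu2 hu1 hT
  refine ⟨T, ⟨hT.1, hT.2.1, hT.2.2⟩, T_le h hT.2.1 hBT, fun x hx hx' => hloc.char2 (mem_inf.2 ⟨hx, hx'⟩), ?_⟩
  intro Y hYX hXY hY2 hYu
  by_contra hcon
  push Not at hcon
  have hcon' : ∀ D : Subgroup G, D ≤ X → X ≤ normalizer (D : Set G) →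
      (∀ d ∈ D, ∃ c ∈ centralizer (Y : Set G), ∃ t ∈ T, d = c * t) → D ≤ centralizer (Y : Set G) := hcon
  have hO : o2 X ≤ centralizer (Y : Set G) := hcon' _ (ZN.Block.o2_le X) (ZN.le_normalizer_o2 X)
    fun d hd => ⟨1, one_mem _, d, hloc.o2_le hd, (one_mul d).symm⟩
  have hYc : ∀ y ∈ Y, y ∈ centralizer (o2 X : Set G) := by
    intro y hy
    rw [mem_centralizer_iff]
    intro o ho
    exact (mem_centralizer_iff.1 (hO ho) y hy).symm
  have hYz : Y ≤ zc (o2 X) := by
    intro y hy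
    rw [ChoiceBase.mem_zc]
    exact ⟨hloc.char2 (mem_inf.2 ⟨hYX hy, hYc y hy⟩), by rw [pow_two]; exact hY2 y hy,
      fun o ho => mem_centralizer_iff.1 (hYc y hy) o ho⟩
  have hyc := yc_sup hloc hYz hXY hcon'
  set Y' := Y ⊔ mod X T with hY'
  have hj := hz T Y' hBT hyc
  have hY'o : Y' ≤ zc (o2 X) := hyc.le
  have hY'T : Y' ≤ T := hY'o.trans ((ZN.Block.zc_le _).trans hloc.o2_le)
  have hY'2 : ∀ y ∈ Y', y * y = 1 := by
    intro y hy
    have := (ChoiceBase.mem_zc.1 (hY'o hy)).2.1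
    rwa [pow_two] at this
  have hY'Z : Y' ≤ ZJ S := le_ZJ hT.2.1 hBT hY'T hY'2 hj
  have huT : u ∈ zc T := by
    rw [ChoiceBase.mem_zc]
    exact ⟨hBT (ChoiceBase.mem_zc.1 hu).1, by rw [pow_two]; exact hu2, fun t ht => hXu t (hT.1 ht)⟩
  have huY : u ∈ Y' := hyc.zc_le huT
  -- an element of `Y'` outside `⟨u⟩`
  obtain ⟨y, hy, hyu⟩ : ∃ y ∈ Y', y ∉ zpowers u := by
    by_contra hcon2
    push Not at hcon2
    exact hYu fun y hy => hcon2 y (mem_sup_left hy)
  have hy1 : y ≠ 1 := fun h0 => hyu (h0 ▸ one_mem _)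
  have hyu' : u ≠ y := fun h0 => hyu (h0 ▸ mem_zpowers u)
  have hYZ : Y' = ZJ S := by
    apply le_antisymm hY'Z
    intro x hx
    rcases four_cases h.card_zc (ZJ_sq h) hu (hY'Z hy) hu1 hy1 hyu' hx with h1 | h1 | h1 | h1
    · rw [h1]; exact one_mem _
    · rw [h1]; exact huY
    · rw [h1]; exact hy
    · rw [h1]; exact mul_mem huY hy
  have hXN : X ≤ normalizer (ZJ S : Set G) := by rw [← hYZ]; exact hyc.nor
  obtain ⟨s, hs, ⟨n, hn⟩, hsc, hsu⟩ := exists_s h hSB hu hu1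
  have hsX : s ∈ X := by rw [hX, mem_centralizer_singleton_iff]; exact hsu
  -- `T` moves `Z_J`
  obtain ⟨t, ht, htc⟩ : ∃ t ∈ T, t ∉ centralizer (ZJ S : Set G) := by
    by_contra hcon2
    push Not at hcon2
    have hs2 : IsPGroup 2 (zpowers s) := by
      rintro ⟨y, hy⟩
      refine ⟨n, Subtype.ext ?_⟩
      show y ^ 2 ^ n = 1
      obtain ⟨m, rfl⟩ := mem_zpowers_iff.1 hy
      rw [← zpow_natCast, ← zpow_mul, mul_comm, zpow_mul, zpow_natCast, hn, one_zpow]
    obtain ⟨T', hT', hsT'⟩ := ChoiceSit.exists_syl hs2 (zpowers_le.2 hsX)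
    obtain ⟨x, hx, rfl⟩ := ChoiceSit.syl_conj hT hT'
    have h1 := hsT' (mem_zpowers s)
    rw [mem_cj] at h1
    have h2 := hcon2 _ h1
    have h3 := CompStandard.forall_of_mem_normalizer (cent_norm S (hXN hx)) _ h2
    have h4 : x * (x⁻¹ * s * x) * x⁻¹ = s := by group
    rw [h4] at h3
    exact hsc h3
  have h1 : X ≤ centralizer (Y' : Set G) := by
    refine hyc.core X le_rfl Subgroup.le_normalizer fun d hd => ?_
    rw [hYZ]
    by_cases hdc : d ∈ centralizer (ZJ S : Set G)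
    · exact ⟨d, hdc, 1, one_mem _, (mul_one d).symm⟩
    · exact ⟨d * t⁻¹, two_cases h hu hu1 (hXN hd) (hXN (hT.1 ht)) (hXu d hd) (hXu t (hT.1 ht)) hdc htc, t, ht,
        by group⟩
  rw [hYZ] at h1
  exact hsc (h1 hsX)

/-- **the data `Ex`**, from "type zero" -/
theorem ex_of (hSB : bau (S : Subgroup G) ≠ S)
    (hz : ∀ u ∈ ZJ S, u ≠ 1 → ∀ T Y : Subgroup G, bau (S : Subgroup G) ≤ T → YC (centralizer ({u} : Set G)) T Y →
      jj T ≤ centralizer (Y : Set G)) : PartIFour.Ex (ZJ S) V where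
  tor := tor h
  inv := inv h hSB
  fus := fus S
  loc := fun u hu hu1 => loc h hSB hu hu1 (hz u hu hu1)

/-- **the data `Ex`** -/
theorem ex (hSB : bau (S : Subgroup G) ≠ S) : PartIFour.Ex (ZJ S) V := by
  refine ex_of h hSB fun u hu hu1 T Y hBT hY => ?_
  refine LemU.type_zero h (Or.inr (by norm_num)) (ne_top h (ZJ_sq h u hu) hu1) hY hBT ?_ hu1 le_rfl
  rw [← LemU.zj_eq_zc]
  exact hu

end four

end Cfsg.Agent.OddCyclic.Eq.ExFour
end

-- part: OddCyclic/Eq/PartOneT
section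
/-!
# (E_q), Part I, `S > B`: the contradiction
-/

set_option autoImplicit false

namespace Cfsg.Agent.OddCyclic.Eq.PartOneT

open Subgroup Cfsg Cfsg.Agent.ZN
open Cfsg.Agent.OddCyclic.RedU (EqOne)

universe u

variable {G : Type u} [Group G] [Finite G] {S : Sylow 2 G} {L V : Subgroup G} {q : ℕ}

/-- **Part I, `S > B`** -/
theorem false_of (h : EqOne S L V q) (hSB : bau (S : Subgroup G) ≠ S)
    (hn : ¬ centralizer (zc (bau (S : Subgroup G)) : Set G) ≤ normalizer (V : Set G)) : False := by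
  obtain ⟨r, hr, hr2⟩ := PtTOf.exists_r h hSB
  have p := PtTOf.ptT h hn hr hr2
  by_cases h4 : 4 * r ≤ q
  · exact p.false h.cx.cyc h.cx.sec h4
  · push Not at h4
    have h5 : r < 4 := by
      by_contra hcon
      push Not at hcon
      rw [hr] at h4
      nlinarith only [h4, hcon]
    have h6 : r = 2 := by
      obtain ⟨n, hn', hq⟩ := LemU.odd_q h
      have h7 : r = 2 ∨ r = 3 := by omega
      rcases h7 with h7 | h7
      · exact h7
      · exfalso
        have h8 : 2 ∣ q := LemU.two_dvd_q h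
        rw [hr, h7] at h8
        omega
    subst h6
    have h7 : q = 4 := hr
    subst h7
    exact PartIFour.false h.cx.cyc h.cx.sec p (ExFour.ex h hSB)

end Cfsg.Agent.OddCyclic.Eq.PartOneT
end

-- part: OddCyclic/Eq/TI
section
/-!
# (E_q) of `T_cyc`, `Z_J` TI: the theorem

`Pt q U V B`: `U ≤ V`, `|U| = q ≥ 4`, `|V| = q²`, `U` a TI-subgroup, `B` a Sylow 2-subgroup of `G` in `C_G(U) ∩ N_G(V)`.
`Pt.false`: this is impossible.
-/

set_option autoImplicit false

namespace Cfsg.Agent.OddCyclic.Eq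

open Subgroup Cfsg.Agent.OddCyclic.CompStandard Cfsg.Agent.OddCyclic.RedFiveThree Cfsg.Agent.OddCyclic.CaseABase
open Cfsg.Agent.LieExceptional.CITDefs (IsSyl2)
open Cfsg.Agent.OddCyclic.T1Defs (OddCyc)
open Cfsg.Agent.OddCyclic.Eq.Quot Cfsg.Agent.OddCyclic.Eq.Line

universe u

variable {G : Type u} [Group G]

/-- the data (TI case) -/
structure Pt (q : ℕ) (U V B : Subgroup G) : Prop where
  q4 : 4 ≤ q
  UV : U ≤ V
  sq : ∀ v ∈ V, v * v = 1
  cardU : Nat.card U = q
  cardV : Nat.card V = q * q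
  act : ∀ c ∈ normalizer (V : Set G), c ∈ centralizer (U : Set G) → ∀ v ∈ V, c * v * c⁻¹ * v⁻¹ ∈ U
  free : ∀ c ∈ normalizer (V : Set G), c ∈ centralizer (U : Set G) → ∀ v ∈ V, v ∉ U → c * v = v * c →
    c ∈ centralizer (V : Set G)
  ti : ∀ g : G, cj g U ≠ U → ∀ x ∈ U, x ∈ cj g U → x = 1
  cov : ∀ v ∈ V, ∃ m ∈ normalizer (V : Set G), v ∈ cj m U
  ab : ∀ x ∈ centralizer (U : Set G), Cm V (cj x V)
  BV : B ≤ normalizer (V : Set G)
  BU : B ≤ centralizer (U : Set G)
  syl : IsSyl2 ⊤ B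
  NB : normalizer (B : Set G) ≤ normalizer (V : Set G)
  three : ¬ 3 ∣ Nat.card (normalizer (V : Set G) ⊓ centralizer (U : Set G) : Subgroup G)
  four : q = 4 → ¬ 3 ∣ Nat.card (centralizer (U : Set G))
  nle : ¬ centralizer (U : Set G) ≤ normalizer (V : Set G)
  mx : ∀ R : Subgroup G, V ≤ R → (∀ x ∈ R, x * x = 1) → normalizer (V : Set G) ≤ normalizer (R : Set G) →
    normalizer (R : Set G) ≤ normalizer (V : Set G)

namespace Pt

variable [Finite G] {q : ℕ} {U V B P : Subgroup G}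

omit [Finite G] in
theorem sylU (h : Pt q U V B) : IsSyl2 (centralizer (U : Set G)) B :=
  isSyl2_of_le h.syl h.BU le_top

theorem nU (h : Pt q U V B) {g : G} (hg : cj g U = U) :
    ∃ c ∈ centralizer (U : Set G), ∃ m ∈ normalizer (V : Set G), g = c * m := by
  have h2 : IsSyl2 (centralizer (U : Set G)) (cj g B) := by
    have := isSyl2_cj g h.sylU
    rwa [cj_centralizer, hg] at this
  obtain ⟨c, hc, h3⟩ := isSyl2_conj h2 h.sylU
  refine ⟨c⁻¹, Subgroup.inv_mem _ hc, c * g, h.NB ?_, by group⟩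
  rw [← cj_eq_iff, cj_mul]
  exact h3.symm

theorem fr (h : Pt q U V B) (hP : P ≤ centralizer (U : Set G))
    (hCP : normalizer (V : Set G) ⊓ centralizer (U : Set G) ≤ P) : Line.Fr q U V P where
  UV := h.UV
  sq := h.sq
  cardU := h.cardU
  cardV := h.cardV
  PU := hP
  CP := hCP
  act := h.act
  free := h.free
  ti := h.ti
  cov := h.cov
  ab := h.ab
  nU := fun _ hg => h.nU hg

omit [Finite G] in
theorem pd (h : Pt q U V B) : Pd (centralizer (U : Set G)) V B where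
  TV := h.BV
  syl := h.sylU
  NT := fun _ _ hx => h.NB hx
  three := h.three

/-- **(E_q), the TI case** -/
theorem false (hc : OddCyc G) (hs : CompStart.SecZero G) (hUt : centralizer (U : Set G) ≠ ⊤) (h : Pt q U V B) :
    False := by
  obtain ⟨P, hP, hlt, hmin⟩ := Pd.exists_min h.nle
  have fr := h.fr hP hlt.le
  -- the offender
  obtain ⟨A, hAV, hA2, hAq, hAK⟩ := fr.exists_off (by
    intro R hVR hR2 h1 h2
    have h3 := h.mx R hVR hR2 h1
    exact hlt.not_ge (le_inf (h2.trans h3) hP))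
  have hAP : A ≤ P := hAV.trans fr.cent_le
  have hq4 := h.q4
  obtain ⟨v, hv, hvU⟩ := fr.exists_not_mem (A := V) (by rw [h.cardV]; nlinarith only [hq4])
  have hne : ∃ x ∈ P, cj x V ≠ V := by
    by_contra hcon
    push Not at hcon
    exact hlt.not_ge fun x hx => ⟨cj_eq_iff.mp (hcon x hx), hP hx⟩
  have hUo : U ≤ Uo P V := fun u hu => mem_Uo.mpr fun x hx => fr.U_le (hP hx) hu
  have hUo' : Uo P V ≤ U := by
    obtain ⟨x, hx, hxV⟩ := hne
    intro w hw
    have h1 := mem_Uo.mp hw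
    exact fr.inter (hP hx) (Subgroup.one_mem _) (by rw [cj_one]; exact hxV) (h1 x hx) (h1 1 P.one_mem)
  obtain ⟨h1, h2⟩ := h.pd.three_dvd hc hs hUt hP hlt hmin fr.cm_WW fr.W_sq hv (fun h' => hvU (hUo' h'))
    (fun c hcP hcV => hUo (h.act c hcV (hP hcP) v hv)) hAP (hAV.trans (centralizer_le_normalizer _)) hA2 hAq
    (hq4.trans hAK)
  have h3 := h2 A hAP hA2
  have h4 : q = 4 := by omega
  apply h.four h4
  have h5 : Nat.card (P ⧸ Kp P V) ∣ Nat.card P := card_quotient_dvd_card _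
  exact h1.trans (h5.trans (card_dvd_of_le hP))

end Pt

end Cfsg.Agent.OddCyclic.Eq
end

-- part: OddCyclic/Eq/PtOf
section
/-!
# (E_q), Part I, `S = B`: the data `Eq.Pt` and the contradiction
-/

set_option autoImplicit false
set_option linter.unusedSectionVars false

namespace Cfsg.Agent.OddCyclic.Eq.PtOf

open Subgroup Cfsg Cfsg.Agent.ZN Cfsg.Agent.ZN.ChoiceBase
open Cfsg.Agent.OddCyclic.RedU (EqOne)
open Cfsg.Agent.OddCyclic.Eq.Base Cfsg.Agent.OddCyclic.Eq.Ab
open Cfsg.Agent.LieExceptional.CITDefs (IsSyl2)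
open Matrix (SpecialLinearGroup)

universe u

variable {G : Type u} [Group G] [Finite G] {S : Sylow 2 G} {L V : Subgroup G} {q : ℕ}

/-- `Z_J` is a TI-subgroup -/
theorem ti (h : EqOne S L V q) (hSB : bau (S : Subgroup G) = S) (g : G)
    (hg : CompStandard.cj g (ZJ S) ≠ ZJ S) : ∀ x ∈ ZJ S, x ∈ CompStandard.cj g (ZJ S) → x = 1 := by
  have h1 := (LemU.inter h (Or.inl hSB.symm) (r := q) (by have := h.blk.four; omega)
    (fun s _ _ _ => by
      have h2 : Nat.card (zj (S : Subgroup G) ⊓ centralizer ({s} : Set G) : Subgroup G) ≤ Nat.card (zj (S : Subgroup G)) :=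
        Subgroup.card_le_of_le inf_le_left
      rwa [LemU.card_zj h] at h2) (g := g) (by
      intro h2
      apply hg
      rw [← LemU.zj_eq_zc] at h2
      exact mem_normalizer_iff_cj.1 h2)).2 hSB.symm
  rw [← LemU.zj_eq_zc] at h1
  intro x hx hx'
  have h2 : x ∈ (⊥ : Subgroup G) := h1 ▸ mem_inf.2 ⟨hx, hx'⟩
  exact mem_bot.1 h2

/-- **the data `Pt`** -/
theorem pt (h : EqOne S L V q) (hSB : bau (S : Subgroup G) = S)
    (hn : ¬ centralizer (ZJ S : Set G) ≤ normalizer (V : Set G)) : Pt q (ZJ S) V (bau (S : Subgroup G)) := by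
  obtain ⟨F, _, _, _, e, φ, hq, c⟩ := exists_co_of h
  refine
    { q4 := h.blk.four
      UV := h.zc_le
      sq := h.sq
      cardU := h.card_zc
      cardV := by rw [h.card, pow_two]
      act := ?_
      free := ?_
      ti := ti h hSB
      cov := PtTOf.cov h
      ab := fun x hx => ab h hx
      BV := (ChoiceBase.bau_le _).trans h.S_V
      BU := (PtTOf.syl S).le
      syl := ⟨le_top, S.isPGroup'.to_le (ChoiceBase.bau_le _), fun Y _ hY hB => by
        rw [hSB] at hB ⊢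
        exact S.is_maximal' hY hB⟩
      NB := h.nb_V
      three := not_three_C0 h c hq
      four := fun h4 => not_dvd_ZJ h Nat.prime_three (by rw [h4])
      nle := hn
      mx := PtTOf.mx h }
  · intro m hm hmc v hv
    obtain ⟨t, ht⟩ := root h c hq hm hmc
    obtain ⟨x, y, rfl⟩ := (c.mem v).1 hv
    rw [ht]
    have h1 : e (x + t * y) y = e (t * y) 0 * e x y := by rw [← c.add, zero_add, add_comm]
    rw [h1, mul_inv_cancel_right]
    exact (mem_zc h c).2 ⟨_, rfl⟩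
  · intro m hm hmc v hv hvU hmv
    obtain ⟨t, ht⟩ := root h c hq hm hmc
    obtain ⟨x, y, rfl⟩ := (c.mem v).1 hv
    have hy : y ≠ 0 := by
      rintro rfl
      exact hvU ((mem_zc h c).2 ⟨_, rfl⟩)
    have h1 := ht x y
    rw [hmv, mul_inv_cancel_right] at h1
    have h2 := (c.ext h1).1
    have h3 : t * y = 0 := by
      have : x + 0 = x + t * y := by rw [add_zero]; exact h2
      exact (add_left_cancel this).symm
    have h4 : t = 0 := (mul_eq_zero.1 h3).resolve_right hy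
    rw [c.mem_cent]
    intro x y
    rw [ht, h4, zero_mul, add_zero]

/-- **Part I, `S = B`** -/
theorem false_of (h : EqOne S L V q) (hSB : bau (S : Subgroup G) = S)
    (hn : ¬ centralizer (zc (bau (S : Subgroup G)) : Set G) ≤ normalizer (V : Set G)) : False := by
  refine Pt.false h.cx.cyc h.cx.sec ?_ (pt h hSB hn)
  intro h0
  apply h.cx.toCtx.ne_top (ZJ_pgroup S) (ZJ_ne h)
  rw [← top_le_iff, ← h0]
  exact centralizer_le_normalizer _

end Cfsg.Agent.OddCyclic.Eq.PtOf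
end

-- part: OddCyclic/Eq/PartOneEnd
section
/-!
# (E_q) of `T_cyc`, Part I: `C_G(Z_J) ≤ N_G(V)`
-/

set_option autoImplicit false

namespace Cfsg.Agent.OddCyclic.Eq

open Subgroup Cfsg Cfsg.Agent.ZN
open Cfsg.Agent.OddCyclic.RedU (EqOne)

universe u

/-- **Part I** -/
theorem partOne {G : Type u} [Group G] [Finite G] {S : Sylow 2 G} {L V : Subgroup G} {q : ℕ} (h : EqOne S L V q)
    (hn : ¬ centralizer (zc (bau (S : Subgroup G)) : Set G) ≤ normalizer (V : Set G)) : False := by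
  by_cases hSB : bau (S : Subgroup G) = S
  · exact PtOf.false_of h hSB hn
  · exact PartOneT.false_of h hSB hn

end Cfsg.Agent.OddCyclic.Eq
end

-- part: OddCyclic/Eq/PartTwoBase
section
/-!
# (E_q) of `T_cyc`, Part II, `V ≤ O₂(C_G(Z))`: the fields of `SecFourEnd.false` which follow from `EqOne` alone

* `le_cent`, `pd`, `cent_ne_top`, `mx`, `two`;
* `PartTwoEnd.of_sit`: `SecFour.Sit` and (for `q = 4`) `SecFourEnd.Ex4` are contradictory.
-/

set_option autoImplicit false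

namespace Cfsg.Agent.OddCyclic.Eq.PartTwoBase

open Subgroup Cfsg Cfsg.Agent.ZN Cfsg.Agent.OddCyclic.COneBlk
open Cfsg.Agent.OddCyclic.RedU (EqOne)
open Cfsg.Agent.OddCyclic.Eq.Base
open Cfsg.Agent.LieExceptional.CITDefs (IsSyl2)

universe u

variable {G : Type u} [Group G] [Finite G] {S : Sylow 2 G} {L V : Subgroup G} {q : ℕ}

omit [Finite G] in
theorem le_cent (S : Subgroup G) : S ≤ centralizer (zc S : Set G) := by
  intro s hs
  rw [mem_centralizer_iff]
  intro z hz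
  exact ((ChoiceBase.mem_zc.mp hz).2.2 s hs).symm

omit [Finite G] in
theorem bau_ne_bot (h : EqOne S L V q) : bau (S : Subgroup G) ≠ ⊥ := by
  intro h1
  have h2 := h.card_zc
  have h3 : zc (bau (S : Subgroup G)) ≤ bau (S : Subgroup G) := fun x hx => (ChoiceBase.mem_zc.mp hx).1
  rw [h1, le_bot_iff] at h3
  rw [h1, h3, card_bot] at h2
  have := h.blk.four
  omega

omit [Finite G] in
theorem S_ne_bot (h : EqOne S L V q) : (S : Subgroup G) ≠ ⊥ := by
  intro h1
  apply bau_ne_bot h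
  have h2 := ChoiceBase.bau_le (S : Subgroup G)
  rw [h1, le_bot_iff] at h2
  rw [h1]; exact h2

theorem zc_ne_bot (h : EqOne S L V q) : zc (S : Subgroup G) ≠ ⊥ :=
  ChoiceSit.zc_ne_bot S.isPGroup' (S_ne_bot h)

theorem zc_two (S : Sylow 2 G) : IsPGroup 2 (zc (S : Subgroup G)) :=
  S.isPGroup'.to_le fun _ hx => (ChoiceBase.mem_zc.mp hx).1

/-- `Ω₁Z(S)` is normalised by its centraliser -/
theorem cent_le_local (h : EqOne S L V q) :
    centralizer (zc (S : Subgroup G) : Set G) ≤ normalizer (zc (S : Subgroup G) : Set G) :=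
  centralizer_le_normalizer _

/-- `C_G(Ω₁Z(S)) ≠ G` -/
theorem cent_ne_top (h : EqOne S L V q) : centralizer (zc (S : Subgroup G) : Set G) ≠ ⊤ := by
  intro h1
  apply h.cx.toCtx.ne_top (zc_two S) (zc_ne_bot h)
  exact top_le_iff.mp (h1 ▸ cent_le_local h)

/-- `S` is a Sylow 2-subgroup of `C_G(Ω₁Z(S))` -/
theorem isSyl2 (S : Sylow 2 G) : IsSyl2 (centralizer (zc (S : Subgroup G) : Set G)) S :=
  ⟨le_cent _, S.isPGroup', fun _ _ h2 hle => S.is_maximal' h2 hle⟩

/-- the point `C_G(Ω₁Z(S))` with the line `V` -/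
theorem pd (h : EqOne S L V q) :
    Quot.Pd (centralizer (zc (S : Subgroup G) : Set G)) V (S : Subgroup G) := by
  obtain ⟨F, _, _, _, e, φ, hF, c⟩ := exists_co_of h
  exact
    { TV := h.S_V
      syl := isSyl2 S
      NT := fun x _ hx => h.nb_V (normalizer_le_normalizer_bau _ hx)
      three := not_three_C1 h c hF }

/-- `N_G(V)` is a maximal 2-local among the normalisers of the elementary abelian groups containing `V` -/
theorem mx (h : EqOne S L V q) (R : Subgroup G) (hVR : V ≤ R) (hR : ∀ x ∈ R, x * x = 1)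
    (hN : normalizer (V : Set G) ≤ normalizer (R : Set G)) : normalizer (R : Set G) ≤ normalizer (V : Set G) := by
  obtain ⟨F, _, _, _, e, φ, hF, c⟩ := exists_co_of h
  refine h.le_NV _ ⟨R, ?_, ?_, rfl⟩ L q h.blk ((L_V c).trans hN)
  · rintro ⟨x, hx⟩
    refine ⟨1, Subtype.ext ?_⟩
    rw [pow_one]
    change x ^ 2 = 1
    rw [pow_two]
    exact hR x hx
  · intro h1
    have h2 : V = ⊥ := le_bot_iff.mp (h1 ▸ hVR)
    have h3 := h.card
    rw [h2, card_bot] at h3
    have := h.blk.four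
    nlinarith only [h3, this]

/-- `N_G(V) ∩ C_G(Ω₁Z(S))` is a 2-group on `V` -/
theorem two (h : EqOne S L V q) : ∀ c ∈ normalizer (V : Set G) ⊓ centralizer (zc (S : Subgroup G) : Set G),
    ∃ k : ℕ, c ^ 2 ^ k ∈ centralizer (V : Set G) := by
  obtain ⟨F, _, _, _, e, φ, hF, c⟩ := exists_co_of h
  exact fun m hm => two_zc h c hF hm.1 hm.2

/-- **Part II, `V ≤ O₂(C_G(Z))`, from `SecFour.Sit` and `Ex4`** -/
theorem of_sit {q' : ℕ} {J D : Subgroup G} (h : EqOne S L V q)
    (hs : SecFour.Sit q' (zc (S : Subgroup G)) J V D)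
    (ex : q' = 4 → SecFourEnd.Ex4 (zc (S : Subgroup G)) J V) : False :=
  SecFourEnd.false h.cx.cyc h.cx.sec hs (pd h) (cent_ne_top h) h.notle (mx h) (two h) ex

end Cfsg.Agent.OddCyclic.Eq.PartTwoBase
end

-- part: OddCyclic/Eq/CrdTwo
section
/-!
# (E_q) of `T_cyc`, Part II: `C₀ = N(V) ∩ C(Z)` in coordinates

`ZSys S Z V J e`: moreover `e 1 0 ∈ Z = C_J(S)`, `N(V) ∩ C(J) = B C(V)`, `N(V) ∩ C(Z) = S C(V)`.
* `sm0`: `c ∈ C₀` acts as `(1 b; 0 d) σ`;
* `u4` (1.4); for `|F| = 4`: `cardZ`, `JZ`, `small`, `center`, `eight`, `nab`, `four`.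
-/

set_option autoImplicit false
set_option linter.unusedSectionVars false

namespace Cfsg.Agent.OddCyclic.Eq.Crd

open Subgroup

variable {G : Type*} [Group G] {F : Type} [Field F]

/-- coordinates of `V`, `J`, `Z = C_J(S)` with `e 1 0 ∈ Z` -/
structure ZSys (S Z V J : Subgroup G) (e : F → F → G) : Prop extends Sys V J e where
  one : e 1 0 ∈ Z
  ZJ : Z ≤ J
  SN : S ≤ normalizer (V : Set G)
  SZ : S ≤ centralizer (Z : Set G)
  memZ : ∀ g ∈ J, (∀ s ∈ S, s * g = g * s) → g ∈ Z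
  up : ∀ t, ∃ b ∈ S, Sm e b (RingEquiv.refl F) 1 t 0 1
  root : ∀ m ∈ normalizer (V : Set G), m ∈ centralizer (J : Set G) → ∃ t, Sm e m (RingEquiv.refl F) 1 t 0 1
  cent : ∀ m ∈ normalizer (V : Set G), m ∈ centralizer (Z : Set G) → ∃ s ∈ S, s⁻¹ * m ∈ centralizer (V : Set G)

namespace ZSys

variable {S Z V J : Subgroup G} {e : F → F → G} (h : ZSys S Z V J e)

include h

/-- the action of `C₀` -/
theorem sm0 {c : G} (hc : c ∈ normalizer (V : Set G)) (hz : c ∈ centralizer (Z : Set G)) :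
    ∃ (σ : F ≃+* F) (b d : F), d ≠ 0 ∧ Sm e c σ 1 b 0 d := by
  obtain ⟨σ, a, b, c', d, hd, hs⟩ := h.semi c hc
  have h1 : c * e 1 0 * c⁻¹ = e 1 0 := by
    rw [← mem_centralizer_iff.1 hz _ h.one, mul_inv_cancel_right]
  rw [hs] at h1
  simp only [map_one, map_zero, mul_one, mul_zero, add_zero] at h1
  obtain ⟨h2, h3⟩ := h.ext h1
  subst h2
  subst h3
  refine ⟨σ, b, d, ?_, hs⟩
  rintro rfl
  apply hd
  ring

theorem S0 {s : G} (hs : s ∈ S) : ∃ (σ : F ≃+* F) (b d : F), d ≠ 0 ∧ Sm e s σ 1 b 0 d :=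
  h.sm0 (h.SN hs) (h.SZ hs)

theorem mem_Z {x : F} : e x 0 ∈ Z ↔ ∀ s ∈ S, ∀ (σ : F ≃+* F) (b d : F), Sm e s σ 1 b 0 d → σ x = x := by
  constructor
  · intro h1 s hs σ b d h2
    have h3 : s * e x 0 * s⁻¹ = e x 0 := by
      rw [← mem_centralizer_iff.1 (h.SZ hs) _ h1, mul_inv_cancel_right]
    rw [h2] at h3
    simp only [map_zero, mul_zero, add_zero, one_mul] at h3
    exact (h.ext h3).1
  · intro h1
    refine h.memZ _ (h.J_mem x) fun s hs => ?_
    obtain ⟨σ, b, d, -, h2⟩ := h.S0 hs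
    rw [← mul_inv_eq_iff_eq_mul, h2]
    simp only [map_zero, mul_zero, add_zero, one_mul, zero_mul]
    rw [h1 s hs σ b d h2]

/-- `w u w⁻¹` -/
theorem conj_up {w u : G} {σ : F ≃+* F} {b d t : F} (hd : d ≠ 0) (hw : Sm e w σ 1 b 0 d)
    (hu : Sm e u (RingEquiv.refl F) 1 t 0 1) : Sm e (w * u * w⁻¹) (RingEquiv.refl F) 1 (σ t * d⁻¹) 0 1 := by
  intro x y
  -- the preimage of `(x, y)`
  set y' := σ.symm (d⁻¹ * y) with hy'
  set x' := σ.symm (x - b * (d⁻¹ * y)) with hx'
  have e1 : σ y' = d⁻¹ * y := σ.apply_symm_apply _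
  have e2 : σ x' = x - b * (d⁻¹ * y) := σ.apply_symm_apply _
  have h1 : w * e x' y' * w⁻¹ = e x y := by
    rw [hw x' y', e1, e2]
    congr 1
    · ring
    · rw [zero_mul, zero_add, mul_inv_cancel_left₀ hd]
  have h2 : w * u * w⁻¹ * e x y * (w * u * w⁻¹)⁻¹ = w * (u * e x' y' * u⁻¹) * w⁻¹ := by
    rw [← h1]; group
  rw [h2, hu, hw]
  simp only [RingEquiv.refl_apply, one_mul, zero_mul, zero_add, map_add, map_mul, e1, e2]
  congr 1
  · ring
  · rw [mul_inv_cancel_left₀ hd]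

theorem mem_centJ {c : G} {σ : F ≃+* F} {b d : F} (hs : Sm e c σ 1 b 0 d) :
    c ∈ centralizer (J : Set G) ↔ σ = RingEquiv.refl F := by
  rw [mem_centralizer_iff]
  constructor
  · intro h1
    ext x
    have h2 := h1 _ (h.J_mem x)
    have h3 := hs x 0
    rw [← h2, mul_inv_cancel_right] at h3
    simp only [map_zero, mul_zero, add_zero, one_mul] at h3
    exact (h.ext h3).1.symm
  · rintro rfl j hj
    obtain ⟨x, rfl⟩ := (h.memJ _).1 hj
    have h3 := hs x 0
    simp only [map_zero, mul_zero, add_zero, one_mul, zero_mul, RingEquiv.refl_apply] at h3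
    rw [mul_inv_eq_iff_eq_mul] at h3
    exact h3.symm

/-- `d = 1` for linear elements -/
theorem d_eq {c : G} (hc : c ∈ normalizer (V : Set G)) {b d : F}
    (hs : Sm e c (RingEquiv.refl F) 1 b 0 d) : d = 1 := by
  obtain ⟨t, ht⟩ := h.root c hc ((h.mem_centJ hs).2 rfl)
  exact (h.uniq' hc hs ht).2.2.2.2

section u4

variable [CharP F 2] [Finite F]

/-- **(1.4)** -/
theorem u4 (hU : ∀ R ≤ J, R ≠ ⊥ → ¬ centralizer (R : Set G) ≤ normalizer (V : Set G) →
      ∃ s ∈ normalizer (V : Set G), s ∈ centralizer (R : Set G) ∧ s ∉ centralizer (J : Set G) ∧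
        s * s ∈ centralizer (J : Set G)) {a : G} (ha : a ∉ normalizer (V : Set G)) :
    Nat.card (V ⊓ centralizer ({a} : Set G) : Subgroup G) ≤ Nat.card F := by
  rw [← h.card_pre inf_le_left]
  have two : (2 : F) = 0 := CharTwo.two_eq_zero
  -- a vector and a multiple of it fixed by `a` give a field automorphism
  have key : ∀ (x y l : F), ((x, y) : F × F) ≠ 0 → e x y ∈ V ⊓ centralizer ({a} : Set G) →
      e (l * x) (l * y) ∈ V ⊓ centralizer ({a} : Set G) →
      ∃ σ : F ≃+* F, (∀ x, σ (σ x) = x) ∧ (∃ x, σ x ≠ x) ∧ σ l = l := by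
    intro x y l hxy h1 h2
    obtain ⟨p, r, hpr⟩ : ∃ p r : F, x * r + p * y = 1 := by
      by_cases h4 : x = 0
      · have h5 : y ≠ 0 := fun h6 => hxy (by rw [h4, h6]; rfl)
        exact ⟨y⁻¹, 0, by rw [inv_mul_cancel₀ h5, mul_zero, zero_add]⟩
      · exact ⟨0, x⁻¹, by rw [mul_inv_cancel₀ h4, zero_mul, add_zero]⟩
    obtain ⟨n, hn, hsn⟩ := h.sl x p y r hpr
    have h3 : n * e 1 0 * n⁻¹ = e x y := by
      rw [hsn]; simp
    have h4 : n * e l 0 * n⁻¹ = e (l * x) (l * y) := by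
      rw [hsn]; simp [mul_comm]
    have hcom : ∀ g, n * g * n⁻¹ ∈ V ⊓ centralizer ({a} : Set G) → g * (n⁻¹ * a * n) = (n⁻¹ * a * n) * g := by
      intro g hg
      have h5 := mem_centralizer_singleton_iff.1 hg.2
      calc g * (n⁻¹ * a * n) = n⁻¹ * ((n * g * n⁻¹) * a) * n := by group
        _ = n⁻¹ * (a * (n * g * n⁻¹)) * n := by rw [h5]
        _ = (n⁻¹ * a * n) * g := by group
    set R := _root_.Subgroup.closure ({e 1 0, e l 0} : Set G) with hR
    have hRJ : R ≤ J := by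
      rw [hR, closure_le]
      rintro g (rfl | rfl)
      · exact h.J_mem _
      · exact h.J_mem _
    have h10 : e 1 0 ∈ R := _root_.Subgroup.subset_closure (Or.inl rfl)
    have hl0 : e l 0 ∈ R := _root_.Subgroup.subset_closure (Or.inr rfl)
    have hR1 : R ≠ ⊥ := by
      intro h5
      rw [h5, mem_bot] at h10
      exact one_ne_zero (h.inj _ _ h10).1
    have hRc : n⁻¹ * a * n ∈ centralizer (R : Set G) := by
      have h5 : R ≤ centralizer ({n⁻¹ * a * n} : Set G) := by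
        rw [hR, closure_le]
        rintro g (rfl | rfl)
        · exact mem_centralizer_singleton_iff.2 (hcom _ (by rw [h3]; exact h1))
        · exact mem_centralizer_singleton_iff.2 (hcom _ (by rw [h4]; exact h2))
      rw [mem_centralizer_iff]
      intro g hg
      exact mem_centralizer_singleton_iff.1 (h5 hg)
    have hnV : ¬ centralizer (R : Set G) ≤ normalizer (V : Set G) := by
      intro h5
      apply ha
      have h6 := mul_mem (mul_mem hn (h5 hRc)) (inv_mem hn)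
      have h7 : n * (n⁻¹ * a * n) * n⁻¹ = a := by group
      rwa [h7] at h6
    obtain ⟨s, hsV, hsR, hsJ, hs2⟩ := hU R hRJ hR1 hnV
    obtain ⟨σ, p', q', r', s', hd', hss⟩ := h.semi s hsV
    have g1 := hss 1 0
    have g2 := hss l 0
    rw [← mem_centralizer_iff.1 hsR _ h10, mul_inv_cancel_right] at g1
    rw [← mem_centralizer_iff.1 hsR _ hl0, mul_inv_cancel_right] at g2
    simp only [map_one, map_zero, mul_one, mul_zero, add_zero] at g1 g2
    obtain ⟨g3, g4⟩ := h.ext g1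
    obtain ⟨g5, -⟩ := h.ext g2
    subst g3
    subst g4
    rw [one_mul] at g5
    refine ⟨σ, ?_, ?_, g5.symm⟩
    · intro x
      have g6 := (hss.mul hss) x 0
      rw [← mem_centralizer_iff.1 hs2 _ (h.J_mem x), mul_inv_cancel_right] at g6
      simp only [map_one, map_zero, mul_one, mul_zero, add_zero, RingEquiv.trans_apply, one_mul] at g6
      exact (h.ext g6).1.symm
    · by_contra hcon
      push Not at hcon
      apply hsJ
      exact (h.mem_centJ hss).2 (RingEquiv.ext hcon)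
  by_cases hex : ∃ (σ : F ≃+* F) (l : F), (∀ x, σ (σ x) = x) ∧ σ l ≠ l
  · obtain ⟨σ, l, hσ, hl⟩ := hex
    refine card_le_of_sep _ l ?_
    rintro ⟨x, y⟩ h1 h2
    by_contra hne
    obtain ⟨τ, h3, h4, h5⟩ := key x y l hne h1 h2
    apply hl
    rw [invol_unique hσ h3 ⟨l, hl⟩ h4]
    exact h5
  · push Not at hex
    refine card_le_of_sep _ 1 ?_
    rintro ⟨x, y⟩ h1 -
    by_contra hne
    obtain ⟨τ, h3, ⟨x', h4⟩, h5⟩ := key x y 1 hne h1 (by rw [one_mul, one_mul]; exact h1)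
    exact h4 (hex τ x' h3)

end u4

/-! ### `|F| = 4` -/

section four

variable [CharP F 2]

omit h in
/-- in `F₄` -/
theorem four_sigma [Finite F] (h4 : Nat.card F = 4) (σ : F ≃+* F) (x : F) : σ (σ x) = x := by
  have := Fintype.ofFinite F
  have two : (2 : F) = 0 := CharTwo.two_eq_zero
  by_cases h0 : x = 0
  · rw [h0, map_zero, map_zero]
  by_cases h1 : x = 1
  · rw [h1, map_one, map_one]
  have h2 : x ^ 4 = x := by
    have := FiniteField.pow_card x
    rwa [← Nat.card_eq_fintype_card, h4] at this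
  have h3 : x * ((x - 1) * (x ^ 2 + x + 1)) = 0 := by linear_combination h2
  have h5 : x ^ 2 + x + 1 = 0 :=
    (mul_eq_zero.1 ((mul_eq_zero.1 h3).resolve_left h0)).resolve_left (sub_ne_zero.2 h1)
  have h6 : (σ x) ^ 2 + σ x + 1 = 0 := by
    have := congrArg σ h5
    rwa [map_add, map_add, map_pow, map_one, map_zero] at this
  have h7 : (σ x - x) * (σ x - (x + 1)) = 0 := by linear_combination h6 - h5 - (x * σ x + σ x - x ^ 2 - x) * two
  rcases mul_eq_zero.1 h7 with h8 | h8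
  · rw [sub_eq_zero.1 h8, sub_eq_zero.1 h8]
  · have h9 : σ x = x + 1 := sub_eq_zero.1 h8
    rw [h9, map_add, map_one, h9]
    linear_combination two

variable [Finite F] (h4 : Nat.card F = 4) (hSJ : ¬ S ≤ centralizer (J : Set G))

include h4

omit h in
/-- two nontrivial automorphisms of `F₄` are equal -/
theorem sigma_eq {σ τ : F ≃+* F} (hσ : σ ≠ RingEquiv.refl F) (hτ : τ ≠ RingEquiv.refl F) : σ = τ := by
  refine invol_unique (four_sigma h4 σ) (four_sigma h4 τ) ?_ ?_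
  · by_contra hcon
    push Not at hcon
    exact hσ (RingEquiv.ext hcon)
  · by_contra hcon
    push Not at hcon
    exact hτ (RingEquiv.ext hcon)

/-- all elements of `C₀` of field type have the same `d` -/
theorem d_unique {a b : G} (ha : a ∈ normalizer (V : Set G)) (hb : b ∈ normalizer (V : Set G))
    {σ : F ≃+* F} {p q d d' : F} (h1 : Sm e a σ 1 p 0 d) (h2 : Sm e b σ 1 q 0 d') :
    d = d' := by
  have key : ∀ a ∈ normalizer (V : Set G), ∀ b ∈ normalizer (V : Set G), ∀ p q d d' : F, Sm e a σ 1 p 0 d →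
      Sm e b σ 1 q 0 d' → d * σ d' = 1 := by
    intro a ha b hb p q d d' h1 h2
    have h3 := h1.mul h2
    simp only [map_one, map_zero, mul_one, mul_zero, add_zero, one_mul, zero_mul, zero_add] at h3
    have h5 : σ.trans σ = RingEquiv.refl F := RingEquiv.ext (four_sigma h4 σ)
    rw [h5] at h3
    exact h.d_eq (mul_mem ha hb) h3
  have h3 := key a ha b hb p q d d' h1 h2
  have h5 := key b hb b hb q q d' d' h2 h2
  have h6 : σ d' ≠ 0 := by
    intro h7
    rw [h7, mul_zero] at h3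
    exact zero_ne_one h3
  exact mul_right_cancel₀ h6 (h3.trans h5.symm)

theorem d_norm {a : G} (ha : a ∈ normalizer (V : Set G))
    {σ : F ≃+* F} {p d : F} (h1 : Sm e a σ 1 p 0 d) : d * σ d = 1 := by
  have h3 := h1.mul h1
  simp only [map_one, map_zero, mul_one, mul_zero, add_zero, one_mul, zero_mul, zero_add] at h3
  have h5 : σ.trans σ = RingEquiv.refl F := RingEquiv.ext (four_sigma h4 σ)
  rw [h5] at h3
  exact h.d_eq (mul_mem ha ha) h3

/-- `[J, C₀] ≤ Z` -/
theorem JZ : ∀ c ∈ normalizer (V : Set G) ⊓ centralizer (Z : Set G), ∀ j ∈ J, c * j * c⁻¹ * j⁻¹ ∈ Z := by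
  have two : (2 : F) = 0 := CharTwo.two_eq_zero
  intro c hc j hj
  obtain ⟨σ, b, d, -, h2⟩ := h.sm0 hc.1 hc.2
  obtain ⟨x, rfl⟩ := (h.memJ _).1 hj
  have h3 : c * e x 0 * c⁻¹ * (e x 0)⁻¹ = e (σ x + x) 0 := by
    rw [h2, mul_inv_eq_iff_eq_mul, ← h.add]
    simp only [map_zero, mul_zero, add_zero, one_mul, zero_mul]
    congr 1
    linear_combination (-x) * two
  rw [h3, h.mem_Z]
  intro s hs τ b' d' h5
  by_cases hτ : τ = RingEquiv.refl F
  · rw [hτ]; rfl
  by_cases hσ : σ = RingEquiv.refl F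
  · rw [hσ]
    simp only [RingEquiv.refl_apply]
    have : x + x = 0 := by linear_combination x * two
    rw [this, map_zero]
  · rw [sigma_eq h4 hτ hσ, map_add, four_sigma h4]
    ring

include hSJ

/-- an element of field type in `S` -/
theorem exists_w : ∃ w ∈ S, ∃ (σ : F ≃+* F) (b d : F), σ ≠ RingEquiv.refl F ∧ d ≠ 0 ∧ Sm e w σ 1 b 0 d := by
  obtain ⟨w, hw, hw2⟩ := SetLike.not_le_iff_exists.1 hSJ
  obtain ⟨σ, b, d, hd, h2⟩ := h.S0 hw
  exact ⟨w, hw, σ, b, d, fun h3 => hw2 ((h.mem_centJ h2).2 h3), hd, h2⟩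

/-- `Z = {e 0 0, e 1 0}` -/
theorem mem_Z4 {x : F} : e x 0 ∈ Z ↔ x = 0 ∨ x = 1 := by
  classical
  have two : (2 : F) = 0 := CharTwo.two_eq_zero
  have := Fintype.ofFinite F
  constructor
  · intro h1
    obtain ⟨w, hw, σ, b, d, hσ, hd, h2⟩ := h.exists_w h4 hSJ
    have h3 := h.mem_Z.1 h1 w hw σ b d h2
    by_contra hcon
    push Not at hcon
    apply hσ
    ext y
    -- `F = {0, 1, x, x + 1}`
    have h5 : ({0, 1, x, x + 1} : Finset F) = Finset.univ := by
      apply Finset.eq_univ_of_card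
      rw [← Nat.card_eq_fintype_card, h4]
      have e1 : (0 : F) ≠ 1 := zero_ne_one
      have e2 : (0 : F) ≠ x := hcon.1.symm
      have e3 : (0 : F) ≠ x + 1 := fun h6 => hcon.2 (by linear_combination -h6 - two)
      have e4 : (1 : F) ≠ x := hcon.2.symm
      have e5 : (1 : F) ≠ x + 1 := fun h6 => hcon.1 (by linear_combination -h6)
      have e6 : x ≠ x + 1 := fun h6 => one_ne_zero (α := F) (by linear_combination -h6)
      rw [Finset.card_insert_of_notMem, Finset.card_insert_of_notMem, Finset.card_insert_of_notMem,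
        Finset.card_singleton] <;> simp only [e1, e2, e3, e4, e5, e6, _root_.Finset.mem_singleton, _root_.not_false_eq_true, _root_.Finset.mem_insert, _root_.or_self]
    have h6 : y ∈ ({0, 1, x, x + 1} : Finset F) := by rw [h5]; exact Finset.mem_univ _
    simp only [Finset.mem_insert, Finset.mem_singleton] at h6
    rcases h6 with rfl | rfl | rfl | rfl
    · exact map_zero _
    · exact map_one _
    · exact h3
    · rw [map_add, map_one, h3]; rfl
  · rintro (rfl | rfl)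
    · rw [h.zero]; exact one_mem _
    · exact h.one

/-- `|Z| = 2` -/
theorem cardZ : Nat.card Z = 2 := by
  have h1 : (Z : Set G) = {e 0 0, e 1 0} := by
    ext g
    constructor
    · intro hg
      obtain ⟨x, rfl⟩ := (h.memJ _).1 (h.ZJ hg)
      rcases (h.mem_Z4 h4 hSJ).1 hg with rfl | rfl
      · exact Or.inl rfl
      · exact Or.inr rfl
    · rintro (rfl | rfl)
      · exact (h.mem_Z4 h4 hSJ).2 (Or.inl rfl)
      · exact (h.mem_Z4 h4 hSJ).2 (Or.inr rfl)
  rw [← SetLike.coe_sort_coe, h1, Nat.card_coe_set_eq, Set.ncard_pair]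
  intro h2
  exact zero_ne_one (h.ext h2).1

/-- an element of `C₀` with `[V, c] ≤ Z` centralises `V` -/
theorem small : ∀ c ∈ normalizer (V : Set G) ⊓ centralizer (Z : Set G), (∀ v ∈ V, c * v * c⁻¹ * v⁻¹ ∈ Z) →
    c ∈ centralizer (V : Set G) := by
  have two : (2 : F) = 0 := CharTwo.two_eq_zero
  intro c hc h1
  obtain ⟨σ, b, d, -, h2⟩ := h.sm0 hc.1 hc.2
  have h3 : ∀ x y, σ x + b * σ y + x = 0 ∨ σ x + b * σ y + x = 1 := by
    intro x y
    have h5 := h1 _ (h.memV x y)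
    rw [h2] at h5
    have h6 : e (1 * σ x + b * σ y) (0 * σ x + d * σ y) * (e x y)⁻¹ = e (σ x + b * σ y + x) (d * σ y + y) := by
      rw [mul_inv_eq_iff_eq_mul, ← h.add]
      congr 1
      · linear_combination (-x) * two
      · linear_combination (-y) * two
    rw [h6] at h5
    have h7 : d * σ y + y = 0 := h.mem_J (h.ZJ h5)
    rw [h7] at h5
    exact (h.mem_Z4 h4 hSJ).1 h5
  have h3' : ∀ y, d * σ y + y = 0 := by
    intro y
    have h5 := h1 _ (h.memV 0 y)
    rw [h2] at h5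
    have h6 : e (1 * σ 0 + b * σ y) (0 * σ 0 + d * σ y) * (e 0 y)⁻¹ = e (b * σ y) (d * σ y + y) := by
      rw [mul_inv_eq_iff_eq_mul, ← h.add]
      congr 1
      · rw [map_zero]; ring
      · rw [map_zero]; linear_combination (-y) * two
    rw [h6] at h5
    exact h.mem_J (h.ZJ h5)
  have hd : d = 1 := by
    have := h3' 1
    rw [map_one] at this
    linear_combination this - two
  have hσ : σ = RingEquiv.refl F := by
    ext y
    have := h3' y
    rw [hd] at this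
    show σ y = y
    linear_combination this - y * two
  subst hσ
  subst hd
  simp only [RingEquiv.refl_apply] at h3
  have hb : b = 0 := by
    by_contra hb
    -- the values `b y` exhaust `F`
    have h5 : ∀ y : F, y = 0 ∨ y = 1 := by
      intro y
      have h6 := h3 0 (b⁻¹ * y)
      rwa [zero_add, add_zero, mul_inv_cancel_left₀ hb] at h6
    have := Fintype.ofFinite F
    have h6 : Nat.card F ≤ 2 := by
      classical
      rw [Nat.card_eq_fintype_card, ← Finset.card_univ]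
      refine (Finset.card_le_card (t := {0, 1}) fun y _ => ?_).trans Finset.card_le_two
      simp only [Finset.mem_insert, Finset.mem_singleton]
      exact h5 y
    omega
  subst hb
  exact h.mem_cent.2 h2

/-- `C₀ / C(V)` is not abelian -/
theorem nab : ∃ a ∈ normalizer (V : Set G) ⊓ centralizer (Z : Set G),
    ∃ b ∈ normalizer (V : Set G) ⊓ centralizer (Z : Set G), a * b * a⁻¹ * b⁻¹ ∉ centralizer (V : Set G) := by
  have two : (2 : F) = 0 := CharTwo.two_eq_zero
  obtain ⟨w, hw, σ, b, d, hσ, hd, h2⟩ := h.exists_w h4 hSJ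
  have h3 : ∃ t, σ t * d⁻¹ + t ≠ 0 := by
    by_contra hcon
    push Not at hcon
    have h5 := hcon 1
    rw [map_one, one_mul] at h5
    have h6 : d⁻¹ = 1 := by linear_combination h5 - two
    apply hσ
    ext y
    have h7 := hcon y
    rw [h6] at h7
    show σ y = y
    linear_combination h7 - y * two
  obtain ⟨t, ht⟩ := h3
  obtain ⟨u, hu, hut⟩ := h.up t
  refine ⟨w, ⟨h.SN hw, h.SZ hw⟩, u, ⟨h.SN hu, h.SZ hu⟩, fun h5 => ?_⟩
  have h6 := h.conj_up hd h2 hut
  -- `w u w⁻¹ = k u` with `k ∈ C(V)`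
  have h7 := (h.mem_cent.1 h5).mul hut
  have h8 : w * u * w⁻¹ * u⁻¹ * u = w * u * w⁻¹ := by group
  rw [h8] at h7
  have h9 := (h.uniq' (mul_mem (mul_mem (h.SN hw) (h.SN hu)) (inv_mem (h.SN hw))) h6 h7).2.2.1
  simp only [RingEquiv.refl_apply, mul_one, one_mul, add_zero] at h9
  apply ht
  rw [h9]
  linear_combination t * two

/-- the centre of `C₀ / C(V)` -/
theorem center : ∀ N : Subgroup G, N ≤ normalizer (V : Set G) ⊓ centralizer (Z : Set G) →
    normalizer (V : Set G) ⊓ centralizer (Z : Set G) ≤ normalizer (N : Set G) →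
    ¬ N ≤ centralizer (V : Set G) → ∃ s ∈ N,
      (∀ c ∈ normalizer (V : Set G) ⊓ centralizer (Z : Set G), c * s * c⁻¹ * s⁻¹ ∈ centralizer (V : Set G)) ∧
      (∀ j ∈ J, s * j * s⁻¹ * j⁻¹ = 1) ∧
      (∀ j ∈ J, ∃ v ∈ V, s * v * s⁻¹ * v⁻¹ = j) ∧ (∀ v ∈ V, s * v * s⁻¹ * v⁻¹ ∈ J) := by
  have two : (2 : F) = 0 := CharTwo.two_eq_zero
  intro N hN hNn hNV
  obtain ⟨w, hw, σ, b, d, hσ, hd, h2⟩ := h.exists_w h4 hSJ
  have hdn : d * σ d = 1 := h.d_norm h4 (h.SN hw) h2
  have hwC : w ∈ normalizer (V : Set G) ⊓ centralizer (Z : Set G) := ⟨h.SN hw, h.SZ hw⟩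
  -- (1) a nontrivial root element in `N`
  have e1 : ∃ s ∈ N, ∃ t : F, t ≠ 0 ∧ Sm e s (RingEquiv.refl F) 1 t 0 1 := by
    obtain ⟨n, hn, hnV⟩ := SetLike.not_le_iff_exists.1 hNV
    obtain ⟨τ, b', d', hd', hs⟩ := h.sm0 (hN hn).1 (hN hn).2
    by_cases hτ : τ = RingEquiv.refl F
    · subst hτ
      rw [h.d_eq (hN hn).1 hs] at hs
      refine ⟨n, hn, b', ?_, hs⟩
      rintro rfl
      exact hnV (h.mem_cent.2 hs)
    · have h3 : ∃ t, τ t * d'⁻¹ + t ≠ 0 := by
        by_contra hcon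
        push Not at hcon
        have h5 := hcon 1
        rw [map_one, one_mul] at h5
        have h6 : d'⁻¹ = 1 := by linear_combination h5 - two
        apply hτ
        ext y
        have h7 := hcon y
        rw [h6] at h7
        show τ y = y
        linear_combination h7 - y * two
      obtain ⟨t, ht⟩ := h3
      obtain ⟨u, hu, hut⟩ := h.up t
      refine ⟨n * (u * n⁻¹ * u⁻¹), mul_mem hn ?_, τ t * d'⁻¹ + t, ht, ?_⟩
      · exact (mem_normalizer_iff.1 (hNn ⟨h.SN hu, h.SZ hu⟩) _).1 (inv_mem hn)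
      · have h6 := h.conj_up hd' hs hut
        have h7 : Sm e u⁻¹ (RingEquiv.refl F) 1 t 0 1 := by
          intro x y
          have h8 := hut (x + t * y) y
          simp only [RingEquiv.refl_apply, one_mul, zero_mul, zero_add] at h8 ⊢
          have h9 : x + t * y + t * y = x := by linear_combination (t * y) * two
          rw [h9] at h8
          rw [← h8]
          group
        have h8 := h6.mul h7
        have h9 : n * u * n⁻¹ * u⁻¹ = n * (u * n⁻¹ * u⁻¹) := by group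
        rw [h9] at h8
        simp only [RingEquiv.refl_apply, mul_one, one_mul, zero_mul, mul_zero, add_zero, zero_add] at h8
        have h10 : (RingEquiv.refl F).trans (RingEquiv.refl F) = RingEquiv.refl F := rfl
        rw [h10, add_comm t] at h8
        exact h8
  -- (2) a root element in `N` which is central
  have e2 : ∃ s ∈ N, ∃ t : F, t ≠ 0 ∧ σ t = t * d ∧ Sm e s (RingEquiv.refl F) 1 t 0 1 := by
    obtain ⟨s, hs, t, ht, hst⟩ := e1
    by_cases h3 : σ t = t * d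
    · exact ⟨s, hs, t, ht, h3, hst⟩
    · have h6 := h.conj_up hd h2 hst
      have h7 := h6.mul hst
      simp only [RingEquiv.refl_apply, mul_one, one_mul, zero_mul, mul_zero, add_zero, zero_add] at h7
      have h10 : (RingEquiv.refl F).trans (RingEquiv.refl F) = RingEquiv.refl F := rfl
      rw [h10] at h7
      refine ⟨w * s * w⁻¹ * s, mul_mem ((mem_normalizer_iff.1 (hNn hwC) _).1 hs) hs, t + σ t * d⁻¹, ?_, ?_, h7⟩
      · intro h8
        apply h3
        have h9 : (t + σ t * d⁻¹) * d = 0 := by rw [h8, zero_mul]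
        have h11 : t * d + σ t = 0 := by
          rw [add_mul, mul_assoc, inv_mul_cancel₀ hd, mul_one] at h9
          exact h9
        linear_combination h11 - (t * d) * two
      · have h8 : σ d⁻¹ = d := by
          rw [map_inv₀]
          exact inv_eq_of_mul_eq_one_left hdn
        rw [map_add, map_mul, four_sigma h4, h8, add_mul, mul_assoc, inv_mul_cancel₀ hd, mul_one]
        ring
  obtain ⟨s, hs, t, ht, htσ, hst⟩ := e2
  refine ⟨s, hs, ?_, ?_, ?_, ?_⟩
  · intro c hc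
    obtain ⟨τ, b', d', hd', hcs⟩ := h.sm0 hc.1 hc.2
    have h3 := h.conj_up hd' hcs hst
    have h5 : τ t * d'⁻¹ = t := by
      by_cases hτ : τ = RingEquiv.refl F
      · subst hτ
        rw [h.d_eq hc.1 hcs, inv_one, mul_one]; rfl
      · have h6 : τ = σ := sigma_eq h4 hτ hσ
        subst h6
        rw [h.d_unique h4 hc.1 (h.SN hw) hcs h2, htσ, mul_assoc, mul_inv_cancel₀ hd, mul_one]
    rw [h5] at h3
    have h7 : Sm e s⁻¹ (RingEquiv.refl F) 1 t 0 1 := by
      intro x y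
      have h8 := hst (x + t * y) y
      simp only [RingEquiv.refl_apply, one_mul, zero_mul, zero_add] at h8 ⊢
      have h9 : x + t * y + t * y = x := by linear_combination (t * y) * two
      rw [h9] at h8
      rw [← h8]
      group
    have h8 := h3.mul h7
    simp only [RingEquiv.refl_apply, mul_one, one_mul, zero_mul, mul_zero, add_zero, zero_add] at h8
    have h10 : (RingEquiv.refl F).trans (RingEquiv.refl F) = RingEquiv.refl F := rfl
    have h11 : t + t = 0 := by linear_combination t * two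
    rw [h10, h11] at h8
    exact h.mem_cent.2 h8
  · intro j hj
    obtain ⟨x, rfl⟩ := (h.memJ _).1 hj
    rw [h.comm_up hst, mul_zero, h.zero]
  · intro j hj
    obtain ⟨x, rfl⟩ := (h.memJ _).1 hj
    exact ⟨e 0 (t⁻¹ * x), h.memV _ _, by rw [h.comm_up hst, mul_inv_cancel_left₀ ht]⟩
  · intro v hv
    obtain ⟨x, y, rfl⟩ := (h.mem _).1 hv
    rw [h.comm_up hst]
    exact h.J_mem _

/-- `|C₀ : C(V)| = 8` -/
theorem eight : (centralizer (V : Set G)).relIndex (normalizer (V : Set G) ⊓ centralizer (Z : Set G)) = 8 := by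
  classical
  have two : (2 : F) = 0 := CharTwo.two_eq_zero
  obtain ⟨w, hw, σ, b₀, d, hσ, hd, h2⟩ := h.exists_w h4 hSJ
  have key : ∀ c : G, ∃ (τ : F ≃+* F) (b d : F), c ∈ normalizer (V : Set G) ⊓ centralizer (Z : Set G) →
      Sm e c τ 1 b 0 d := by
    intro c
    by_cases hc : c ∈ normalizer (V : Set G) ⊓ centralizer (Z : Set G)
    · obtain ⟨τ, b, d, -, hs⟩ := h.sm0 hc.1 hc.2
      exact ⟨τ, b, d, fun _ => hs⟩
    · exact ⟨RingEquiv.refl F, 0, 0, fun h3 => absurd h3 hc⟩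
  choose τ β δ hs using key
  have h1 : (centralizer (V : Set G)).relIndex (normalizer (V : Set G) ⊓ centralizer (Z : Set G)) =
      Nat.card (Bool × F) := by
    refine Sys.relIndex_eq_of (fun c => (decide (τ c = RingEquiv.refl F), β c)) ?_ ?_
    · intro a ha c hc
      simp only [Prod.mk.injEq, decide_eq_decide]
      constructor
      · rintro ⟨h3, h5⟩
        have h6 : τ a = τ c ∧ δ a = δ c := by
          by_cases hτ : τ a = RingEquiv.refl F
          · have hτ' := h3.1 hτ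
            have g1 := hs a ha
            have g2 := hs c hc
            rw [hτ] at g1
            rw [hτ'] at g2
            exact ⟨hτ.trans hτ'.symm, (h.d_eq ha.1 g1).trans (h.d_eq hc.1 g2).symm⟩
          · have hτ' : τ c ≠ RingEquiv.refl F := fun h7 => hτ (h3.2 h7)
            have h8 : τ a = τ c := sigma_eq h4 hτ hτ'
            have g1 := hs a ha
            rw [h8] at g1
            exact ⟨h8, h.d_unique h4 ha.1 hc.1 g1 (hs c hc)⟩
        rw [mem_centralizer_iff]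
        intro v hv
        obtain ⟨x, y, rfl⟩ := (h.mem _).1 hv
        have g1 := hs a ha x y
        have g2 := hs c hc x y
        rw [h6.1, h6.2, h5] at g1
        have g3 := g1.trans g2.symm
        calc e x y * (a⁻¹ * c) = a⁻¹ * (a * e x y * a⁻¹) * c := by group
          _ = a⁻¹ * (c * e x y * c⁻¹) * c := by rw [g3]
          _ = a⁻¹ * c * e x y := by group
      · intro h3
        have h5 := (hs a ha).mul (h.mem_cent.1 h3)
        rw [mul_inv_cancel_left] at h5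
        obtain ⟨g1, -, g2, -⟩ := h.uniq' hc.1 (hs c hc) h5
        simp only [map_one, map_zero, mul_one, mul_zero, zero_add] at g2
        have g3 : (RingEquiv.refl F).trans (τ a) = τ a := rfl
        rw [g3] at g1
        exact ⟨by rw [g1], g2.symm⟩
    · rintro ⟨b, t⟩
      rcases b with _ | _
      · obtain ⟨u, hu, hut⟩ := h.up ((t - b₀) * d⁻¹)
        have h3 : u * w ∈ normalizer (V : Set G) ⊓ centralizer (Z : Set G) :=
          mul_mem ⟨h.SN hu, h.SZ hu⟩ ⟨h.SN hw, h.SZ hw⟩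
        refine ⟨u * w, h3, ?_⟩
        obtain ⟨g1, -, g2, -⟩ := h.uniq' h3.1 (hs _ h3) (hut.mul h2)
        have g3 : σ.trans (RingEquiv.refl F) = σ := rfl
        rw [g3] at g1
        simp only [RingEquiv.refl_apply, one_mul] at g2
        rw [mul_assoc, inv_mul_cancel₀ hd, mul_one] at g2
        refine Prod.ext ?_ ?_
        · show decide (τ (u * w) = RingEquiv.refl F) = false
          rw [g1, decide_eq_false_iff_not]
          exact hσ
        · show β (u * w) = t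
          rw [g2]; ring
      · obtain ⟨u, hu, hut⟩ := h.up t
        have h3 : u ∈ normalizer (V : Set G) ⊓ centralizer (Z : Set G) := ⟨h.SN hu, h.SZ hu⟩
        refine ⟨u, h3, ?_⟩
        obtain ⟨g1, -, g2, -⟩ := h.uniq' h3.1 (hs _ h3) hut
        refine Prod.ext ?_ g2
        show decide (τ u = RingEquiv.refl F) = true
        rw [g1]; simp
  rw [h1, Nat.card_prod, h4, Nat.card_eq_fintype_card, Fintype.card_bool]

/-- invariant subgroups above `Z` -/
theorem four (U : Subgroup G) (hUV : U ≤ V) (hZU : Z ≤ U)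
    (hn : normalizer (V : Set G) ⊓ centralizer (Z : Set G) ≤ normalizer (U : Set G)) :
    U = Z ∨ U = J ∨ U = V ∨ (J ≤ U ∧ Nat.card U = 8) := by
  have two : (2 : F) = 0 := CharTwo.two_eq_zero
  have hcV : Nat.card V = 16 := by rw [h.cardV, h4]
  have hVf : Finite V := Nat.finite_of_card_ne_zero (by omega)
  have hcJ : Nat.card J = 4 := by rw [h.cardJ, h4]
  have hJf : Finite J := Finite.Set.subset (V : Set G) h.J_le
  have hUf : Finite U := Finite.Set.subset (V : Set G) hUV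
  by_cases hUJ : U ≤ J
  · have h1 : Nat.card U ∣ 4 := by rw [← hcJ]; exact card_dvd_of_le hUJ
    have h2 : 2 ∣ Nat.card U := by rw [← h.cardZ h4 hSJ]; exact card_dvd_of_le hZU
    have h3 : Nat.card U ≤ 4 := Nat.le_of_dvd (by norm_num) h1
    have h5 : Nat.card U = 2 ∨ Nat.card U = 4 := by
      have : 0 < Nat.card U := Nat.card_pos
      interval_cases h6 : Nat.card U <;> omega
    rcases h5 with h5 | h5
    · left
      exact (eq_of_le_of_card_ge hZU (by rw [h5, h.cardZ h4 hSJ])).symm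
    · right; left
      exact eq_of_le_of_card_ge hUJ (by rw [h5, hcJ])
  · obtain ⟨g, hgU, hgJ⟩ := SetLike.not_le_iff_exists.1 hUJ
    obtain ⟨x, y, rfl⟩ := (h.mem _).1 (hUV hgU)
    have hy : y ≠ 0 := by
      rintro rfl
      exact hgJ (h.J_mem x)
    have hJU : J ≤ U := by
      intro j hj
      obtain ⟨x', rfl⟩ := (h.memJ _).1 hj
      obtain ⟨u, hu, hut⟩ := h.up (y⁻¹ * x')
      have h1 : u * e x y * u⁻¹ ∈ U :=
        (mem_normalizer_iff.1 (hn ⟨h.SN hu, h.SZ hu⟩) _).1 hgU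
      have h2 := mul_mem h1 (inv_mem hgU)
      rw [h.comm_up hut] at h2
      have h3 : y⁻¹ * x' * y = x' := by rw [mul_comm, mul_inv_cancel_left₀ hy]
      rwa [h3] at h2
    right; right
    have h1 : Nat.card U ∣ 16 := by rw [← hcV]; exact card_dvd_of_le hUV
    have h2 : 4 ∣ Nat.card U := by rw [← hcJ]; exact card_dvd_of_le hJU
    have h3 : Nat.card U ≤ 16 := Nat.le_of_dvd (by norm_num) h1
    have h5 : Nat.card U ≠ 4 := by
      intro h6
      exact hUJ (eq_of_le_of_card_ge hJU (by rw [h6, hcJ])).ge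
    have h6 : Nat.card U = 8 ∨ Nat.card U = 16 := by
      obtain ⟨k, hk⟩ := h2
      rw [hk] at h1 h3 h5 ⊢
      have : 0 < 4 * k := by rw [← hk]; exact Nat.card_pos
      have h7 : k ≤ 4 := by omega
      interval_cases k <;> omega
    rcases h6 with h6 | h6
    · exact Or.inr ⟨hJU, h6⟩
    · exact Or.inl (eq_of_le_of_card_ge hUV (by rw [h6, hcV]))

end four

end ZSys

end Cfsg.Agent.OddCyclic.Eq.Crd
end

-- part: OddCyclic/Eq/SitII
section
/-!
# (E_q) of `T_cyc`, Part II: the producer of `SecFour.Sit` and `SecFourEnd.Ex4`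

`h : EqOne S L V q`, `hJ : C_G(Z_J) ≤ N_G(V)`.
* `mu` (1.6): `V`, `V^g` mutually normalising commute;
* `nJ`: `N_G(Z_J) ≤ N_G(V)`;
* `three`: `3 ∣ q - 1`;
* `sit`: `SecFour.Sit q (zc S) (zc (bau S)) V (o2 (centralizer (zc S)))`;
* `ex4`: `SecFourEnd.Ex4 (zc S) (zc (bau S)) V` if `q = 4`.
-/

set_option autoImplicit false
set_option linter.unusedSectionVars false

namespace Cfsg.Agent.OddCyclic.Eq.SitII

open Subgroup Cfsg Cfsg.Agent.ZN Cfsg.Agent.OddCyclic.CompStandard Cfsg.Agent.OddCyclic.RedFiveThree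
open Cfsg.Agent.OddCyclic.Eq.Crd Cfsg.Agent.OddCyclic.Eq.Base
open Cfsg.Agent.OddCyclic.RedU (EqOne)
open Matrix (SpecialLinearGroup)

universe u

variable {G : Type u} [Group G]

/-! ### (1.6) -/

section mu

variable [Finite G] {F : Type} [Field F] [Finite F] [CharP F 2] {V J : Subgroup G} {e : F → F → G}

/-- **(1.6)** -/
theorem mu (h : Sys V J e) (hsq : ∀ v ∈ V, v * v = 1) (h4 : 4 ≤ Nat.card F)
    (hnJ : normalizer (J : Set G) ≤ normalizer (V : Set G)) (g : G) (hVg : V ≤ normalizer (cj g V : Set G))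
    (hgV : cj g V ≤ normalizer (V : Set G)) : Cm V (cj g V) := by
  by_contra hcon
  have hc : ¬ cj g V ≤ centralizer (V : Set G) := fun h1 => hcon (cm_iff.2 h1).symm
  have hgV' : cj g⁻¹ V ≤ normalizer (V : Set G) := by
    have h1 := cj_mono (g := g⁻¹) hVg
    rwa [cj_normalizer, cj_inv_cj] at h1
  have hVg' : V ≤ normalizer (cj g⁻¹ V : Set G) := by
    have h1 := cj_mono (g := g⁻¹) hgV
    rwa [cj_normalizer, cj_inv_cj] at h1
  have hsqc : ∀ k : G, ∀ a ∈ cj k V, a * a = 1 := by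
    intro k a ha
    have h1 := hsq _ (mem_cj.1 ha)
    calc a * a = k * ((k⁻¹ * a * k) * (k⁻¹ * a * k)) * k⁻¹ := by group
      _ = 1 := by rw [h1]; group
  have hquad : ∀ k : G, V ≤ normalizer (cj k V : Set G) → ∀ a ∈ cj k V, ∀ b ∈ cj k V, ∀ v ∈ V,
      (a * v * a⁻¹ * v⁻¹) * b = b * (a * v * a⁻¹ * v⁻¹) := by
    intro k hk a ha b hb v hv
    refine comm_of_sq (hsqc k) ?_ hb
    have h1 : v * a⁻¹ * v⁻¹ ∈ cj k V := (mem_normalizer_iff.1 (hk hv) _).1 (inv_mem ha)
    have h2 : a * v * a⁻¹ * v⁻¹ = a * (v * a⁻¹ * v⁻¹) := by group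
    rw [h2]
    exact mul_mem ha h1
  have hcV := h.cardV
  -- the index of `C_{V^g}(V)`
  have hn : ∀ k : G, cj k V ≤ normalizer (V : Set G) → ¬ cj k V ≤ centralizer (V : Set G) →
      Nat.card F ≤ (centralizer (V : Set G)).relIndex (cj k⁻¹ V) := by
    intro k hk1 hk2
    obtain ⟨a, ha, haV⟩ := SetLike.not_le_iff_exists.1 hk2
    have h1 := h.idx (hk1 ha) haV
    have h2 : (centralizer (V : Set G)).relIndex (cj k⁻¹ V) = (centralizer (cj k V : Set G)).relIndex V := by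
      have h3 : (cj k (centralizer (V : Set G))).relIndex (cj k (cj k⁻¹ V)) =
          (centralizer (V : Set G)).relIndex (cj k⁻¹ V) :=
        relIndex_map_map_of_injective _ _ (MulAut.conj k).injective
      rw [cj_cj_inv, cj_centralizer] at h3
      exact h3.symm
    have h3 : Nat.card (V ⊓ centralizer (cj k V : Set G) : Subgroup G) ≤ Nat.card F := by
      refine le_trans (Nat.card_le_card_of_injective _ (Subgroup.inclusion_injective (inf_le_inf_left V ?_))) h1
      exact centralizer_le (Set.singleton_subset_iff.2 ha)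
    have h5 := SecFour.relIndex_mul_card (K := centralizer (cj k V : Set G)) (A := V)
    rw [hcV] at h5
    rw [h2]
    have h6 : 0 < Nat.card (V ⊓ centralizer (cj k V : Set G) : Subgroup G) := Nat.card_pos
    by_contra hlt
    push Not at hlt
    have : (centralizer (cj k V : Set G)).relIndex V * Nat.card (V ⊓ centralizer (cj k V : Set G) : Subgroup G) <
        Nat.card F * Nat.card F := Nat.mul_lt_mul_of_lt_of_le hlt h3 (by omega)
    omega
  have hn1 := hn g hgV hc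
  have hc' : ¬ cj g⁻¹ V ≤ centralizer (V : Set G) := by
    intro h1
    rw [relIndex_eq_one.2 h1] at hn1
    omega
  have hn2 := hn g⁻¹ hgV' hc'
  rw [inv_inv] at hn2
  rcases h.quad hgV (hsqc g) (hquad g hVg) with h1 | ⟨-, m, hm, ⟨a, ha, hax⟩, -⟩
  · omega
  rcases h.quad hgV' (hsqc g⁻¹) (hquad g⁻¹ hVg') with h1 | ⟨-, m', hm', -, hall⟩
  · omega
  have hJ : cj m J ≤ cj (g * m') J := by
    intro y hy
    obtain ⟨v, hv, he⟩ := hax _ (mem_cj.1 hy)
    have he' : m * (m⁻¹ * y * m) * m⁻¹ = y := by group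
    rw [he'] at he
    -- `a = g a' g⁻¹`, `v = g v' g⁻¹`
    have hv' : g⁻¹ * v * g ∈ cj g⁻¹ V := by
      rw [mem_cj]
      have : g⁻¹⁻¹ * (g⁻¹ * v * g) * g⁻¹ = v := by group
      rwa [this]
    obtain ⟨x, hx, hxe⟩ := hall _ hv' _ (mem_cj.1 ha)
    rw [mem_cj]
    have h5 : (g * m')⁻¹ * y * (g * m') = x⁻¹ := by
      have h6 : x = m'⁻¹ * (g⁻¹ * v * g * (g⁻¹ * a * g) * (g⁻¹ * v * g)⁻¹ * (g⁻¹ * a * g)⁻¹) * m' := by
        rw [hxe]; group
      rw [h6, ← he]
      group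
    rw [h5]
    exact inv_mem hx
  have hJ' : cj m J = cj (g * m') J := eq_of_le_of_card_ge hJ (by rw [card_cj, card_cj])
  have h5 : m⁻¹ * (g * m') ∈ normalizer (J : Set G) := by
    rw [← cj_eq_iff, cj_mul, ← hJ', cj_inv_cj]
  have h6 : g ∈ normalizer (V : Set G) := by
    have h7 := mul_mem (mul_mem hm (hnJ h5)) (inv_mem hm')
    have h8 : m * (m⁻¹ * (g * m')) * m'⁻¹ = g := by group
    rwa [h8] at h7
  apply hcon
  rw [cj_eq_iff.2 h6]
  intro x hx y hy
  exact comm_of_sq hsq hx hy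

end mu

/-! ### from `EqOne` -/

variable [Finite G] {S : Sylow 2 G} {L V : Subgroup G} {q : ℕ}

theorem sys (h : EqOne S L V q) {F : Type} [Field F] [Fintype F] [CharP F 2] {e : F → F → G}
    {φ : L →* _root_.Matrix.SpecialLinearGroup (Fin 2) F} (c : Co (bau (S : Subgroup G)) L V e φ) :
    Sys V (zc (bau (S : Subgroup G))) e where
  add := c.add
  inj := c.inj
  mem := c.mem
  memJ _ := mem_zc h c
  semi m hm := semi h c hm
  sl a b c' d hd := by
    have hdet : (!![a, b; c', d] : Matrix (Fin 2) (Fin 2) F).det = 1 := by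
      rw [Matrix.det_fin_two_of]
      have two : (2 : F) = 0 := CharTwo.two_eq_zero
      linear_combination hd - b * c' * two
    obtain ⟨l, hl⟩ := c.surj ⟨_, hdet⟩
    refine ⟨l, L_V c l.2, fun x y => ?_⟩
    rw [c.act, hl]
    rfl

/-- `S` does not centralise `Z_J` -/
theorem S_not_le (h : EqOne S L V q) (hJ : centralizer (zc (bau (S : Subgroup G)) : Set G) ≤ normalizer (V : Set G)) :
    ¬ (S : Subgroup G) ≤ centralizer (zc (bau (S : Subgroup G)) : Set G) := by
  intro h1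
  apply h.notle
  have h2 : zc (bau (S : Subgroup G)) ≤ zc (S : Subgroup G) := by
    intro x hx
    rw [ChoiceBase.mem_zc] at hx ⊢
    refine ⟨ChoiceBase.bau_le _ hx.1, hx.2.1, fun s hs => ?_⟩
    exact (mem_centralizer_iff.1 (h1 hs) x (ChoiceBase.mem_zc.2 hx)).symm
  exact (centralizer_le h2).trans hJ

/-- `3 ∣ q - 1` -/
theorem three (h : EqOne S L V q) (hJ : centralizer (zc (bau (S : Subgroup G)) : Set G) ≤ normalizer (V : Set G)) :
    3 ∣ q - 1 := by
  obtain ⟨r, hr⟩ := fld h (S_not_le h hJ)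
  obtain ⟨n, hn, hq⟩ := LemU.odd_q h
  have h1 : r ∣ 2 ^ n := by rw [← hq, hr.rr]; exact dvd_mul_left _ _
  have h3 : ¬ 3 ∣ r := by
    intro h2
    have h5 := Nat.prime_three.dvd_of_dvd_pow (h2.trans h1)
    omega
  have h5 : r % 3 = 1 ∨ r % 3 = 2 := by omega
  have h6 : q % 3 = 1 := by
    rw [hr.rr, Nat.mul_mod]
    rcases h5 with h5 | h5 <;> rw [h5]
  have h7 := h.blk.four
  omega

/-- `N_G(Z_J) ≤ N_G(V)` -/
theorem nJ (h : EqOne S L V q) (hJ : centralizer (zc (bau (S : Subgroup G)) : Set G) ≤ normalizer (V : Set G)) :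
    normalizer (zc (bau (S : Subgroup G)) : Set G) ≤ normalizer (V : Set G) := by
  intro g hg
  rw [ChoiceBase.zc_bau] at hg hJ
  have h1 : zj (S : Subgroup G) ≤ ChoiceBase.cj g (zj (S : Subgroup G)) := (cj_eq_iff.2 hg).ge
  obtain ⟨c, hc, h2, -⟩ := LemU.orbit S le_rfl h1
  have h3 : c⁻¹ * g ∈ normalizer (jj (S : Subgroup G) : Set G) := by
    rw [← cj_eq_iff, cj_mul]
    exact (congrArg (cj c⁻¹) h2).symm.trans (cj_inv_cj c _)
  have h5 := sup_le hJ h.nb_V (RedE.nJ_le S h3)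
  have h6 := mul_mem (hJ hc) h5
  rwa [mul_inv_cancel_left] at h6

/-- the coordinates of Part II -/
theorem zsys (h : EqOne S L V q) {F : Type} [Field F] [Fintype F] [CharP F 2] {e : F → F → G}
    {φ : L →* _root_.Matrix.SpecialLinearGroup (Fin 2) F} (c : Co (bau (S : Subgroup G)) L V e φ) (hq : Fintype.card F = q)
    (h1 : e 1 0 ∈ zc (S : Subgroup G)) :
    ZSys (S : Subgroup G) (zc (S : Subgroup G)) V (zc (bau (S : Subgroup G))) e where
  toSys := sys h c
  one := h1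
  ZJ := zcS_le h
  SN := h.S_V
  SZ s hs := mem_centralizer_iff.2 fun z hz => ((ChoiceBase.mem_zc.1 hz).2.2 s hs).symm
  memZ g hg hs := ChoiceBase.mem_zc.2 ⟨ChoiceBase.bau_le _ (ChoiceBase.mem_zc.1 hg).1, (ChoiceBase.mem_zc.1 hg).2.1, hs⟩
  up t := by
    obtain ⟨b, hb, hbt⟩ := c.exists_up t
    refine ⟨b, ChoiceBase.bau_le _ hb, fun x y => ?_⟩
    rw [hbt]
    simp only [RingEquiv.refl_apply, one_mul, zero_mul, zero_add]
  root m hm hmc := by
    obtain ⟨t, ht⟩ := root h c hq hm hmc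
    refine ⟨t, fun x y => ?_⟩
    rw [ht]
    simp only [RingEquiv.refl_apply, one_mul, zero_mul, zero_add]
  cent m hm hmc := by
    obtain ⟨s, hs, k, hk, rfl⟩ := cent_zc h c hq hm hmc
    exact ⟨s, hs, by rwa [inv_mul_cancel_left]⟩

/-- the D₈-fields for `q = 4` -/
theorem ex4 (h : EqOne S L V q) (hJ : centralizer (zc (bau (S : Subgroup G)) : Set G) ≤ normalizer (V : Set G))
    (hq4 : q = 4) : SecFourEnd.Ex4 (zc (S : Subgroup G)) (zc (bau (S : Subgroup G))) V := by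
  obtain ⟨z, hz, hz1⟩ := exists_ne_zcS h
  obtain ⟨F, _, _, _, e, φ, hq, c, he⟩ := exists_norm h hz hz1
  have hs := zsys h c hq (by rw [he]; exact hz)
  have h4 : Nat.card F = 4 := by rw [Nat.card_eq_fintype_card, hq, hq4]
  have hSJ := S_not_le h hJ
  exact ⟨hs.JZ h4, hs.small h4 hSJ, hs.center h4 hSJ, hs.eight h4 hSJ, hs.nab h4 hSJ⟩

/-- **the data of Part II, `V ≤ O₂(C_G(Z))`** -/
theorem sit_of (h : EqOne S L V q) (hJ : centralizer (zc (bau (S : Subgroup G)) : Set G) ≤ normalizer (V : Set G))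
    (hab : ∀ z ∈ zc (S : Subgroup G), z ≠ 1 → LemU.AbJ S z)
    (hV : V ≤ o2 (centralizer (zc (S : Subgroup G) : Set G))) :
    SecFour.Sit q (zc (S : Subgroup G)) (zc (bau (S : Subgroup G))) V (o2 (centralizer (zc (S : Subgroup G) : Set G))) := by
  obtain ⟨z, hz, hz1⟩ := exists_ne_zcS h
  obtain ⟨F, _, _, _, e, φ, hq, c, he⟩ := exists_norm h hz hz1
  have hs := zsys h c hq (by rw [he]; exact hz)
  have hFq : Nat.card F = q := by rw [Nat.card_eq_fintype_card, hq]
  have hf := three h hJ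
  have hSZ : (S : Subgroup G) ≤ centralizer (zc (S : Subgroup G) : Set G) := hs.SZ
  refine
  { ZJ := zcS_le h
    JV := h.zc_le
    sq := h.sq
    cardJ := h.card_zc
    cardV := by rw [h.card, pow_two]
    q4 := h.blk.four
    tr := ?_
    fus := ?_
    nz := ?_
    nJ := nJ h hJ
    VD := hV
    DM := ?_
    Dn := ?_
    mu := fun g hg1 hg2 => mu hs.toSys h.sq (by rw [hFq]; exact h.blk.four) (nJ h hJ) g hg1 hg2
    u4 := ?_
    idx := ?_
    quad := ?_ }
  · intro v hv hv1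
    obtain ⟨x, y, rfl⟩ := (hs.mem v).1 hv
    obtain ⟨p, r, hpr⟩ : ∃ p r : F, x * r + p * y = 1 := by
      by_cases h4 : x = 0
      · have h5 : y ≠ 0 := by
          rintro rfl
          apply hv1
          rw [h4, hs.zero]
        exact ⟨y⁻¹, 0, by rw [inv_mul_cancel₀ h5, mul_zero, zero_add]⟩
      · exact ⟨0, x⁻¹, by rw [mul_inv_cancel₀ h4, zero_mul, add_zero]⟩
    obtain ⟨n, hn, hsn⟩ := hs.sl x p y r hpr
    refine ⟨n⁻¹, inv_mem hn, ?_⟩
    have h5 : n * e 1 0 * n⁻¹ = e x y := by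
      rw [hsn]; simp
    have h6 : n⁻¹ * e x y * n⁻¹⁻¹ = e 1 0 := by
      rw [← h5]; group
    rw [h6]
    exact hs.one
  · intro u hu hu1 g hg
    have hu' : zpowers u ≤ zj (S : Subgroup G) := by
      rw [zpowers_le, ← ChoiceBase.zc_bau]
      exact zcS_le h hu
    obtain ⟨k, hk, -, h2⟩ := LemU.orbit S (R := zpowers u) (g := g) hu' (by
      rw [zpowers_le]
      have : u ∈ cj g (zj (S : Subgroup G)) := by rw [← ChoiceBase.zc_bau]; exact hg
      exact this)
    refine ⟨k, ?_, ?_⟩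
    · rw [mem_centralizer_singleton_iff]
      exact (mem_centralizer_iff.1 hk u (mem_zpowers u)).symm
    · rw [ChoiceBase.zc_bau]
      exact h2.symm
  · intro u hu hu1
    have huj : u ∈ zj (S : Subgroup G) := by rw [← ChoiceBase.zc_bau]; exact zcS_le h hu
    have hSX : (S : Subgroup G) ≤ centralizer ({u} : Set G) := hSZ.trans (centralizer_le (Set.singleton_subset_iff.2 hu))
    have hzp : centralizer ((zpowers u : Subgroup G) : Set G) = centralizer ({u} : Set G) := by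
      rw [zpowers_eq_closure, centralizer_closure]
    have h2 := (LemU.char2_cent h (U := zpowers u) (by rw [zpowers_le]; exact huj) (by
      rw [Ne, zpowers_eq_bot]; exact hu1)).1
    rw [hzp] at h2
    exact (LemU.le_normalizer_zc h (Or.inr hf) huj hu1 (hab u hu hu1) le_rfl hSX h2).2
  · -- `O₂(C_G(Z)) ≤ S`
    refine le_trans ?_ h.S_V
    exact MinSimple.VModule.o2_le_of_sylow S.isPGroup' (MinSimple.Basic.not_dvd_relIndex S hSZ)
  · exact (MinSimple.DBlkReduce.nc _).trans (ZN.normalizer_le_normalizer_o2 _)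
  · intro a ha
    rw [← hFq]
    refine hs.u4 ?_ ha
    intro R hR hR1 hRn
    rw [ChoiceBase.zc_bau] at hR
    obtain ⟨-, s, hs1, hs2, hs3, hs4⟩ := LemU.lemU' h (Or.inr hf) (N := normalizer (V : Set G)) (by
      rw [← ChoiceBase.zc_bau]; exact nJ h hJ) hR hR1 hRn
    rw [← ChoiceBase.zc_bau] at hs3
    refine ⟨s, h.nb_V hs2, hs1, hs3, ?_⟩
    have := LemU.bau_cent hs4
    rwa [← ChoiceBase.zc_bau] at this
  · intro a ha haV _
    rw [← hFq]
    exact hs.toSys.idx ha haV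
  · intro A hA hA2 hquad
    rw [← hFq]
    rcases hs.toSys.quad hA hA2 hquad with h1 | ⟨h1, m, hm, ⟨a, ha, hax⟩, -⟩
    · exact Or.inl h1
    · refine Or.inr ⟨h1, m, hm, a, ha, fun x hx => ?_⟩
      obtain ⟨v, hv, h2⟩ := hax _ (mem_cj.1 hx)
      refine ⟨v, hv, h2.trans ?_⟩
      group

/-- the stabiliser of a point of `Z_J` is abelian on `Z_J` -/
theorem abJ' (h : EqOne S L V q) {z : G} (hz : z ∈ zc (bau (S : Subgroup G))) (hz1 : z ≠ 1) : LemU.AbJ S z := by
  intro a ha b hb haz hbz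
  have h1 := abJ h hz hz1 (h.nb_V ha) (h.nb_V hb) haz hbz
  rwa [ChoiceBase.zc_bau] at h1

/-- **the data of Part II, `V ≤ O₂(C_G(Z))`** -/
theorem sit (h : EqOne S L V q) (hJ : centralizer (zc (bau (S : Subgroup G)) : Set G) ≤ normalizer (V : Set G))
    (hV : V ≤ o2 (centralizer (zc (S : Subgroup G) : Set G))) :
    SecFour.Sit q (zc (S : Subgroup G)) (zc (bau (S : Subgroup G))) V (o2 (centralizer (zc (S : Subgroup G) : Set G))) :=
  sit_of h hJ (fun _ hz hz1 => abJ' h (zcS_le h hz) hz1) hV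

end Cfsg.Agent.OddCyclic.Eq.SitII
end

-- part: OddCyclic/Eq/PartTwoEnd
section
/-!
# (E_q) of `T_cyc`, Part II, `V ≤ O₂(C_G(Ω₁Z(S)))`
-/

set_option autoImplicit false

namespace Cfsg.Agent.OddCyclic.Eq

open Subgroup Cfsg Cfsg.Agent.ZN
open Cfsg.Agent.OddCyclic.RedU (EqOne)

universe u

/-- **Part II, `V ≤ O₂(C_G(Z))`** -/
theorem partTwoA {G : Type u} [Group G] [Finite G] {S : Sylow 2 G} {L V : Subgroup G} {q : ℕ} (h : EqOne S L V q)
    (hJ : centralizer (zc (bau (S : Subgroup G)) : Set G) ≤ normalizer (V : Set G))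
    (hV : V ≤ o2 (centralizer (zc (S : Subgroup G) : Set G))) : False :=
  PartTwoBase.of_sit h (SitII.sit h hJ hV) (SitII.ex4 h hJ)

end Cfsg.Agent.OddCyclic.Eq
end

-- part: OddCyclic/Eq/CfgP
section
/-!
# (E_q) of `T_cyc`, Part II: the configuration of section 5

* `three_dvd` : `S = B` or `3 ∣ q - 1`;
* `nzj_le` : `N_G(Z_J) = C_G(Z_J) N_G(B)`;
* `cfg` : `SecFive.Cfg` for `X = C_G(Ω₁Z(S))`, if `C_G(Z_J) ≤ N_G(V)`.
-/

set_option autoImplicit false
set_option linter.unusedSectionVars false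

namespace Cfsg.Agent.OddCyclic.Eq.CfgP

open Subgroup Cfsg Cfsg.Agent.ZN Cfsg.Agent.MinSimple
open Cfsg.Agent.OddCyclic.RedU (EqOne)
open Cfsg.Agent.OddCyclic.Eq.LemU

universe u

variable {G : Type u} [Group G] [Finite G] {S : Sylow 2 G} {L V : Subgroup G} {q : ℕ}

/-- `S ≤ C(Z_J)` iff `S = B` -/
theorem eq_bau (hS : (S : Subgroup G) ≤ centralizer (zc (bau (S : Subgroup G)) : Set G)) :
    (S : Subgroup G) = bau (S : Subgroup G) := by
  rw [LemU.zj_eq_zc] at hS
  exact le_antisymm (le_inf le_rfl hS) (ChoiceBase.bau_le _)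

theorem three_of_sq (h : EqOne S L V q) {r : ℕ} (hr : q = r * r) : 3 ∣ q - 1 := by
  obtain ⟨n, hn, hq⟩ := odd_q h
  have h3 : ¬ 3 ∣ r := by
    intro h3
    have h4 : 3 ∣ 2 ^ n := by rw [← hq, hr]; exact h3.mul_right r
    have h5 := Nat.Prime.dvd_of_dvd_pow Nat.prime_three h4
    omega
  have h4 : r % 3 = 1 ∨ r % 3 = 2 := by omega
  have h5 : q % 3 = 1 := by
    rw [hr, Nat.mul_mod]
    rcases h4 with h4 | h4 <;> rw [h4]
  have h6 := h.blk.four
  omega

/-- `S = B` or `3 ∣ q - 1` -/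
theorem hf (h : EqOne S L V q) : (S : Subgroup G) = bau (S : Subgroup G) ∨ 3 ∣ q - 1 := by
  by_cases hS : (S : Subgroup G) ≤ centralizer (zc (bau (S : Subgroup G)) : Set G)
  · exact Or.inl (eq_bau hS)
  · obtain ⟨r, hr⟩ := Base.fld h hS
    exact Or.inr (three_of_sq h hr.rr)

theorem S_le_nzj (S : Sylow 2 G) : (S : Subgroup G) ≤ normalizer (zj (S : Subgroup G) : Set G) :=
  (RedE.S_nb S).trans (nb_le_nzj S)

/-- `N_G(Z_J) = C_G(Z_J) N_G(B)` -/
theorem nzj_le (S : Sylow 2 G) : normalizer (zj (S : Subgroup G) : Set G) ≤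
    centralizer (zj (S : Subgroup G) : Set G) ⊔ normalizer (bau (S : Subgroup G) : Set G) := by
  have h1 := Basic.frattini (X := normalizer (zj (S : Subgroup G) : Set G)) (L := centralizer (zj (S : Subgroup G) : Set G))
    (S_le_nzj S) S.isPGroup' (Basic.not_dvd_relIndex S (S_le_nzj S)) (DBlkReduce.nc _)
  exact h1.trans (sup_le_sup_left inf_le_right _)

theorem nzj_le_V (h : EqOne S L V q)
    (hJ : centralizer (zc (bau (S : Subgroup G)) : Set G) ≤ normalizer (V : Set G)) :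
    normalizer (zj (S : Subgroup G) : Set G) ≤ normalizer (V : Set G) := by
  rw [LemU.zj_eq_zc] at hJ
  exact (nzj_le S).trans (sup_le hJ h.nb_V)

/-- Part II: `S ≠ B` -/
theorem not_le (h : EqOne S L V q)
    (hJ : centralizer (zc (bau (S : Subgroup G)) : Set G) ≤ normalizer (V : Set G)) :
    ¬ (S : Subgroup G) ≤ centralizer (zc (bau (S : Subgroup G)) : Set G) := by
  intro hS
  have h1 := eq_bau hS
  apply h.notle
  rw [h1]
  exact hJ

theorem three (h : EqOne S L V q)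
    (hJ : centralizer (zc (bau (S : Subgroup G)) : Set G) ≤ normalizer (V : Set G)) : 3 ∣ q - 1 := by
  obtain ⟨r, hr⟩ := Base.fld h (not_le h hJ)
  exact three_of_sq h hr.rr

theorem zc_ne_bot (h : EqOne S L V q) : zc (S : Subgroup G) ≠ ⊥ := by
  obtain ⟨z, hz, hz1⟩ := Base.exists_ne_zcS h
  intro h0
  rw [h0] at hz
  exact hz1 hz

theorem S_le_cz (S : Sylow 2 G) : (S : Subgroup G) ≤ centralizer (zc (S : Subgroup G) : Set G) := fun s hs =>
  mem_centralizer_iff.2 fun z hz => ((ChoiceBase.mem_zc.1 hz).2.2 s hs).symm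

/-- `AbJ` -/
theorem abJ (h : EqOne S L V q) {u : G} (hu : u ∈ zj (S : Subgroup G)) (hu1 : u ≠ 1) : AbJ S u := by
  intro a ha b hb hau hbu
  rw [← LemU.zj_eq_zc] at hu ⊢
  exact Base.abJ h hu hu1 (h.nb_V ha) (h.nb_V hb) hau hbu

/-- **the configuration of section 5** -/
theorem cfg (h : EqOne S L V q)
    (hJ : centralizer (zc (bau (S : Subgroup G)) : Set G) ≤ normalizer (V : Set G)) :
    ∃ r, SecFive.Cfg q r (zc (S : Subgroup G)) (zc (bau (S : Subgroup G))) V S
      (centralizer (zc (S : Subgroup G) : Set G)) := by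
  obtain ⟨r, hr⟩ := Base.fld h (not_le h hJ)
  have h1 := char2_cent h (U := zc (S : Subgroup G)) (ChoiceBase.zc_le_zj _) (zc_ne_bot h)
  obtain ⟨z, hz, hz1⟩ := Base.exists_ne_zcS h
  have hzj : z ∈ zj (S : Subgroup G) := ChoiceBase.zc_le_zj _ hz
  refine ⟨r, { hr with
    XZ := le_rfl
    SX := S_le_cz S
    syl := Basic.not_dvd_relIndex S (S_le_cz S)
    char2 := h1.1
    CJ := inf_le_right.trans hJ
    red := ?_
    ex := not_le h hJ }⟩
  intro Y hYX hXY hsq hYZ
  by_contra hcon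
  apply hYZ
  refine red h (Or.inr (three h hJ)) hzj hz1 (abJ h hzj hz1)
    (centralizer_le (Set.singleton_subset_iff.2 hz)) (S_le_cz S) h1.1 hYX hXY hsq fun D hD hXD h2 => ?_
  by_contra h3
  exact hcon ⟨D, hD, hXD, h2, h3⟩

end Cfsg.Agent.OddCyclic.Eq.CfgP
end

-- part: OddCyclic/Eq/SixAThree
section
/-!
# (E_q) of `T_cyc`, (6.2)-(6.4), `V_z` abelian: `|V_z| = 8`, `C_0 = S`
-/

set_option autoImplicit false
set_option linter.style.haveILetI false

namespace Cfsg.Agent.OddCyclic.Eq.SixA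

open Subgroup

universe u

variable {G : Type u} [Group G] {S V J : Subgroup G} {z : G}

/-- an automorphism of odd order of a group of order 4 fixing an involution is trivial -/
theorem aut_four {N : Type u} [CommGroup N] (h4 : Nat.card N = 4) (hsq : ∀ m : N, m * m = 1) {lam : N}
    (hl : lam ≠ 1) {φ : MulAut N} (hφ : φ lam = lam) {n : ℕ} (hn : Odd n) (hφn : φ ^ n = 1) : φ = 1 := by
  have h2 : φ * φ = 1 := by
    ext m
    change φ (φ m) = m
    by_cases hm1 : m = 1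
    · rw [hm1, map_one, map_one]
    by_cases hm2 : m = lam
    · rw [hm2, hφ, hφ]
    have hcard : (Set.univ : Set N).ncard = 4 := by rw [Set.ncard_univ, h4]
    have h3 : ∀ x : N, x = 1 ∨ x = lam ∨ x = m ∨ x = m * lam := by
      intro x
      refine ncard_four hcard (Set.mem_univ _) (Set.mem_univ _) (Set.mem_univ _) (Set.mem_univ _)
        (Ne.symm hl) (Ne.symm hm1) ?_ (Ne.symm hm2) ?_ ?_ x (Set.mem_univ x)
      · intro h5
        apply hm2
        have : m = lam⁻¹ := eq_inv_of_mul_eq_one_left h5.symm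
        rw [this]
        exact inv_eq_of_mul_eq_one_left (hsq lam)
      · intro h5
        exact hm1 (mul_eq_right.1 h5.symm)
      · intro h5
        exact hl (mul_eq_left.1 h5.symm)
    rcases h3 (φ m) with h5 | h5 | h5 | h5
    · exact absurd (φ.map_eq_one_iff.1 h5) hm1
    · exfalso
      apply hm2
      apply φ.injective
      rw [h5, hφ]
    · rw [h5, h5]
    · rw [h5, map_mul, h5, hφ, mul_assoc, hsq, mul_one]
  obtain ⟨k, rfl⟩ := hn
  rw [pow_add, pow_mul, pow_two, h2, one_pow, one_mul, pow_one] at hφn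
  exact hφn

/-- products `(d s)^j = d' s^j` -/
theorem mul_pow_mem {D : Subgroup G} {d s : G} (hd : d ∈ D) (hs : s ∈ normalizer (D : Set G)) (j : ℕ) :
    ∃ d' ∈ D, (d * s) ^ j = d' * s ^ j := by
  induction j with
  | zero => exact ⟨1, D.one_mem, by simp⟩
  | succ j ih =>
    obtain ⟨d', hd', h1⟩ := ih
    have h2 : s ^ j * d * (s ^ j)⁻¹ ∈ D :=
      (mem_normalizer_iff.1 ((normalizer (D : Set G)).pow_mem hs j) d).1 hd
    refine ⟨d' * (s ^ j * d * (s ^ j)⁻¹), D.mul_mem hd' h2, ?_⟩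
    rw [pow_succ, h1, pow_succ]
    group

theorem two_of_no_odd {P : Subgroup G} [Finite G] (h : ∀ x ∈ P, Odd (orderOf x) → x = 1) : IsPGroup 2 P := by
  intro x
  obtain ⟨k, m, hm, hk⟩ := Nat.exists_eq_two_pow_mul_odd (n := orderOf (x : G)) (orderOf_pos (x : G)).ne'
  refine ⟨k, ?_⟩
  apply Subtype.ext
  have h1 : orderOf ((x : G) ^ (2 ^ k)) = m := by
    rw [orderOf_pow, hk, Nat.gcd_eq_right (Dvd.intro _ rfl), Nat.mul_div_cancel_left _ (by positivity)]
  have h2 := h _ (P.pow_mem x.2 (2 ^ k)) (by rw [h1]; exact hm)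
  simpa only [_root_.SubmonoidClass.coe_pow, _root_.OneMemClass.coe_one] using h2

theorem normalizer_le_normalizer_cent (V : Subgroup G) :
    normalizer (V : Set G) ≤ normalizer (centralizer (V : Set G) : Set G) := by
  have key : ∀ g ∈ normalizer (V : Set G), ∀ x ∈ centralizer (V : Set G), g * x * g⁻¹ ∈ centralizer (V : Set G) := by
    intro g hg x hx
    rw [mem_centralizer_iff] at hx ⊢
    intro v hv
    have h1 : g⁻¹ * v * g ∈ V := by
      have := (mem_normalizer_iff.1 ((normalizer (V : Set G)).inv_mem hg) v).1 hv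
      rwa [inv_inv] at this
    have h2 := hx _ h1
    calc v * (g * x * g⁻¹) = g * ((g⁻¹ * v * g) * x) * g⁻¹ := by group
      _ = g * (x * (g⁻¹ * v * g)) * g⁻¹ := by rw [h2]
      _ = g * x * g⁻¹ * v := by group
  intro g hg
  rw [mem_normalizer_iff]
  intro x
  constructor
  · exact key g hg x
  · intro hx
    have := key g⁻¹ ((normalizer (V : Set G)).inv_mem hg) _ hx
    simpa [mul_assoc] using this

namespace Hyp

theorem CV_le_Cz (h : Hyp S V J z) : centralizer (V : Set G) ≤ Cz z := by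
  intro x hx
  exact mem_Cz.2 (mem_centralizer_iff.1 hx z (h.JV h.zJ)).symm

theorem CV_le_nV (V : Subgroup G) : centralizer (V : Set G) ≤ normalizer (V : Set G) := by
  intro x hx
  rw [mem_normalizer_iff]
  intro v
  constructor
  · intro hv
    rw [← mem_centralizer_iff.1 hx v hv, mul_inv_cancel_right]
    exact hv
  · intro hv
    have h1 := mem_centralizer_iff.1 hx _ hv
    have h2 : v = x⁻¹ * ((x * v * x⁻¹) * x) := by group
    rw [h2, h1]
    have : x⁻¹ * (x * (x * v * x⁻¹)) = x * v * x⁻¹ := by group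
    rw [this]
    exact hv

/-- odd-order elements of `C_0` centralise `V` -/
theorem odd_mem_CV [Finite G] (h : Hyp S V J z) {c : G} (hc : c ∈ Cz z) (hcV : c ∈ normalizer (V : Set G))
    (ho : Odd (orderOf c)) : c ∈ centralizer (V : Set G) := by
  obtain ⟨d, hd, s, hs, rfl⟩ := h.fact c (mem_Cz.1 hc) hcV
  obtain ⟨k, hk⟩ := h.two ⟨s, hs⟩
  have hk' : s ^ 2 ^ k = 1 := by simpa only [_root_.SubmonoidClass.mk_pow, _root_.OneMemClass.coe_one] using congrArg Subtype.val hk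
  obtain ⟨d', hd', h1⟩ := mul_pow_mem hd (normalizer_le_normalizer_cent V (h.SV hs)) (2 ^ k)
  rw [hk', mul_one] at h1
  have hcop : Nat.Coprime (2 ^ k) (orderOf (d * s)) := Nat.Coprime.pow_left k (Nat.coprime_two_left.2 ho)
  obtain ⟨m, hm⟩ := exists_pow_eq_self_of_coprime hcop
  rw [← hm, h1]
  exact (centralizer (V : Set G)).pow_mem hd' m

/-- `C_0` has no elements of order 3 -/
theorem no3C (h : Hyp S V J z) [Finite G] {c : G} (hc : c ∈ Cz z) (hcV : c ∈ normalizer (V : Set G)) :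
    ¬ 3 ∣ orderOf c := by
  intro h3
  obtain ⟨m, hm⟩ := h3
  have hpos := orderOf_pos c
  have h1 : orderOf (c ^ m) = 3 := by
    have hm0 : m ≠ 0 := by rintro rfl; omega
    rw [orderOf_pow, hm, Nat.gcd_eq_right (Dvd.intro_left _ rfl), Nat.mul_div_cancel _ (Nat.pos_of_ne_zero hm0)]
  have h2 : c ^ m ∈ centralizer (V : Set G) :=
    h.odd_mem_CV ((Cz z).pow_mem hc m) ((normalizer (V : Set G)).pow_mem hcV m) (by rw [h1]; decide)
  have h4 := h.no3 _ h2 (by rw [← h1]; exact pow_orderOf_eq_one _)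
  rw [h4, orderOf_one] at h1
  omega

theorem Vz_le_B (h : Hyp S V J z) (hab : ∀ x ∈ Vz J z, ∀ y ∈ Vz J z, x * y = y * x) :
    Vz J z ≤ S ⊓ centralizer (J : Set G) := by
  intro w hw
  exact ⟨h.Vz_le_S hw, mem_centralizer_iff.2 fun a ha => hab a (J_le_Vz J z ha) w hw⟩

/-- (6.2) `V_z ≰ C(V)` -/
theorem exists_e (h : Hyp S V J z) : ∃ e ∈ Vz J z, e ∉ centralizer (V : Set G) := by
  by_contra hcon
  push Not at hcon
  obtain ⟨v, hv, hv'⟩ := h.exists_v0
  apply hv'
  apply h.V_inf_Kz hv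
  refine ⟨h.V_le_Cz hv, fun w hw => ?_⟩
  rw [mem_centralizer_iff.1 (hcon w hw) v hv, mul_inv_cancel_right, mul_inv_cancel]
  exact one_mem _

/-- (6.2) `V_z ∩ C(V)` has index 2 in `V_z` -/
theorem e_mul (h : Hyp S V J z) (hab : ∀ x ∈ Vz J z, ∀ y ∈ Vz J z, x * y = y * x) {e e' : G}
    (he : e ∈ Vz J z) (he' : e' ∈ Vz J z) (h1 : e ∉ centralizer (V : Set G))
    (h2 : e' ∉ centralizer (V : Set G)) : e * e' ∈ centralizer (V : Set G) := by
  obtain ⟨v, hv, hvQ, hvJ⟩ := h.exists_v1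
  have key : ∀ e ∈ Vz J z, e ∉ centralizer (V : Set G) → v * e * v⁻¹ = z * e := by
    intro e he h1
    have h3 := (h.o2_le_Kz hvQ).2 e he
    rcases h.mem_zp.1 h3 with h4 | h4
    · exfalso
      apply hvJ
      refine h.cfix e (h.Vz_le_B hab he) h1 v hv ?_
      have h5 : v * e = e * v := by
        rw [mul_inv_eq_one] at h4
        rw [← h4, inv_mul_cancel_right, h4]
      exact h5.symm
    · rw [← h4]
      group
  by_contra h3
  apply hvJ
  refine h.cfix _ (h.Vz_le_B hab ((Vz J z).mul_mem he he')) h3 v hv ?_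
  have h4 : v * (e * e') * v⁻¹ = e * e' := by
    calc v * (e * e') * v⁻¹ = (v * e * v⁻¹) * (v * e' * v⁻¹) := by group
      _ = z * e * (z * e') := by rw [key e he h1, key e' he' h2]
      _ = z * (e * z) * e' := by group
      _ = z * (z * e) * e' := by rw [mem_Cz.1 (h.Vz_le_Cz he)]
      _ = (z * z) * (e * e') := by group
      _ = e * e' := by rw [h.z_sq, one_mul]
  rw [mul_inv_eq_iff_eq_mul] at h4
  exact h4.symm

/-- the transvection -/
theorem exists_tv [Finite G] (h : Hyp S V J z) (hab : ∀ x ∈ Vz J z, ∀ y ∈ Vz J z, x * y = y * x)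
    {a : G} {N : Type u} [CommGroup N] {ρ : ↥(Cz z) →* MulAut N}
    {p : ↥(Vz J z) →* N} {lam : N} (ha : a ∈ J) (haz : a ∉ zpowers z) (hA : Act J z a N ρ p lam) :
    ∃ t : ρ.range, Tv ρ.range.subtype lam t := by
  obtain ⟨v, hv, hvQ⟩ := h.exists_v0
  have hlam : p ⟨a, J_le_Vz J z ha⟩ = lam := hA.lam_eq _ rfl
  refine ⟨⟨ρ ⟨v, h.V_le_Cz hv⟩, ⟨v, h.V_le_Cz hv⟩, rfl⟩, ?_, hA.sq, ?_, ?_, ?_, ?_, ?_, ?_, hA.core⟩
  · intro g hg
    apply Subtype.ext
    exact MulEquiv.ext hg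
  · intro h1
    apply haz
    exact (hA.ker _).1 (hlam.trans h1)
  · intro h1
    have h2 : ρ ⟨v, h.V_le_Cz hv⟩ = 1 := congrArg Subtype.val h1
    exact hvQ (h.V_inf_Kz hv ((hA.one_iff _).1 h2))
  · intro m
    obtain ⟨⟨w, hw⟩, rfl⟩ := hA.surj m
    change ρ ⟨v, h.V_le_Cz hv⟩ (p ⟨w, hw⟩) = p ⟨w, hw⟩ ∨ ρ ⟨v, h.V_le_Cz hv⟩ (p ⟨w, hw⟩) = p ⟨w, hw⟩ * lam
    rw [hA.act ⟨v, h.V_le_Cz hv⟩ ⟨w, hw⟩ ⟨v * w * v⁻¹, Vz_conj (h.V_le_Cz hv) hw⟩ rfl]
    have h1 := h.ccom w (h.Vz_le_B hab hw) v hv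
    rcases h.J_cases ha haz h1 with h2 | h2 | h2 | h2
    · left
      rw [hA.p_eq]
      change v * w * v⁻¹ * w⁻¹ ∈ _
      rw [h2]
      exact one_mem _
    · left
      rw [hA.p_eq]
      change v * w * v⁻¹ * w⁻¹ ∈ _
      rw [h2]
      exact mem_zpowers _
    · right
      rw [← hlam, ← map_mul, hA.p_eq]
      change v * w * v⁻¹ * (w * a)⁻¹ ∈ _
      rw [hab w hw a (J_le_Vz J z ha), mul_inv_eq_iff_eq_mul.1 h2, mul_inv_cancel]
      exact one_mem _
    · right
      rw [← hlam, ← map_mul, hA.p_eq]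
      change v * w * v⁻¹ * (w * a)⁻¹ ∈ _
      rw [hab w hw a (J_le_Vz J z ha), mul_inv_eq_iff_eq_mul.1 h2]
      have h3 : a * z * w * (a * w)⁻¹ = a * z * a⁻¹ := by group
      rw [h3, h.J_comm ha h.zJ, mul_inv_cancel_right]
      exact mem_zpowers _
  · rintro ⟨_, c, rfl⟩ h1
    have h2 : (c : G) ∈ normalizer (J : Set G) := (hA.stab c).1 h1
    have h3 := h.comm_o2 c.2 (h.NJ h2) hv hvQ
    have h4 : ρ (c * ⟨v, h.V_le_Cz hv⟩ * c⁻¹ * (⟨v, h.V_le_Cz hv⟩)⁻¹) = 1 := by
      rw [hA.one_iff]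
      exact h.o2_le_Kz h3
    apply Subtype.ext
    change ρ c * ρ ⟨v, h.V_le_Cz hv⟩ = ρ ⟨v, h.V_le_Cz hv⟩ * ρ c
    rw [map_mul, map_mul, map_mul, map_inv, map_inv, mul_inv_eq_one, mul_inv_eq_iff_eq_mul] at h4
    exact h4
  · rintro ⟨_, c, rfl⟩ h1 h3
    have h2 : (c : G) ∈ normalizer (J : Set G) := (hA.stab c).1 h1
    have h4 := h.no3C c.2 (h.NJ h2)
    have h5 : ρ c ^ 3 = 1 := congrArg Subtype.val h3
    have h6 : Nat.Coprime 3 (orderOf c) := by
      rw [Nat.Prime.coprime_iff_not_dvd Nat.prime_three]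
      rwa [Subgroup.orderOf_coe] at h4
    obtain ⟨m, hm⟩ := exists_pow_eq_self_of_coprime h6
    apply Subtype.ext
    change ρ c = 1
    rw [← hm, map_pow, map_pow, h5, one_pow]
  · rw [eq_top_iff, ← hA.gen, closure_le]
    rintro m ⟨c, rfl⟩
    exact Subgroup.subset_closure ⟨⟨ρ c, c, rfl⟩, rfl⟩

/-- (6.3) -/
theorem three [Finite G] (h : Hyp S V J z) (hab : ∀ x ∈ Vz J z, ∀ y ∈ Vz J z, x * y = y * x) :
    Nat.card (Vz J z) = 8 ∧ 3 ∣ Nat.card (Cz z) ∧
      ∀ c ∈ Cz z, c ∈ normalizer (J : Set G) → Odd (orderOf c) → c ∈ Kz J z := by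
  obtain ⟨a, ha, haz⟩ := h.exists_a
  obtain ⟨N, iN, ρ, p, lam, hA⟩ := h.exists_act ha haz
  obtain ⟨t, hT⟩ := h.exists_tv hab ha haz hA
  haveI : Finite ρ.range := Finite.of_surjective _ ρ.rangeRestrict_surjective
  obtain ⟨h4, h3⟩ := hT.main
  refine ⟨?_, ?_, ?_⟩
  · have h1 : Nat.card (Vz J z) = Nat.card (Vz J z ⧸ p.ker) * Nat.card p.ker :=
      card_eq_card_quotient_mul_card_subgroup p.ker
    have h2 : Nat.card (Vz J z ⧸ p.ker) = 4 := by
      rw [Nat.card_congr (QuotientGroup.quotientKerEquivOfSurjective p hA.surj).toEquiv, h4]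
    have hker : p.ker = (zpowers z).subgroupOf (Vz J z) := by
      ext w
      rw [MonoidHom.mem_ker, hA.ker, mem_subgroupOf]
    have h5 : Nat.card p.ker = 2 := by
      rw [hker, Nat.card_congr (subgroupOfEquivOfLe (h.zp_le.trans (J_le_Vz J z))).toEquiv, Nat.card_zpowers]
      exact orderOf_eq_prime (by rw [pow_two]; exact h.z_sq) h.z1
    rw [h1, h2, h5]
  · exact h3.trans (card_range_dvd ρ)
  · intro c hc hcJ ho
    rw [← hA.one_iff ⟨c, hc⟩]
    have h1 : ρ ⟨c, hc⟩ ^ orderOf c = 1 := by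
      rw [← map_pow]
      have : (⟨c, hc⟩ : Cz z) ^ orderOf c = 1 := by
        apply Subtype.ext
        exact pow_orderOf_eq_one c
      rw [this, map_one]
    exact aut_four h4 hA.sq hT.lam1 ((hA.stab ⟨c, hc⟩).2 hcJ) ho h1

theorem C0_le_nJ (h : Hyp S V J z) {c : G} (hc : c ∈ Cz z) (hcV : c ∈ normalizer (V : Set G)) :
    c ∈ normalizer (J : Set G) := by
  obtain ⟨d, hd, s, hs, rfl⟩ := h.fact c (mem_Cz.1 hc) hcV
  have h1 : d ∈ centralizer (J : Set G) :=
    mem_centralizer_iff.2 fun x hx => mem_centralizer_iff.1 hd x (h.JV hx)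
  exact (normalizer (J : Set G)).mul_mem (CV_le_nV J h1) (h.SJ hs)

/-- the subgroup generated by the elements of odd order of `C_G(V)` -/
def Od (V : Subgroup G) : Subgroup G := _root_.Subgroup.closure {x | x ∈ centralizer (V : Set G) ∧ Odd (orderOf x)}

theorem orderOf_conj (g x : G) : orderOf (g * x * g⁻¹) = orderOf x := by
  have := orderOf_injective (MulAut.conj g).toMonoidHom (MulAut.conj g).injective x
  simpa using this

theorem Od_normalizer {P : Subgroup G}
    (hP : ∀ g ∈ P, ∀ x ∈ centralizer (V : Set G), Odd (orderOf x) → g * x * g⁻¹ ∈ centralizer (V : Set G)) :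
    P ≤ normalizer (Od V : Set G) := by
  have key : ∀ g ∈ P, ∀ x ∈ Od V, g * x * g⁻¹ ∈ Od V := by
    intro g hg x hx
    induction hx using closure_induction with
    | mem x hx =>
      exact Subgroup.subset_closure ⟨hP g hg x hx.1 hx.2, by rw [orderOf_conj]; exact hx.2⟩
    | one => simp
    | mul x y _ _ hx hy =>
      have : g * (x * y) * g⁻¹ = (g * x * g⁻¹) * (g * y * g⁻¹) := by group
      rw [this]
      exact (Od V).mul_mem hx hy
    | inv x _ hx =>
      have : g * x⁻¹ * g⁻¹ = (g * x * g⁻¹)⁻¹ := by group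
      rw [this]
      exact (Od V).inv_mem hx
  intro g hg
  rw [mem_normalizer_iff]
  intro x
  constructor
  · exact key g hg x
  · intro hx
    have := key g⁻¹ (P.inv_mem hg) _ hx
    simpa [mul_assoc] using this

/-- (6.4) -/
theorem Od_eq_bot [Finite G] (h : Hyp S V J z) (hab : ∀ x ∈ Vz J z, ∀ y ∈ Vz J z, x * y = y * x) :
    Od V = ⊥ := by
  by_contra hne
  have hnV : normalizer (V : Set G) ≤ normalizer (Od V : Set G) := by
    apply Od_normalizer
    intro g hg x hx _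
    exact (mem_normalizer_iff.1 (normalizer_le_normalizer_cent V hg) x).1 hx
  have hnC : Cz z ≤ normalizer (Od V : Set G) := by
    apply Od_normalizer
    intro g hg x hx ho
    have hxC : x ∈ Cz z := h.CV_le_Cz hx
    have h1 : x ∈ Kz J z := (h.three hab).2.2 x hxC (h.C0_le_nJ hxC (CV_le_nV V hx)) ho
    have h2 := Kz_conj hg h1
    exact h.odd_mem_CV (Kz_le J z h2) (h.NJ (h.Kz_le_nJ h2)) (by rw [orderOf_conj]; exact ho)
  have hOV : Od V ≤ normalizer (V : Set G) := by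
    unfold Od
    rw [closure_le]
    rintro x ⟨hx, _⟩
    exact CV_le_nV V hx
  have hU : ZN.o2 (Od V) ≠ ⊥ := by
    intro hU
    apply hne
    have h1 : ∀ x ∈ Od V, x ∈ ZN.o2 (normalizer (V : Set G)) := by
      intro x hx
      apply h.char2 x (hOV hx)
      intro r hr
      have hrV := ZN.o2_le _ hr
      have h2 : Od V ⊓ ZN.o2 (normalizer (V : Set G)) ≤ ZN.o2 (Od V) := by
        apply ZN.le_o2 inf_le_left ((ZN.isPGroup_o2 _).to_le inf_le_right)
        intro g hg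
        have hg' := ZN.le_normalizer_o2 (normalizer (V : Set G)) (hOV hg)
        rw [mem_normalizer_iff]
        intro y
        constructor
        · rintro ⟨hy1, hy2⟩
          exact ⟨(Od V).mul_mem ((Od V).mul_mem hg hy1) ((Od V).inv_mem hg), (mem_normalizer_iff.1 hg' y).1 hy2⟩
        · rintro ⟨hy1, hy2⟩
          refine ⟨?_, (mem_normalizer_iff.1 hg' y).2 hy2⟩
          have h3 := (Od V).mul_mem ((Od V).mul_mem ((Od V).inv_mem hg) hy1) hg
          have h4 : g⁻¹ * (g * y * g⁻¹) * g = y := by group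
          rwa [h4] at h3
      rw [hU] at h2
      have h3 : x * r * x⁻¹ * r⁻¹ ∈ Od V ⊓ ZN.o2 (normalizer (V : Set G)) := by
        constructor
        · have h4 : r * x⁻¹ * r⁻¹ ∈ Od V :=
            (mem_normalizer_iff.1 (hnV hrV) x⁻¹).1 ((Od V).inv_mem hx)
          have h5 : x * r * x⁻¹ * r⁻¹ = x * (r * x⁻¹ * r⁻¹) := by group
          rw [h5]
          exact (Od V).mul_mem hx h4
        · have h4 := (mem_normalizer_iff.1 (ZN.le_normalizer_o2 (normalizer (V : Set G)) (hOV hx)) r).1 hr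
          exact (ZN.o2 _).mul_mem h4 ((ZN.o2 _).inv_mem hr)
      have h4 := mem_bot.1 (h2 h3)
      rw [mul_inv_eq_one, mul_inv_eq_iff_eq_mul] at h4
      exact h4
    rw [eq_bot_iff]
    have h2 : ∀ x ∈ centralizer (V : Set G), Odd (orderOf x) → x = 1 := by
      intro x hx ho
      have h3 := h1 x (Subgroup.subset_closure ⟨hx, ho⟩)
      obtain ⟨k, hk⟩ := ZN.isPGroup_o2 (normalizer (V : Set G)) ⟨x, h3⟩
      have hk' : x ^ 2 ^ k = 1 := by simpa only [_root_.SubmonoidClass.mk_pow, _root_.OneMemClass.coe_one] using congrArg Subtype.val hk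
      have h4 : orderOf x ∣ 2 ^ k := orderOf_dvd_of_pow_eq_one hk'
      have h5 : Nat.Coprime (orderOf x) (2 ^ k) := Nat.Coprime.pow_right k (Nat.coprime_two_right.2 ho)
      rw [← orderOf_eq_one_iff]
      exact Nat.eq_one_of_dvd_coprimes h5 dvd_rfl h4
    unfold Od
    rw [closure_le]
    rintro x ⟨hx, ho⟩
    exact h2 x hx ho
  obtain ⟨c, hc, hc'⟩ := h.notle
  apply hc'
  have h1 := ZN.normalizer_le_normalizer_o2 (Od V)
  exact h.maxl _ hU (ZN.isPGroup_o2 _) (hnV.trans h1) (h1 (hnC (mem_Cz.2 hc)))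

/-- (6.4): `C_0 = S` -/
theorem C0_le_S [Finite G] (h : Hyp S V J z) (hab : ∀ x ∈ Vz J z, ∀ y ∈ Vz J z, x * y = y * x) {c : G}
    (hc : c ∈ Cz z) (hcV : c ∈ normalizer (V : Set G)) : c ∈ S := by
  have h1 : IsPGroup 2 ↥(Cz z ⊓ normalizer (V : Set G)) := by
    apply two_of_no_odd
    intro x hx ho
    have h2 := h.odd_mem_CV hx.1 hx.2 ho
    have h3 : x ∈ Od V := Subgroup.subset_closure ⟨h2, ho⟩
    rw [h.Od_eq_bot hab] at h3
    exact mem_bot.1 h3
  exact h.smax _ h1 (le_inf h.S_le_Cz h.SV) ⟨hc, hcV⟩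

end Hyp

end Cfsg.Agent.OddCyclic.Eq.SixA
end

-- part: OddCyclic/Eq/SixAEnd
section
/-!
# (E_q) of `T_cyc`, (6.5), (6.6), `V_z` abelian: contradiction
-/

set_option autoImplicit false
set_option linter.style.haveILetI false

namespace Cfsg.Agent.OddCyclic.Eq.SixA

open Subgroup

universe u

variable {G : Type u} [Group G] {S V J : Subgroup G} {z : G}

/-- a nontrivial normal subgroup of a 2-group contains a central involution -/
theorem exists_central [Finite G] {S D : Subgroup G} (hS : IsPGroup 2 S) (hDS : D ≤ S)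
    (hn : S ≤ normalizer (D : Set G)) (hD : D ≠ ⊥) :
    ∃ x ∈ D, x ≠ 1 ∧ x * x = 1 ∧ ∀ s ∈ S, s * x = x * s := by
  haveI : Fact (Nat.Prime 2) := ⟨Nat.prime_two⟩
  haveI hN : (D.subgroupOf S).Normal := by
    constructor
    intro n hn' g
    rw [mem_subgroupOf] at hn' ⊢
    exact (mem_normalizer_iff.1 (hn g.2) n).1 hn'
  have hS' : IsPGroup 2 (ConjAct ↥S) := hS
  have hD' : IsPGroup 2 D := hS.to_le hDS
  haveI : Nontrivial D := (nontrivial_iff_ne_bot _).2 hD
  have hcard : 2 ∣ Nat.card (D.subgroupOf S) := by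
    rw [Nat.card_congr (subgroupOfEquivOfLe hDS).toEquiv]
    rcases hD'.card_eq_or_dvd with h0 | h0
    · exact absurd (Subgroup.card_eq_one.1 h0) hD
    · exact h0
  have h1 : (1 : D.subgroupOf S) ∈ MulAction.fixedPoints (ConjAct ↥S) (D.subgroupOf S) := by
    intro g
    exact smul_one g
  obtain ⟨b, hb, hb1⟩ := hS'.exists_fixed_point_of_prime_dvd_card_of_fixed_point (D.subgroupOf S) hcard h1
  have hbc : ∀ s ∈ S, s * ((b : S) : G) = ((b : S) : G) * s := by
    intro s hs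
    have h2 := hb (ConjAct.toConjAct ⟨s, hs⟩)
    have h3 := congrArg (fun x : D.subgroupOf S => ((x : S) : G)) h2
    change s * ((b : S) : G) * s⁻¹ = ((b : S) : G) at h3
    rwa [mul_inv_eq_iff_eq_mul] at h3
  have hbD : ((b : S) : G) ∈ D := b.2
  have hb1' : ((b : S) : G) ≠ 1 := by
    intro h
    apply hb1
    apply Subtype.ext
    apply Subtype.ext
    exact h.symm
  obtain ⟨k, hk⟩ := hD' ⟨_, hbD⟩
  have hk' : ((b : S) : G) ^ 2 ^ k = 1 := by simpa only [_root_.SubmonoidClass.mk_pow, _root_.OneMemClass.coe_one] using congrArg Subtype.val hk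
  clear hk
  have key : ∀ (k : ℕ) (x : G), x ∈ D → x ≠ 1 → (∀ s ∈ S, s * x = x * s) → x ^ 2 ^ k = 1 →
      ∃ x ∈ D, x ≠ 1 ∧ x * x = 1 ∧ ∀ s ∈ S, s * x = x * s := by
    intro k
    induction k with
    | zero =>
      intro x _ hx1 _ hx
      exact absurd (by simpa using hx) hx1
    | succ k ih =>
      intro x hx hx1 hxs hxk
      by_cases h4 : x * x = 1
      · exact ⟨x, hx, hx1, h4, hxs⟩
      · apply ih (x * x) (D.mul_mem hx hx) h4
        · intro s hs
          rw [← mul_assoc, hxs s hs, mul_assoc, hxs s hs, mul_assoc]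
        · rw [← pow_two, ← pow_mul, ← pow_succ']
          exact hxk
  exact key k _ hbD hb1' hbc hk'

/-- elements of order 3 of a subgroup are conjugate up to inversion -/
theorem exists_conj_three [Finite G] (hc : ∀ P : Sylow 3 G, IsCyclic P) {N : Subgroup G} {x y : G} (hxN : x ∈ N)
    (hyN : y ∈ N) (hx : orderOf x = 3) (hy : orderOf y = 3) : ∃ g ∈ N, x ∈ zpowers (g * y * g⁻¹) := by
  haveI : Fact (Nat.Prime 3) := ⟨Nat.prime_three⟩
  have hcyc : ∀ P : Sylow 3 N, IsCyclic P := by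
    intro P
    have h1 : IsPGroup 3 ((P : Subgroup N).map N.subtype) := P.isPGroup'.map _
    obtain ⟨Q, hQ⟩ := h1.exists_le_sylow
    have := hc Q
    have h2 : IsCyclic ((P : Subgroup N).map N.subtype) :=
      isCyclic_of_injective (Subgroup.inclusion hQ) (Subgroup.inclusion_injective hQ)
    exact isCyclic_of_injective
      ((P : Subgroup N).equivMapOfInjective N.subtype N.subtype_injective).toMonoidHom
      ((P : Subgroup N).equivMapOfInjective N.subtype N.subtype_injective).injective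
  have hxp : IsPGroup 3 (zpowers (⟨x, hxN⟩ : N)) := IsPGroup.of_card (n := 1) (by
    rw [Nat.card_zpowers, orderOf_mk, hx, pow_one])
  have hyp : IsPGroup 3 (zpowers (⟨y, hyN⟩ : N)) := IsPGroup.of_card (n := 1) (by
    rw [Nat.card_zpowers, orderOf_mk, hy, pow_one])
  obtain ⟨P, hP⟩ := hxp.exists_le_sylow
  obtain ⟨Q, hQ⟩ := hyp.exists_le_sylow
  obtain ⟨g, hg⟩ := MulAction.exists_smul_eq N Q P
  have hxP : (⟨x, hxN⟩ : N) ∈ (P : Subgroup N) := hP (mem_zpowers _)
  have hyP : g * ⟨y, hyN⟩ * g⁻¹ ∈ (P : Subgroup N) := by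
    rw [← hg]
    exact ⟨⟨y, hyN⟩, hQ (mem_zpowers _), rfl⟩
  have h1 : zpowers (⟨x, hxN⟩ : N) = zpowers (g * ⟨y, hyN⟩ * g⁻¹) := by
    refine Cfsg.Agent.OddOrderLocal.CyclicSub.eq_of_card_eq_of_le_cyclic (hcyc P) (zpowers_le.2 hxP)
      (zpowers_le.2 hyP) ?_
    rw [Nat.card_zpowers, Nat.card_zpowers, Hyp.orderOf_conj, orderOf_mk, orderOf_mk, hx, hy]
  have h2 : (⟨x, hxN⟩ : N) ∈ zpowers (g * ⟨y, hyN⟩ * g⁻¹) := by rw [← h1]; exact mem_zpowers _
  obtain ⟨n, hn⟩ := h2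
  exact ⟨g, g.2, n, congrArg Subtype.val hn⟩

theorem card_inf_mul_relIndex (P Q : Subgroup G) : Nat.card ↥(P ⊓ Q) * P.relIndex Q = Nat.card Q := by
  have h1 := card_mul_index (P.subgroupOf Q)
  have h2 : Nat.card (P.subgroupOf Q) = Nat.card ↥(P ⊓ Q) := by
    rw [← inf_subgroupOf_right, Nat.card_congr (subgroupOfEquivOfLe inf_le_right).toEquiv]
  rwa [h2] at h1

namespace Hyp

/-- `B = C_S(J)` -/
abbrev BB (S J : Subgroup G) : Subgroup G := S ⊓ centralizer (J : Set G)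

theorem CV_le_S [Finite G] (h : Hyp S V J z) (hab : ∀ x ∈ Vz J z, ∀ y ∈ Vz J z, x * y = y * x) :
    centralizer (V : Set G) ≤ S := fun _ hx => h.C0_le_S hab (h.CV_le_Cz hx) (CV_le_nV V hx)

theorem CV_le_CJ (h : Hyp S V J z) : centralizer (V : Set G) ≤ centralizer (J : Set G) :=
  fun _ hx => mem_centralizer_iff.2 fun x hx' => mem_centralizer_iff.1 hx x (h.JV hx')

theorem V_le_CV (h : Hyp S V J z) : V ≤ centralizer (V : Set G) :=
  fun _ hx => mem_centralizer_iff.2 fun _ hy => comm_of_sq h.Vsq hy hx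

/-- `V_z ∩ C(V) = J` -/
theorem Vz_inf [Finite G] (h : Hyp S V J z) (hab : ∀ x ∈ Vz J z, ∀ y ∈ Vz J z, x * y = y * x) {x : G}
    (hx : x ∈ Vz J z) (hxV : x ∈ centralizer (V : Set G)) : x ∈ J := by
  obtain ⟨e, he, heV⟩ := h.exists_e
  have h8 := (h.three hab).1
  have hle : J ≤ Vz J z ⊓ centralizer (V : Set G) := le_inf (J_le_Vz J z) (h.JV.trans h.V_le_CV)
  have hdvd : Nat.card ↥(Vz J z ⊓ centralizer (V : Set G)) ∣ Nat.card (Vz J z) := card_dvd_of_le inf_le_left
  have hne : Nat.card ↥(Vz J z ⊓ centralizer (V : Set G)) ≠ 8 := by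
    intro h1
    have h2 : Vz J z ⊓ centralizer (V : Set G) = Vz J z :=
      eq_of_le_of_card_ge inf_le_left (by rw [h1, h8])
    exact heV (inf_eq_left.1 h2 he)
  rw [h8] at hdvd
  have h4 : Nat.card ↥(Vz J z ⊓ centralizer (V : Set G)) ≤ 4 := by
    have h5 := Nat.le_of_dvd (by norm_num) hdvd
    have h6 : Nat.card ↥(Vz J z ⊓ centralizer (V : Set G)) ∈ Nat.divisors 8 := by
      rw [Nat.mem_divisors]
      exact ⟨hdvd, by norm_num⟩
    have h7 : Nat.divisors 8 = {1, 2, 4, 8} := by decide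
    rw [h7] at h6
    simp only [Finset.mem_insert, Finset.mem_singleton] at h6
    omega
  have h5 : J = Vz J z ⊓ centralizer (V : Set G) :=
    eq_of_le_of_card_ge hle (by rw [h.cardJ]; exact h4)
  rw [h5]
  exact ⟨hx, hxV⟩

/-- (6.5) -/
theorem CV_sq_fix [Finite G] (h : Hyp S V J z) (hab : ∀ x ∈ Vz J z, ∀ y ∈ Vz J z, x * y = y * x) {e x : G}
    (he : e ∈ Vz J z) (heV : e ∉ centralizer (V : Set G)) (hx : x ∈ centralizer (V : Set G)) :
    e * (x * x) = (x * x) * e := by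
  have hxS := h.CV_le_S hab hx
  have heB := h.Vz_le_B hab he
  have h1 : x * e * x⁻¹ * e⁻¹ ∈ J := by
    apply h.Vz_inf hab
    · exact (Vz J z).mul_mem (Vz_conj (h.S_le_Cz hxS) he) ((Vz J z).inv_mem he)
    · have h2 : e * x⁻¹ * e⁻¹ ∈ centralizer (V : Set G) :=
        (mem_normalizer_iff.1 (normalizer_le_normalizer_cent V (h.SV (h.Vz_le_S he))) _).1
          ((centralizer (V : Set G)).inv_mem hx)
      have h3 : x * e * x⁻¹ * e⁻¹ = x * (e * x⁻¹ * e⁻¹) := by group
      rw [h3]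
      exact (centralizer (V : Set G)).mul_mem hx h2
  obtain ⟨v, hv, hv2⟩ := h.csurj e heB heV _ h1
  have h2 : v * e * v⁻¹ = x * e * x⁻¹ := mul_right_cancel hv2
  have h3 : (v⁻¹ * x) * e = e * (v⁻¹ * x) := by
    have h4 : v⁻¹ * (v * e * v⁻¹) * x = v⁻¹ * (x * e * x⁻¹) * x := by rw [h2]
    calc (v⁻¹ * x) * e = v⁻¹ * (x * e * x⁻¹) * x := by group
      _ = v⁻¹ * (v * e * v⁻¹) * x := h4.symm
      _ = e * (v⁻¹ * x) := by group
  have h4 : x * x = (v⁻¹ * x) * (v⁻¹ * x) := by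
    have h5 : x * v = v * x := (mem_centralizer_iff.1 hx v hv).symm
    have h6 : v⁻¹ = v := inv_eq_of_mul_eq_one_left (h.Vsq v hv)
    rw [h6]
    calc x * x = (v * v) * (x * x) := by rw [h.Vsq v hv, one_mul]
      _ = v * (v * x) * x := by group
      _ = v * (x * v) * x := by rw [h5]
      _ = v * x * (v * x) := by group
  rw [h4, ← mul_assoc e, ← h3, mul_assoc (v⁻¹ * x) e, ← h3, ← mul_assoc (v⁻¹ * x)]

theorem CV_sq [Finite G] (h : Hyp S V J z) (hab : ∀ x ∈ Vz J z, ∀ y ∈ Vz J z, x * y = y * x) {x : G}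
    (hx : x ∈ centralizer (V : Set G)) : x * x = 1 := by
  set D : Subgroup G := _root_.Subgroup.closure {w | ∃ x ∈ centralizer (V : Set G), w = x * x} with hD
  suffices hbot : D = ⊥ by
    have h1 : x * x ∈ D := Subgroup.subset_closure ⟨x, hx, rfl⟩
    rw [hbot] at h1
    exact mem_bot.1 h1
  by_contra hne
  have hDV : D ≤ centralizer (V : Set G) := by
    rw [hD, closure_le]
    rintro w ⟨x, hx, rfl⟩
    exact (centralizer (V : Set G)).mul_mem hx hx
  have key : ∀ g ∈ normalizer (V : Set G), ∀ w ∈ D, g * w * g⁻¹ ∈ D := by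
    intro g hg w hw
    rw [hD] at hw
    induction hw using closure_induction with
    | mem w hw =>
      obtain ⟨x, hx, rfl⟩ := hw
      refine Subgroup.subset_closure ⟨g * x * g⁻¹,
        (mem_normalizer_iff.1 (normalizer_le_normalizer_cent V hg) x).1 hx, by group⟩
    | one => simp
    | mul x y _ _ hx hy =>
      have : g * (x * y) * g⁻¹ = (g * x * g⁻¹) * (g * y * g⁻¹) := by group
      rw [this]
      exact D.mul_mem hx hy
    | inv x _ hx =>
      have : g * x⁻¹ * g⁻¹ = (g * x * g⁻¹)⁻¹ := by group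
      rw [this]
      exact D.inv_mem hx
  have hSD : S ≤ normalizer (D : Set G) := by
    intro s hs
    rw [mem_normalizer_iff]
    intro w
    constructor
    · exact key s (h.SV hs) w
    · intro hw
      have := key s⁻¹ ((normalizer (V : Set G)).inv_mem (h.SV hs)) _ hw
      simpa [mul_assoc] using this
  obtain ⟨w, hw, hw1, hw2, hwS⟩ := exists_central h.two (hDV.trans (h.CV_le_S hab)) hSD hne
  have hwz : w = z := (h.zS w (h.CV_le_S hab (hDV hw)) hw2 hwS).resolve_left hw1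
  rw [hwz] at hw
  obtain ⟨e, he, heV⟩ := h.exists_e
  obtain ⟨l, hl, hl'⟩ := h.exl
  have h1 : l * z * l⁻¹ ∈ D := key l hl z hw
  have h2 : e * (l * z * l⁻¹) = (l * z * l⁻¹) * e := by
    rw [hD] at h1
    generalize l * z * l⁻¹ = w at h1
    induction h1 using closure_induction with
    | mem w hw =>
      obtain ⟨x, hx, rfl⟩ := hw
      exact h.CV_sq_fix hab he heV hx
    | one => simp
    | mul x y _ _ hx hy => rw [← mul_assoc, hx, mul_assoc, hy, mul_assoc]
    | inv x _ hx => rw [eq_inv_mul_iff_mul_eq, ← mul_assoc, ← hx, mul_inv_cancel_right]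
  have h3 : l * z * l⁻¹ ∈ V := (mem_normalizer_iff.1 hl z).1 (h.JV h.zJ)
  have h4 := h.cfix e (h.Vz_le_B hab he) heV _ h3 h2
  exact h.z1 (hl' z h.zJ h4)

/-- (6.5) `Q₁ = V` -/
theorem CV_eq [Finite G] (h : Hyp S V J z) (hab : ∀ x ∈ Vz J z, ∀ y ∈ Vz J z, x * y = y * x) :
    centralizer (V : Set G) = V := by
  set D : Subgroup G := centralizer (V : Set G) with hD
  obtain ⟨A, hAB, hAV, hA2, hAm⟩ := h.exA
  have hDS : D ≤ S := h.CV_le_S hab
  have hDA : Nat.card D ≤ Nat.card A := hAm D hDS fun x hx => h.CV_sq hab hx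
  obtain ⟨b, hbA, hbV⟩ := SetLike.not_le_iff_exists.1 hAV
  have hDB : D ≤ BB S J := le_inf hDS h.CV_le_CJ
  have hidx : D.relIndex (BB S J) = 4 := by
    have h1 := h.idx
    rwa [← hD, inf_eq_right.2 hDS] at h1
  have hDn : BB S J ≤ normalizer (D : Set G) :=
    (inf_le_left.trans h.SV).trans (normalizer_le_normalizer_cent V)
  have hfin : ∀ P Q : Subgroup G, P.relIndex Q ≠ 0 := fun P Q =>
    (index_ne_zero_of_finite : (P.subgroupOf Q).index ≠ 0)
  set F : Subgroup G := A ⊓ D with hF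
  have hFD : F ≤ D := inf_le_right
  -- `|A : A ∩ D| ≤ 4`
  have h1 : D.relIndex A ≤ 4 := by
    rw [← hidx]
    exact relIndex_le_of_le_right hAB (hfin _ _)
  have h2 : Nat.card F * D.relIndex A = Nat.card A := by
    have := card_inf_mul_relIndex D A
    rwa [inf_comm, ← hF] at this
  have h3 : Nat.card F * F.relIndex D = Nat.card D := by
    have := card_inf_mul_relIndex F D
    rwa [inf_eq_left.2 hFD] at this
  have hVD : V ≤ D := h.V_le_CV
  have h4 : 4 ≤ F.relIndex D := by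
    have h5 : F.relIndex V ≤ F.relIndex D := relIndex_le_of_le_right hVD (hfin _ _)
    have h6 := card_inf_mul_relIndex F V
    rw [h.cardV] at h6
    have h7 : F ⊓ V ≤ J := by
      rintro x ⟨⟨hxA, _⟩, hxV⟩
      exact h.cfix b (hAB hbA) hbV x hxV (comm_of_sq hA2 hbA hxA)
    have h8 : Nat.card ↥(F ⊓ V) ≤ 4 := by
      rw [← h.cardJ]
      exact Nat.card_mono (Set.toFinite _) h7
    have h9 : 16 ≤ 4 * F.relIndex V := by
      rw [← h6]
      exact Nat.mul_le_mul_right _ h8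
    omega
  have hFpos : 0 < Nat.card F := Nat.card_pos
  have h5 : F.relIndex D ≤ D.relIndex A := by
    rw [← h2, ← h3] at hDA
    exact Nat.le_of_mul_le_mul_left hDA hFpos
  have h6 : F.relIndex D = 4 := by omega
  have h7 : D.relIndex A = 4 := by omega
  -- `A D = B`
  have h8 : A ⊔ D = BB S J := by
    apply eq_of_le_of_card_ge (sup_le hAB hDB)
    have h9 := card_inf_mul_relIndex D (BB S J)
    rw [inf_eq_left.2 hDB, hidx] at h9
    have h10 := card_inf_mul_relIndex D (A ⊔ D)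
    rw [inf_eq_left.2 (le_sup_right : D ≤ A ⊔ D)] at h10
    rw [← h9, ← h10]
    apply Nat.mul_le_mul_left
    rw [← h7]
    exact relIndex_le_of_le_right le_sup_left (hfin _ _)
  obtain ⟨l, hl, hl'⟩ := h.exl
  set F' : Subgroup G := F.map (MulAut.conj l).toMonoidHom with hF'
  have h9 : F'.relIndex D = 4 := by
    have h10 : D.map (MulAut.conj l).toMonoidHom = D :=
      ZN.map_conj_eq_of_mem_normalizer (normalizer_le_normalizer_cent V hl)
    have h11 := relIndex_map_map_of_injective F D (f := (MulAut.conj l).toMonoidHom) (MulAut.conj l).injective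
    rw [h10] at h11
    rw [hF', h11, h6]
  have h10 : F ⊓ F' = ⊥ := by
    rw [eq_bot_iff]
    rintro x ⟨⟨hxA, hxD⟩, y, ⟨hyA, hyD⟩, hyx⟩
    change l * y * l⁻¹ = x at hyx
    rw [mem_bot]
    have h11 : A ⊔ D ≤ centralizer {x} := by
      apply sup_le
      · intro a ha
        exact mem_centralizer_singleton_iff.2 (comm_of_sq hA2 ha hxA)
      · intro d hd
        exact mem_centralizer_singleton_iff.2 (comm_of_sq (fun x hx => h.CV_sq hab hx) hd hxD)
    rw [h8] at h11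
    have h12 : x ∈ J := h.cB x (hDS hxD) (h.CV_sq hab hxD) fun b hb => mem_centralizer_singleton_iff.1 (h11 hb)
    have h13 : y ∈ V := by
      have h14 := (mem_normalizer_iff.1 ((normalizer (V : Set G)).inv_mem hl) x).1 (h.JV h12)
      rw [← hyx] at h14
      simpa [mul_assoc] using h14
    have h14 : y ∈ J := h.cfix b (hAB hbA) hbV y h13 (comm_of_sq hA2 hbA hyA)
    have h15 := hl' y h14 (by rw [hyx]; exact h12)
    rw [← hyx, h15]
    simp
  have h11 : Nat.card D ≤ 16 := by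
    have h12 := relIndex_inf_le (H := F) (K := F') (L := D)
    rw [h10, relIndex_bot_left, h6, h9] at h12
    exact h12
  exact (eq_of_le_of_card_ge hVD (by rw [h.cardV]; exact h11)).symm

/-- **(6.6)** -/
theorem false [Finite G] (h : Hyp S V J z) (hab : ∀ x ∈ Vz J z, ∀ y ∈ Vz J z, x * y = y * x) : False := by
  have hCV := h.CV_eq hab
  obtain ⟨e, he, heV⟩ := h.exists_e
  obtain ⟨k, hk3, hkB, hkV, hkJ, hk1, hk2, hk4⟩ := h.exk
  have heB : e ∈ BB S J := h.Vz_le_B hab he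
  have kB : ∀ x ∈ BB S J, k * x * k⁻¹ ∈ BB S J := fun x hx => (mem_normalizer_iff.1 hkB x).1 hx
  have kJ : ∀ x ∈ J, k * x * k⁻¹ ∈ J := fun x hx => (mem_normalizer_iff.1 hkJ x).1 hx
  have kV : ∀ x, x ∈ V ↔ k * x * k⁻¹ ∈ V := fun x => mem_normalizer_iff.1 hkV x
  -- squares
  have hsqW : ∀ w ∈ Vz J z, w * w = 1 := by
    intro w hw
    refine sq_of_closure (s := {x | ∃ c : G, c * z = z * c ∧ ∃ a ∈ J, x = c * a * c⁻¹}) ?_ ?_ w hw
    · rintro x ⟨c, _, a, ha, rfl⟩
      have : c * a * c⁻¹ * (c * a * c⁻¹) = c * (a * a) * c⁻¹ := by group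
      rw [this, h.Vsq a (h.JV ha)]
      simp
    · intro x hx y hy
      exact hab x (Subgroup.subset_closure hx) y (Subgroup.subset_closure hy)
  -- `V_z = J ∪ e J`
  have hcase : ∀ w ∈ Vz J z, w ∉ J → e⁻¹ * w ∈ J := by
    intro w hw hwJ
    apply h.Vz_inf hab ((Vz J z).mul_mem ((Vz J z).inv_mem he) hw)
    have h1 : w ∉ centralizer (V : Set G) := fun h' => hwJ (h.Vz_inf hab hw h')
    have h2 := h.e_mul hab ((Vz J z).inv_mem he) hw
      (fun h' => heV ((centralizer (V : Set G)).inv_mem_iff.1 h')) h1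
    exact h2
  have hB_J : ∀ b ∈ BB S J, ∀ x ∈ J, b * x = x * b := fun b hb x hx =>
    (mem_centralizer_iff.1 hb.2 x hx).symm
  have heJ : e ∉ J := fun h' => heV (h.V_le_CV (h.JV h'))
  -- `[e, B] ≤ J`
  have heb : ∀ b ∈ BB S J, e⁻¹ * (b * e * b⁻¹) ∈ J := by
    intro b hb
    apply hcase _ (Vz_conj (h.S_le_Cz hb.1) he)
    intro h'
    apply heJ
    have h1 : e = b⁻¹ * (b * e * b⁻¹) * b := by group
    rw [h1]
    have h2 := (mem_normalizer_iff.1 ((normalizer (J : Set G)).inv_mem (h.SJ hb.1)) _).1 h'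
    rwa [inv_inv] at h2
  set e₁ : G := k * e * k⁻¹ with he₁
  set e₂ : G := k * e₁ * k⁻¹ with he₂
  have he₁B : e₁ ∈ BB S J := kB e heB
  have he₂B : e₂ ∈ BB S J := kB e₁ he₁B
  have hk3' : k * k * k = 1 := by simpa only [pow_succ, _root_.pow_zero, _root_.one_mul] using hk3
  have he₃ : k * e₂ * k⁻¹ = e := by
    rw [he₂, he₁]
    have : k * (k * (k * e * k⁻¹) * k⁻¹) * k⁻¹ = (k * k * k) * e * (k * k * k)⁻¹ := by group
    rw [this, hk3']
    simp
  have hee : e * e = 1 := hsqW e he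
  have he₁e₁ : e₁ * e₁ = 1 := by
    have : e₁ * e₁ = k * (e * e) * k⁻¹ := by rw [he₁]; group
    rw [this, hee]
    simp
  -- `y = e e₁ e₂ ∈ J`
  set y : G := e * e₁ * e₂ with hy
  have hyB : y ∈ BB S J := (BB S J).mul_mem ((BB S J).mul_mem heB he₁B) he₂B
  have hky : k * y * k⁻¹ * y⁻¹ ∈ J := by
    have h1 : k * y * k⁻¹ = e₁ * e₂ * e := by
      calc k * y * k⁻¹ = (k * e * k⁻¹) * (k * e₁ * k⁻¹) * (k * e₂ * k⁻¹) := by rw [hy]; group
        _ = e₁ * e₂ * e := by rw [he₃]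
    have h2 : e₁ * e₂ * e * y⁻¹ = e⁻¹ * (y * e * y⁻¹) := by rw [hy]; group
    rw [h1, h2]
    exact heb y hyB
  have hyV : y ∈ V := by
    have h1 := hk4 y hyB (h.V_le_CV (h.JV hky))
    rwa [hCV] at h1
  have hyJ : y ∈ J := hk2 y hyV hky
  -- `[e, e₁] = 1`
  have hc : e * e₁ = e₁ * e := by
    set c : G := e * e₁ * e⁻¹ * e₁⁻¹ with hcdef
    have hcJ : c ∈ J := by
      have h1 := (J).inv_mem (heb e₁ he₁B)
      have h2 : (e⁻¹ * (e₁ * e * e₁⁻¹))⁻¹ = e₁ * e⁻¹ * e₁⁻¹ * e := by group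
      rw [h2] at h1
      have h3 : c = e * (e₁ * e⁻¹ * e₁⁻¹ * e) * e⁻¹ := by rw [hcdef]; group
      rw [h3, hB_J e heB _ h1, mul_inv_cancel_right]
      exact h1
    have h2 : e₂ = e₁⁻¹ * e⁻¹ * y := by rw [hy]; group
    have h3 : k * c * k⁻¹ = c := by
      have h4 : k * c * k⁻¹ = e₁ * e₂ * e₁⁻¹ * e₂⁻¹ := by
        rw [hcdef, he₂, he₁]; group
      have h5 : e₁ * (e₁⁻¹ * e⁻¹ * y) * e₁⁻¹ * (e₁⁻¹ * e⁻¹ * y)⁻¹ = e⁻¹ * (y * e₁⁻¹) * y⁻¹ * e * e₁ := by group
      have h6 : y * e₁⁻¹ = e₁⁻¹ * y := (hB_J _ ((BB S J).inv_mem he₁B) y hyJ).symm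
      have h7 : e⁻¹ = e := inv_eq_of_mul_eq_one_left hee
      have h8 : e₁⁻¹ = e₁ := inv_eq_of_mul_eq_one_left he₁e₁
      rw [h4, h2, h5, h6, hcdef, h7, h8]
      group
    have h4 := hk1 c hcJ h3
    rw [hcdef, mul_inv_eq_one, mul_inv_eq_iff_eq_mul] at h4
    exact h4
  -- `F₁ = C_G(V_z)`
  set F₁ : Subgroup G := centralizer (Vz J z : Set G) with hF₁
  have hF₁J : F₁ ≤ centralizer (J : Set G) := fun x hx =>
    mem_centralizer_iff.2 fun a ha => mem_centralizer_iff.1 hx a (J_le_Vz J z ha)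
  have hF₁S : F₁ ≤ S := by
    intro x hx
    have h1 : x ∈ Cz z := mem_Cz.2 (mem_centralizer_iff.1 (hF₁J hx) z h.zJ).symm
    exact h.C0_le_S hab h1 (h.NJ (CV_le_nV J (hF₁J hx)))
  have hF₁B : F₁ ≤ BB S J := le_inf hF₁S hF₁J
  have hidx : V.relIndex (BB S J) = 4 := by
    have h1 := h.idx
    rwa [hCV, inf_eq_right.2 h.VS] at h1
  have hF₁V : V ⊓ F₁ ≤ J := by
    rintro x ⟨hxV, hx⟩
    exact h.cfix e heB heV x hxV (mem_centralizer_iff.1 hx e he)
  have hcard : Nat.card F₁ ≤ 16 := by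
    have h1 := card_inf_mul_relIndex V F₁
    have h2 : Nat.card ↥(V ⊓ F₁) ≤ 4 := by
      rw [← h.cardJ]
      exact Nat.card_mono (Set.toFinite _) hF₁V
    have h3 : V.relIndex F₁ ≤ 4 := by
      rw [← hidx]
      exact relIndex_le_of_le_right hF₁B (index_ne_zero_of_finite : (V.subgroupOf (BB S J)).index ≠ 0)
    rw [← h1]
    calc Nat.card ↥(V ⊓ F₁) * V.relIndex F₁ ≤ 4 * 4 := Nat.mul_le_mul h2 h3
      _ = 16 := by norm_num
  have hWF : Vz J z ≤ F₁ := fun x hx => mem_centralizer_iff.2 fun w hw => hab w hw x hx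
  have he₁F : e₁ ∈ F₁ := by
    rw [hF₁, mem_centralizer_iff]
    intro w hw
    by_cases hwJ : w ∈ J
    · exact (hB_J e₁ he₁B w hwJ).symm
    · have h1 := hcase w hw hwJ
      have h2 : w = e * (e⁻¹ * w) := by group
      rw [h2, mul_assoc, ← hB_J e₁ he₁B _ h1, ← mul_assoc, hc, mul_assoc]
  have he₂F : e₂ ∈ F₁ := by
    have h2 : e₂ = e₁⁻¹ * e⁻¹ * y := by rw [hy]; group
    rw [h2]
    exact F₁.mul_mem (F₁.mul_mem (F₁.inv_mem he₁F) (F₁.inv_mem (hWF he))) (hWF (J_le_Vz J z hyJ))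
  set FK : Subgroup G := J ⊔ _root_.Subgroup.closure {e, e₁, e₂} with hFK
  have hJK : J ≤ FK := le_sup_left
  have heK : e ∈ FK := mem_sup_right (Subgroup.subset_closure (by simp))
  have he₁K : e₁ ∈ FK := mem_sup_right (Subgroup.subset_closure (by simp))
  have he₂K : e₂ ∈ FK := mem_sup_right (Subgroup.subset_closure (by simp))
  have hWK : Vz J z ≤ FK := by
    intro w hw
    by_cases hwJ : w ∈ J
    · exact hJK hwJ
    · have h2 : w = e * (e⁻¹ * w) := by group
      rw [h2]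
      exact FK.mul_mem heK (hJK (hcase w hw hwJ))
  have hKF : FK ≤ F₁ := by
    apply sup_le ((J_le_Vz J z).trans hWF)
    rw [closure_le]
    intro x hx
    simp only [Set.mem_insert_iff, Set.mem_singleton_iff] at hx
    rcases hx with rfl | rfl | rfl
    · exact hWF he
    · exact he₁F
    · exact he₂F
  have he₁W : e₁ ∉ Vz J z := by
    intro h1
    have h2 : e₁ ∉ J := by
      intro h'
      apply heV
      rw [hCV]
      exact (kV e).2 (h.JV h')
    have h3 := hcase e₁ h1 h2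
    apply heV
    apply hk4 e heB
    have h4 : k * e * k⁻¹ * e⁻¹ = e₁ * (e⁻¹ * e₁) * e₁⁻¹ := by rw [← he₁]; group
    rw [h4, hB_J e₁ he₁B _ h3, mul_inv_cancel_right]
    exact h.V_le_CV (h.JV h3)
  have hcardK : 16 ≤ Nat.card FK := by
    have h8 := (h.three hab).1
    have hdvd : Nat.card (Vz J z) ∣ Nat.card FK := card_dvd_of_le hWK
    have hne : Nat.card FK ≠ Nat.card (Vz J z) := by
      intro h1
      have h2 : Vz J z = FK := eq_of_le_of_card_ge hWK (le_of_eq h1)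
      exact he₁W (h2 ▸ he₁K)
    obtain ⟨m, hm⟩ := hdvd
    have hpos : 0 < Nat.card FK := Nat.card_pos
    rw [h8] at hm hne
    have : m ≠ 0 := by rintro rfl; omega
    have : m ≠ 1 := by rintro rfl; omega
    omega
  have hEq : FK = F₁ := eq_of_le_of_card_ge hKF (hcard.trans hcardK)
  -- `k ∈ N(F₁)`
  have hkF : k ∈ normalizer (F₁ : Set G) := by
    apply ZN.mem_normalizer_of_map_conj_eq
    have hle : F₁.map (MulAut.conj k).toMonoidHom ≤ F₁ := by
      rw [← hEq, hFK, Subgroup.map_sup, MonoidHom.map_closure]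
      apply sup_le
      · rintro _ ⟨x, hx, rfl⟩
        exact hJK (kJ x hx)
      · rw [closure_le]
        rintro _ ⟨x, hx, rfl⟩
        simp only [Set.mem_insert_iff, Set.mem_singleton_iff] at hx
        rcases hx with rfl | rfl | rfl
        · exact he₁K
        · exact he₂K
        · change k * e₂ * k⁻¹ ∈ FK
          rw [he₃]
          exact heK
    apply eq_of_le_of_card_ge hle
    rw [Subgroup.card_map_of_injective (MulAut.conj k).injective]
  have hkfix : ∀ x ∈ F₁, k * x * k⁻¹ = x → x = 1 := by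
    intro x hx hkx
    have h1 : k * x * k⁻¹ * x⁻¹ = 1 := by rw [hkx, mul_inv_cancel]
    have h2 := hk4 x (hF₁B hx) (by rw [h1]; exact one_mem _)
    rw [hCV] at h2
    have h3 := hk2 x h2 (by rw [h1]; exact one_mem _)
    exact hk1 x h3 hkx
  -- an element of order 3 of `C_z`
  haveI : Fact (Nat.Prime 3) := ⟨Nat.prime_three⟩
  obtain ⟨⟨g, hg⟩, hg3⟩ := exists_prime_orderOf_dvd_card' (G := Cz z) 3 (h.three hab).2.1
  rw [Subgroup.orderOf_mk] at hg3
  have hgF : g ∈ normalizer (F₁ : Set G) := by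
    exact normalizer_le_normalizer_cent _ (Cz_le_normalizer J z hg)
  have hk_ne : k ≠ 1 := by
    rintro rfl
    exact h.z1 (hk1 z h.zJ (by simp))
  have hk_ord : orderOf k = 3 := orderOf_eq_prime hk3 hk_ne
  obtain ⟨m, hm, hmk⟩ := exists_conj_three h.cyc3 hkF hgF hk_ord hg3
  obtain ⟨n, hn⟩ := hmk
  have hzF : z ∈ F₁ := hWF (J_le_Vz J z h.zJ)
  have h1 : m * z * m⁻¹ ∈ F₁ := (mem_normalizer_iff.1 hm z).1 hzF
  have h2 : k * (m * z * m⁻¹) * k⁻¹ = m * z * m⁻¹ := by
    rw [← hn]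
    have h3 : Commute (m * g * m⁻¹) (m * z * m⁻¹) := by
      have h4 : g * z = z * g := mem_Cz.1 hg
      change m * g * m⁻¹ * (m * z * m⁻¹) = m * z * m⁻¹ * (m * g * m⁻¹)
      calc m * g * m⁻¹ * (m * z * m⁻¹) = m * (g * z) * m⁻¹ := by group
        _ = m * (z * g) * m⁻¹ := by rw [h4]
        _ = m * z * m⁻¹ * (m * g * m⁻¹) := by group
    rw [mul_inv_eq_iff_eq_mul]
    exact (h3.zpow_left n).eq
  have h3 := hkfix _ h1 h2
  apply h.z1
  have h4 : z = m⁻¹ * (m * z * m⁻¹) * m := by group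
  rw [h4, h3]
  simp

end Hyp

/-- **Section 6.A**: `V_z` is not abelian -/
theorem false [Finite G] (h : Hyp S V J z) (hab : ∀ x ∈ Vz J z, ∀ y ∈ Vz J z, x * y = y * x) : False :=
  h.false hab

end Cfsg.Agent.OddCyclic.Eq.SixA
end

-- part: OddCyclic/Eq/QForm
section
/-!
# The quadratic form `w ↦ w²` on `W / ⟨z⟩`
-/

set_option autoImplicit false

namespace Cfsg.Agent.OddCyclic.Eq

open Subgroup
open Cfsg.Agent.OddCyclic.BTwoLin (Form)

universe u v

variable {G : Type u} [Group G]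

open Classical in
/-- the isomorphism `⟨z⟩ → ℤ/2` -/
noncomputable def chi (x : G) : ZMod 2 := if x = 1 then 0 else 1

theorem chi_one : chi (1 : G) = 0 := if_pos rfl

theorem chi_ne {x : G} (hx : x ≠ 1) : chi x = 1 := if_neg hx

theorem chi_eq_zero {x : G} : chi x = 0 ↔ x = 1 := by
  constructor
  · intro h
    by_contra hx
    rw [chi_ne hx] at h
    exact absurd h (by decide)
  · rintro rfl
    exact chi_one

theorem chi_mul {z x y : G} (hz : z * z = 1) (hx : x = 1 ∨ x = z) (hy : y = 1 ∨ y = z) :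
    chi (x * y) = chi x + chi y := by
  rcases hx with rfl | rfl
  · rw [one_mul, chi_one, zero_add]
  · rcases hy with rfl | rfl
    · rw [mul_one, chi_one, add_zero]
    · rw [hz, chi_one]
      have : ∀ a : ZMod 2, 0 = a + a := by decide
      exact this _

theorem mem_zp_iff {z x : G} (hz : z * z = 1) : x ∈ zpowers z ↔ x = 1 ∨ x = z := by
  constructor
  · intro hx
    obtain ⟨n, rfl⟩ := mem_zpowers_iff.1 hx
    rcases Int.even_or_odd' n with ⟨k, rfl | rfl⟩
    · left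
      rw [zpow_mul, zpow_two, hz, one_zpow]
    · right
      rw [zpow_add, zpow_mul, zpow_two, hz, one_zpow, one_mul, zpow_one]
  · rintro (rfl | rfl)
    · exact one_mem _
    · exact mem_zpowers _

/-- the form on `N = W/⟨z⟩` -/
theorem exists_form {C W : Subgroup G} {z : G} (hz : z * z = 1) (hWC : W ≤ C) (hC : ∀ c ∈ C, c * z = z * c)
    (hCW : ∀ c ∈ C, ∀ w ∈ W, c * w * c⁻¹ ∈ W)
    {N : Type v} [CommGroup N] {ρ : ↥C →* MulAut N} {p : ↥W →* N} (surj : Function.Surjective p)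
    (ker : ∀ w, p w = 1 ↔ (w : G) ∈ zpowers z)
    (act : ∀ (c : C) (w w' : W), (w' : G) = c * w * c⁻¹ → ρ c (p w) = p w') (sq : ∀ m : N, m * m = 1) :
    ∃ (f : N → N → ZMod 2) (q : N → ZMod 2), Form ρ f q ∧
      (∀ w w' : W, f (p w) (p w') = chi ((w : G) * w' * (w : G)⁻¹ * (w' : G)⁻¹)) ∧
      ∀ w : W, q (p w) = chi ((w : G) * w) := by
  have hc2 : ∀ w w' : W, (w : G) * w' * (w : G)⁻¹ * (w' : G)⁻¹ = 1 ∨ (w : G) * w' * (w : G)⁻¹ * (w' : G)⁻¹ = z := by
    intro w w'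
    rw [← mem_zp_iff hz]
    have h1 : ((w * w' * w⁻¹ * w'⁻¹ : W) : G) ∈ zpowers z := by
      rw [← ker, map_mul, map_mul, map_mul, map_inv, map_inv, mul_comm (p w), mul_inv_cancel_right, mul_inv_cancel]
    exact h1
  have hs2 : ∀ w : W, (w : G) * w = 1 ∨ (w : G) * w = z := by
    intro w
    rw [← mem_zp_iff hz]
    have h1 : ((w * w : W) : G) ∈ zpowers z := by
      rw [← ker, map_mul, sq]
    exact h1
  have hzW : ∀ w : W, (w : G) * z = z * w := fun w => hC w (hWC w.2)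
  have hcen : ∀ c ∈ C, ∀ x : G, (x = 1 ∨ x = z) → c * x * c⁻¹ = x := by
    rintro c hc x (rfl | rfl)
    · rw [mul_one, mul_inv_cancel]
    · rw [hC c hc, mul_inv_cancel_right]
  let s : N → W := fun n => (surj n).choose
  have hs : ∀ n, p (s n) = n := fun n => (surj n).choose_spec
  have hrep : ∀ w : W, (s (p w) : G) = w ∨ (s (p w) : G) = z * w := by
    intro w
    have h1 : ((s (p w) * w⁻¹ : W) : G) ∈ zpowers z := by
      rw [← ker, map_mul, map_inv, hs, mul_inv_cancel]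
    rcases (mem_zp_iff hz).1 h1 with h2 | h2
    · left
      exact mul_inv_eq_one.1 h2
    · right
      exact mul_inv_eq_iff_eq_mul.1 h2
  let f : N → N → ZMod 2 := fun n m => chi ((s n : G) * s m * (s n : G)⁻¹ * (s m : G)⁻¹)
  let q : N → ZMod 2 := fun n => chi ((s n : G) * s n)
  have hf : ∀ w w' : W, f (p w) (p w') = chi ((w : G) * w' * (w : G)⁻¹ * (w' : G)⁻¹) := by
    intro w w'
    change chi _ = _
    congr 1
    have e1 : ∀ x y : W, z * (x : G) * y * (z * (x : G))⁻¹ * (y : G)⁻¹ = x * y * (x : G)⁻¹ * (y : G)⁻¹ := by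
      intro x y
      calc z * (x : G) * y * (z * (x : G))⁻¹ * (y : G)⁻¹ = z * (x * y * (x : G)⁻¹) * (z⁻¹ * (y : G)⁻¹) := by group
        _ = (x * y * (x : G)⁻¹) * z * (z⁻¹ * (y : G)⁻¹) := by
            have := hzW (x * y * x⁻¹)
            rw [Subgroup.coe_mul, Subgroup.coe_mul, Subgroup.coe_inv] at this
            rw [this]
        _ = _ := by group
    have e2 : ∀ x y : W, (x : G) * (z * y) * (x : G)⁻¹ * (z * (y : G))⁻¹ = x * y * (x : G)⁻¹ * (y : G)⁻¹ := by
      intro x y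
      calc (x : G) * (z * y) * (x : G)⁻¹ * (z * (y : G))⁻¹ = (x * z) * (y * (x : G)⁻¹ * (y : G)⁻¹) * z⁻¹ := by group
        _ = z * (x * y * (x : G)⁻¹ * (y : G)⁻¹) * z⁻¹ := by rw [hzW]; group
        _ = (x * y * (x : G)⁻¹ * (y : G)⁻¹) * z * z⁻¹ := by
            have := hzW (x * y * x⁻¹ * y⁻¹)
            rw [Subgroup.coe_mul, Subgroup.coe_mul, Subgroup.coe_mul, Subgroup.coe_inv, Subgroup.coe_inv] at this
            rw [this]
        _ = _ := by group
    rcases hrep w with h1 | h1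
    · rcases hrep w' with h2 | h2
      · rw [h1, h2]
      · rw [h1, h2, e2]
    · rcases hrep w' with h2 | h2
      · rw [h1, h2, e1]
      · have e3 : z * (w : G) * (z * w') * (z * (w : G))⁻¹ * (z * (w' : G))⁻¹ =
            w * (z * w') * (w : G)⁻¹ * (z * (w' : G))⁻¹ := by
          have h3 := (surj (p w')).choose_spec
          have h4 := e1 w (s (p w'))
          rw [h2] at h4
          exact h4
        rw [h1, h2, e3, e2]
  have hq : ∀ w : W, q (p w) = chi ((w : G) * w) := by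
    intro w
    change chi _ = _
    congr 1
    rcases hrep w with h1 | h1
    · rw [h1]
    · rw [h1]
      calc z * (w : G) * (z * w) = z * (w * z) * w := by group
        _ = (z * z) * (w * w) := by rw [hzW]; group
        _ = w * w := by rw [hz, one_mul]
  refine ⟨f, q, ⟨sq, ?_, ?_, ?_, ?_, ?_⟩, hf, hq⟩
  · intro x y w
    obtain ⟨x, rfl⟩ := surj x
    obtain ⟨y, rfl⟩ := surj y
    obtain ⟨w, rfl⟩ := surj w
    rw [← map_mul, hf, hf, hf, ← chi_mul hz (hc2 x w) (hc2 y w)]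
    congr 1
    rw [Subgroup.coe_mul]
    have h1 := hcen x (hWC x.2) _ (hc2 y w)
    calc (x : G) * y * w * ((x : G) * y)⁻¹ * (w : G)⁻¹ =
          (x * (y * w * (y : G)⁻¹ * (w : G)⁻¹) * (x : G)⁻¹) * (x * w * (x : G)⁻¹ * (w : G)⁻¹) := by group
      _ = (y * w * (y : G)⁻¹ * (w : G)⁻¹) * (x * w * (x : G)⁻¹ * (w : G)⁻¹) := by rw [h1]
      _ = _ := by
          rcases hc2 y w with h2 | h2
          · rw [h2, one_mul, mul_one]
          · have h3 := hzW (x * w * x⁻¹ * w⁻¹)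
            rw [Subgroup.coe_mul, Subgroup.coe_mul, Subgroup.coe_mul, Subgroup.coe_inv, Subgroup.coe_inv] at h3
            rw [h2, h3]
  · intro x y
    obtain ⟨x, rfl⟩ := surj x
    obtain ⟨y, rfl⟩ := surj y
    rw [hf, hf]
    have h1 : (y : G) * x * (y : G)⁻¹ * (x : G)⁻¹ = (x * y * (x : G)⁻¹ * (y : G)⁻¹)⁻¹ := by group
    rw [h1]
    rcases hc2 x y with h2 | h2
    · rw [h2, inv_one]
    · rw [h2, inv_eq_of_mul_eq_one_left hz]
  · intro x y
    obtain ⟨x, rfl⟩ := surj x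
    obtain ⟨y, rfl⟩ := surj y
    rw [← map_mul, hq, hq, hq, hf, ← chi_mul hz (hs2 x) (hs2 y)]
    have hxy : (x : G) * x * (y * y) = 1 ∨ (x : G) * x * (y * y) = z := by
      rcases hs2 x with h1 | h1
      · rw [h1, one_mul]; exact hs2 y
      · rcases hs2 y with h2 | h2
        · rw [h1, h2, mul_one]; exact Or.inr rfl
        · rw [h1, h2, hz]; exact Or.inl rfl
    rw [← chi_mul hz hxy (hc2 x y)]
    congr 1
    rw [Subgroup.coe_mul]
    have h1 : ((x : G) * y) * (x * y) = (x * x) * ((x : G)⁻¹ * (x * y * (x : G)⁻¹ * (y : G)⁻¹)⁻¹ * x) * (y * y) := by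
      group
    have h2 : (x : G)⁻¹ * (x * y * (x : G)⁻¹ * (y : G)⁻¹)⁻¹ * x = x * y * (x : G)⁻¹ * (y : G)⁻¹ := by
      have h4 : (x * y * (x : G)⁻¹ * (y : G)⁻¹)⁻¹ = x * y * (x : G)⁻¹ * (y : G)⁻¹ := by
        rcases hc2 x y with h2 | h2
        · rw [h2, inv_one]
        · rw [h2, inv_eq_of_mul_eq_one_left hz]
      rw [h4]
      have h5 := hcen (x : G)⁻¹ (C.inv_mem (hWC x.2)) _ (hc2 x y)
      rwa [inv_inv] at h5
    rw [h1, h2]
    rcases hc2 x y with h3 | h3
    · rw [h3, mul_one, mul_one]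
    · have h4 := hzW (y * y)
      rw [Subgroup.coe_mul] at h4
      rw [h3, mul_assoc, ← h4, ← mul_assoc]
  · intro c x y
    obtain ⟨x, rfl⟩ := surj x
    obtain ⟨y, rfl⟩ := surj y
    rw [act c x ⟨c * x * c⁻¹, hCW c c.2 x x.2⟩ rfl, act c y ⟨c * y * c⁻¹, hCW c c.2 y y.2⟩ rfl, hf, hf]
    congr 1
    have h1 := hcen c c.2 _ (hc2 x y)
    calc (c : G) * x * (c : G)⁻¹ * ((c : G) * y * (c : G)⁻¹) * ((c : G) * x * (c : G)⁻¹)⁻¹ * ((c : G) * y * (c : G)⁻¹)⁻¹ =
          (c : G) * (x * y * (x : G)⁻¹ * (y : G)⁻¹) * (c : G)⁻¹ := by group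
      _ = _ := h1
  · intro c x
    obtain ⟨x, rfl⟩ := surj x
    rw [act c x ⟨c * x * c⁻¹, hCW c c.2 x x.2⟩ rfl, hq, hq]
    congr 1
    have h1 := hcen c c.2 _ (hs2 x)
    calc (c : G) * x * (c : G)⁻¹ * ((c : G) * x * (c : G)⁻¹) = (c : G) * (x * x) * (c : G)⁻¹ := by group
      _ = _ := h1

end Cfsg.Agent.OddCyclic.Eq
end

-- part: OddCyclic/EqNFit
section
/-!
# (E_q), 6.B: `t` centralises the Fitting subgroup
-/

set_option autoImplicit false
set_option linter.unusedSectionVars false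

namespace Cfsg.Agent.OddCyclic.EqN

open Subgroup Cfsg
open Cfsg.Agent.OddCyclic.T1Defs (OddCyc)
open Cfsg.Agent.OddCyclic.FFBasic Cfsg.Agent.OddCyclic.FFRed
open Cfsg.Agent.OddCyclic.BTwoLin (Form)
open Cfsg.Agent.SignalizersComponents.Components

variable {X V : Type*} [Group X] [CommGroup V]
variable {ρ : X →* MulAut V} {f : V → V → ZMod 2} {q : V → ZMod 2} {T : Sylow 2 X} {t : X} {l : V}

theorem cm_pow_mem (y : X) (k : ℕ) (v : V) : cm ρ (y ^ k) v ∈ (cm ρ y).range := by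
  induction k with
  | zero =>
    rw [pow_zero, cm_apply, map_one, MulAut.one_apply, mul_inv_cancel]
    exact one_mem _
  | succ k ih =>
    have h1 : cm ρ (y ^ (k + 1)) v = cm ρ y (ρ (y ^ k) v) * cm ρ (y ^ k) v := by
      rw [cm_apply, cm_apply, cm_apply, pow_succ', map_mul, MulAut.mul_apply]
      group
    rw [h1]
    exact mul_mem ⟨_, rfl⟩ ih

theorem three_cases [Finite X] {y z : X} (hy : orderOf y = 3) (hz : z ∈ zpowers y) (hz1 : z ≠ 1) :
    z = y ∨ z = y⁻¹ := by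
  classical
  rw [mem_zpowers_iff_mem_range_orderOf, hy] at hz
  simp only [Finset.mem_image, Finset.mem_range] at hz
  obtain ⟨k, hk, rfl⟩ := hz
  have h3 : y ^ 3 = 1 := by rw [← hy, pow_orderOf_eq_one]
  interval_cases k
  · exact absurd (pow_zero y) hz1
  · left; rw [pow_one]
  · right
    rw [eq_inv_iff_mul_eq_one, ← pow_succ]
    exact h3

theorem Sit.top_of_normal [Finite X] [Finite V] (h : Sit ρ f q T t l) (hρ : Function.Injective ρ) {y : X}
    (hy : orderOf y = 3) (hyn : (zpowers y).Normal) (hty : t * y * t⁻¹ = y⁻¹) : (cm ρ y).range = ⊤ := by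
  classical
  obtain ⟨-, hR⟩ := h.three hy hty hρ
  apply h.gen
  intro g
  obtain ⟨m, hm⟩ := hR h.lmem
  have h1 : g * y * g⁻¹ ∈ zpowers y := hyn.conj_mem y (mem_zpowers y) g
  have h2 : ρ g l = cm ρ (g * y * g⁻¹) (ρ g m) := by
    rw [← hm, cm_apply, cm_apply, map_mul, map_inv]
    congr 1
    rw [← MulAut.mul_apply, ← MulAut.mul_apply, ← map_mul, ← map_mul]
    congr 2; group
  rw [h2]
  rw [mem_zpowers_iff_mem_range_orderOf] at h1
  simp only [Finset.mem_image, Finset.mem_range] at h1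
  obtain ⟨k, -, hk⟩ := h1
  rw [← hk]
  exact cm_pow_mem y k _

theorem Sit.eq_one_of_comm [Finite X] [Finite V] (h : Sit ρ f q T t l) (hρ : Function.Injective ρ) {y : X}
    (hy : orderOf y = 3) (hyn : (zpowers y).Normal) (hty : t * y * t⁻¹ = y⁻¹) {g : X} (hgy : g * y = y * g)
    (hg : ∀ r ∈ (cm ρ t).range, ρ g r = r) : g = 1 := by
  have hV := h.form.sq
  have hodd : Odd (orderOf y) := by rw [hy]; decide
  have htop := h.top_of_normal hρ hy hyn hty
  obtain ⟨h16, -⟩ := h.three hy hty hρ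
  set R := (cm ρ t).range with hR
  have hRc : Nat.card R = 4 := by rw [hR, card_range_cm, h.idx]
  let k : R × R → V := fun p => (p.1 : V) * ρ y p.2
  have hk : Function.Injective k := by
    rintro ⟨a, b⟩ ⟨a', b'⟩ he
    have he' : (a : V) * ρ y b = a' * ρ y b' := he
    have h1 : ρ y ((b : V) * (b' : V)⁻¹) = (a : V)⁻¹ * a' := by
      rw [map_mul, map_inv, ← div_eq_mul_inv, div_eq_iff_eq_mul]
      calc ρ y b = (a : V)⁻¹ * (a * ρ y b) := by group
        _ = (a : V)⁻¹ * a' * ρ y b' := by rw [he', mul_assoc]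
    have h2 : ρ t ((b : V) * (b' : V)⁻¹) = (b : V) * (b' : V)⁻¹ := apply_cm hV h.sq (mul_mem b.2 (inv_mem b'.2))
    have h3 : ρ t ((a : V)⁻¹ * a') = (a : V)⁻¹ * a' := apply_cm hV h.sq (mul_mem (inv_mem a.2) a'.2)
    have h4 := fix_trick (i := 1) hodd hty h2 h3 (by rw [pow_one]; exact h1)
    rw [pow_one] at h4
    have h5 := eq_one_of_fix hV hodd (w := (b : V) * (b' : V)⁻¹) (by rw [htop]; exact mem_top _) h4
    have h6 : b = b' := Subtype.ext (mul_inv_eq_one.1 h5)
    have h7 : a = a' := by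
      rw [h6] at he'
      exact Subtype.ext (mul_right_cancel he')
    rw [h6, h7]
  have hVc : Nat.card V = 16 := by
    have h1 : Nat.card (cm ρ y).range = Nat.card V := by rw [htop, Subgroup.card_top]
    rw [← h1, card_range_cm, h16]
  have hbij := hk.bijective_of_nat_card_le (by rw [Nat.card_prod, hRc, hVc])
  apply hρ
  rw [map_one]
  ext v
  obtain ⟨⟨a, b⟩, hab⟩ := hbij.2 v
  have hab' : (a : V) * ρ y b = v := hab
  rw [← hab', map_mul, hg a a.2, ← MulAut.mul_apply, ← map_mul, hgy, map_mul, MulAut.mul_apply, hg b b.2]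
  rfl

/-- elements of prime order `≥ 5` commuting with `t` fix `[V,t]` pointwise -/
theorem Sit.fix_range [Finite X] [Finite V] (h : Sit ρ f q T t l) {r : ℕ} (hr : r.Prime) (hr5 : 5 ≤ r) {g : X}
    (hg : orderOf g = r) (hgt : g * t = t * g) : ∀ v ∈ (cm ρ t).range, ρ g v = v := by
  set R := (cm ρ t).range with hR
  have hRc : Nat.card R = 4 := by rw [hR, card_range_cm, h.idx]
  have hst : ∀ n ∈ zpowers g, ∀ w ∈ R, ρ n w ∈ R := by
    rintro _ ⟨k, rfl⟩ w hw
    exact apply_mem_range ρ (Commute.zpow_left (show Commute g t from hgt) k).eq hw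
  let σ := res ρ (zpowers g) R hst
  let g' : zpowers g := ⟨g, mem_zpowers g⟩
  have h1 : orderOf ((MulAut.toPerm R) (σ g')) ∣ r := by
    refine (orderOf_map_dvd _ _).trans ((orderOf_map_dvd σ g').trans ?_)
    rw [← Subgroup.orderOf_coe, ← hg]
  have h2 : orderOf ((MulAut.toPerm R) (σ g')) ∣ 24 := by
    have h3 : Nat.card (Equiv.Perm R) = 24 := by rw [Nat.card_perm, hRc]; rfl
    rw [← h3]
    exact _root_.orderOf_dvd_natCard _
  rcases (Nat.dvd_prime hr).1 h1 with h3 | h3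
  · intro v hv
    rw [orderOf_eq_one_iff] at h3
    have h4 := DFunLike.congr_fun h3 ⟨v, hv⟩
    exact congrArg Subtype.val h4
  · exfalso
    rw [h3] at h2
    have h4 : r ∣ 2 * 2 * 2 * 3 := h2
    have hle : ∀ p : ℕ, p.Prime → r ∣ p → r = p := fun p hp hd => (Nat.prime_dvd_prime_iff_eq hr hp).1 hd
    rcases (Nat.Prime.dvd_mul hr).1 h4 with h5 | h5
    · rcases (Nat.Prime.dvd_mul hr).1 h5 with h6 | h6
      · rcases (Nat.Prime.dvd_mul hr).1 h6 with h7 | h7
        · have := hle 2 Nat.prime_two h7; omega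
        · have := hle 2 Nat.prime_two h7; omega
      · have := hle 2 Nat.prime_two h6; omega
    · have := hle 3 Nat.prime_three h5; omega

/-- the action of the swap on `[V,t]` -/
theorem Sit.swap_sq [Finite X] [Finite V] (h : Sit ρ f q T t l) {s : X} (hs : s ∈ T) {g : X}
    (hg : ∀ v ∈ (cm ρ t).range, ρ g v = ρ s v) (hsr : ∃ r ∈ (cm ρ t).range, ρ s r ≠ r) :
    ∀ v ∈ (cm ρ t).range, ρ (g * g) v = v := by
  classical
  have hV := h.form.sq
  obtain ⟨r, hr, hne⟩ := hsr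
  set R := (cm ρ t).range with hR
  have hRc : Nat.card R = 4 := by rw [hR, card_range_cm, h.idx]
  have hst : ∀ v ∈ R, ρ s v ∈ R := fun v hv => apply_mem_range ρ (h.comm s hs) hv
  have hr1 : r ≠ 1 := by rintro rfl; exact hne (map_one _)
  have hrl : r ≠ l := by rintro rfl; exact hne (h.fixl s hs)
  have hlr1 : l * r ≠ 1 := by
    intro h1
    apply hrl
    have := eq_inv_of_mul_eq_one_right h1
    rw [this, h.form.inv_eq]
  -- `R = {1, l, r, l * r}`
  have hall : ∀ v ∈ R, v = 1 ∨ v = l ∨ v = r ∨ v = l * r := by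
    have h1 : (({1, l, r, l * r} : Finset V) : Set V) ⊆ (R : Set V) := by
      intro u hu
      simp only [Finset.coe_insert, Finset.coe_singleton, Set.mem_insert_iff, Set.mem_singleton_iff] at hu
      rcases hu with rfl | rfl | rfl | rfl
      · exact one_mem _
      · exact h.lmem
      · exact hr
      · exact mul_mem h.lmem hr
    have h2 : ({1, l, r, l * r} : Finset V).card = 4 := by
      rw [Finset.card_insert_of_notMem, Finset.card_insert_of_notMem, Finset.card_insert_of_notMem,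
        Finset.card_singleton]
      · rw [Finset.mem_singleton]
        intro h3
        exact h.lne (mul_eq_right.1 h3.symm)
      · simp only [Finset.mem_insert, Finset.mem_singleton, not_or]
        exact ⟨hrl.symm, fun h3 => hr1 (mul_eq_left.1 h3.symm)⟩
      · simp only [Finset.mem_insert, Finset.mem_singleton, not_or]
        exact ⟨h.lne.symm, hr1.symm, hlr1.symm⟩
    have h3 : (({1, l, r, l * r} : Finset V) : Set V) = (R : Set V) := by
      apply Set.eq_of_subset_of_ncard_le h1 _ (Set.toFinite _)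
      rw [Set.ncard_coe_finset, h2, ← Nat.card_coe_set_eq]
      exact hRc.le
    intro v hv
    have h4 : v ∈ (R : Set V) := hv
    rw [← h3] at h4
    simpa only [_root_.Finset.coe_insert, _root_.Finset.coe_singleton, _root_.Set.mem_insert_iff, _root_.Set.mem_singleton_iff] using h4
  have hsr' : ρ s r = l * r := by
    rcases hall _ (hst r hr) with h1 | h1 | h1 | h1
    · exact absurd ((map_eq_one_iff _ (ρ s).injective).1 h1) hr1
    · exact absurd ((ρ s).injective (h1.trans (h.fixl s hs).symm)) hrl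
    · exact absurd h1 hne
    · exact h1
  have h2 : ∀ v ∈ R, ρ (g * g) v = ρ s (ρ s v) := by
    intro v hv
    rw [map_mul, MulAut.mul_apply, hg v hv, hg _ (hst v hv)]
  intro v hv
  rw [h2 v hv]
  rcases hall v hv with rfl | rfl | rfl | rfl
  · rw [map_one, map_one]
  · rw [h.fixl s hs, h.fixl s hs]
  · rw [hsr', map_mul, h.fixl s hs, hsr', ← mul_assoc, hV, one_mul]
  · rw [map_mul, h.fixl s hs, hsr', ← mul_assoc l l r, hV, one_mul, hsr']

theorem Sit.false_of_fitting [Finite X] [Finite V] (hc : OddCyc X) (h2 : pCore 2 X = ⊥) (hρ : Function.Injective ρ)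
    (h : Sit ρ f q T t l) (hcomp : ∀ K : Subgroup X, IsComponent K → t ∈ centralizer (K : Set X)) {x : X}
    (hx : x ∈ fittingSubgroup X) (htx : t * x ≠ x * t) : False := by
  have hV := h.form.sq
  obtain ⟨r, y, hr, hr2, hyF, hy, hyn, hty, hty'⟩ := FFStruct.exists_inverted hc h2 h.sq hx htx
  obtain ⟨rfl, h16, -⟩ := h.real hρ hr hr2 hy hty
  have key : ∀ g : X, g * y = y * g → (∀ v ∈ (cm ρ t).range, ρ g v = v) → g = 1 := fun g h1 h3 =>
    h.eq_one_of_comm hρ hy hyn hty h1 h3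
  have hy1 : y ≠ 1 := by rintro rfl; rw [orderOf_one] at hy; norm_num at hy
  -- the element commuting with `y`
  obtain ⟨s, hs, hsr⟩ := h.swap
  obtain ⟨g, hgy, hgR⟩ : ∃ g : X, g * y = y * g ∧ ∀ v ∈ (cm ρ t).range, ρ g v = ρ s v := by
    have h3 : s * y * s⁻¹ ≠ 1 := by
      intro h4
      apply hy1
      rw [mul_inv_eq_one] at h4
      exact mul_eq_left.1 h4
    rcases three_cases hy (hyn.conj_mem y (mem_zpowers y) s) h3 with h4 | h4
    · exact ⟨s, mul_inv_eq_iff_eq_mul.1 h4, fun v _ => rfl⟩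
    · refine ⟨s * t, ?_, ?_⟩
      · have h5 : s * t * y * (s * t)⁻¹ = y := by
          calc s * t * y * (s * t)⁻¹ = s * (t * y * t⁻¹) * s⁻¹ := by group
            _ = (s * y * s⁻¹)⁻¹ := by rw [hty]; group
            _ = y := by rw [h4, inv_inv]
        exact mul_inv_eq_iff_eq_mul.1 h5
      · intro v hv
        rw [map_mul, MulAut.mul_apply, apply_cm hV h.sq hv]
  have hgg : g * g = 1 := by
    apply key
    · rw [mul_assoc, hgy, ← mul_assoc, hgy, mul_assoc]
    · exact h.swap_sq hs hgR hsr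
  have hg1 : g ≠ 1 := by
    rintro rfl
    obtain ⟨r, hr, hne⟩ := hsr
    apply hne
    rw [← hgR r hr, map_one]; rfl
  apply hg1
  have hcyc := FFStruct.isCyclic_fitting hc h2
  have hab : ∀ u ∈ fittingSubgroup X, ∀ v ∈ fittingSubgroup X, u * v = v * u := by
    intro u hu v hv
    have : IsMulCommutative (fittingSubgroup X) := IsCyclic.isMulCommutative
    exact congrArg Subtype.val (mul_comm' (⟨u, hu⟩ : fittingSubgroup X) ⟨v, hv⟩)
  apply FFStruct.eq_one_of_centralizes h2 hgg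
  · intro z hz
    by_contra hgz
    obtain ⟨r', y', hr', hr2', hyF', hy', hyn', hgy', hgy''⟩ := FFStruct.exists_inverted hc h2 hgg hz hgz
    by_cases h3 : r' = 3
    · subst h3
      have h7 : orderOf (⟨y', hyF'⟩ : fittingSubgroup X) = orderOf (⟨y, hyF⟩ : fittingSubgroup X) := by
        rw [Subgroup.orderOf_mk, Subgroup.orderOf_mk, hy, hy']
      have h8 := CompBasic.zpowers_eq_of_cyclic h7
      have h9 : (⟨y', hyF'⟩ : fittingSubgroup X) ∈ zpowers (⟨y, hyF⟩ : fittingSubgroup X) := by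
        rw [← h8]; exact mem_zpowers _
      obtain ⟨k, hk'⟩ := h9
      have h10 : y ^ k = y' := congrArg Subtype.val hk'
      apply hgy''
      rw [← h10]
      exact (Commute.zpow_right (show Commute g y from hgy) k).eq
    · have hr5 : 5 ≤ r' := by
        have h4 := hr'.two_le
        have h5 : r' ≠ 4 := by rintro rfl; revert hr'; norm_num
        omega
      rcases eq_or_inv hr' hy' h.sq (hyn'.conj_mem y' (mem_zpowers y') t) with h4 | h4
      · have h5 := key y' (hab y' hyF' y hyF) (h.fix_range hr' hr5 hy' h4.symm)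
        rw [h5, orderOf_one] at hy'
        omega
      · exact h3 (h.real hρ hr' hr2' hy' h4).1
  · intro K hK
    exfalso
    obtain ⟨p, hp, hp2, hpK⟩ := FFStruct.exists_odd_prime (quasisimple_not_isSolvable hK.2)
    have : Fact p.Prime := ⟨hp⟩
    obtain ⟨⟨z, hz⟩, hzo'⟩ := exists_prime_orderOf_dvd_card' (G := K) p hpK
    have hzo : orderOf z = p := by rw [← hzo']; exact (Subgroup.orderOf_mk z hz).symm
    have htz : z * t = t * z := (mem_centralizer_iff.1 (hcomp K hK)) z hz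
    have hyz : z * y = y * z := by
      have h10 := layer_le_centralizer_fitting (component_le_layer hK hz)
      exact ((mem_centralizer_iff.mp h10) y hyF).symm
    by_cases h3 : p = 3
    · subst h3
      have h4 := CompBasic.zpowers_eq_of_commute hc Nat.prime_three (by norm_num) hzo hy hyz
      have h5 : y ∈ zpowers z := by rw [h4]; exact mem_zpowers y
      exact hty' (Om5.comm_zpowers htz.symm h5)
    · have hr5 : 5 ≤ p := by
        have h4 := hp.two_le
        have h5 : p ≠ 4 := by rintro rfl; revert hp; norm_num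
        omega
      have h5 := key z hyz (h.fix_range hp hr5 hzo htz)
      rw [h5, orderOf_one] at hzo
      omega

end Cfsg.Agent.OddCyclic.EqN
end

-- part: OddCyclic/EqNComp
section
/-!
# (E_q), 6.B: `t` and a component of type `SL₂(q)`, `Sz(q)`, `J₁`
-/

set_option autoImplicit false
set_option linter.unusedSectionVars false

namespace Cfsg.Agent.OddCyclic.EqN

open Subgroup Matrix
open Cfsg.Agent.OddCyclic.T1Defs (OddCyc)
open Cfsg.Agent.OddCyclic.T1Sl2
open Cfsg.Agent.OddCyclic.FFBasic Cfsg.Agent.OddCyclic.T1Module Cfsg.Agent.OddCyclic.FFRed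
open Cfsg.Agent.Lib.AutSL2 Cfsg.Agent.Lib.AutSL2Out
open Cfsg.Agent.Classification.QDW.TypeHom
open Cfsg.Agent.Lib.SL2Mat (fieldAut)
open Cfsg.Agent.OddCyclic.Om5 (conjNormal_ne)

variable {X V : Type*} [Group X] [CommGroup V]
variable {ρ : X →* MulAut V} {f : V → V → ZMod 2} {q : V → ZMod 2} {T : Sylow 2 X} {t : X} {l : V}

/-- elements of odd order inverted by the inner involution induced by `t` -/
theorem Sit.index_real [Finite V] (h : Sit ρ f q T t l) {L : Subgroup X} {w₀ : X}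
    (hin : ∀ l ∈ L, t * l * t⁻¹ = w₀ * l * w₀⁻¹) {g y : X} (hg : g ∈ L) (hy : y ∈ L)
    (hodd : Odd (orderOf y)) (hinv : (g * w₀ * g⁻¹) * y * (g * w₀ * g⁻¹)⁻¹ = y⁻¹) : (fx ρ y).index ≤ 16 := by
  set y' := g⁻¹ * y * g with hy'
  have hy'L : y' ∈ L := mul_mem (mul_mem (inv_mem hg) hy) hg
  have h1 : t * y' * t⁻¹ = y'⁻¹ := by
    rw [hin y' hy'L]
    calc w₀ * y' * w₀⁻¹ = g⁻¹ * ((g * w₀ * g⁻¹) * y * (g * w₀ * g⁻¹)⁻¹) * g := by rw [hy']; group
      _ = g⁻¹ * y⁻¹ * g := by rw [hinv]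
      _ = y'⁻¹ := by rw [hy']; group
  have h2 : y = g * y' * g⁻¹ := by rw [hy']; group
  have h3 : orderOf y' = orderOf y := by
    rw [h2]
    exact (orderOf_injective (MulAut.conj g).toMonoidHom (MulAut.conj g).injective y').symm
  have h4 := half' ρ (a := t) (y := y') (by rw [h3]; exact hodd) h1
  rw [h2, index_fx_conj]
  exact h4.trans (by rw [h.idx]; norm_num)

/-- type `SL₂(q)` -/
theorem Sit.false_of_sl2 [Finite X] [Finite V] (hρ : Function.Injective ρ) (h : Sit ρ f q T t l) {L : Subgroup X}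
    [hL : L.Normal] {F : Type*} [Field F] [Fintype F] [CharP F 2] (h4 : 4 ≤ Fintype.card F)
    (e₀ : _root_.Matrix.SpecialLinearGroup (Fin 2) F ≃* L) (hna : t ∉ centralizer (L : Set X)) : False := by
  have hV := h.form.sq
  obtain ⟨e', he'⟩ := L2Abs.exists_frame e₀.symm (Om5.isSyl2_inf T hL)
  set e : _root_.Matrix.SpecialLinearGroup (Fin 2) F ≃* L := e'.symm with he
  have hfr : ∀ g : _root_.Matrix.SpecialLinearGroup (Fin 2) F, ((e g : L) : X) ∈ T ↔ g ∈ UI F := by
    intro g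
    have h1 := he' (e g)
    rw [he, e'.apply_symm_apply] at h1
    rw [he, ← h1]
    exact ⟨fun h => ⟨h, (e'.symm g).2⟩, fun h => h.1⟩
  -- `t` centralises `T ⊓ L`
  have hfix : ∀ g ∈ UI F, FFOuter.ac e t g = g := by
    intro g hg
    apply e.injective
    apply Subtype.ext
    rw [FFOuter.e_ac]
    rw [mul_inv_eq_iff_eq_mul]
    exact (h.comm _ ((hfr g).2 hg)).symm
  obtain ⟨c, b, hab⟩ := L2Borel.exists_form_UI (α := FFOuter.ac e t) (fun g hg => by rw [hfix g hg]; exact hg)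
  set σ := typ (FFOuter.ac e t) with hσ
  have h2 : (2 : F) = 0 := CharTwo.two_eq_zero
  have hup : ∀ c : F, (b : F) * b * σ c = c := by
    intro c
    have h1 := hfix (up c) (T1Sl2.up_mem c)
    rw [hab, L2Borel.form_tu] at h1
    exact L2Borel.tu_inj h1
  have hb : b = 1 := by
    have h1 := hup 1
    rw [map_one, mul_one] at h1
    apply Units.ext
    rw [Units.val_one]
    apply L2Model.eq_of_sq
    rw [h1, one_mul]
  have hσ1 : σ = 1 := by
    ext c
    have h1 := hup c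
    rw [hb, Units.val_one, one_mul, one_mul] at h1
    exact h1
  have hac : FFOuter.ac e t = MulAut.conj (up c) := by
    rw [hab, hb, hσ1, map_one, mul_one]
    congr 1
    have : dg (1 : Fˣ) = 1 := by rw [← dgHom_apply, map_one]
    rw [this, mul_one]
  by_cases hc : c = 0
  · apply hna
    rw [hc, up_zero, map_one, ← map_one (FFOuter.ac e), FFOuter.ac_eq_iff] at hac
    rw [mem_centralizer_iff]
    intro l hl
    have h1 := hac l hl
    rw [one_mul, inv_one, mul_one, mul_inv_eq_iff_eq_mul] at h1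
    exact h1.symm
  · have hinv : ∀ y : _root_.Matrix.SpecialLinearGroup (Fin 2) F, up c * y * (up c)⁻¹ = y⁻¹ →
        t * ((e y : L) : X) * t⁻¹ = ((e y : L) : X)⁻¹ := by
      intro y hy
      have h1 : ((e (FFOuter.ac e t y) : L) : X) = t * ((e y : L) : X) * t⁻¹ := FFOuter.e_ac e t y
      rw [← h1, hac, MulAut.conj_apply, hy, map_inv]
      rfl
    have hord : ∀ y : _root_.Matrix.SpecialLinearGroup (Fin 2) F, orderOf ((e y : L) : X) = orderOf y := fun y => by
      rw [Subgroup.orderOf_coe]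
      exact MulEquiv.orderOf_eq e y
    have hcc : up c * up c = 1 := by rw [up_mul, CharTwo.add_self_eq_zero, up_zero]
    have hc1 : up c ≠ 1 := by
      intro h1
      apply hc
      have h3 := congrArg (fun g : _root_.Matrix.SpecialLinearGroup (Fin 2) F => g 0 1) h1
      simpa using h3
    have hne : ∃ g v, (FFOuter.rr ρ e) g v ≠ v := by
      have h1 : ((e (up c) : L) : X) ≠ 1 := by
        intro h3
        apply hc1
        apply e.injective
        rw [map_one]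
        exact Subtype.ext h3
      obtain ⟨v, hv⟩ := ne_of_ne hρ h1
      exact ⟨up c, v, hv⟩
    obtain ⟨y, hyo, hyi, hy16⟩ := sl2_exists h4 hV (FFOuter.rr ρ e) hne hcc hc1
    have h16 : (fx ρ ((e y : L) : X)).index ≤ 16 :=
      (half' ρ (by rw [hord]; exact hyo) (hinv y hyi)).trans (by rw [h.idx]; norm_num)
    rw [FFOuter.fx_rr] at hy16
    have hF4 : Fintype.card F = 4 := by nlinarith
    have h5 : 5 ∣ Nat.card (_root_.Matrix.SpecialLinearGroup (Fin 2) F) := by
      apply dvd_card_of (F := F) (f := 2) (by rw [hF4]; norm_num) (by norm_num) Nat.prime_five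
    have : Fact (Nat.Prime 5) := ⟨Nat.prime_five⟩
    obtain ⟨y₀, hy₀⟩ := exists_prime_orderOf_dvd_card' (G := _root_.Matrix.SpecialLinearGroup (Fin 2) F) 5 h5
    obtain ⟨y, hy, hay⟩ := inverts_of_orderOf hcc hc1 (y₀ := y₀) (by rw [hy₀]; norm_num)
    rw [hy₀] at hy
    exact h.not_five (y := ((e y : L) : X)) (by rw [hord, hy]) (hinv y hay) hρ

/-- type `Sz(q)` -/
theorem Sit.false_of_sz [Finite X] [Finite V] (hρ : Function.Injective ρ)
    (h : Sit ρ f q T t l) {L : Subgroup X}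
    [hL : L.Normal] (hs : Cfsg.Lie.IsoSuzuki L) (hna : t ∉ centralizer (L : Set X)) : False := by
  have hV := h.form.sq
  obtain ⟨F, iF, iF', m, hm, hF, ⟨R⟩⟩ := Cfsg.Agent.ThreePrime.SzRel.exists_rel hs
  obtain ⟨j, hj⟩ := R.inner hm hF (MulAut.conjNormal t) ⟨1, by
    rw [pow_one, pow_two, ← map_mul, h.sq, map_one]⟩
  have hin : ∀ l ∈ L, t * l * t⁻¹ = (j : X) * l * (j : X)⁻¹ := by
    intro k hk
    have h1 := congrArg (fun α : MulAut L => ((α ⟨k, hk⟩ : L) : X)) hj
    simpa only [MulAut.conjNormal_apply, _root_.MulAut.conj_apply, _root_.Subgroup.coe_mul, _root_.InvMemClass.coe_inv] using h1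
  have hsl : IsSimpleGroup L := by
    obtain ⟨F, _, _, m, hm, hF, ⟨e⟩⟩ := hs
    have hs' := Cfsg.Agent.S1162.result hm hF
    exact e.isSimpleGroup
  have hj1 : j ≠ 1 := by
    rintro rfl
    apply hna
    rw [mem_centralizer_iff]
    intro l hl
    have h1 := hin l hl
    rw [Subgroup.coe_one, one_mul, inv_one, mul_one, mul_inv_eq_iff_eq_mul] at h1
    exact h1.symm
  -- a nontrivial real element
  have hne : ∃ g v, (ρ.comp L.subtype) g v ≠ v := by
    have hj1' : (j : X) ≠ 1 := fun h => hj1 (Subtype.ext h)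
    obtain ⟨v, hv⟩ := ne_of_ne hρ hj1'
    exact ⟨j, v, hv⟩
  obtain ⟨y, hy, hy1, hwy, hi⟩ := FFSz.exists_real hs hV (ρ.comp L.subtype) hne R hm hF
  have hjj : j * j = 1 := by
    -- `j * j` is central
    have h1 : ∀ l : L, j * j * l * (j * j)⁻¹ = l := by
      intro l
      have h2 := hin l l.2
      have h3 := hin ((j : X) * l * (j : X)⁻¹) (mul_mem (mul_mem j.2 l.2) (inv_mem j.2))
      rw [← h2] at h3
      have h4 : t * (t * (l : X) * t⁻¹) * t⁻¹ = l := by
        calc t * (t * (l : X) * t⁻¹) * t⁻¹ = (t * t) * l * (t * t)⁻¹ := by group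
          _ = l := by rw [h.sq]; group
      rw [h4, h2] at h3
      apply Subtype.ext
      change (j : X) * j * l * ((j : X) * j)⁻¹ = l
      calc (j : X) * j * l * ((j : X) * j)⁻¹ = (j : X) * ((j : X) * l * (j : X)⁻¹) * (j : X)⁻¹ := by group
        _ = l := h3.symm
    have h2 : j * j ∈ center L := by
      rw [mem_center_iff]
      intro l
      exact (mul_inv_eq_iff_eq_mul.1 (h1 l)).symm
    rcases hsl.eq_bot_or_eq_top_of_normal (center L) inferInstance with h3 | h3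
    · rw [h3, mem_bot] at h2
      exact h2
    · exfalso
      have h4 : j ∈ center L := by rw [h3]; exact mem_top j
      apply hna
      rw [mem_centralizer_iff]
      intro l hl
      have h5 := hin l hl
      have h6 := congrArg Subtype.val (mem_center_iff.1 h4 ⟨l, hl⟩)
      change l * (j : X) = (j : X) * l at h6
      rw [← h6, mul_inv_cancel_right, mul_inv_eq_iff_eq_mul] at h5
      exact h5.symm
  obtain ⟨g, hg⟩ := FFSz.conj_inv hs hjj hj1 R.w_mul_w (FFSz.w_ne_one R)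
  have h16 := h.index_real hin g.2 y.2 (by rw [Subgroup.orderOf_coe]; exact hy) (by
    have h1 : (g : X) * j * (g : X)⁻¹ = (R.w : X) := congrArg Subtype.val hg
    rw [h1]
    exact congrArg Subtype.val hwy)
  have h64 : 64 ≤ Fintype.card F ^ 2 := by
    rw [hF]
    calc 64 = (2 ^ 3) ^ 2 := by norm_num
      _ ≤ (2 ^ (2 * m + 1)) ^ 2 := Nat.pow_le_pow_left (Nat.pow_le_pow_right (by norm_num) (by omega)) 2
  have hi' : Fintype.card F ^ 2 ≤ (fx ρ (y : X)).index := hi
  omega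

/-- type `J₁` -/
theorem Sit.false_of_j1 [Finite X] [Finite V] (hρ : Function.Injective ρ)
    (h : Sit ρ f q T t l) {L : Subgroup X}
    [hL : L.Normal] (hJ : Cfsg.Agent.SporRec.J1.Defs.Local L) {k : L} (hk : orderOf k = 2)
    (hna : t ∉ centralizer (L : Set X)) : False := by
  have hV := h.form.sq
  have hsl : IsSimpleGroup L := (JFacts.isJ1_of_local hJ hk).1
  obtain ⟨j, hj⟩ := JInner.inner hJ k hk (MulAut.conjNormal t : MulAut L)
  have hin : ∀ l ∈ L, t * l * t⁻¹ = (j : X) * l * (j : X)⁻¹ := by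
    intro l hl
    have h1 := congrArg Subtype.val (hj ⟨l, hl⟩)
    rw [MulAut.conjNormal_apply] at h1
    exact h1
  have hj1 : j ≠ 1 := by
    rintro rfl
    apply hna
    rw [mem_centralizer_iff]
    intro l hl
    have h1 := hin l hl
    rw [Subgroup.coe_one, one_mul, inv_one, mul_one, mul_inv_eq_iff_eq_mul] at h1
    exact h1.symm
  have hjj : j * j = 1 := by
    have h1 : ∀ l : L, j * j * l * (j * j)⁻¹ = l := by
      intro l
      have h2 := hin l l.2
      have h3 := hin ((j : X) * l * (j : X)⁻¹) (mul_mem (mul_mem j.2 l.2) (inv_mem j.2))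
      rw [← h2] at h3
      have h4 : t * (t * (l : X) * t⁻¹) * t⁻¹ = l := by
        calc t * (t * (l : X) * t⁻¹) * t⁻¹ = (t * t) * l * (t * t)⁻¹ := by group
          _ = l := by rw [h.sq]; group
      rw [h4, h2] at h3
      apply Subtype.ext
      change (j : X) * j * l * ((j : X) * j)⁻¹ = l
      calc (j : X) * j * l * ((j : X) * j)⁻¹ = (j : X) * ((j : X) * l * (j : X)⁻¹) * (j : X)⁻¹ := by group
        _ = l := h3.symm
    have h2 : j * j ∈ center L := by
      rw [mem_center_iff]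
      intro l
      exact (mul_inv_eq_iff_eq_mul.1 (h1 l)).symm
    rcases hsl.eq_bot_or_eq_top_of_normal (center L) inferInstance with h3 | h3
    · rw [h3, mem_bot] at h2
      exact h2
    · exfalso
      have h4 : j ∈ center L := by rw [h3]; exact mem_top j
      apply hna
      rw [mem_centralizer_iff]
      intro l hl
      have h5 := hin l hl
      have h6 := congrArg Subtype.val (mem_center_iff.1 h4 ⟨l, hl⟩)
      change l * (j : X) = (j : X) * l at h6
      rw [← h6, mul_inv_cancel_right, mul_inv_eq_iff_eq_mul] at h5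
      exact h5.symm
  obtain ⟨w, y, hy, hw, hw1, hwy⟩ := FFJ1.exists_real hJ hk
  obtain ⟨g, hg⟩ := hJ.conj _ _ (JInner.two_of_sq hjj hj1) (JInner.two_of_sq hw hw1)
  have hyX : orderOf (y : X) = 11 := by rw [Subgroup.orderOf_coe, hy]
  have h16 := h.index_real hin g.2 y.2 (by rw [hyX]; decide) (by
    have h1 : (g : X) * j * (g : X)⁻¹ = (w : X) := congrArg Subtype.val hg
    rw [h1]
    exact congrArg Subtype.val hwy)
  have hy1 : (y : X) ≠ 1 := by
    intro h1
    rw [h1, orderOf_one] at hyX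
    omega
  obtain ⟨d, hd, h1, h2⟩ := prim (ρ := ρ) hV (by norm_num : Nat.Prime 11) (by norm_num) hyX (ne_of_ne hρ hy1)
  have h3 := FFJ1.ten_le d hd h2
  rw [h1] at h16
  have h4 : 2 ^ 10 ≤ 2 ^ d := Nat.pow_le_pow_right (by norm_num) (by omega)
  omega

end Cfsg.Agent.OddCyclic.EqN
end

-- part: OddCyclic/EqNSeven
section
/-!
# (E_q), 6.B: `L₃(2)` with involutions of rank two and no element of order three fixing a commutator
-/

set_option autoImplicit false
set_option linter.unusedSectionVars false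

namespace Cfsg.Agent.OddCyclic.EqN

open Subgroup Cfsg.Agent.GH.L2Aut
open Cfsg.Agent.OddCyclic.FFBasic Cfsg.Agent.OddCyclic.FFRed
open Cfsg.Agent.OddCyclic.FFSl2 (stb mem_stb)
open Cfsg.Agent.OddCyclic.FFThree (L32)

section grp

variable {L : Type*} [Group L]

/-- the dihedral group of order eight with centre `⟨x⟩` -/
theorem exists_bc (h : L32 L) {x : L} (hx : x * x = 1) (hx1 : x ≠ 1) :
    ∃ b c : L, Four x b ∧ Four x c ∧ c * b * c⁻¹ = x * b := by
  obtain ⟨a₀, b₀, h0⟩ := h.four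
  obtain ⟨g, hg⟩ := h.conj a₀ x h0.a1 h0.aa hx1 hx
  have hf : Four x (g * b₀ * g⁻¹) := by
    have h1 := h0.map (MulAut.conj g)
    rwa [MulAut.conj_apply, MulAut.conj_apply, hg] at h1
  set b := g * b₀ * g⁻¹ with hb
  obtain ⟨c, hc1, hc2⟩ := h.swap b (b * x) hf.symm.right
  have hbx : b * x = x * b := hf.comm.symm
  rw [hbx] at hc1 hc2
  have hxbb : x * b * b = x := by rw [mul_assoc, hf.bb, mul_one]
  have hcx : c * x * c⁻¹ = x := by
    calc c * x * c⁻¹ = c * (x * b * b) * c⁻¹ := by rw [hxbb]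
      _ = (c * (x * b) * c⁻¹) * (c * b * c⁻¹) := by group
      _ = b * (x * b) := by rw [hc2, hc1]
      _ = (b * x) * b := by group
      _ = x := by rw [hbx, hxbb]
  have hcx' : c * x = x * c := mul_inv_eq_iff_eq_mul.1 hcx
  have hccx : c * c * x = x * (c * c) := by rw [mul_assoc, hcx', ← mul_assoc, hcx', mul_assoc]
  have hccb : c * c * b = b * (c * c) := by
    rw [← mul_inv_eq_iff_eq_mul]
    calc c * c * b * (c * c)⁻¹ = c * (c * b * c⁻¹) * c⁻¹ := by group
      _ = b := by rw [hc1, hc2]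
  have hne : x * b ≠ b := fun h1 => hf.a1 (mul_eq_right.1 h1)
  have hcb : c * b ≠ b * c := by
    intro h1
    rw [← mul_inv_eq_iff_eq_mul, hc1] at h1
    exact hne h1
  have hfour : ∀ c' : L, c' * c' = 1 → c' * b * c'⁻¹ = x * b → c' * x = x * c' → Four x c' := by
    intro c' h1 h2 h3
    refine ⟨hx, h1, hx1, ?_, ?_, h3.symm⟩
    · rintro rfl
      rw [one_mul, inv_one, mul_one] at h2
      exact hne h2.symm
    · rintro rfl
      rw [← hbx, mul_inv_cancel_right] at h2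
      exact hne (hbx ▸ h2).symm
  rcases h.cent x b (c * c) hf hccx hccb with h1 | h1 | h1 | h1
  · exact ⟨b, c, hf, hfour c h1 hc1 hcx', hc1⟩
  · have h2 : c * b * (c * b) = 1 := by
      calc c * b * (c * b) = (c * b * c⁻¹) * (c * c) * b := by group
        _ = x * b * x * b := by rw [hc1, h1]
        _ = x * (b * x) * b := by group
        _ = (x * x) * (b * b) := by rw [hbx]; group
        _ = 1 := by rw [hx, hf.bb, mul_one]
    have h3 : c * b * b * (c * b)⁻¹ = x * b := by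
      rw [← hc1]; group
    refine ⟨b, c * b, hf, hfour _ h2 h3 ?_, h3⟩
    rw [mul_assoc, hbx, ← mul_assoc, hcx', mul_assoc]
  · exfalso
    apply hcb
    rw [← h1, mul_assoc]
  · exfalso
    apply hcb
    have h2 : c * (x * b) = (x * b) * c := by rw [← h1, mul_assoc]
    have h3 : x * (c * b) = x * (b * c) := by
      rw [← mul_assoc, ← hcx', mul_assoc, h2, mul_assoc]
    exact mul_left_cancel h3

variable [Finite L]

theorem not_index_le [IsSimpleGroup L] (h : L32 L) {K : Subgroup L} (hK : K ≠ ⊤) (hi : K.index ∣ 6) : False := by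
  have h1 : K.normalCore = ⊥ := by
    rcases IsSimpleGroup.eq_bot_or_eq_top_of_normal K.normalCore inferInstance with h1 | h1
    · exact h1
    · exfalso
      apply hK
      rw [eq_top_iff, ← h1]
      exact K.normalCore_le
  rw [Subgroup.normalCore_eq_ker, MonoidHom.ker_eq_bot_iff] at h1
  have h2 := Subgroup.card_dvd_of_injective (MulAction.toPermHom L (L ⧸ K)) h1
  rw [h.card, Nat.card_perm] at h2
  have h3 : (Nat.card (L ⧸ K)).factorial ∣ 720 := by
    have h4 : Nat.card (L ⧸ K) ≤ 6 := Nat.le_of_dvd (by norm_num) hi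
    exact (Nat.factorial_dvd_factorial h4).trans (by decide)
  have h4 := h2.trans h3
  norm_num at h4

/-- subgroups of order prime to three containing a dihedral group of order 8 -/
theorem card_eq_eight [IsSimpleGroup L] (h : L32 L) {K : Subgroup L} {x b c : L} (hb : Four x b) (hc : Four x c)
    (hcb : c * b * c⁻¹ = x * b) (bK : b ∈ K) (cK : c ∈ K) (h3 : ∀ y ∈ K, orderOf y ≠ 3) : Nat.card K = 8 := by
  have hbx : b * x = x * b := hb.comm.symm
  have hne : x * b ≠ b := fun h1 => hb.a1 (mul_eq_right.1 h1)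
  have hcb' : c * b ≠ b * c := by
    intro h1
    rw [← mul_inv_eq_iff_eq_mul, hcb] at h1
    exact hne h1
  have h2 : (b * c) ^ 2 = x := by
    rw [pow_two]
    calc b * c * (b * c) = b * (c * b * c⁻¹) * (c * c) := by group
      _ = (b * x) * b := by rw [hcb, hc.bb]; group
      _ = x := by rw [hbx, mul_assoc, hb.bb, mul_one]
  have h4 : orderOf (b * c) = 4 := by
    have : Fact (Nat.Prime 2) := ⟨Nat.prime_two⟩
    refine orderOf_eq_prime_pow (p := 2) (n := 1) ?_ ?_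
    · rw [pow_one, h2]; exact hb.a1
    · rw [show 2 ^ (1 + 1) = 2 * 2 by norm_num, pow_mul, h2, pow_two, hb.aa]
  have hbcK : b * c ∈ K := mul_mem bK cK
  have h4K : 4 ∣ Nat.card K := by
    have h5 : orderOf (⟨b * c, hbcK⟩ : K) = 4 := by rw [Subgroup.orderOf_mk, h4]
    rw [← h5]
    exact _root_.orderOf_dvd_natCard _
  have h3K : ¬ 3 ∣ Nat.card K := by
    intro h5
    have : Fact (Nat.Prime 3) := ⟨Nat.prime_three⟩
    obtain ⟨⟨y, hy⟩, hyo⟩ := exists_prime_orderOf_dvd_card' (G := K) 3 h5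
    exact h3 y hy (by rw [← hyo]; exact (Subgroup.orderOf_mk y hy).symm)
  have h168 : Nat.card K * K.index = 168 := by rw [← h.card]; exact K.card_mul_index
  obtain ⟨k, hk⟩ := h4K
  have h42 : k * K.index = 42 := by
    rw [hk, mul_assoc] at h168
    omega
  have hk3 : ¬ 3 ∣ k := fun h5 => h3K (hk ▸ Dvd.dvd.mul_left h5 4)
  have hkd : k ∣ 42 := ⟨_, h42.symm⟩
  have hk42 : k ≤ 42 := Nat.le_of_dvd (by norm_num) hkd
  have hk4 : k = 1 ∨ k = 2 ∨ k = 7 ∨ k = 14 := by
    have h5 : k ∈ Nat.divisors 42 := Nat.mem_divisors.2 ⟨hkd, by norm_num⟩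
    have h6 : Nat.divisors 42 = {1, 2, 3, 6, 7, 14, 21, 42} := by decide
    rw [h6] at h5
    simp only [Finset.mem_insert, Finset.mem_singleton] at h5
    rcases h5 with rfl | rfl | rfl | rfl | rfl | rfl | rfl | rfl
    · exact Or.inl rfl
    · exact Or.inr (Or.inl rfl)
    · exact absurd (by norm_num) hk3
    · exact absurd (by norm_num) hk3
    · exact Or.inr (Or.inr (Or.inl rfl))
    · exact Or.inr (Or.inr (Or.inr rfl))
    · exact absurd (by norm_num) hk3
    · exact absurd (by norm_num) hk3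
  rcases hk4 with rfl | rfl | rfl | rfl
  · exfalso
    apply hcb'
    have h5 : zpowers (b * c) = K := by
      apply Subgroup.eq_of_le_of_card_ge
      · rwa [zpowers_le]
      · rw [hk, Nat.card_zpowers, h4]
    rw [← h5] at bK cK
    obtain ⟨i, hi⟩ := bK
    obtain ⟨j, hj⟩ := cK
    have hi' : (b * c) ^ i = b := hi
    have hj' : (b * c) ^ j = c := hj
    calc c * b = (b * c) ^ j * (b * c) ^ i := by rw [hi', hj']
      _ = (b * c) ^ i * (b * c) ^ j := by rw [← zpow_add, ← zpow_add, add_comm]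
      _ = b * c := by rw [hi', hj']
  · rw [hk]
  · exfalso
    have h5 : K.index = 6 := by omega
    exact not_index_le h (K := K) (by rintro rfl; rw [Subgroup.index_top] at h5; norm_num at h5) (by rw [h5])
  · exfalso
    have h5 : K.index = 3 := by omega
    exact not_index_le h (K := K) (by rintro rfl; rw [Subgroup.index_top] at h5; norm_num at h5)
      (by rw [h5]; norm_num)

/-- the centre of the dihedral group -/
theorem eq_of_comm (h : L32 L) {x b c y : L} (hb : Four x b) (hcb : c * b * c⁻¹ = x * b) (hc : Four x c)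
    (hy1 : y ≠ 1) (hyx : y * x = x * y) (hyb : y * b = b * y) (hyc : y * c = c * y) : y = x := by
  have hne : x * b ≠ b := fun h1 => hb.a1 (mul_eq_right.1 h1)
  rcases h.cent x b y hb hyx hyb with h1 | h1 | h1 | h1
  · exact absurd h1 hy1
  · exact h1
  · exfalso
    rw [h1] at hyc
    have h2 : c * b * c⁻¹ = b := by rw [← hyc, mul_inv_cancel_right]
    rw [hcb] at h2
    exact hne h2
  · exfalso
    rw [h1] at hyc
    have h2 : c * (x * b) * c⁻¹ = x * b := by rw [← hyc, mul_inv_cancel_right]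
    have h3 : c * (x * b) * c⁻¹ = b := by
      have h4 : c * x = x * c := hc.comm.symm
      calc c * (x * b) * c⁻¹ = (c * x) * b * c⁻¹ := by group
        _ = x * (c * b * c⁻¹) := by rw [h4]; group
        _ = b := by rw [hcb, ← mul_assoc, hb.aa, one_mul]
    rw [h3] at h2
    exact hne h2.symm

end grp

section act

variable {L V : Type*} [Group L] [CommGroup V] {ρ : L →* MulAut V}

theorem apply_range (g x : L) {r : V} (hr : r ∈ (cm ρ x).range) : ρ g r ∈ (cm ρ (g * x * g⁻¹)).range := by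
  obtain ⟨v, rfl⟩ := hr
  refine ⟨ρ g v, ?_⟩
  rw [cm_apply, cm_apply, map_mul (ρ g), map_inv (ρ g), ← MulAut.mul_apply, ← MulAut.mul_apply, ← map_mul ρ,
    ← map_mul ρ, inv_mul_cancel_right]

theorem apply_range_inv (g x : L) {r : V} (hr : r ∈ (cm ρ (g * x * g⁻¹)).range) : ρ g⁻¹ r ∈ (cm ρ x).range := by
  have h1 := apply_range g⁻¹ (g * x * g⁻¹) hr
  have h2 : g⁻¹ * (g * x * g⁻¹) * g⁻¹⁻¹ = x := by group
  rwa [h2] at h1

/-- the module data -/
structure Sev (ρ : L →* MulAut V) (t : L) : Prop where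
  l32 : L32 L
  sq : ∀ v : V, v * v = 1
  tt : t * t = 1
  t1 : t ≠ 1
  idx : (fx ρ t).index = 4
  baer : ∀ y, orderOf y = 3 → ∀ r ∈ (cm ρ t).range, ρ y r = r → r = 1
  nc : ∀ x y : L, x * x = 1 → x ≠ 1 → orderOf y = 3 → y * x ≠ x * y

variable {t : L} (h : Sev ρ t)

include h

theorem Sev.exists_conj {x : L} (hx : x * x = 1) (hx1 : x ≠ 1) : ∃ g, g * t * g⁻¹ = x :=
  h.l32.conj t x h.t1 h.tt hx1 hx

theorem Sev.index {x : L} (hx : x * x = 1) (hx1 : x ≠ 1) : (fx ρ x).index = 4 := by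
  obtain ⟨g, rfl⟩ := h.exists_conj hx hx1
  rw [index_fx_conj, h.idx]

theorem Sev.baer' {x : L} (hx : x * x = 1) (hx1 : x ≠ 1) {y : L} (hy : orderOf y = 3) {r : V}
    (hr : r ∈ (cm ρ x).range) (hyr : ρ y r = r) : r = 1 := by
  obtain ⟨g, rfl⟩ := h.exists_conj hx hx1
  have h1 := apply_range_inv g t hr
  have h2 : orderOf (g⁻¹ * y * g⁻¹⁻¹) = 3 := by
    rw [← hy]
    exact (MulAut.conj g⁻¹).orderOf_eq y
  have h3 := h.baer _ h2 _ h1 (by
    rw [← MulAut.mul_apply, ← map_mul, inv_mul_cancel_right, map_mul, MulAut.mul_apply, hyr])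
  exact (map_eq_one_iff _ (ρ g⁻¹).injective).1 h3

theorem Sev.fix_self {x : L} (hx : x * x = 1) {r : V} (hr : r ∈ (cm ρ x).range) : ρ x r = r :=
  apply_cm h.sq hx hr

/-- elements of a four-group centralise the commutators of the others -/
theorem Sev.fix_four [Finite V] {a b : L} (hf : Four a b) {r : V} (hr : r ∈ (cm ρ a).range) : ρ b r = r := by
  classical
  obtain ⟨v, rfl⟩ := hr
  have hinv : ∀ v : V, v⁻¹ = v := fun v => inv_eq_of_mul_eq_one_right (h.sq v)
  have key : ∀ u v : V, ρ (a * b) v * ρ b v * (ρ a v * v) = ρ (a * b) v * ρ b v * (ρ a v * v) := fun _ _ => rfl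
  set x := cm ρ b (cm ρ a v) with hx
  have hx0 : x = ρ (a * b) v * ρ b v * (ρ a v * v) := by
    rw [hx, cm_apply, cm_apply, map_mul, map_inv, hinv, hinv, hinv, ← MulAut.mul_apply, ← map_mul, ← hf.comm]
  have hxa : x ∈ (cm ρ a).range := by
    refine ⟨cm ρ b v, ?_⟩
    rw [hx0, cm_apply, cm_apply, map_mul, map_inv, hinv, hinv, hinv, ← MulAut.mul_apply, ← map_mul]
    rw [mul_assoc, mul_assoc]
    congr 1
    rw [← mul_assoc, ← mul_assoc, mul_comm (ρ a v)]
  have hxb : x ∈ (cm ρ b).range := ⟨_, rfl⟩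
  have hxab : x ∈ (cm ρ (a * b)).range := by
    refine ⟨cm ρ a v, ?_⟩
    rw [hx0, cm_apply, cm_apply, map_mul, map_inv, hinv, hinv, hinv, ← MulAut.mul_apply, ← map_mul]
    have h1 : a * b * a = b := by rw [hf.comm, mul_assoc, hf.aa, mul_one]
    rw [h1, mul_comm (ρ b v)]
  suffices hx1 : x = 1 by
    have h1 : ρ b (cm ρ a v) * (cm ρ a v)⁻¹ = 1 := hx1
    exact mul_inv_eq_one.1 h1
  by_contra hx1
  obtain ⟨d, hd3, hda, hdb⟩ := h.l32.fuse a b hf
  have hd1 : d ≠ 1 := by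
    rintro rfl
    rw [one_mul, inv_one, mul_one] at hda
    exact hf.ne hda
  have hdo : orderOf d = 3 := by
    have : Fact (Nat.Prime 3) := ⟨Nat.prime_three⟩
    exact orderOf_eq_prime (by rw [pow_succ, pow_two]; exact hd3) hd1
  have hdx : ρ d x ≠ x := fun h1 => hx1 (h.baer' hf.aa hf.a1 hdo hxa h1)
  have hdx1 : ρ d x ≠ 1 := fun h1 => hx1 ((map_eq_one_iff _ (ρ d).injective).1 h1)
  have hdxb : ρ d x ∈ (cm ρ b).range := by
    have h1 := apply_range d a hxa
    rwa [hda] at h1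
  have hdxa : ρ d x ∈ (cm ρ a).range := by
    have h1 := apply_range d (a * b) hxab
    have h2 : d * (a * b) * d⁻¹ = a := by
      calc d * (a * b) * d⁻¹ = (d * a * d⁻¹) * (d * b * d⁻¹) := by group
        _ = b * (a * b) := by rw [hda, hdb]
        _ = a * (b * b) := by rw [← mul_assoc, ← hf.comm, mul_assoc]
        _ = a := by rw [hf.bb, mul_one]
    rwa [h2] at h1
  set I : Subgroup V := (cm ρ a).range ⊓ (cm ρ b).range with hI
  have hRc : Nat.card (cm ρ a).range = 4 := by rw [card_range_cm, h.index hf.aa hf.a1]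
  have h3 : (({1, x, ρ d x} : Finset V) : Set V) ⊆ (I : Set V) := by
    intro u hu
    simp only [Finset.coe_insert, Finset.coe_singleton, Set.mem_insert_iff, Set.mem_singleton_iff] at hu
    rcases hu with rfl | rfl | rfl
    · exact one_mem _
    · exact ⟨hxa, hxb⟩
    · exact ⟨hdxa, hdxb⟩
  have h4 := Set.ncard_le_ncard h3 (Set.toFinite _)
  rw [Set.ncard_coe_finset, ← Nat.card_coe_set_eq] at h4
  have h5 : ({1, x, ρ d x} : Finset V).card = 3 := by
    rw [Finset.card_insert_of_notMem, Finset.card_insert_of_notMem, Finset.card_singleton]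
    · simpa using hdx.symm
    · simp only [Finset.mem_insert, Finset.mem_singleton, not_or]
      exact ⟨Ne.symm hx1, hdx1.symm⟩
  rw [h5] at h4
  have h6 : Nat.card I ∣ 4 := by
    rw [← hRc]; exact Subgroup.card_dvd_of_le inf_le_left
  have h4' : 3 ≤ Nat.card I := h4
  have h7 : Nat.card I = 4 := by
    have h8 := Nat.le_of_dvd (by norm_num) h6
    have h9 : Nat.card I = 3 ∨ Nat.card I = 4 := by omega
    rcases h9 with h10 | h10
    · rw [h10] at h6; norm_num at h6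
    · exact h10
  have h8 : I = (cm ρ a).range := Subgroup.eq_of_le_of_card_ge inf_le_left (by rw [h7, hRc])
  have h9 : (cm ρ a).range ≤ (cm ρ b).range := by rw [← h8]; exact inf_le_right
  apply hx1
  rw [hx, cm_apply, mul_inv_eq_one]
  exact h.fix_self hf.bb (h9 ⟨v, rfl⟩)

variable [Finite L] [Finite V] [IsSimpleGroup L]

omit [Finite V] in
theorem Sev.card_cent {x : L} (hx : x * x = 1) (hx1 : x ≠ 1) : Nat.card (centralizer {x} : Subgroup L) = 8 := by
  obtain ⟨b, c, hb, hc, hcb⟩ := exists_bc h.l32 hx hx1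
  refine card_eq_eight h.l32 hb hc hcb (mem_centralizer_singleton_iff.2 hb.comm.symm)
    (mem_centralizer_singleton_iff.2 hc.comm.symm) ?_
  intro y hy hyo
  exact h.nc x y hx hx1 hyo (mem_centralizer_singleton_iff.1 hy)

theorem Sev.stb_eq {x : L} (hx : x * x = 1) (hx1 : x ≠ 1) {r : V} (hr : r ∈ (cm ρ x).range) (hr1 : r ≠ 1) :
    stb ρ r = centralizer {x} := by
  obtain ⟨b, c, hb, hc, hcb⟩ := exists_bc h.l32 hx hx1
  have hbr : b ∈ stb ρ r := h.fix_four hb hr
  have hcr : c ∈ stb ρ r := h.fix_four hc hr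
  have hbc : b ∈ centralizer {x} := mem_centralizer_singleton_iff.2 hb.comm.symm
  have hcc : c ∈ centralizer {x} := mem_centralizer_singleton_iff.2 hc.comm.symm
  have h3 : ∀ y ∈ stb ρ r, orderOf y ≠ 3 := fun y hy hyo => hr1 (h.baer' hx hx1 hyo hr hy)
  have h8 : Nat.card (stb ρ r) = 8 := card_eq_eight h.l32 hb hc hcb hbr hcr h3
  have h8' : Nat.card (stb ρ r ⊓ centralizer {x} : Subgroup L) = 8 :=
    card_eq_eight h.l32 hb hc hcb ⟨hbr, hbc⟩ ⟨hcr, hcc⟩ (fun y hy => h3 y hy.1)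
  have h1 : stb ρ r ⊓ centralizer {x} = stb ρ r := Subgroup.eq_of_le_of_card_ge inf_le_left (by rw [h8, h8'])
  have h2 : stb ρ r ⊓ centralizer {x} = centralizer {x} :=
    Subgroup.eq_of_le_of_card_ge inf_le_right (by rw [h.card_cent hx hx1, h8'])
  rw [← h1, h2]

/-- commutator groups of different involutions are disjoint -/
theorem Sev.uniq {x y : L} (hx : x * x = 1) (hx1 : x ≠ 1) (hy : y * y = 1) (hy1 : y ≠ 1) {r : V}
    (hrx : r ∈ (cm ρ x).range) (hry : r ∈ (cm ρ y).range) (hr1 : r ≠ 1) : y = x := by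
  have h1 := h.stb_eq hx hx1 hrx hr1
  have h2 := h.stb_eq hy hy1 hry hr1
  have h3 : (centralizer {x} : Subgroup L) = centralizer {y} := by rw [← h1, h2]
  obtain ⟨b, c, hb, hc, hcb⟩ := exists_bc h.l32 hx hx1
  have hxc : x ∈ centralizer {y} := by rw [← h3]; exact mem_centralizer_singleton_iff.2 rfl
  have hbc : b ∈ centralizer {y} := by rw [← h3]; exact mem_centralizer_singleton_iff.2 hb.comm.symm
  have hcc : c ∈ centralizer {y} := by rw [← h3]; exact mem_centralizer_singleton_iff.2 hc.comm.symm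
  exact eq_of_comm h.l32 hb hcb hc hy1 (mem_centralizer_singleton_iff.1 hxc).symm
    (mem_centralizer_singleton_iff.1 hbc).symm (mem_centralizer_singleton_iff.1 hcc).symm

theorem Sev.false {y : L} (hy : orderOf y = 3) (hyi : (fx ρ y).index ≤ 16) : False := by
  classical
  obtain ⟨w, b, c, hw, hw1, hb, hb1, hc, hc1, -, hgen⟩ := h.l32.gen
  set W : Subgroup V := (cm ρ w).range ⊔ ((cm ρ b).range ⊔ (cm ρ c).range) with hW
  have hWc : Nat.card W ≤ 64 := by
    calc Nat.card W ≤ Nat.card (cm ρ w).range * Nat.card ((cm ρ b).range ⊔ (cm ρ c).range : Subgroup V) :=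
          FFThree.card_sup_le _ _
      _ ≤ 4 * (4 * 4) := by
          refine Nat.mul_le_mul (by rw [card_range_cm, h.index hw hw1]) ((FFThree.card_sup_le _ _).trans ?_)
          rw [card_range_cm, card_range_cm, h.index hb hb1, h.index hc hc1]
      _ = 64 := by norm_num
  -- `[V, L] ≤ W`
  have hall : ∀ g : L, ∀ v, cm ρ g v ∈ W := by
    let K : Subgroup L :=
      { carrier := {g | ∀ v, cm ρ g v ∈ W}
        one_mem' := fun v => by
          rw [cm_apply, map_one, MulAut.one_apply, mul_inv_cancel]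
          exact one_mem _
        mul_mem' := fun {g k} hg hk v => by
          have h1 : cm ρ (g * k) v = cm ρ g (ρ k v) * cm ρ k v := by
            rw [cm_apply, cm_apply, cm_apply, map_mul, MulAut.mul_apply]
            group
          rw [h1]
          exact mul_mem (hg _) (hk v)
        inv_mem' := fun {g} hg v => by
          have h1 : cm ρ g⁻¹ v = (cm ρ g (ρ g⁻¹ v))⁻¹ := by
            rw [cm_apply, cm_apply, ← MulAut.mul_apply, ← map_mul, mul_inv_cancel, map_one, MulAut.one_apply,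
              mul_inv, inv_inv, mul_comm]
          rw [h1]
          exact inv_mem (hg _) }
    have hwK : w ∈ K := fun v => mem_sup_left ⟨v, rfl⟩
    have hbK : b ∈ K := fun v => mem_sup_right (mem_sup_left ⟨v, rfl⟩)
    have hcK : c ∈ K := fun v => mem_sup_right (mem_sup_right ⟨v, rfl⟩)
    have hK : K = ⊤ := by
      rw [eq_top_iff, ← hgen, closure_le]
      rintro g (rfl | hg)
      · exact hwK
      · rw [Set.mem_singleton_iff.1 hg]
        exact mul_mem (mul_mem hbK hcK) hwK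
    intro g
    have h1 : g ∈ K := by rw [hK]; exact mem_top g
    exact h1
  have hRW : ∀ x : L, (cm ρ x).range ≤ W := by
    rintro x _ ⟨v, rfl⟩
    exact hall x v
  -- the map
  set C : Subgroup L := centralizer {t} with hC
  have hCi : C.index = 21 := by
    have h1 := C.card_mul_index
    rw [h.card_cent h.tt h.t1, h.l32.card] at h1
    omega
  set R := (cm ρ t).range with hR
  have hRc : Nat.card R = 4 := by rw [hR, card_range_cm, h.idx]
  have hmem : ∀ (g : L) (r : V), r ∈ R → ρ g r ∈ (cm ρ (g * t * g⁻¹)).range := fun g r hr => apply_range g t hr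
  let F : (L ⧸ C) × {r : R // r ≠ 1} → {v : W // v ≠ 1} := fun p =>
    ⟨⟨ρ p.1.out (p.2.1 : V), hRW _ (hmem _ _ p.2.1.2)⟩, by
      intro h0
      have h1 : ρ p.1.out (p.2.1 : V) = 1 := congrArg Subtype.val h0
      exact p.2.2 (Subtype.ext ((map_eq_one_iff _ (ρ p.1.out).injective).1 h1))⟩
  have hF : Function.Injective F := by
    rintro ⟨g, r⟩ ⟨g', r'⟩ he
    have he' : ρ g.out (r.1 : V) = ρ g'.out (r'.1 : V) := congrArg (fun v : {v : W // v ≠ 1} => ((v.1 : W) : V)) he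
    have hin : ∀ g : L, (g * t * g⁻¹) * (g * t * g⁻¹) = 1 ∧ g * t * g⁻¹ ≠ 1 := by
      intro g
      refine ⟨by rw [show g * t * g⁻¹ * (g * t * g⁻¹) = g * (t * t) * g⁻¹ by group, h.tt]; group, fun h1 => h.t1 ?_⟩
      rw [mul_inv_eq_one] at h1
      exact mul_eq_left.1 h1
    have hne : ρ g.out (r.1 : V) ≠ 1 := fun h1 =>
      r.2 (Subtype.ext ((map_eq_one_iff _ (ρ g.out).injective).1 h1))
    have h1 := h.uniq (hin g.out).1 (hin g.out).2 (hin g'.out).1 (hin g'.out).2 (hmem _ _ r.1.2)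
      (by rw [he']; exact hmem _ _ r'.1.2) hne
    have h2 : g.out⁻¹ * g'.out ∈ C := by
      refine mem_centralizer_singleton_iff.2 ?_
      calc g.out⁻¹ * g'.out * t = g.out⁻¹ * (g'.out * t * g'.out⁻¹) * g'.out := by group
        _ = g.out⁻¹ * (g.out * t * g.out⁻¹) * g'.out := by rw [h1]
        _ = t * (g.out⁻¹ * g'.out) := by group
    have h3 : g = g' := by
      rw [← QuotientGroup.eq, QuotientGroup.out_eq', QuotientGroup.out_eq'] at h2
      exact h2
    subst h3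
    have h4 : (r.1 : V) = r'.1 := (ρ g.out).injective he'
    exact Prod.ext rfl (Subtype.ext (Subtype.ext h4))
  have hcard1 : Nat.card ((L ⧸ C) × {r : R // r ≠ 1}) = 63 := by
    have : Fintype R := Fintype.ofFinite _
    have h1 : Nat.card {r : R // r ≠ 1} = 3 := by
      rw [Nat.card_eq_fintype_card, Fintype.card_subtype_compl, Fintype.card_subtype_eq, ← Nat.card_eq_fintype_card,
        hRc]
    have h2 : Nat.card (L ⧸ C) = 21 := hCi
    rw [Nat.card_prod, h1, h2]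
  have hcard2 : Nat.card {v : W // v ≠ 1} = Nat.card W - 1 := by
    have : Fintype W := Fintype.ofFinite _
    rw [Nat.card_eq_fintype_card, Fintype.card_subtype_compl, Fintype.card_subtype_eq, ← Nat.card_eq_fintype_card]
  have h63 := Nat.card_le_card_of_injective F hF
  rw [hcard1, hcard2] at h63
  have hW64 : Nat.card W = 64 := by omega
  have hbij := hF.bijective_of_nat_card_le (by rw [hcard1, hcard2, hW64])
  -- `y` has no fixed points on `W`
  have hfix : ∀ v ∈ W, ρ y v = v → v = 1 := by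
    intro v hv hyv
    by_contra hv1
    obtain ⟨⟨g, r⟩, hgr⟩ := hbij.2 ⟨⟨v, hv⟩, fun h0 => hv1 (congrArg Subtype.val h0)⟩
    have h1 : ρ g.out (r.1 : V) = v := congrArg (fun v : {v : W // v ≠ 1} => ((v.1 : W) : V)) hgr
    have h2 : v ∈ (cm ρ (g.out * t * g.out⁻¹)).range := by rw [← h1]; exact hmem _ _ r.1.2
    refine hv1 (h.baer' ?_ ?_ hy h2 hyv)
    · rw [show g.out * t * g.out⁻¹ * (g.out * t * g.out⁻¹) = g.out * (t * t) * g.out⁻¹ by group, h.tt]; group
    · intro h3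
      rw [mul_inv_eq_one] at h3
      exact h.t1 (mul_eq_left.1 h3)
  have h1 : fx ρ y ⊓ W = ⊥ := by
    rw [eq_bot_iff]
    intro v hv
    exact mem_bot.2 (hfix v hv.2 hv.1)
  have h2 : (fx ρ y).relIndex W = 64 := by
    rw [← Subgroup.inf_relIndex_right, h1, Subgroup.relIndex_bot_left, hW64]
  have h3 : (fx ρ y).relIndex W ∣ (fx ρ y).index := Subgroup.relIndex_dvd_index_of_normal _ _
  have h4 := Nat.le_of_dvd (Nat.pos_of_ne_zero Subgroup.index_ne_zero_of_finite) h3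
  omega

end act

end Cfsg.Agent.OddCyclic.EqN
end

-- part: OddCyclic/EqNPsl
section
/-!
# (E_q), 6.B: `t` and a component of type `PSL₂(p)`, `p ≥ 7` prime
-/

set_option autoImplicit false
set_option linter.unusedSectionVars false

namespace Cfsg.Agent.OddCyclic.EqN

open Subgroup Matrix
open Cfsg.Agent.OddCyclic.T1Defs (OddCyc)
open Cfsg.Agent.OddCyclic.FFBasic Cfsg.Agent.OddCyclic.T1Module Cfsg.Agent.OddCyclic.FFRed
open Cfsg.Agent.Lib.SL2Mat Cfsg.Agent.GH.L2Aut Cfsg.Agent.OddCyclic.PGLTorus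
open Cfsg.Agent.OddCyclic.Om5 (conjNormal_ne)

variable {X V : Type*} [Group X] [CommGroup V]
variable {ρ : X →* MulAut V} {f : V → V → ZMod 2} {q : V → ZMod 2} {T : Sylow 2 X} {t : X} {l : V}

theorem Sit.false_of_psl [Finite X] [Finite V] (hc : OddCyc X) (h2 : pCore 2 X = ⊥)
    (hρ : Function.Injective ρ) (h : Sit ρ f q T t l) {L : Subgroup X} [hL : L.Normal] (hs : IsSimpleGroup L)
    (hLc : ∀ z ∈ L, z ∈ centralizer (L : Set X) → z = 1)
    {F : Type*} [Field F] [Finite F] (R : GH.L2Aut.Rep F L) (hF : (Nat.card F).Prime) (h7 : 7 ≤ Nat.card F)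
    (hna : t ∉ centralizer (L : Set X)) : False := by
  have hV := h.form.sq
  set ψ : X →* MulAut L := MulAut.conjNormal (H := L) with hψ
  have hψ1 : ψ t ≠ 1 := conjNormal_ne hna
  have hψ2 : ψ t * ψ t = 1 := by rw [← map_mul, h.sq, map_one]
  have h3F : (3 : F) ≠ 0 := FFPsl.three_ne hF h7
  obtain ⟨γ, hγ⟩ := R.mem_PGL.1 (mem_PGL_of_prime R hF (ψ t))
  have hγ0 : γ.1.trace = 0 := trace_of_sq R (by rw [← hγ]; exact hψ1) (by rw [← hγ]; exact hψ2)
  obtain ⟨y, hyL, hy3, hty⟩ := FFPsl.exists_three R h3F hγ0 hγ.symm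
  obtain ⟨hiy, -⟩ := h.three hy3 hty hρ
  have hall : ∀ z : X, orderOf z = 3 → (fx ρ z).index ≤ 16 := fun z hz => by
    rw [← FFPsl.index_eq_of_orderOf ρ hc Nat.prime_three (by norm_num) hy3 hz]; exact hiy.le
  -- `ψ t` is inner
  obtain ⟨S, hS⟩ := Om5.exists_sylow_of_normal T hL
  obtain ⟨w₁, w₂, hw₁, hw₂, hf⟩ := R.exists_four_mem S
  have hfixS : ∀ g ∈ S, ψ t g = g := by
    intro g hg
    apply Subtype.ext
    change (((MulAut.conjNormal t : MulAut L) g : L) : X) = g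
    rw [MulAut.conjNormal_apply, mul_inv_eq_iff_eq_mul]
    exact (h.comm g (hS g hg)).symm
  have hcomm : ∀ g ∈ S, ψ t * MulAut.conj g = MulAut.conj g * ψ t := by
    intro g hg
    ext1 l
    rw [MulAut.mul_apply, MulAut.mul_apply, MulAut.conj_apply, MulAut.conj_apply, map_mul, map_mul, map_inv,
      hfixS g hg]
  obtain ⟨w, hwS, hww, hw1, hwψ⟩ : ∃ w ∈ S, w * w = 1 ∧ w ≠ 1 ∧ ψ t = MulAut.conj w := by
    by_contra hcon
    push Not at hcon
    have hw12 : w₁ * w₂ ∈ S := mul_mem hw₁ hw₂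
    have h12 : w₁ * w₂ * (w₁ * w₂) = 1 := hf.right.bb
    have h12' : w₁ * w₂ ≠ 1 := hf.right.b1
    have n1 := hcon w₁ hw₁ hf.aa hf.a1
    have n2 := hcon w₂ hw₂ hf.bb hf.b1
    have n3 := hcon (w₁ * w₂) hw12 h12 h12'
    obtain ⟨δ₁, hδ₁⟩ := R.mem_PGL.1 (mem_PGL_of_prime R hF (MulAut.conj w₁))
    obtain ⟨δ₂, hδ₂⟩ := R.mem_PGL.1 (mem_PGL_of_prime R hF (MulAut.conj w₂))
    have key : ∀ g ∈ S, g * g = 1 → ψ t ≠ MulAut.conj g → ψ t * MulAut.conj g ≠ 1 ∧
        ψ t * MulAut.conj g * (ψ t * MulAut.conj g) = 1 := by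
      intro g hg hgg hne
      have hcg : MulAut.conj g * MulAut.conj g = (1 : MulAut L) := by rw [← map_mul, hgg, map_one]
      refine ⟨fun h1 => hne ?_, ?_⟩
      · calc ψ t = ψ t * MulAut.conj g * MulAut.conj g := by rw [mul_assoc, hcg, mul_one]
          _ = MulAut.conj g := by rw [h1, one_mul]
      · calc ψ t * MulAut.conj g * (ψ t * MulAut.conj g) = ψ t * (MulAut.conj g * ψ t) * MulAut.conj g := by group
          _ = ψ t * (ψ t * MulAut.conj g) * MulAut.conj g := by rw [hcomm g hg]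
          _ = (ψ t * ψ t) * (MulAut.conj g * MulAut.conj g) := by group
          _ = 1 := by rw [hψ2, hcg, mul_one]
    have t1 : δ₁.1.trace = 0 := trace_of_sq R
      (by rw [← hδ₁]; exact fun h1 => hf.a1 (R.conj_injective (h1.trans (map_one _).symm)))
      (by rw [← hδ₁, ← map_mul, hf.aa, map_one])
    have t2 : δ₂.1.trace = 0 := trace_of_sq R
      (by rw [← hδ₂]; exact fun h1 => hf.b1 (R.conj_injective (h1.trans (map_one _).symm)))
      (by rw [← hδ₂, ← map_mul, hf.bb, map_one])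
    obtain ⟨k1, k1'⟩ := key w₁ hw₁ hf.aa n1
    obtain ⟨k2, k2'⟩ := key w₂ hw₂ hf.bb n2
    obtain ⟨k3, k3'⟩ := key (w₁ * w₂) hw12 h12 n3
    have t3 : (γ.1 * δ₁.1).trace = 0 := trace_of_sq R (g := γ * δ₁)
      (by rw [map_mul, ← hγ, ← hδ₁]; exact k1) (by rw [map_mul, ← hγ, ← hδ₁]; exact k1')
    have t4 : (γ.1 * δ₂.1).trace = 0 := trace_of_sq R (g := γ * δ₂)
      (by rw [map_mul, ← hγ, ← hδ₂]; exact k2) (by rw [map_mul, ← hγ, ← hδ₂]; exact k2')
    have t5 : (δ₁.1 * δ₂.1).trace = 0 := trace_of_sq R (g := δ₁ * δ₂)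
      (by rw [map_mul, ← hδ₁, ← hδ₂, ← map_mul]
          exact fun h1 => h12' (R.conj_injective (h1.trans (map_one _).symm)))
      (by rw [map_mul, ← hδ₁, ← hδ₂, ← map_mul, ← map_mul, h12, map_one])
    have t6 : (γ.1 * δ₁.1 * δ₂.1).trace = 0 := trace_of_sq R (g := γ * δ₁ * δ₂)
      (by rw [map_mul, map_mul, ← hγ, ← hδ₁, ← hδ₂, mul_assoc, ← map_mul MulAut.conj]; exact k3)
      (by rw [map_mul, map_mul, ← hγ, ← hδ₁, ← hδ₂, mul_assoc (ψ t), ← map_mul MulAut.conj]; exact k3')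
    exact FFPslMat.no_three hγ0 t1 t2 t3 t4 t5 t6 R.two
  -- `t ∈ L`
  have htw : t * (w : X) = w * t := (h.comm w (hS w hwS)).symm
  have hwin : ∀ l ∈ L, t * l * t⁻¹ = (w : X) * l * (w : X)⁻¹ := by
    intro l hl
    have h1 := congrArg (fun α : MulAut L => ((α ⟨l, hl⟩ : L) : X)) hwψ
    simpa only [hψ, MulAut.conjNormal_apply, MulAut.conj_apply, _root_.Subgroup.coe_mul, _root_.InvMemClass.coe_inv] using h1
  have hwwX : (w : X) * w = 1 := congrArg Subtype.val hww
  have hwi : (w : X)⁻¹ = w := inv_eq_of_mul_eq_one_left hwwX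
  have hti : t⁻¹ = t := inv_eq_of_mul_eq_one_left h.sq
  obtain ⟨c, hcdef⟩ : ∃ c : X, c = t * w := ⟨_, rfl⟩
  have hcC : c ∈ centralizer (L : Set X) := by
    rw [mem_centralizer_iff]
    intro l hl
    have h1 := hwin ((w : X) * l * (w : X)⁻¹) (mul_mem (mul_mem w.2 hl) (inv_mem w.2))
    have h3 : c * l * c⁻¹ = l := by
      calc c * l * c⁻¹ = t * ((w : X) * l * (w : X)⁻¹) * t⁻¹ := by rw [hcdef]; group
        _ = ((w : X) * w) * l * ((w : X) * w)⁻¹ := by rw [h1]; group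
        _ = l := by rw [hwwX]; group
    exact (mul_inv_eq_iff_eq_mul.1 h3).symm
  have hcc : c * c = 1 := by
    calc c * c = t * (w * t) * w := by rw [hcdef]; group
      _ = (t * t) * (w * w) := by rw [← htw]; group
      _ = 1 := by rw [h.sq, hwwX, mul_one]
  have hc1 : c = 1 := by
    by_contra hc1
    have hCn : (centralizer (L : Set X)).Normal := inferInstance
    have hO : ¬ IsPGroup 2 (Subgroup.normalClosure {c} : Subgroup X) := by
      intro hO
      have h1 : Subgroup.normalClosure {c} ≤ pCore 2 X := by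
        rw [Cfsg.Agent.Lib.Cores.pCore_def]
        exact le_sSup ⟨Subgroup.normalClosure_normal, hO⟩
      rw [h2, le_bot_iff] at h1
      have h3 : c ∈ Subgroup.normalClosure ({c} : Set X) := Subgroup.subset_normalClosure rfl
      rw [h1, mem_bot] at h3
      exact hc1 h3
    obtain ⟨g, hg1, hgo, hgc⟩ := Involutions.BaerSuzuki.exists_odd_inverted c hcc hO
    -- `g ∈ C(L)`
    have hgC2 : g * g ∈ centralizer (L : Set X) := by
      have h1 : g * g = (g * c * g⁻¹) * c⁻¹ := by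
        have h3 : c * g⁻¹ = g * c := by
          calc c * g⁻¹ = (c * g * c⁻¹)⁻¹ * c := by group
            _ = g * c := by rw [hgc, inv_inv]
        calc g * g = g * (g * c) * c⁻¹ := by group
          _ = g * (c * g⁻¹) * c⁻¹ := by rw [h3]
          _ = (g * c * g⁻¹) * c⁻¹ := by group
      rw [h1]
      exact mul_mem (hCn.conj_mem c hcC g) (inv_mem hcC)
    have hgC : g ∈ centralizer (L : Set X) := by
      obtain ⟨k, hk⟩ := hgo
      have h1 : (g * g) ^ (k + 1) = g := by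
        rw [← pow_two, ← pow_mul]
        have : 2 * (k + 1) = orderOf g + 1 := by omega
        rw [this, pow_succ, pow_orderOf_eq_one, one_mul]
      rw [← h1]
      exact pow_mem hgC2 _
    have ho1 : orderOf g ≠ 1 := fun h => hg1 (orderOf_eq_one_iff.mp h)
    obtain ⟨r, hr, hrd⟩ := Nat.exists_prime_and_dvd ho1
    have hr2 : r ≠ 2 := by
      rintro rfl
      exact (Nat.not_even_iff_odd.mpr hgo) (even_iff_two_dvd.mpr hrd)
    set z := g ^ (orderOf g / r) with hz
    have hzC : z ∈ centralizer (L : Set X) := pow_mem hgC _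
    have hzo : orderOf z = r := by
      rw [hz]
      exact orderOf_pow_orderOf_div (orderOf_pos g).ne' hrd
    have hzi : c * z * c⁻¹ = z⁻¹ := by
      rw [hz, ← conj_pow, hgc, inv_pow]
    have hzw : (w : X) * z = z * w := mem_centralizer_iff.1 hzC w w.2
    have htz : t * z * t⁻¹ = z⁻¹ := by
      have h1 : t = c * w := by rw [hcdef, mul_assoc, hwwX, mul_one]
      calc t * z * t⁻¹ = c * (w * z * (w : X)⁻¹) * c⁻¹ := by rw [h1]; group
        _ = c * z * c⁻¹ := by rw [hzw]; group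
        _ = z⁻¹ := hzi
    obtain ⟨rfl, -⟩ := h.real hρ hr hr2 hzo htz
    have hzy : Commute z y := (mem_centralizer_iff.1 hzC y hyL).symm
    have h1 := CompBasic.zpowers_eq_of_commute hc Nat.prime_three (by norm_num) hzo hy3 hzy
    have h3 : z ∈ zpowers y := by rw [← h1]; exact mem_zpowers z
    have h4 := hLc z ((zpowers_le.2 hyL) h3) hzC
    rw [h4, orderOf_one] at hzo
    norm_num at hzo
  have htL : t ∈ L := by
    have h1 : t = w := by
      rw [hcdef, mul_eq_one_iff_eq_inv, hwi] at hc1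
      exact hc1
    rw [h1]; exact w.2
  have hne : ∀ y ∈ L, y ≠ 1 → ∃ v, ρ y v ≠ v := fun y _ hy1 => ne_of_ne hρ hy1
  -- `|F| = 7`
  have hF7 : Nat.card F = 7 := by
    let w' : L := R.π (Cfsg.Agent.Lib.PSL2Torus.jm F)
    have hj : Cfsg.Agent.Lib.PSL2Torus.jm F * Cfsg.Agent.Lib.PSL2Torus.jm F = -1 := by
      refine ext_ent ?_ ?_ ?_ ?_
      · rw [ent_mul]; show 0 * 0 + (-1) * 1 = -(1 : F); ring
      · rw [ent_mul]; show 0 * (-1) + (-1) * 0 = -(0 : F); ring
      · rw [ent_mul]; show 1 * 0 + 0 * 1 = -(0 : F); ring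
      · rw [ent_mul]; show 1 * (-1) + 0 * 0 = -(1 : F); ring
    have hw2 : w' * w' = 1 := by
      show R.π _ * R.π _ = 1
      rw [← map_mul, hj, R.ker]
      exact Or.inr rfl
    have hw1' : w' ≠ 1 := by
      intro h1
      have h2 : R.π (Cfsg.Agent.Lib.PSL2Torus.jm F) = 1 := h1
      rw [R.ker] at h2
      rcases h2 with h2 | h2
      · have := congrArg (fun w => ent w 1 0) h2
        simp only [Cfsg.Agent.Lib.PSL2Torus.jm_10, ent_one_10] at this
        exact one_ne_zero this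
      · have h3 : (1 : F) = -0 := congrArg (fun w => ent w 1 0) h2
        rw [neg_zero] at h3
        exact one_ne_zero h3
    obtain ⟨g, hg⟩ := Cfsg.Agent.Lib.PSL2Torus.conj_inv_hom R.π R.two R.surj R.ker
      (t := (⟨t, htL⟩ : L)) (u := w') (fun h1 => h.ne (congrArg Subtype.val h1)) (Subtype.ext h.sq) hw1' hw2
    have hgw : (g : X) * t * (g : X)⁻¹ = (w' : X) := congrArg Subtype.val hg
    have hiw : (fx ρ (w' : X)).index ≤ 4 := by
      rw [← hgw, index_fx_conj]; exact h.idx.le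
    have hz : orderOf ((R.π (up 1 * Cfsg.Agent.Lib.PSL2Torus.jm F) : L) : X) = 3 := by
      apply FFPsl.orderOf_three R h3F
      rw [ent_mul, ent_mul]
      show (1 : F) * 0 + 1 * 1 + (0 * (-1) + 1 * 0) = 1
      ring
    have hu : ((R.π (up 1) : L) : X) = (R.π (up 1 * Cfsg.Agent.Lib.PSL2Torus.jm F) : L) * (w' : X) := by
      have h1 : R.π (up 1) = R.π (up 1 * Cfsg.Agent.Lib.PSL2Torus.jm F) * w' := by
        rw [map_mul, mul_assoc]
        show R.π (up 1) = R.π (up 1) * (w' * w')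
        rw [hw2, mul_one]
      rw [h1]; rfl
    have hiu : (fx ρ ((R.π (up 1) : L) : X)).index ≤ 64 := by
      rw [hu]
      exact (FFPsl.index_mul_le ρ _ _).trans (Nat.mul_le_mul (hall _ hz) hiw)
    have hou := FFPsl.orderOf_u R hF
    have hune : ((R.π (up 1) : L) : X) ≠ 1 := by
      intro h1
      rw [h1, orderOf_one] at hou
      omega
    obtain ⟨d, hd, hd1, hd2⟩ := prim (ρ := ρ) hV hF (by omega) hou (hne _ (R.π (up 1)).2 hune)
    have hd6 : d ≤ 6 := by
      rw [hd1] at hiu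
      have : (2 : ℕ) ^ d ≤ 2 ^ 6 := hiu
      exact (Nat.pow_le_pow_iff_right (by norm_num)).1 this
    have h731 : Nat.card F = 7 ∨ Nat.card F = 31 := by
      have h63 : Nat.card F ≤ 63 := by
        have h1 := Nat.le_of_dvd (by
          have : 2 ^ 1 ≤ 2 ^ d := Nat.pow_le_pow_right (by norm_num) hd
          omega) hd2
        have : (2 : ℕ) ^ d ≤ 2 ^ 6 := Nat.pow_le_pow_right (by norm_num) hd6
        omega
      have hpr := hF
      clear hiu hd1 hou h3F hF hune
      generalize Nat.card F = n at *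
      interval_cases d <;> interval_cases n <;> first | (clear * - hd2; omega) | (exfalso; revert hpr; norm_num)
    rcases h731 with h1 | h1
    · exact h1
    · exfalso
      obtain ⟨y, hyL, hy15, hay⟩ := FFPsl.exists_fifteen R h1 hγ0 hγ.symm
      refine FFPsl.kill15 hV hy15 hay ?_ ?_ h.idx.le
      · apply hne _ (pow_mem hyL 3)
        intro h2
        have := orderOf_dvd_of_pow_eq_one h2
        rw [hy15] at this
        norm_num at this
      · apply hne _ (pow_mem hyL 5)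
        intro h2
        have := orderOf_dvd_of_pow_eq_one h2
        rw [hy15] at this
        norm_num at this
  have hL32 : FFThree.L32 L := FFThree.l32_of R hF7
  have hsev : Sev (ρ.comp L.subtype) (⟨t, htL⟩ : L) :=
    { l32 := hL32
      sq := hV
      tt := Subtype.ext h.sq
      t1 := fun h1 => h.ne (congrArg Subtype.val h1)
      idx := h.idx
      baer := fun y hy r hr hyr => h.baer y (by rw [Subgroup.orderOf_coe]; exact hy) r hr hyr
      nc := by
        intro x y hx hx1 hy hxy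
        obtain ⟨t, ht⟩ := Om5.three_square R hx hx1 hy hxy
        exact Om5.not_square_three (Or.inl hF7) t ht }
  exact hsev.false (y := ⟨y, hyL⟩) (by rw [Subgroup.orderOf_mk]; exact hy3) hiy.le

end Cfsg.Agent.OddCyclic.EqN
end

-- part: OddCyclic/EqNMain
section
/-!
# (E_q), 6.B is impossible
-/

set_option autoImplicit false
set_option linter.unusedSectionVars false

namespace Cfsg.Agent.OddCyclic.EqN

open Subgroup Matrix Cfsg
open Cfsg.Agent.OddCyclic.T1Defs (OddCyc)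
open Cfsg.Agent.OddCyclic.PumpMain (KZero)
open Cfsg.Agent.OddCyclic.FFBasic Cfsg.Agent.OddCyclic.FFRed

variable {X V : Type*} [Group X] [CommGroup V]
variable {ρ : X →* MulAut V} {f : V → V → ZMod 2} {q : V → ZMod 2} {T : Sylow 2 X} {t : X} {l : V}

/-- `t` centralises the components -/
theorem Sit.mem_centralizer [Finite X] [Finite V] (hc : OddCyc X)
    (hk : ∀ J : Subgroup X, IsSimpleGroup J → (∃ x y : J, x * y ≠ y * x) → KZero J)
    (h2 : pCore 2 X = ⊥) (hρ : Function.Injective ρ) (h : Sit ρ f q T t l) {L : Subgroup X} (hL : IsComponent L) :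
    t ∈ centralizer (L : Set X) := by
  by_contra hna
  have hLn : L.Normal := FFStruct.component_normal hc hL
  have hs : IsSimpleGroup L := FFStruct.simple_component hc h2 hL
  have hKz : KZero L := by
    refine hk L hs ?_
    by_contra hcon
    push Not at hcon
    exact Cfsg.Agent.SignalizersComponents.Components.quasisimple_not_isMulCommutative hL.2 ⟨⟨hcon⟩⟩
  rcases hKz with ⟨F, _, _, hp, h5, ⟨e⟩⟩ | ⟨F, _, _, f, hf, hF, ⟨e⟩⟩ | hSz | ⟨hJ, k, hk⟩
  · have hodd : Odd (Fintype.card F) := hp.odd_of_ne_two (by omega)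
    by_cases h5' : Fintype.card F = 5
    · obtain ⟨K, _, _, _, hK4, ⟨e'⟩⟩ := T1Socle.exists_four h5'
      exact h.false_of_sl2 hρ (F := K) (by rw [hK4]) (e.trans e').symm hna
    · have h7 : 7 ≤ Fintype.card F := by
        have h6 : Fintype.card F ≠ 6 := by
          intro h6
          rw [h6] at hp
          revert hp
          norm_num
        omega
      have R := Cfsg.Agent.GH.L2Aut.Rep.ofEquiv (Cfsg.Agent.GH.L2Aut.two_ne_zero_of_odd hodd) e
      exact h.false_of_psl hc h2 hρ hs (FFStruct.inter_centralizer hc h2 hL) R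
        (by rw [Nat.card_eq_fintype_card]; exact hp) (by rw [Nat.card_eq_fintype_card]; exact h7) hna
  · have h4 : 4 ≤ Fintype.card F := by
      rw [hF]
      calc 4 = 2 ^ 2 := by norm_num
        _ ≤ 2 ^ f := Nat.pow_le_pow_right (by norm_num) hf
    have hch : CharP F 2 := by
      have hch := ringChar.charP F
      have h1 : ringChar F ∣ 2 ^ f := by
        rw [← hF, ← CharP.cast_eq_zero_iff F (ringChar F), Nat.cast_card_eq_zero]
      have h2 : (ringChar F).Prime := CharP.char_is_prime F (ringChar F)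
      have h3 : ringChar F = 2 := (Nat.prime_dvd_prime_iff_eq h2 Nat.prime_two).1 (h2.dvd_of_dvd_pow h1)
      rwa [h3] at hch
    obtain ⟨g⟩ := WeakTI.PslTwo.nonempty_equiv (F := F)
    exact h.false_of_sl2 hρ h4 (g.trans e.symm) hna
  · exact h.false_of_sz hρ hSz hna
  · exact h.false_of_j1 hρ hJ hk hna

/-- **6.B is impossible** -/
theorem Sit.false [Finite X] [Finite V] (hc : OddCyc X)
    (hk : ∀ J : Subgroup X, IsSimpleGroup J → (∃ x y : J, x * y ≠ y * x) → KZero J)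
    (h2 : pCore 2 X = ⊥) (hρ : Function.Injective ρ) (h : Sit ρ f q T t l) : False := by
  have hcomp : ∀ K : Subgroup X, IsComponent K → t ∈ centralizer (K : Set X) := fun K hK =>
    h.mem_centralizer hc hk h2 hρ hK
  by_cases hF : ∀ z ∈ fittingSubgroup X, t * z = z * t
  · exact h.ne (FFStruct.eq_one_of_centralizes h2 h.sq hF hcomp)
  · push Not at hF
    obtain ⟨z, hz, hzt⟩ := hF
    exact h.false_of_fitting hc h2 hρ hcomp hz hzt

end Cfsg.Agent.OddCyclic.EqN
end

-- part: OddCyclic/Eq/SixB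
section
/-!
# (E_q) of `T_cyc`, 6.B: `V_z` nonabelian is impossible
-/

set_option autoImplicit false
set_option linter.unusedSectionVars false
set_option linter.style.haveILetI false

namespace Cfsg.Agent.OddCyclic.Eq.SixB

open Subgroup Cfsg Cfsg.Agent.ZN
open Cfsg.Agent.OddCyclic.Eq.SixA
open Cfsg.Agent.OddCyclic.Eq.SecFive (Fld)
open Cfsg.Agent.OddCyclic.T1Defs (OddCyc)
open Cfsg.Agent.OddCyclic.FFBasic

universe u

variable {G : Type u} [Group G] {S V J : Subgroup G} {z : G}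

/-- `V_z` does not centralise `J` -/
theorem exists_w (hnab : ∃ x ∈ Vz J z, ∃ y ∈ Vz J z, x * y ≠ y * x) : ∃ w ∈ Vz J z, w ∉ centralizer (J : Set G) := by
  by_contra hcon
  push Not at hcon
  obtain ⟨x, hx, y, hy, hxy⟩ := hnab
  apply hxy
  revert x
  intro x hx _
  induction hy using closure_induction with
  | mem y hy =>
    obtain ⟨c, hc, a, ha, rfl⟩ := hy
    have hc' : c⁻¹ ∈ Cz z := (Cz z).inv_mem (mem_Cz.2 hc)
    have h1 : c⁻¹ * x * c ∈ Vz J z := by
      have := Vz_conj hc' hx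
      rwa [inv_inv] at this
    have h2 := mem_centralizer_iff.1 (hcon _ h1) a ha
    calc x * (c * a * c⁻¹) = c * ((c⁻¹ * x * c) * a) * c⁻¹ := by group
      _ = c * (a * (c⁻¹ * x * c)) * c⁻¹ := by rw [h2]
      _ = c * a * c⁻¹ * x := by group
  | one => rw [mul_one, one_mul]
  | mul y y' _ _ h1 h2 =>
    by_cases h3 : x * y = y * x
    · by_cases h4 : x * y' = y' * x
      · rw [← mul_assoc, h3, mul_assoc, h4, mul_assoc]
      · exact absurd (h2 h4) h4
    · exact absurd (h1 h3) h3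
  | inv y _ h1 =>
    by_cases h3 : x * y = y * x
    · exact (Commute.inv_right (show Commute x y from h3)).eq
    · exact absurd (h1 h3) h3

section

variable [Finite G] (h : Hyp S V J z) (fl : Fld 4 2 J V S)

include h

/-- `[Q, V_z] ≤ ⟨z⟩`, in the form `[v, w]` -/
theorem comm_zp {x w : G} (hx : x ∈ o2 (Cz z)) (hw : w ∈ Vz J z) : x * w * x⁻¹ * w⁻¹ ∈ zpowers z :=
  (h.o2_le_Kz hx).2 w hw

theorem Vcomm {x y : G} (hx : x ∈ V) (hy : y ∈ V) : x * y = y * x := comm_of_sq h.Vsq hx hy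

theorem V_le_CV {x : G} (hx : x ∈ V) : x ∈ centralizer (V : Set G) :=
  mem_centralizer_iff.2 fun _ hy => Vcomm h hy hx

theorem comm_mem_V {x w : G} (hx : x ∈ V) (hw : w ∈ Vz J z) : x * w * x⁻¹ * w⁻¹ ∈ V ⊓ Vz J z := by
  constructor
  · have h1 := (mem_normalizer_iff.1 (h.SV (h.Vz_le_S hw)) x⁻¹).1 (V.inv_mem hx)
    have h2 := V.mul_mem hx h1
    simpa only [mul_assoc, _root_.Subgroup.coe_toSubmonoid, _root_.SetLike.mem_coe] using h2
  · exact (Vz J z).mul_mem (Vz_conj (h.V_le_Cz hx) hw) ((Vz J z).inv_mem hw)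

theorem J_le_V1 : J ≤ V ⊓ o2 (Cz z) := le_inf h.JV h.Jo2

/-- squares of elements of `V_z` -/
theorem sq_mem {w : G} (hw : w ∈ Vz J z) : w * w ∈ zpowers z := by
  obtain ⟨a, ha, haz⟩ := h.exists_a
  obtain ⟨N, iN, ρ, p, lam, hA⟩ := h.exists_act ha haz
  have h1 := hA.sq (p ⟨w, hw⟩)
  rw [← map_mul, hA.ker] at h1
  exact h1

/-- `|C_J(w)| = 2` -/
theorem J_inf {w : G} (hwS : w ∈ S) (hwJ : w ∉ centralizer (J : Set G)) {x : G} (hx : x ∈ J) (hxw : w * x = x * w) :
    x ∈ zpowers z := by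
  by_contra hxz
  apply hwJ
  rw [mem_centralizer_iff]
  intro y hy
  rcases h.J_cases hx hxz hy with rfl | rfl | rfl | rfl
  · rw [one_mul, mul_one]
  · exact (h.Sz w hwS).symm
  · exact hxw.symm
  · rw [mul_assoc, ← h.Sz w hwS, ← mul_assoc, ← hxw, mul_assoc]

include fl

/-- the element `w` of field type -/
theorem card_Cw {w : G} (hw : w ∈ Vz J z) (hwJ : w ∉ centralizer (J : Set G)) :
    Nat.card (V ⊓ centralizer {w} : Subgroup G) = 4 ∧ ∀ v ∈ V, w * v = v * w → ∃ u ∈ V, u * w * u⁻¹ * w⁻¹ = v := by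
  have h1 := fl.cF w (h.Vz_le_S hw) hwJ (V_le_CV h (h.JV (h.zp_le (sq_mem h hw))))
  exact ⟨h1.1, h1.2.2⟩

/-- `V¹ ≤ V_z` -/
theorem V1_le {w : G} (hw : w ∈ Vz J z) (hwJ : w ∉ centralizer (J : Set G)) : V ⊓ o2 (Cz z) ≤ Vz J z := by
  obtain ⟨hc, hcom⟩ := card_Cw h fl hw hwJ
  have h1 : V ⊓ Vz J z ≤ V ⊓ o2 (Cz z) := inf_le_inf_left _ h.Vz_le_o2
  have h2 : J ≤ V ⊓ Vz J z := le_inf h.JV (J_le_Vz J z)
  have h3 : V ⊓ centralizer {w} ≤ V ⊓ Vz J z := by
    intro v hv
    obtain ⟨u, hu, rfl⟩ := hcom v hv.1 (mem_centralizer_singleton_iff.1 hv.2).symm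
    exact comm_mem_V h hu hw
  have h4 : Nat.card (V ⊓ Vz J z : Subgroup G) ∣ 8 := by
    rw [← h.card8]; exact Subgroup.card_dvd_of_le h1
  have h5 : 4 ∣ Nat.card (V ⊓ Vz J z : Subgroup G) := by
    rw [← h.cardJ]; exact Subgroup.card_dvd_of_le h2
  have h6 : Nat.card (V ⊓ Vz J z : Subgroup G) ≠ 4 := by
    intro h6
    have h7 : J = V ⊓ Vz J z := Subgroup.eq_of_le_of_card_ge h2 (by rw [h6, h.cardJ])
    have h8 : V ⊓ centralizer {w} ≤ zpowers z := by
      intro v hv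
      have h9 : v ∈ J := by rw [h7]; exact h3 hv
      exact J_inf h (h.Vz_le_S hw) hwJ h9 (mem_centralizer_singleton_iff.1 hv.2).symm
    have h9 := Subgroup.card_le_of_le h8
    have h10 : Nat.card (zpowers z) = 2 := by
      rw [Nat.card_zpowers]
      exact orderOf_eq_prime (by rw [pow_two]; exact h.z_sq) h.z1
    omega
  have h7 : Nat.card (V ⊓ Vz J z : Subgroup G) = 8 := by
    obtain ⟨k, hk⟩ := h5
    have h8 := Nat.le_of_dvd (by norm_num) h4
    have h9 : k = 0 ∨ k = 1 ∨ k = 2 := by omega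
    rcases h9 with rfl | rfl | rfl
    · rw [hk] at h4; norm_num at h4
    · exact absurd hk h6
    · exact hk
  have h8 : V ⊓ Vz J z = V ⊓ o2 (Cz z) := Subgroup.eq_of_le_of_card_ge h1 (by rw [h7, h.card8])
  rw [← h8]; exact inf_le_right

/-- the transvection in `V_z` -/
theorem exists_e {w : G} (hw : w ∈ Vz J z) (hwJ : w ∉ centralizer (J : Set G)) :
    ∃ e ∈ Vz J z, e ∈ centralizer (J : Set G) ∧ e ∉ centralizer (V : Set G) := by
  by_contra hcon
  push Not at hcon
  apply hwJ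
  apply fl.self w (h.Vz_le_S hw)
  intro b hb hbJ
  refine hcon _ ((Vz J z).mul_mem (Vz_conj (h.S_le_Cz hb) hw) ((Vz J z).inv_mem hw)) ?_
  have h1 : w * b⁻¹ * w⁻¹ ∈ centralizer (J : Set G) := by
    rw [mem_centralizer_iff]
    intro y hy
    have h2 : w⁻¹ * y * w ∈ J := by
      have := (mem_normalizer_iff.1 ((normalizer (J : Set G)).inv_mem (h.SJ (h.Vz_le_S hw))) y).1 hy
      rwa [inv_inv] at this
    have h3 := mem_centralizer_iff.1 ((centralizer (J : Set G)).inv_mem hbJ) _ h2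
    calc y * (w * b⁻¹ * w⁻¹) = w * ((w⁻¹ * y * w) * b⁻¹) * w⁻¹ := by group
      _ = w * (b⁻¹ * (w⁻¹ * y * w)) * w⁻¹ := by rw [h3]
      _ = w * b⁻¹ * w⁻¹ * y := by group
  have h2 : b * w * b⁻¹ * w⁻¹ = b * (w * b⁻¹ * w⁻¹) := by group
  rw [h2]
  exact (centralizer (J : Set G)).mul_mem hbJ h1

omit fl

/-- an element of `B` moving `v₁` modulo `⟨z⟩` -/
theorem exists_b {v : G} (hv : v ∈ V) (hvJ : v ∉ J) :
    ∃ b ∈ S ⊓ centralizer (J : Set G), v * b * v⁻¹ * b⁻¹ ∉ zpowers z := by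
  by_contra hcon
  push Not at hcon
  set B := S ⊓ centralizer (J : Set G) with hB
  have hz2 : z * z = 1 := h.z_sq
  have key : ∀ b ∈ B, b ∉ centralizer (V : Set G) → v * b * v⁻¹ * b⁻¹ = z := by
    intro b hb hbV
    rcases h.mem_zp.1 (hcon b hb) with h1 | h1
    · exfalso
      apply hvJ
      apply h.cfix b hb hbV v hv
      have h2 := mul_inv_eq_one.1 h1
      exact (mul_inv_eq_iff_eq_mul.1 h2).symm
    · exact h1
  have hmul : ∀ b ∈ B, ∀ c ∈ B, b ∉ centralizer (V : Set G) → c ∉ centralizer (V : Set G) →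
      b * c ∈ centralizer (V : Set G) := by
    intro b hb c hc hbV hcV
    by_contra hbc
    have h1 := key _ (B.mul_mem hb hc) hbc
    have h2 : v * (b * c) * v⁻¹ * (b * c)⁻¹ = (v * b * v⁻¹ * b⁻¹) * (b * (v * c * v⁻¹ * c⁻¹) * b⁻¹) := by group
    have h3 : b * z * b⁻¹ = z := by rw [← h.Sz b hb.1 |>.symm, mul_inv_cancel_right]
    rw [h2, key b hb hbV, key c hc hcV, h3, hz2] at h1
    exact h.z1 h1.symm
  have hne : (S ⊓ centralizer (V : Set G)).relIndex B = 2 := by
    obtain ⟨b, hb, hbV⟩ : ∃ b ∈ B, b ∉ centralizer (V : Set G) := by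
      by_contra hcon'
      push Not at hcon'
      have h1 : (S ⊓ centralizer (V : Set G)).relIndex B = 1 := by
        rw [Subgroup.relIndex_eq_one]
        exact fun b hb => ⟨hb.1, hcon' b hb⟩
      rw [h.idx] at h1
      norm_num at h1
    rw [Subgroup.relIndex, Subgroup.index_eq_two_iff]
    refine ⟨⟨b, hb⟩, fun c => ?_⟩
    have hmem : ∀ c : B, c ∈ (S ⊓ centralizer (V : Set G)).subgroupOf B ↔ (c : G) ∈ centralizer (V : Set G) := by
      intro c
      rw [mem_subgroupOf]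
      exact ⟨fun h => h.2, fun h => ⟨c.2.1, h⟩⟩
    rw [hmem, hmem, Subgroup.coe_mul]
    by_cases hc : (c : G) ∈ centralizer (V : Set G)
    · right
      refine ⟨hc, fun h1 => hbV ?_⟩
      have h2 := (centralizer (V : Set G)).mul_mem ((centralizer (V : Set G)).inv_mem hc) h1
      rwa [inv_mul_cancel_left] at h2
    · left
      exact ⟨hmul c c.2 b hb hc hbV, hc⟩
  rw [h.idx] at hne
  norm_num at hne

end

/-- **6.B is impossible** -/
theorem false_of [Finite G] (hc : OddCyc G) (hs : CompStart.SecZero G) (hzt : Cz z ≠ ⊤) (h : Hyp S V J z)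
    (fl : Fld 4 2 J V S)
    (baer : ∀ m ∈ V, m ∉ zpowers z → ∀ x : G, x ^ 3 = 1 → x * z = z * x → x * m = m * x → x = 1)
    (hnab : ∃ x ∈ Vz J z, ∃ y ∈ Vz J z, x * y ≠ y * x) : False := by
  classical
  obtain ⟨a, ha, haz⟩ := h.exists_a
  obtain ⟨N, iN, ρ, p, lam, hA⟩ := h.exists_act ha haz
  obtain ⟨f, q, hform, hf, hq⟩ := exists_form h.z_sq h.Vz_le_Cz (fun c hc => mem_Cz.1 hc)
    (fun c hc w hw => Vz_conj hc hw) hA.surj hA.ker hA.act hA.sq
  obtain ⟨w, hw, hwJ⟩ := exists_w hnab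
  obtain ⟨e, he, heJ, heV⟩ := exists_e h fl hw hwJ
  have hV1 := V1_le h fl hw hwJ
  have hNf : Finite N := Finite.of_surjective p hA.surj
  have hzc : Nat.card (zpowers z) = 2 := by
    rw [Nat.card_zpowers]
    exact orderOf_eq_prime (by rw [pow_two]; exact h.z_sq) h.z1
  obtain ⟨v0, hv0, hv0e⟩ := fl.kE e (h.Vz_le_S he) heJ heV a ha
  have hv0Q : v0 ∉ o2 (Cz z) := fun h1 => haz (hv0e ▸ comm_zp h h1 he)
  have hv0C : v0 ∈ Cz z := h.V_le_Cz hv0
  -- the Sylow subgroup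
  haveI : Fact (Nat.Prime 2) := ⟨Nat.prime_two⟩
  let P : Sylow 2 G := ⟨S, h.two, fun hQ hle => le_antisymm (h.smax _ hQ hle) hle⟩
  let P' : Sylow 2 ↥(Cz z) := P.subtype h.S_le_Cz
  let T : Sylow 2 ρ.range := P'.mapSurjective ρ.rangeRestrict_surjective
  have hT : ∀ s ∈ T, ∃ s' : Cz z, (s' : G) ∈ S ∧ ρ.rangeRestrict s' = s := by
    rintro s ⟨s', hs', hs''⟩
    exact ⟨s', hs', hs''⟩
  have hT' : ∀ s' : Cz z, (s' : G) ∈ S → ρ.rangeRestrict s' ∈ T := fun s' hs' => ⟨s', hs', rfl⟩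
  let t : ρ.range := ρ.rangeRestrict ⟨v0, hv0C⟩
  have hlam : p ⟨a, J_le_Vz J z ha⟩ = lam := hA.lam_eq _ rfl
  have happ : ∀ (c : Cz z) (x : G) (hx : x ∈ Vz J z),
      ρ c (p ⟨x, hx⟩) = p ⟨c * x * (c : G)⁻¹, Vz_conj c.2 hx⟩ := fun c x hx => hA.act c ⟨x, hx⟩ _ rfl
  have hcm : ∀ (x : G) (hx : x ∈ Vz J z), cm (ρ.range.subtype) t (p ⟨x, hx⟩) =
      p ⟨v0 * x * v0⁻¹ * x⁻¹, (comm_mem_V h hv0 hx).2⟩ := by
    intro x hx
    have h1 : cm (ρ.range.subtype) t (p ⟨x, hx⟩) = ρ ⟨v0, hv0C⟩ (p ⟨x, hx⟩) * (p ⟨x, hx⟩)⁻¹ := rfl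
    rw [h1, happ, ← map_inv, ← map_mul]
    rfl
  set R := (cm (ρ.range.subtype) t).range with hR
  have hRmem : ∀ r ∈ R, ∃ (x : G) (hx : x ∈ Vz J z), x ∈ V ∧ p ⟨x, hx⟩ = r := by
    rintro _ ⟨n, rfl⟩
    obtain ⟨⟨x, hx⟩, rfl⟩ := hA.surj n
    rw [hcm]
    exact ⟨_, (comm_mem_V h hv0 hx).2, (comm_mem_V h hv0 hx).1, rfl⟩
  -- the element `c`
  obtain ⟨hCw, hcom⟩ := card_Cw h fl hw hwJ
  obtain ⟨c, hcV, hcz⟩ : ∃ c ∈ V ⊓ centralizer {w}, c ∉ zpowers z := by
    by_contra hcon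
    push Not at hcon
    have h1 : V ⊓ centralizer {w} ≤ zpowers z := hcon
    have h2 := Subgroup.card_le_of_le h1
    omega
  obtain ⟨u, hu, huc⟩ := hcom c hcV.1 (mem_centralizer_singleton_iff.1 hcV.2).symm
  have huQ : u ∉ o2 (Cz z) := fun h1 => hcz (huc ▸ comm_zp h h1 hw)
  have hcJ : c ∉ J := fun h1 => hcz (J_inf h (h.Vz_le_S hw) hwJ h1 (mem_centralizer_singleton_iff.1 hcV.2).symm)
  have hcVz : c ∈ Vz J z := huc ▸ (comm_mem_V h hu hw).2
  have hpc : cm (ρ.range.subtype) t (p ⟨w, hw⟩) = p ⟨c, hcVz⟩ := by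
    rw [hcm, hA.p_eq]
    have hg : v0 * u ∈ o2 (Cz z) := h.mul_mem_o2 hv0 hu hv0Q huQ
    have h1 : v0 = v0 * u * u := by rw [mul_assoc, h.Vsq u hu, mul_one]
    have h2 : v0 * w * v0⁻¹ * w⁻¹ * c⁻¹ = (v0 * u) * w * (v0 * u)⁻¹ * w⁻¹ := by
      have h3 : v0 * w * v0⁻¹ * w⁻¹ = (v0 * u) * c * (v0 * u)⁻¹ * ((v0 * u) * w * (v0 * u)⁻¹ * w⁻¹) := by
        rw [← huc]
        have h4 : v0⁻¹ = u⁻¹ * (v0 * u)⁻¹ := by
          rw [← mul_inv_rev, ← h1]
        calc v0 * w * v0⁻¹ * w⁻¹ = (v0 * u * u) * w * (u⁻¹ * (v0 * u)⁻¹) * w⁻¹ := by rw [← h1, ← h4]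
          _ = _ := by group
      have h5 : (v0 * u) * c * (v0 * u)⁻¹ = c := by
        rw [Vcomm h (V.mul_mem hv0 hu) hcV.1, mul_inv_cancel_right]
      have h6 : (v0 * u) * w * (v0 * u)⁻¹ * w⁻¹ ∈ V := (comm_mem_V h (V.mul_mem hv0 hu) hw).1
      rw [h3, h5, Vcomm h hcV.1 h6, mul_inv_cancel_right]
    change v0 * w * v0⁻¹ * w⁻¹ * c⁻¹ ∈ zpowers z
    rw [h2]
    exact comm_zp h hg hw
  have hcR : p ⟨c, hcVz⟩ ∈ R := ⟨_, hpc⟩
  have hlamR : lam ∈ R := by
    refine ⟨p ⟨e, he⟩, ?_⟩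
    rw [hcm, ← hlam]
    congr 1
    exact Subtype.ext hv0e
  have hlam1 : lam ≠ 1 := by
    intro h1
    rw [← hlam, hA.ker] at h1
    exact haz h1
  have hpc1 : p ⟨c, hcVz⟩ ≠ 1 := by
    intro h1
    rw [hA.ker] at h1
    exact hcz h1
  have hpcl : p ⟨c, hcVz⟩ ≠ lam := by
    intro h1
    rw [← hlam, hA.p_eq] at h1
    apply hcJ
    have h2 := J.mul_mem (h.zp_le h1) ha
    have h3 : c * a⁻¹ * a = c := inv_mul_cancel_right c a
    rwa [h3] at h2
  -- `|R| = 4`
  have hRc : Nat.card R = 4 := by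
    set W1 : Subgroup (Vz J z) := (V ⊓ o2 (Cz z)).subgroupOf (Vz J z) with hW1
    have hW1c : Nat.card W1 = 8 := by
      rw [hW1, Nat.card_congr (subgroupOfEquivOfLe hV1).toEquiv, h.card8]
    let k : W1 →* N := p.comp W1.subtype
    have h1 := k.ker.card_mul_index
    rw [Subgroup.index_ker, hW1c] at h1
    have h2 : 2 ≤ Nat.card k.ker := by
      have h3 : k.ker ≠ ⊥ := by
        intro h3
        have h4 : (⟨⟨z, J_le_Vz J z h.zJ⟩, mem_subgroupOf.2 (J_le_V1 h h.zJ)⟩ : W1) ∈ k.ker := by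
          rw [MonoidHom.mem_ker]
          exact (hA.ker _).2 (mem_zpowers z)
        rw [h3, mem_bot] at h4
        exact h.z1 (congrArg (fun x : W1 => ((x : Vz J z) : G)) h4)
      exact (Subgroup.one_lt_card_iff_ne_bot _).2 h3
    have h3 : Nat.card k.range ≤ 4 := by
      by_contra hcon
      push Not at hcon
      have := Nat.mul_le_mul h2 hcon
      omega
    have h4 : R ≤ k.range := by
      rintro _ ⟨n, rfl⟩
      obtain ⟨⟨x, hx⟩, rfl⟩ := hA.surj n
      rw [hcm]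
      have h5 := comm_mem_V h hv0 hx
      exact ⟨⟨⟨_, h5.2⟩, mem_subgroupOf.2 ⟨h5.1, h.Vz_le_o2 h5.2⟩⟩, rfl⟩
    have h5 : Nat.card R ∣ Nat.card k.range := Subgroup.card_dvd_of_le h4
    have h6 : (({1, lam, p ⟨c, hcVz⟩} : Finset N) : Set N) ⊆ (R : Set N) := by
      intro x hx
      simp only [Finset.coe_insert, Finset.coe_singleton, Set.mem_insert_iff, Set.mem_singleton_iff] at hx
      rcases hx with rfl | rfl | rfl
      · exact one_mem _
      · exact hlamR
      · exact hcR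
    have h7 := Set.ncard_le_ncard h6 (Set.toFinite _)
    rw [Set.ncard_coe_finset, ← Nat.card_coe_set_eq] at h7
    have h8 : ({1, lam, p ⟨c, hcVz⟩} : Finset N).card = 3 := by
      rw [Finset.card_insert_of_notMem, Finset.card_insert_of_notMem, Finset.card_singleton]
      · simpa using hpcl.symm
      · simp only [Finset.mem_insert, Finset.mem_singleton, not_or]
        exact ⟨hlam1.symm, hpc1.symm⟩
    rw [h8] at h7
    have h9 : 3 ≤ Nat.card R := h7
    have h10 : Nat.card k.range ∣ 8 := ⟨_, by rw [← h1]; ring⟩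
    have h11 := Nat.le_of_dvd Nat.card_pos h5
    have h12 : Nat.card k.range = 4 := by
      have : Nat.card k.range = 3 ∨ Nat.card k.range = 4 := by omega
      rcases this with h13 | h13
      · rw [h13] at h10; norm_num at h10
      · exact h13
    rw [h12] at h5 h11
    have : Nat.card R = 3 ∨ Nat.card R = 4 := by omega
    rcases this with h13 | h13
    · rw [h13] at h5; norm_num at h5
    · exact h13
  obtain ⟨b, hb, hbc⟩ := exists_b h hcV.1 hcJ
  -- the situation of 6.B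
  have hsit : EqN.Sit (ρ.range.subtype) f q T t lam :=
    { form :=
        { sq := hform.sq
          f_mul := hform.f_mul
          f_symm := hform.f_symm
          q_mul := hform.q_mul
          f_inv := by
            rintro ⟨_, c, rfl⟩ x y
            exact hform.f_inv c x y
          q_inv := by
            rintro ⟨_, c, rfl⟩ x
            exact hform.q_inv c x }
      ne := by
        intro h1
        have h2 : ρ ⟨v0, hv0C⟩ = 1 := congrArg Subtype.val h1
        rw [hA.one_iff] at h2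
        exact hv0Q (h.V_inf_Kz hv0 h2)
      sq := by
        change ρ.rangeRestrict _ * ρ.rangeRestrict _ = 1
        rw [← map_mul]
        have h1 : (⟨v0, hv0C⟩ : Cz z) * ⟨v0, hv0C⟩ = 1 := Subtype.ext (h.Vsq v0 hv0)
        rw [h1, map_one]
      comm := by
        intro s hsT
        obtain ⟨s', hs', rfl⟩ := hT s hsT
        change ρ.rangeRestrict _ * ρ.rangeRestrict _ = ρ.rangeRestrict _ * ρ.rangeRestrict _
        have h1 : (s' : G) * v0 * (s' : G)⁻¹ * v0⁻¹ ∈ o2 (Cz z) := h.comm_o2 s'.2 (h.SV hs') hv0 hv0Q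
        have h2 : ρ (s' * ⟨v0, hv0C⟩ * s'⁻¹ * (⟨v0, hv0C⟩ : Cz z)⁻¹) = 1 := by
          rw [hA.one_iff]
          exact h.o2_le_Kz h1
        have h3 : ρ.rangeRestrict (s' * ⟨v0, hv0C⟩ * s'⁻¹ * (⟨v0, hv0C⟩ : Cz z)⁻¹) = 1 := Subtype.ext h2
        rw [map_mul, map_mul, map_mul, map_inv, map_inv] at h3
        exact mul_inv_eq_iff_eq_mul.1 (mul_inv_eq_one.1 h3)
      idx := by
        rw [← card_range_cm]; exact hRc
      sing := by
        intro r hr
        obtain ⟨x, hx, hxV, rfl⟩ := hRmem r hr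
        rw [hq, chi_eq_zero]
        exact h.Vsq x hxV
      lne := hlam1
      lmem := hlamR
      fixl := by
        intro s hsT
        obtain ⟨s', hs', rfl⟩ := hT s hsT
        exact (hA.stab s').2 (h.SJ hs')
      gen := by
        intro K hK
        rw [eq_top_iff, ← hA.gen, closure_le]
        rintro _ ⟨c, rfl⟩
        exact hK ⟨ρ c, c, rfl⟩
      nrad := by
        refine ⟨p ⟨w, hw⟩, ?_⟩
        rw [← hlam, hf]
        intro h1
        rw [chi_eq_zero] at h1
        change a * w * a⁻¹ * w⁻¹ = 1 at h1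
        apply haz
        apply J_inf h (h.Vz_le_S hw) hwJ ha
        exact (mul_inv_eq_iff_eq_mul.1 (mul_inv_eq_one.1 h1)).symm
      swap := by
        refine ⟨_, hT' ⟨b, h.S_le_Cz hb.1⟩ hb.1, _, hcR, ?_⟩
        intro h1
        have h2 : ρ ⟨b, h.S_le_Cz hb.1⟩ (p ⟨c, hcVz⟩) = p ⟨c, hcVz⟩ := h1
        rw [happ, hA.p_eq] at h2
        apply hbc
        have h3 : c * b * c⁻¹ * b⁻¹ = (b * c * b⁻¹ * c⁻¹)⁻¹ := by group
        rw [h3]
        exact (zpowers z).inv_mem h2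
      baer := by
        rintro ⟨_, c', rfl⟩ hy r hr hyr
        obtain ⟨x, hx, hxV, rfl⟩ := hRmem r hr
        by_contra hx1
        have hxz : x ∉ zpowers z := fun h1 => hx1 ((hA.ker _).2 h1)
        have hyr' : ρ c' (p ⟨x, hx⟩) = p ⟨x, hx⟩ := hyr
        have hy' : orderOf (ρ c') = 3 := by
          rw [← hy]
          exact (Subgroup.orderOf_mk _ _).symm
        obtain ⟨j, m, hm, hj⟩ := Nat.exists_eq_two_pow_mul_odd (n := orderOf c') (orderOf_pos c').ne'
        set c1 := c' ^ 2 ^ j with hc1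
        have ho : orderOf c1 = m := by
          rw [hc1, orderOf_pow, hj, Nat.gcd_eq_right (Dvd.intro _ rfl), Nat.mul_div_cancel_left _ (by positivity)]
        have h3c : 3 ∣ orderOf c1 := by
          have h1 : orderOf (ρ c1) = 3 := by
            rw [hc1, map_pow, orderOf_pow, hy']
            have h2 : Nat.gcd 3 (2 ^ j) = 1 := Nat.Coprime.pow_right j (by norm_num)
            rw [h2]
          rw [← h1]
          exact orderOf_map_dvd ρ c1
        have hfix1 : ρ c1 (p ⟨x, hx⟩) = p ⟨x, hx⟩ := by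
          have h1 : p ⟨x, hx⟩ ∈ fx ρ (c' ^ 2 ^ j) := fx_pow ρ hyr' _
          exact h1
        rw [happ, hA.p_eq] at hfix1
        have hfix1' : (c1 : G) * x * (c1 : G)⁻¹ * x⁻¹ ∈ zpowers z := hfix1
        have hz1 : (c1 : G) * z = z * c1 := mem_Cz.1 c1.2
        have hx2 : (c1 : G) * c1 * x = x * (c1 * c1) := by
          rw [← mul_inv_eq_iff_eq_mul]
          rcases h.mem_zp.1 hfix1' with h1 | h1
          · have h2 : (c1 : G) * x * (c1 : G)⁻¹ = x := mul_inv_eq_one.1 h1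
            calc (c1 : G) * c1 * x * ((c1 : G) * c1)⁻¹ = c1 * (c1 * x * (c1 : G)⁻¹) * (c1 : G)⁻¹ := by group
              _ = x := by rw [h2, h2]
          · have h2 : (c1 : G) * x * (c1 : G)⁻¹ = z * x := mul_inv_eq_iff_eq_mul.1 h1
            calc (c1 : G) * c1 * x * ((c1 : G) * c1)⁻¹ = c1 * (c1 * x * (c1 : G)⁻¹) * (c1 : G)⁻¹ := by group
              _ = c1 * (z * x) * (c1 : G)⁻¹ := by rw [h2]
              _ = (c1 * z * (c1 : G)⁻¹) * (c1 * x * (c1 : G)⁻¹) := by group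
              _ = z * (z * x) := by rw [h2, hz1, mul_inv_cancel_right]
              _ = x := by rw [← mul_assoc, h.z_sq, one_mul]
        have hx3 : (c1 : G) * x = x * c1 := by
          have hodd : Odd (orderOf c1) := by rw [ho]; exact hm
          obtain ⟨i, hi⟩ := hodd
          have h1 : ((c1 : G) * c1) ^ (i + 1) = c1 := by
            rw [← pow_two, ← pow_mul]
            have h2 : 2 * (i + 1) = orderOf c1 + 1 := by omega
            rw [h2, pow_succ]
            have h3 : (c1 : G) ^ orderOf c1 = 1 := by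
              rw [← Subgroup.orderOf_coe c1, pow_orderOf_eq_one]
            rw [h3, one_mul]
          have h2 : Commute (((c1 : G) * c1) ^ (i + 1)) x := Commute.pow_left hx2 _
          rw [h1] at h2
          exact h2
        set g : G := (c1 : G) ^ (orderOf c1 / 3) with hg
        have hgo : orderOf g = 3 := by
          rw [hg, ← Subgroup.orderOf_coe c1]
          exact orderOf_pow_orderOf_div (orderOf_pos (c1 : G)).ne' (by rw [Subgroup.orderOf_coe]; exact h3c)
        have hg1 : g = 1 := by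
          refine baer x hxV hxz g ?_ ?_ ?_
          · rw [← hgo, pow_orderOf_eq_one]
          · exact (Commute.pow_left (show Commute (c1 : G) z from hz1) _).eq
          · exact (Commute.pow_left (show Commute (c1 : G) x from hx3) _).eq
        rw [hg1, orderOf_one] at hgo
        norm_num at hgo }
  have hcX : OddCyc ρ.range := T1Structure.oddCyc_of_surjective
    (T1Structure.oddCyc_of_injective hc (Cz z).subtype (Cz z).subtype_injective) ρ.rangeRestrict
    ρ.rangeRestrict_surjective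
  refine hsit.false hcX (FFSec.kzero_of_image hs hzt ρ.rangeRestrict ρ.rangeRestrict_surjective) ?_
    (Subgroup.subtype_injective _)
  rw [Cfsg.Agent.Lib.Cores.pCore_def, eq_bot_iff]
  exact sSup_le fun D hD => (hA.core D hD.1 hD.2).le

end Cfsg.Agent.OddCyclic.Eq.SixB
end

-- part: OddCyclic/Eq/Six
section
/-!
# (E_q) of `T_cyc`, section 6: `q = 4`, `|V ∩ O₂(C_G(z))| = 8` is impossible
-/

set_option autoImplicit false

namespace Cfsg.Agent.OddCyclic.Eq.Six

open Subgroup Cfsg.Agent.OddCyclic.Eq.SixA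
open Cfsg.Agent.OddCyclic.Eq.SecFive (Fld)
open Cfsg.Agent.OddCyclic.T1Defs (OddCyc)

universe u

variable {G : Type u} [Group G] {S V J : Subgroup G} {z : G}

theorem false_of [Finite G] (hc : OddCyc G) (hs : CompStart.SecZero G) (hzt : Cz z ≠ ⊤) (h : Hyp S V J z)
    (fl : Fld 4 2 J V S)
    (baer : ∀ m ∈ V, m ∉ zpowers z → ∀ x : G, x ^ 3 = 1 → x * z = z * x → x * m = m * x → x = 1) : False := by
  by_cases hab : ∀ x ∈ Vz J z, ∀ y ∈ Vz J z, x * y = y * x
  · exact SixA.false h hab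
  · push Not at hab
    exact SixB.false_of hc hs hzt h fl baer hab

end Cfsg.Agent.OddCyclic.Eq.Six
end

-- part: OddCyclic/Eq/HypSix
section
/-!
# (E_q) of `T_cyc`, Part II, `V ≰ O₂(C_G(Ω₁Z(S)))`

* `hyp` : `SixA.Hyp`, for `q = 4` and `|V ∩ O₂(C_G(z))| = 8`;
* `baer` : (0.4), no element of order 3 centralises a four-group of `V`;
* `partTwoB`.
-/

set_option autoImplicit false
set_option linter.unusedSectionVars false

namespace Cfsg.Agent.OddCyclic.Eq.HypSix

open Subgroup Cfsg Cfsg.Agent.ZN Cfsg.Agent.MinSimple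
open Cfsg.Agent.OddCyclic.RedU (EqOne)
open Cfsg.Agent.OddCyclic.Eq.LemU
open Cfsg.Agent.OddCyclic.Eq.CfgP
open Cfsg.Agent.OddCyclic.T1Sl2 (up dg ww)
open Matrix (SpecialLinearGroup)

universe u

variable {G : Type u} [Group G] [Finite G] {S : Sylow 2 G} {L V : Subgroup G} {q : ℕ}

/-- an element acting as a 3-cycle has order divisible by 3 -/
theorem three_dvd_order {l z m : G} (hl1 : l * z * l⁻¹ = m) (hl2 : l * m * l⁻¹ = z * m) (hl3 : l * (z * m) * l⁻¹ = z)
    (hne : z ≠ m) : 3 ∣ orderOf l := by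
  by_contra h3
  have h5 : Nat.Coprime 3 (orderOf l) := by
    rcases Nat.coprime_or_dvd_of_prime Nat.prime_three (orderOf l) with h5 | h5
    · exact h5
    · exact absurd h5 h3
  obtain ⟨j, hj⟩ := exists_pow_eq_self_of_coprime h5
  have e : l ^ 3 * z * (l ^ 3)⁻¹ = l * (l * (l * z * l⁻¹) * l⁻¹) * l⁻¹ := by
    rw [pow_succ, pow_two]; group
  have e2 : l ^ 3 * z * (l ^ 3)⁻¹ = z := by rw [e, hl1, hl2, hl3]
  have h6 : Commute (l ^ 3) z := Four.conj_eq_iff_comm.1 e2
  have h7 := (h6.pow_left j).eq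
  rw [hj] at h7
  apply hne
  rw [← hl1]
  exact (Four.conj_eq_iff_comm.2 h7).symm

/-- **(0.4)**, "BAER": no element of order 3 centralises a four-group `⟨z, m⟩` of `V`, `q = 4` -/
theorem baer (h : EqOne S L V q) (h4 : q = 4) {z m x : G} (hz : z ∈ zc (bau (S : Subgroup G))) (hz1 : z ≠ 1)
    (hm : m ∈ V) (hmz : m ∉ zpowers z) (hx : x ^ 3 = 1) (hxz : x * z = z * x) (hxm : x * m = m * x) : x = 1 := by
  subst h4
  by_contra hx1
  have hf3 : Fact (Nat.Prime 3) := ⟨Nat.prime_three⟩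
  have ho : orderOf x = 3 := orderOf_eq_prime hx hx1
  obtain ⟨F, _, _, _, e, φ, hq, c, hez⟩ := Base.exists_norm' h hz hz1
  obtain ⟨a, b, rfl⟩ := (c.mem m).1 hm
  have hm1 : e a b ≠ 1 := fun h0 => hmz (h0 ▸ one_mem _)
  have hmz' : e a b ≠ z := fun h0 => hmz (h0 ▸ mem_zpowers _)
  by_cases hb : b = 0
  · -- the line `Z_J`
    subst hb
    have hxJ : x ∈ centralizer (zj (S : Subgroup G) : Set G) := by
      rw [← LemU.zj_eq_zc, Base.mem_cent_zc h c]
      intro y
      have h1 : x * e 1 0 * x⁻¹ = e 1 0 := by rw [hez]; exact Four.conj_eq_iff_comm.2 hxz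
      have h2 : x * e a 0 * x⁻¹ = e a 0 := Four.conj_eq_iff_comm.2 hxm
      -- `F = {0, 1, a, a + 1}`
      have ha0 : a ≠ 0 := by rintro rfl; exact hm1 c.zero
      have ha1 : a ≠ 1 := by rintro rfl; exact hmz' hez
      have hcard : Fintype.card F = 4 := hq
      have h3 : y = 0 ∨ y = 1 ∨ y = a ∨ y = 1 + a := by
        classical
        by_contra hcon
        push Not at hcon
        obtain ⟨c0, c1, c2, c3⟩ := hcon
        have h5 : ({0, 1, a, 1 + a, y} : Finset F).card ≤ 4 := by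
          rw [← hcard]; exact Finset.card_le_univ _
        have h01 : (0 : F) ≠ 1 := zero_ne_one
        have h1a : (1 : F) + a ≠ 0 := fun h0 => ha1 (CharTwo.add_eq_zero.1 h0).symm
        have h1a1 : (1 : F) + a ≠ 1 := fun h0 => ha0 (by
          have : (1 : F) + a = 1 + 0 := by rw [h0, add_zero]
          exact add_left_cancel this)
        have h1aa : (1 : F) + a ≠ a := fun h0 => h01 (by
          have : (1 : F) + a = 0 + a := by rw [h0, zero_add]
          exact (add_right_cancel this).symm)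
        rw [Finset.card_insert_of_notMem, Finset.card_insert_of_notMem, Finset.card_insert_of_notMem,
          Finset.card_insert_of_notMem, Finset.card_singleton] at h5
        · omega
        · simp only [Finset.mem_singleton]; exact c3.symm
        · simp only [Finset.mem_insert, Finset.mem_singleton, not_or]; exact ⟨h1aa.symm, c2.symm⟩
        · simp only [Finset.mem_insert, Finset.mem_singleton, not_or]; exact ⟨ha1.symm, h1a1.symm, c1.symm⟩
        · simp only [Finset.mem_insert, Finset.mem_singleton, not_or]; exact ⟨h01, ha0.symm, h1a.symm, c0.symm⟩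
      rcases h3 with rfl | rfl | rfl | rfl
      · rw [c.zero, mul_one, mul_inv_cancel]
      · exact h1
      · exact h2
      · have h5 : e (1 + a) 0 = e 1 0 * e a 0 := by rw [← c.add, add_zero]
        rw [h5]
        calc x * (e 1 0 * e a 0) * x⁻¹ = (x * e 1 0 * x⁻¹) * (x * e a 0 * x⁻¹) := by group
          _ = _ := by rw [h1, h2]
    exact cent_zj h Nat.prime_three (by norm_num) hxJ ho
  · -- a Baer subline
    have hdet : (!![a, (a * a + a + 1) / b; b, 1 + a] : Matrix (Fin 2) (Fin 2) F).det = 1 := by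
      rw [Matrix.det_fin_two_of, div_mul_cancel₀ _ hb]
      have : a * (1 + a) - (a * a + a + 1) = a + a * a - (a * a + a) - 1 := by ring
      rw [this, add_comm a (a * a), sub_self, zero_sub]
      exact CharTwo.neg_eq 1
    obtain ⟨l, hl⟩ := c.surj ⟨_, hdet⟩
    have hl' : ∀ x y, (l : G) * e x y * (l : G)⁻¹ = e (a * x + (a * a + a + 1) / b * y) (b * x + (1 + a) * y) := by
      intro x y
      rw [c.act, hl]
      rfl
    have h1 : (l : G) * z * (l : G)⁻¹ = e a b := by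
      rw [← hez, hl']
      congr 1 <;> ring
    have h2 : (l : G) * e a b * (l : G)⁻¹ = z * e a b := by
      rw [← hez, hl', ← c.add, div_mul_cancel₀ _ hb]
      congr 1
      · have : a * a + (a * a + a + 1) = (a * a + a * a) + (1 + a) := by ring
        rw [this, CharTwo.add_self_eq_zero, zero_add]
      · have : b * a + (1 + a) * b = (a * b + a * b) + b := by ring
        rw [this, CharTwo.add_self_eq_zero, zero_add]
    have hzm : z * e a b = e a b * z := by rw [← hez]; exact c.comm _ _ _ _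
    have hmm : e a b * e a b = 1 := c.sq _ _
    have h3 : (l : G) * (z * e a b) * (l : G)⁻¹ = z := by
      calc (l : G) * (z * e a b) * (l : G)⁻¹ = ((l : G) * z * (l : G)⁻¹) * ((l : G) * e a b * (l : G)⁻¹) := by group
        _ = e a b * (z * e a b) := by rw [h1, h2]
        _ = z := by rw [hzm, ← mul_assoc, hmm, one_mul]
    have h5 := three_dvd_order h1 h2 h3 hmz'.symm
    set W : Subgroup G := _root_.Subgroup.closure {z, e a b} with hW
    have hzW : z ∈ W := _root_.Subgroup.subset_closure (Or.inl rfl)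
    have hmW : e a b ∈ W := _root_.Subgroup.subset_closure (Or.inr rfl)
    have hzV : z ∈ V := by rw [← hez]; exact c.eM _ _
    have hWV : W ≤ V := by
      rw [hW, closure_le]
      rintro y (rfl | rfl)
      · exact hzV
      · exact hm
    have hlW : (l : G) ∈ normalizer (W : Set G) := by
      have h6 : W ≤ W.comap (MulAut.conj (l : G)).toMonoidHom := by
        rw [hW, closure_le]
        rintro y (rfl | rfl)
        · show (l : G) * _ * (l : G)⁻¹ ∈ W
          rw [h1]; exact hmW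
        · show (l : G) * _ * (l : G)⁻¹ ∈ W
          rw [h2]; exact mul_mem hzW hmW
      exact ChoiceBase.mem_normalizer_of_cj_le (map_le_iff_le_comap.2 h6)
    have hxW : x ∈ normalizer (W : Set G) := by
      refine centralizer_le_normalizer _ ?_
      have h6 : W ≤ centralizer ({x} : Set G) := by
        rw [hW, closure_le]
        rintro y (rfl | rfl)
        · exact mem_centralizer_singleton_iff.2 hxz.symm
        · exact mem_centralizer_singleton_iff.2 hxm.symm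
      rw [mem_centralizer_iff]
      intro w hw
      exact mem_centralizer_singleton_iff.1 (h6 hw)
    exact hz1 (no_fix_W h Nat.prime_three (by norm_num) hWV (l := (l : G) ^ (orderOf (l : G) / 3)) (pow_mem l.2 _)
      (pow_mem hlW _) (orderOf_pow_orderOf_div (orderOf_pos _).ne' h5) hxW ho z hzW hxz)

/-- `Ω₁Z(S) = ⟨z⟩` -/
theorem zcS (h : EqOne S L V 4) (hne : ¬ (S : Subgroup G) ≤ centralizer (zc (bau (S : Subgroup G)) : Set G)) {z : G}
    (hz : z ∈ zc (S : Subgroup G)) (hz1 : z ≠ 1) : ∀ x ∈ zc (S : Subgroup G), x = 1 ∨ x = z := by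
  have h1 : Nat.card (zc (S : Subgroup G)) ∣ 4 := by
    rw [← h.card_zc]; exact card_dvd_of_le (Base.zcS_le h)
  have h2 : Nat.card (zc (S : Subgroup G)) ≠ 4 := by
    intro h2
    apply hne
    have h3 : zc (S : Subgroup G) = zc (bau (S : Subgroup G)) :=
      Subgroup.eq_of_le_of_card_ge (Base.zcS_le h) (by rw [h.card_zc, h2])
    rw [← h3]
    exact S_le_cz S
  have h3 : Nat.card (zc (S : Subgroup G)) ≤ 2 := by
    have h4 := Nat.le_of_dvd (by norm_num) h1
    interval_cases h5 : Nat.card (zc (S : Subgroup G)) <;> omega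
  intro x hx
  by_contra hcon
  push Not at hcon
  classical
  have h4 : ({⟨1, one_mem _⟩, ⟨z, hz⟩, ⟨x, hx⟩} : Finset (zc (S : Subgroup G))).card ≤ Nat.card (zc (S : Subgroup G)) := by
    have := Fintype.ofFinite (zc (S : Subgroup G))
    rw [Nat.card_eq_fintype_card]
    exact Finset.card_le_univ _
  rw [Finset.card_insert_of_notMem, Finset.card_insert_of_notMem, Finset.card_singleton] at h4
  · omega
  · simp only [Finset.mem_singleton, Subtype.mk.injEq]; exact fun h0 => hcon.2 h0.symm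
  · simp only [Finset.mem_insert, Finset.mem_singleton, Subtype.mk.injEq, not_or]
    exact ⟨fun h0 => hz1 h0.symm, fun h0 => hcon.1 h0.symm⟩

/-- `C_G(Ω₁Z(S)) = C_G(z)` -/
theorem cent_eq (h : EqOne S L V 4) (hne : ¬ (S : Subgroup G) ≤ centralizer (zc (bau (S : Subgroup G)) : Set G)) {z : G}
    (hz : z ∈ zc (S : Subgroup G)) (hz1 : z ≠ 1) :
    centralizer (zc (S : Subgroup G) : Set G) = centralizer {z} := by
  apply le_antisymm (centralizer_le (Set.singleton_subset_iff.2 hz))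
  intro x hx
  rw [mem_centralizer_iff]
  intro y hy
  rcases zcS h hne hz hz1 y hy with rfl | rfl
  · rw [one_mul, mul_one]
  · exact (mem_centralizer_singleton_iff.1 hx).symm

theorem isEA {A : Subgroup G} (hA : ∀ x ∈ A, x * x = 1) : IsElementaryAbelian 2 A :=
  ⟨⟨⟨fun a b => Subtype.ext (Four.comm_of_sq (V := A) (fun v hv => by rw [pow_two]; exact hA v hv) a.2 b.2)⟩⟩,
    fun x hx => by rw [pow_two]; exact hA x hx⟩

/-- an element of `𝒜(S)` not centralising `V` -/
theorem exists_A (h : EqOne S L V q) : ∃ A ≤ bau (S : Subgroup G), ¬ A ≤ centralizer (V : Set G) ∧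
    (∀ x ∈ A, x * x = 1) ∧ ∀ A' ≤ (S : Subgroup G), (∀ x ∈ A', x * x = 1) → Nat.card A' ≤ Nat.card A := by
  have h1 : ¬ jj (S : Subgroup G) ≤ centralizer (V : Set G) := by
    have h2 := APC.not_jj_le_cent (ZN.bau_bau (S : Subgroup G)) h.blk
    rwa [ChoiceBase.jj_bau, h.vl_eq] at h2
  obtain ⟨A, hA, hne⟩ : ∃ A ∈ ChoiceBase.AA (S : Subgroup G), ¬ A ≤ centralizer (V : Set G) := by
    by_contra hcon
    push Not at hcon
    apply h1
    rw [ChoiceBase.jj_eq]
    exact sSup_le hcon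
  refine ⟨A, (ChoiceBase.le_jj hA).trans (ChoiceBase.jj_le_bau _), hne, fun x hx => ?_, fun A' hA' hsq => ?_⟩
  · rw [← pow_two]; exact hA.1.2 x hx
  · exact hA.2.2 A' (isEA hsq) hA'

/-- **the hypotheses of section 6** -/
theorem hyp (h : EqOne S L V 4)
    (hJ : centralizer (zc (bau (S : Subgroup G)) : Set G) ≤ normalizer (V : Set G)) {z : G}
    (hz : z ∈ zc (S : Subgroup G)) (hz1 : z ≠ 1)
    (hJo : zc (bau (S : Subgroup G)) ≤ o2 (centralizer {z}))
    (h8 : Nat.card (V ⊓ o2 (centralizer {z}) : Subgroup G) = 8) :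
    SixA.Hyp (S : Subgroup G) V (zc (bau (S : Subgroup G))) z := by
  have hne := not_le h hJ
  obtain ⟨r, fl⟩ := Base.fld h hne
  have hB : (S : Subgroup G) ⊓ centralizer (zc (bau (S : Subgroup G)) : Set G) = bau (S : Subgroup G) := by
    rw [LemU.zj_eq_zc]; rfl
  have hce := cent_eq h hne hz hz1
  have hSz : ∀ s ∈ (S : Subgroup G), s * z = z * s := (ChoiceBase.mem_zc.1 hz).2.2
  obtain ⟨F, _, _, _, e, φ, hq, c, hez⟩ := Base.exists_norm h hz hz1
  refine
  { two := S.isPGroup'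
    smax := fun P hP hSP => (S.is_maximal' hP hSP).le
    VS := fl.VS
    SV := h.S_V
    Vsq := h.sq
    cardV := by rw [h.card]; norm_num
    JV := h.zc_le
    cardJ := h.card_zc
    SJ := fl.SJ
    zJ := Base.zcS_le h hz
    z1 := hz1
    Sz := hSz
    zS := fun x hx hxx hxS => zcS h hne hz hz1 x
      (ChoiceBase.mem_zc.2 ⟨hx, by rw [pow_two]; exact hxx, fun s hs => (hxS s hs)⟩)
    NJ := by rw [LemU.zj_eq_zc]; exact nzj_le_V h hJ
    fact := ?_
    no3 := ?_
    maxl := fun U hU hU2 hle => h.le_NV _ ⟨U, hU2, hU, rfl⟩ L 4 h.blk ((Base.L_V c).trans hle)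
    char2 := ?_
    notle := ?_
    cfix := ?_
    ccom := ?_
    csurj := ?_
    idx := ?_
    Jo2 := hJo
    card8 := h8
    exA := ?_
    cB := ?_
    exk := ?_
    exl := ?_
    cyc3 := fun P => h.cx.cyc 3 P Nat.prime_three (by norm_num) }
  · intro x hx hxV
    obtain ⟨s, hs, k, hk, he⟩ := Base.cent_zc h c hq (inv_mem hxV) (by
      rw [hce]
      exact inv_mem (mem_centralizer_singleton_iff.2 hx))
    refine ⟨k⁻¹, inv_mem hk, s⁻¹, inv_mem hs, ?_⟩
    rw [← mul_inv_rev, ← he, inv_inv]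
  · intro x hx h3
    by_contra hx1
    have hf3 : Fact (Nat.Prime 3) := ⟨Nat.prime_three⟩
    exact cent_V h Nat.prime_three (by norm_num) hx (orderOf_eq_prime h3 hx1)
  · intro x hx hxo
    exact ChoiceSit.self_cent h.cx.char2 h.local_V ⟨hx, mem_centralizer_iff.2 fun r hr => (hxo r hr).symm⟩
  · obtain ⟨x, hx, hxV⟩ := SetLike.not_le_iff_exists.1 h.notle
    rw [hce] at hx
    exact ⟨x, mem_centralizer_singleton_iff.1 hx, hxV⟩
  · intro b hb hbV v hv hc
    rw [hB] at hb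
    exact Base.cE h c hb hbV hv hc
  · intro b hb v hv
    rw [hB] at hb
    exact Base.ccom h c hb hv
  · intro b hb hbV j hj
    rw [hB] at hb
    exact Base.kE h c hb hbV hj
  · rw [hB]
    exact Base.idx c hq
  · rw [hB]
    exact exists_A h
  · intro x hx hxx hxB
    rw [hB] at hxB
    rw [LemU.zj_eq_zc]
    exact ZN.mem_zj_of_comm hx (by rw [pow_two]; exact hxx) fun b hb => hxB b (ChoiceBase.jj_le_bau _ hb)
  · rw [hB]
    obtain ⟨k, hkL, ho, hkB, a, b, ha1, ha0, hk⟩ := Base.exists_tor h c Nat.prime_three (by norm_num)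
    have hk1 : k ≠ 1 := by
      rintro rfl
      rw [orderOf_one] at ho
      omega
    have hkJ : k ∈ normalizer (zc (bau (S : Subgroup G)) : Set G) := ZN.normalizer_le_normalizer_zc _ hkB
    refine ⟨k, by rw [← ho]; exact pow_orderOf_eq_one k, hkB, Base.L_V c hkL, hkJ, ?_, ?_, ?_⟩
    · intro x hx hxk
      exact fpf h hkL (by rw [ho]; decide) hk1 x (h.zc_le hx) (Four.conj_eq_iff_comm.1 hxk)
    · intro x hx hxk
      obtain ⟨x₀, y₀, rfl⟩ := (c.mem x).1 hx
      rw [hk, inv_eq_of_mul_eq_one_right (c.sq x₀ y₀), ← c.add, Base.mem_zc h c] at hxk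
      obtain ⟨w, hw⟩ := hxk
      have h1 := (c.ext hw).2
      have h2 : (a⁻¹ + 1) * y₀ = 0 := by rw [add_mul, one_mul]; exact h1
      have h3 : a⁻¹ + 1 ≠ 0 := fun h0 => ha1 (inv_eq_one.1 (CharTwo.add_eq_zero.1 h0))
      rw [(mul_eq_zero.1 h2).resolve_left h3]
      exact (Base.mem_zc h c).2 ⟨x₀, rfl⟩
    · intro x hx hxk
      obtain ⟨t, ht⟩ := c.act_B hx
      -- `k x k⁻¹` acts as `x`
      have h1 : ∀ v ∈ V, (k * x * k⁻¹) * v * (k * x * k⁻¹)⁻¹ = x * v * x⁻¹ := by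
        intro v hv
        have h2 : x * v * x⁻¹ ∈ V := by
          obtain ⟨x₀, y₀, rfl⟩ := (c.mem v).1 hv
          rw [ht]; exact c.eM _ _
        have h3 := mem_centralizer_iff.1 hxk _ h2
        calc (k * x * k⁻¹) * v * (k * x * k⁻¹)⁻¹ = (k * x * k⁻¹ * x⁻¹) * (x * v * x⁻¹) * (k * x * k⁻¹ * x⁻¹)⁻¹ := by
              group
          _ = x * v * x⁻¹ := by rw [← h3]; group
      have h2 : k⁻¹ * e 0 1 * k = e b a := by
        have h3 := hk b a
        have h4 : e (a * b + b * a) (a⁻¹ * a) = e 0 1 := by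
          rw [mul_comm b a, CharTwo.add_self_eq_zero, inv_mul_cancel₀ ha0]
        rw [h4] at h3
        rw [← h3]; group
      have h3 := h1 (e 0 1) (c.eM _ _)
      have h4 : (k * x * k⁻¹) * e 0 1 * (k * x * k⁻¹)⁻¹ = k * (x * (k⁻¹ * e 0 1 * k) * x⁻¹) * k⁻¹ := by group
      rw [h4, h2, ht, ht, hk] at h3
      have h5 := (c.ext h3).1
      have h6 : (a * a + 1) * t = 0 := by
        have h7 : a * (b + t * a) + b * a = (a * b + a * b) + a * a * t := by ring
        rw [h7, CharTwo.add_self_eq_zero, zero_add, zero_add, mul_one] at h5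
        rw [add_mul, one_mul, h5, CharTwo.add_self_eq_zero]
      have h7 : a * a + 1 ≠ 0 := by
        intro h0
        apply ha1
        have h8 : (a + 1) * (a + 1) = 0 := by
          have : (a + 1) * (a + 1) = (a * a + 1) + (a + a) := by ring
          rw [this, h0, CharTwo.add_self_eq_zero, add_zero]
        exact CharTwo.add_eq_zero.1 (mul_self_eq_zero.1 h8)
      have ht0 := (mul_eq_zero.1 h6).resolve_left h7
      rw [c.mem_cent]
      intro x₀ y₀
      rw [ht, ht0, MulZeroClass.zero_mul, add_zero]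
  · obtain ⟨l, hl, hle⟩ := Base.exists_opp c
    refine ⟨l, Base.L_V c hl, fun x hx hxl => ?_⟩
    obtain ⟨x₀, rfl⟩ := (Base.mem_zc h c).1 hx
    rw [hle, Base.mem_zc h c] at hxl
    obtain ⟨w, hw⟩ := hxl
    rw [(c.ext hw).2]
    exact c.zero

/-- **Part II, `V ≰ O₂(C_G(Ω₁Z(S)))`** -/
theorem partTwoB (h : EqOne S L V q)
    (hJ : centralizer (zc (bau (S : Subgroup G)) : Set G) ≤ normalizer (V : Set G))
    (hV : ¬ V ≤ o2 (centralizer (zc (S : Subgroup G) : Set G))) : False := by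
  obtain ⟨r, hc⟩ := cfg h hJ
  obtain ⟨hr, hq, h8, -, -⟩ := hc.five hV
  have hJo := hc.J_le hV
  subst hr hq
  obtain ⟨z, hz, hz1⟩ := Base.exists_ne_zcS h
  have hce := cent_eq h (not_le h hJ) hz hz1
  rw [hce] at h8 hJo
  refine Six.false_of h.cx.cyc h.cx.sec ?_ (hyp h hJ hz hz1 hJo h8) hc.toFld ?_
  · exact ne_top_of h (ChoiceBase.zc_le_zj _ hz) hz1 le_rfl
  · intro m hm hmz x hx3 hxz hxm
    exact baer h rfl (Base.zcS_le h hz) hz1 hm hmz hx3 hxz hxm

end Cfsg.Agent.OddCyclic.Eq.HypSix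
end

-- part: OddCyclic/Eq/PartThreeEnd
section
/-!
# (E_q) of `T_cyc`, Part II, `V ≰ O₂(C_G(Ω₁Z(S)))`: the contract
-/

set_option autoImplicit false

namespace Cfsg.Agent.OddCyclic.Eq

open Subgroup Cfsg Cfsg.Agent.ZN
open Cfsg.Agent.OddCyclic.RedU (EqOne)

universe u

variable {G : Type u} [Group G] [Finite G] {S : Sylow 2 G} {L V : Subgroup G} {q : ℕ}

/-- **(E_q), Part II, `V ≰ O₂(C_G(Ω₁Z(S)))` is impossible** -/
theorem partTwoB (h : EqOne S L V q)
    (hJ : centralizer (zc (bau (S : Subgroup G)) : Set G) ≤ normalizer (V : Set G))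
    (hV : ¬ V ≤ o2 (centralizer (zc (S : Subgroup G) : Set G))) : False :=
  HypSix.partTwoB h hJ hV

end Cfsg.Agent.OddCyclic.Eq
end

-- part: OddCyclic/Eq/Main
section
/-!
# (E_q) of `T_cyc` is impossible
-/

set_option autoImplicit false

namespace Cfsg.Agent.OddCyclic.Eq.Main

open Subgroup Cfsg Cfsg.Agent.ZN
open Cfsg.Agent.OddCyclic.RedU (EqOne)

universe u

/-- **(E_q)** -/
theorem false_of {G : Type u} [Group G] [Finite G] {S : Sylow 2 G} {L V : Subgroup G} {q : ℕ} (h : EqOne S L V q) :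
    False := by
  by_cases hJ : centralizer (zc (bau (S : Subgroup G)) : Set G) ≤ normalizer (V : Set G)
  · by_cases hV : V ≤ o2 (centralizer (zc (S : Subgroup G) : Set G))
    · exact Eq.partTwoA h hJ hV
    · exact Eq.partTwoB h hJ hV
  · exact Eq.partOne h hJ

end Cfsg.Agent.OddCyclic.Eq.Main
end
end
end
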